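import Mathlib

/-!
# Witt decomposition helpers for quadratic forms over finite fields (helper44)

* `exists_isotropic`: a quadratic form in at least 3 variables over a finite field has a nonzero zero
  (Chevalley–Warning).
* `exists_hyp_partner`: a singular vector of a quadratic form with non-degenerate polar form lies in
  a hyperbolic pair.
* `hyp_split`: splitting off a hyperbolic plane.
-/

set_option autoImplicit false

namespace Cfsg.Agent.Lib.Helper44

open Module LinearMap

/-- restriction to the orthogonal complement of a nondegenerate subspace is nondegenerate -/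
theorem restrict_orth_nondeg {F V : Type*} [Field F] [AddCommGroup V] [Module F V] [FiniteDimensional F V]
    (B : LinearMap.BilinForm F V) (hS : B.IsSymm) (hB : B.Nondegenerate) (W : Submodule F V)
    (hW : (LinearMap.BilinForm.restrict B W).Nondegenerate) :
    (LinearMap.BilinForm.restrict B (LinearMap.BilinForm.orthogonal B W)).Nondegenerate ∧
      IsCompl W (LinearMap.BilinForm.orthogonal B W) ∧
      finrank F (LinearMap.BilinForm.orthogonal B W) = finrank F V - finrank F W := by
  have hrefl : B.IsRefl := hS.isRefl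
  have hc : IsCompl W (B.orthogonal W) := BilinForm.isCompl_orthogonal_of_restrict_nondegenerate hrefl hW
  refine ⟨?_, hc, BilinForm.finrank_orthogonal hB W⟩
  apply BilinForm.nondegenerate_restrict_of_disjoint_orthogonal B hrefl
  rw [BilinForm.orthogonal_orthogonal hB hrefl]
  exact hc.symm.disjoint

/-- The polar form of the restriction of a quadratic form to a submodule. -/
theorem polarBilin_comp_subtype {F V : Type*} [Field F] [AddCommGroup V] [Module F V]
    (Q : QuadraticForm F V) (W : Submodule F V) :
    QuadraticMap.polarBilin (Q.comp W.subtype) =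
      LinearMap.BilinForm.restrict (QuadraticMap.polarBilin Q : LinearMap.BilinForm F V) W := by
  refine LinearMap.ext₂ (fun x y => ?_)
  simp [QuadraticMap.polar]

theorem polarBilin_isSymm {F V : Type*} [Field F] [AddCommGroup V] [Module F V]
    (Q : QuadraticForm F V) :
    LinearMap.BilinForm.IsSymm (QuadraticMap.polarBilin Q : LinearMap.BilinForm F V) := by
  constructor
  intro x y
  simp [QuadraticMap.polar_comm]

/-- Chevalley–Warning for quadratic forms: at least three variables over a finite field give a
nontrivial zero. -/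
theorem exists_isotropic {F V : Type*} [Field F] [Finite F] [AddCommGroup V] [Module F V]
    [FiniteDimensional F V] (Q : QuadraticForm F V) (h3 : 3 ≤ finrank F V) :
    ∃ v : V, v ≠ 0 ∧ Q v = 0 := by
  classical
  have : Fintype F := Fintype.ofFinite F
  obtain ⟨p, hp⟩ := CharP.exists F
  have hpp : p.Prime := by
    rcases CharP.char_is_prime_or_zero F p with h | h
    · exact h
    · exfalso
      subst h
      have : CharZero F := CharP.charP_to_charZero F
      exact not_finite F
  have : Fact p.Prime := ⟨hpp⟩
  set n := finrank F V with hn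
  let b : Basis (Fin n) F V := finBasis F V
  obtain ⟨A, hA⟩ := LinearMap.BilinMap.toQuadraticMap_surjective Q
  let f : MvPolynomial (Fin n) F :=
    ∑ i, ∑ j, MvPolynomial.C (A (b i) (b j)) * MvPolynomial.X i * MvPolynomial.X j
  have hdeg : f.totalDegree < Fintype.card (Fin n) := by
    have h2 : f.totalDegree ≤ 2 := by
      apply (MvPolynomial.totalDegree_finsetSum _ _).trans
      apply Finset.sup_le
      intro i _
      apply (MvPolynomial.totalDegree_finsetSum _ _).trans
      apply Finset.sup_le
      intro j _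
      apply (MvPolynomial.totalDegree_mul _ _).trans
      have h1 := MvPolynomial.totalDegree_mul (MvPolynomial.C (A (b i) (b j))) (MvPolynomial.X i : MvPolynomial (Fin n) F)
      rw [MvPolynomial.totalDegree_C, MvPolynomial.totalDegree_X] at h1
      rw [MvPolynomial.totalDegree_X]
      omega
    rw [Fintype.card_fin]
    omega
  have hdvd := char_dvd_card_solutions p hdeg
  have heval : ∀ x : Fin n → F, MvPolynomial.eval x f = Q (∑ i, x i • b i) := by
    intro x
    rw [← hA, LinearMap.BilinMap.toQuadraticMap_apply]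
    simp only [f, map_sum, map_mul, MvPolynomial.eval_C, MvPolynomial.eval_X, LinearMap.sum_apply, map_smul,
      LinearMap.smul_apply, smul_eq_mul]
    rw [Finset.sum_comm]
    apply Finset.sum_congr rfl
    intro i _
    rw [Finset.mul_sum]
    apply Finset.sum_congr rfl
    intro j _
    ring
  -- there are at least two solutions
  have hcard : 1 < Fintype.card { x : Fin n → F // MvPolynomial.eval x f = 0 } := by
    have hpos : 0 < Fintype.card { x : Fin n → F // MvPolynomial.eval x f = 0 } := by
      apply Fintype.card_pos_iff.2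
      refine ⟨⟨0, ?_⟩⟩
      rw [heval]; simp
    have := Nat.le_of_dvd hpos hdvd
    have := hpp.two_le
    omega
  obtain ⟨⟨x, hx⟩, ⟨y, hy⟩, hxy⟩ := Fintype.one_lt_card_iff.1 hcard
  have hxy' : x ≠ y := fun h => hxy (Subtype.ext h)
  have : ∃ z : Fin n → F, z ≠ 0 ∧ MvPolynomial.eval z f = 0 := by
    by_cases hx0 : x = 0
    · refine ⟨y, ?_, hy⟩
      rintro rfl; exact hxy' hx0
    · exact ⟨x, hx0, hx⟩
  obtain ⟨z, hz0, hz⟩ := this
  refine ⟨∑ i, z i • b i, ?_, by rw [← heval]; exact hz⟩
  intro h
  apply hz0
  have := Fintype.linearIndependent_iff.1 b.linearIndependent z h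
  ext i; exact this i

/-- A singular nonzero vector has a hyperbolic partner. -/
theorem exists_hyp_partner {F V : Type*} [Field F] [AddCommGroup V] [Module F V]
    (Q : QuadraticForm F V) (hQ : (QuadraticMap.polarBilin Q).Nondegenerate) (e : V) (he : e ≠ 0)
    (hQe : Q e = 0) : ∃ f : V, Q f = 0 ∧ QuadraticMap.polar Q e f = 1 := by
  have : ∃ f₀ : V, QuadraticMap.polar Q e f₀ ≠ 0 := by
    by_contra hcon
    push Not at hcon
    apply he
    apply hQ.1 e
    intro y
    simpa using hcon y
  obtain ⟨f₀, hf₀⟩ := this
  obtain ⟨f₁, h1⟩ : ∃ f₁ : V, QuadraticMap.polar Q e f₁ = 1 := by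
    refine ⟨(QuadraticMap.polar Q e f₀)⁻¹ • f₀, ?_⟩
    rw [QuadraticMap.polar_smul_right, smul_eq_mul, inv_mul_cancel₀ hf₀]
  refine ⟨f₁ - Q f₁ • e, ?_, ?_⟩
  · have hpol : QuadraticMap.polar Q f₁ (-(Q f₁ • e)) = - Q f₁ := by
      rw [QuadraticMap.polar_neg_right, QuadraticMap.polar_smul_right, QuadraticMap.polar_comm, h1]
      simp
    have h2 : Q (f₁ - Q f₁ • e) = Q f₁ + Q (-(Q f₁ • e)) + QuadraticMap.polar Q f₁ (-(Q f₁ • e)) := by
      rw [sub_eq_add_neg]
      simp only [QuadraticMap.polar]
      ring
    rw [h2, hpol, QuadraticMap.map_neg, QuadraticMap.map_smul, hQe]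
    simp
  · rw [QuadraticMap.polar_sub_right, QuadraticMap.polar_smul_right, QuadraticMap.polar_self, hQe, h1]
    simp

/-- Splitting off a hyperbolic plane: data on the orthogonal complement. -/
theorem hyp_split {F V : Type*} [Field F] [AddCommGroup V] [Module F V] [FiniteDimensional F V]
    (Q : QuadraticForm F V) (hQ : (QuadraticMap.polarBilin Q).Nondegenerate) (e f : V)
    (hQe : Q e = 0) (hQf : Q f = 0) (hef : QuadraticMap.polar Q e f = 1) :
    ∃ W : Submodule F V,
    (QuadraticMap.polarBilin (Q.comp W.subtype)).Nondegenerate ∧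
      finrank F W + 2 = finrank F V ∧
      (∀ w ∈ W, QuadraticMap.polar Q e w = 0 ∧ QuadraticMap.polar Q f w = 0) := by
  set B : LinearMap.BilinForm F V := QuadraticMap.polarBilin Q with hBdef
  refine ⟨LinearMap.BilinForm.orthogonal B (Submodule.span F {e, f}), ?_⟩
  have hS : B.IsSymm := polarBilin_isSymm Q
  have hee : B e e = 0 := by
    simp [hBdef, QuadraticMap.polar_self, hQe]
  have hff : B f f = 0 := by
    simp [hBdef, QuadraticMap.polar_self, hQf]
  have hef' : B e f = 1 := hef
  have hfe' : B f e = 1 := by rw [← hS.eq]; exact hef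
  have hmemW : ∀ w ∈ LinearMap.BilinForm.orthogonal B (Submodule.span F {e, f}), B e w = 0 ∧ B f w = 0 := by
    intro w hw
    rw [BilinForm.mem_orthogonal_iff] at hw
    exact ⟨hw e (Submodule.subset_span (by simp)), hw f (Submodule.subset_span (by simp))⟩
  have hdisj : Disjoint (Submodule.span F {e, f})
      (LinearMap.BilinForm.orthogonal B (Submodule.span F {e, f})) := by
    rw [Submodule.disjoint_def]
    intro v hv hv'
    obtain ⟨a, b, rfl⟩ := Submodule.mem_span_pair.1 hv
    obtain ⟨h1, h2⟩ := hmemW _ hv'
    simp only [map_add, map_smul, smul_eq_mul, hee, hff, hef', hfe', mul_zero, mul_one, zero_add,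
      add_zero] at h1 h2
    rw [h1, h2]; simp
  have hH : (LinearMap.BilinForm.restrict B (Submodule.span F {e, f})).Nondegenerate :=
    BilinForm.nondegenerate_restrict_of_disjoint_orthogonal B hS.isRefl hdisj
  obtain ⟨h1, h2, h3⟩ := restrict_orth_nondeg B hS hQ _ hH
  have hli : LinearIndependent F ![e, f] := by
    rw [LinearIndependent.pair_iff]
    intro s t hst
    have e1 := congrArg (fun v => B e v) hst
    have e2 := congrArg (fun v => B f v) hst
    simp only [map_add, map_smul, smul_eq_mul, hee, hff, hef', hfe', mul_zero, mul_one, zero_add,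
      add_zero, map_zero] at e1 e2
    exact ⟨e2, e1⟩
  have hfr : finrank F (Submodule.span F {e, f}) = 2 := by
    have h := finrank_span_eq_card hli
    rw [Fintype.card_fin] at h
    have hr : Set.range ![e, f] = {e, f} := by
      ext v; simp [eq_comm, or_comm]
    rw [hr] at h
    exact h
  refine ⟨?_, ?_, hmemW⟩
  · rw [polarBilin_comp_subtype]; exact h1
  · have := Submodule.finrank_le (Submodule.span F {e, f})
    omega

/-- Peeling off a hyperbolic plane from a nondegenerate quadratic space of dimension at least 3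
over a finite field. -/
theorem peel {F V : Type*} [Field F] [Finite F] [AddCommGroup V] [Module F V] [FiniteDimensional F V]
    (Q : QuadraticForm F V) (hQ : (QuadraticMap.polarBilin Q).Nondegenerate) (h3 : 3 ≤ finrank F V) :
    ∃ (e f : V) (W : Submodule F V), Q e = 0 ∧ Q f = 0 ∧ QuadraticMap.polar Q e f = 1 ∧
      (QuadraticMap.polarBilin (Q.comp W.subtype)).Nondegenerate ∧
      finrank F W + 2 = finrank F V ∧
      (∀ w ∈ W, QuadraticMap.polar Q e w = 0 ∧ QuadraticMap.polar Q f w = 0) := by
  obtain ⟨e, he, hQe⟩ := exists_isotropic Q h3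
  obtain ⟨f, hQf, hef⟩ := exists_hyp_partner Q hQ e he hQe
  obtain ⟨W, h1, h2, h3⟩ := hyp_split Q hQ e f hQe hQf hef
  exact ⟨e, f, W, hQe, hQf, hef, h1, h2, h3⟩

/-- A system of `k` mutually orthogonal hyperbolic pairs. -/
def HypSys {F V : Type*} [Field F] [AddCommGroup V] [Module F V] (Q : QuadraticForm F V) {k : ℕ}
    (e f : Fin k → V) : Prop :=
  (∀ i, Q (e i) = 0 ∧ Q (f i) = 0) ∧
    (∀ i j, QuadraticMap.polar Q (e i) (f j) = if i = j then 1 else 0) ∧
    (∀ i j, QuadraticMap.polar Q (e i) (e j) = 0 ∧ QuadraticMap.polar Q (f i) (f j) = 0)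

theorem HypSys.cons {F V : Type*} [Field F] [AddCommGroup V] [Module F V] (Q : QuadraticForm F V)
    (e₀ f₀ : V) (hQe : Q e₀ = 0) (hQf : Q f₀ = 0) (hef : QuadraticMap.polar Q e₀ f₀ = 1)
    (W : Submodule F V)
    (hW : ∀ w ∈ W, QuadraticMap.polar Q e₀ w = 0 ∧ QuadraticMap.polar Q f₀ w = 0)
    {k : ℕ} (e f : Fin k → W) (h : HypSys (Q.comp W.subtype) e f) :
    HypSys Q (Fin.cons e₀ (fun i => (e i : V)) : Fin (k + 1) → V)
      (Fin.cons f₀ (fun i => (f i : V)) : Fin (k + 1) → V) := by
  obtain ⟨h1, h2, h3⟩ := h
  have hpol : ∀ x y : W, QuadraticMap.polar (Q.comp W.subtype) x y = QuadraticMap.polar Q (x : V) (y : V) := by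
    intro x y
    simp [QuadraticMap.polar]
  have hee : QuadraticMap.polar Q e₀ e₀ = 0 := by
    rw [QuadraticMap.polar_self, hQe]; simp
  have hff : QuadraticMap.polar Q f₀ f₀ = 0 := by
    rw [QuadraticMap.polar_self, hQf]; simp
  refine ⟨?_, ?_, ?_⟩
  · intro i
    refine Fin.cases ?_ (fun i => ?_) i
    · simp [hQe, hQf]
    · simpa using h1 i
  · intro i j
    refine Fin.cases ?_ (fun i => ?_) i <;> refine Fin.cases ?_ (fun j => ?_) j
    · simp [hef]
    · simp only [Fin.cons_zero, Fin.cons_succ, (hW _ (f j).2).1]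
      simp [(Fin.succ_ne_zero j).symm]
    · simp only [Fin.cons_zero, Fin.cons_succ]
      rw [QuadraticMap.polar_comm, (hW _ (e i).2).2]
      simp [Fin.succ_ne_zero]
    · simp only [Fin.cons_succ, ← hpol, h2 i j, Fin.succ_inj]
  · intro i j
    refine Fin.cases ?_ (fun i => ?_) i <;> refine Fin.cases ?_ (fun j => ?_) j
    · simp [hee, hff]
    · simp only [Fin.cons_zero, Fin.cons_succ, (hW _ (e j).2).1, (hW _ (f j).2).2]
      simp
    · simp only [Fin.cons_zero, Fin.cons_succ]
      rw [QuadraticMap.polar_comm, (hW _ (e i).2).1, QuadraticMap.polar_comm _ _ f₀, (hW _ (f i).2).2]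
      simp
    · simp only [Fin.cons_succ, ← hpol]
      exact h3 i j

/-- A hyperbolic system together with an independent family orthogonal to it is linearly
independent. -/
theorem HypSys.linearIndependent {F V : Type*} [Field F] [AddCommGroup V] [Module F V]
    (Q : QuadraticForm F V) {k : ℕ} (e f : Fin k → V) (h : HypSys Q e f)
    {ι : Type*} [Fintype ι] (x : ι → V) (hx : LinearIndependent F x)
    (horth : ∀ i j, QuadraticMap.polar Q (e i) (x j) = 0 ∧ QuadraticMap.polar Q (f i) (x j) = 0) :
    LinearIndependent F (Sum.elim (Sum.elim e f) x) := by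
  classical
  obtain ⟨h1, h2, h3⟩ := h
  rw [Fintype.linearIndependent_iff]
  intro g hg
  rw [Fintype.sum_sum_type, Fintype.sum_sum_type] at hg
  simp only [Sum.elim_inl, Sum.elim_inr] at hg
  have hA : ∀ l, g (Sum.inl (Sum.inl l)) = 0 := by
    intro l
    have := congrArg (fun v => QuadraticMap.polarBilin Q (f l) v) hg
    simp only [map_add, map_sum, map_smul, QuadraticMap.polarBilin_apply_apply, smul_eq_mul, map_zero,
      (h3 _ _).2, (horth _ _).2, mul_zero, Finset.sum_const_zero, add_zero] at this
    have h4 : ∀ i, QuadraticMap.polar Q (f l) (e i) = if i = l then 1 else 0 := by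
      intro i; rw [QuadraticMap.polar_comm, h2]
    simpa [h4] using this
  have hB : ∀ l, g (Sum.inl (Sum.inr l)) = 0 := by
    intro l
    have := congrArg (fun v => QuadraticMap.polarBilin Q (e l) v) hg
    simp only [map_add, map_sum, map_smul, QuadraticMap.polarBilin_apply_apply, smul_eq_mul, map_zero,
      (h3 _ _).1, (horth _ _).1, mul_zero, Finset.sum_const_zero, add_zero, zero_add, h2] at this
    simpa [eq_comm] using this
  have hC : ∑ j, g (Sum.inr j) • x j = 0 := by
    simpa [hA, hB] using hg
  have hC' := Fintype.linearIndependent_iff.1 hx (fun j => g (Sum.inr j)) hC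
  intro i
  rcases i with (i | i) | i
  · exact hA i
  · exact hB i
  · exact hC' i

end Cfsg.Agent.Lib.Helper44
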