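import Mathlib
import Cfsg.Agent.Lib.Helper16.PF13Defs
import Cfsg.Agent.Lib.Helper54.PFCycCover
import Cfsg.Agent.Lib.Helper26.PFBookA
import Cfsg.Agent.Lib.Helper4.PFNineA
import Cfsg.Agent.Lib.Helper23.TypeP

/-!
# PF sec.13 module [GRP] (helper44): the group-theoretic side data `SideGrp` from the standing
context `PSide`.
-/

set_option autoImplicit false

namespace Cfsg.Agent.Lib.Helper44.PF13

open Cfsg Cfsg.Agent.Lib.Helper24.PFCyc Cfsg.Agent.Lib.Helper4.PF Cfsg.Agent.Lib.Helper16.PF13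

universe u

variable {G : Type u} [Group G] [Fintype G] {S W₁ U W₂ : Subgroup G} [Fintype S]
  {mu : WChar W₁ W₂ → (↥S → ℂ)} {dl : WChar W₁ W₂ → ℂ} {η : WChar W₁ W₂ → (G → ℂ)}

theorem three_le_of_prime_dvd_odd {n r : ℕ} (hn : Odd n) (hr : r.Prime) (hd : r ∣ n) : 3 ≤ r := by
  have h2 : 2 ≤ r := hr.two_le
  rcases Nat.lt_or_ge 2 r with h | h
  · omega
  · have : r = 2 := by omega
    subst this
    obtain ⟨k, hk⟩ := hn
    obtain ⟨m, hm⟩ := hd
    omega

/-- MODULE PF13-[GRP] -/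
theorem sideGrp_of (h : PSide S W₁ U W₂ mu dl η) :
    SideGrp S ⁅S, S⁆ (fittingHallOf S) U W₁ W₂ (AFin S) (Nat.card W₂) (Nat.card W₁) := by
  have hP := h.hP
  have hderS : ⁅S, S⁆ ≤ S := hP.W₁_compl.1
  have hcardS : Nat.card ↥S = Nat.card ↥⁅S, S⁆ * Nat.card ↥W₁ :=
    Cfsg.Agent.Lib.Helper23.card_of_isComplIn hP.W₁_compl
  have hcardK : Nat.card ↥⁅S, S⁆ = Nat.card ↥(fittingHallOf S) * Nat.card ↥U :=
    Cfsg.Agent.Lib.Helper23.card_of_isComplIn hP.U_compl
  have hrel := Cfsg.Agent.Lib.Helper26.PFEight.relIndex_of_isComplIn hP.W₁_compl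
  have hcopKq : (Nat.card ↥⁅S, S⁆).Coprime (Nat.card ↥W₁) := by
    have := hP.W₁_hall
    rw [hrel] at this
    exact this.symm
  have hW₂P : W₂ ≤ fittingHallOf S := hP.W₂_le.trans inf_le_left
  have hPK : fittingHallOf S ≤ ⁅S, S⁆ := hP.U_compl.1
  have hW₂K : W₂ ≤ ⁅S, S⁆ := hW₂P.trans hPK
  have hpK : Nat.card ↥W₂ ∣ Nat.card ↥⁅S, S⁆ := Subgroup.card_dvd_of_le hW₂K
  have hpq : Nat.card ↥W₂ ≠ Nat.card ↥W₁ := by
    intro he
    have h1 : (Nat.card ↥W₂).Coprime (Nat.card ↥W₁) := Nat.Coprime.coprime_dvd_left hpK hcopKq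
    rw [he, Nat.coprime_self] at h1
    exact h.hq.one_lt.ne' h1
  have hdvdG : ∀ H : Subgroup G, Nat.card ↥H ∣ Nat.card G := fun H => Subgroup.card_subgroup_dvd_card H
  have hcopPUW : (Nat.card ↥(fittingHallOf S)).Coprime (Nat.card ↥(U ⊔ W₁)) :=
    Cfsg.Agent.Lib.Helper4.PF9.coprime_H_UW₁ hP
  have hcopPU : (Nat.card ↥(fittingHallOf S)).Coprime (Nat.card ↥U) :=
    Nat.Coprime.coprime_dvd_right (Subgroup.card_dvd_of_le le_sup_left) hcopPUW
  refine
    { hp := h.hp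
      hq := h.hq
      hpq := hpq
      hp3 := three_le_of_prime_dvd_odd h.hodd h.hp (hdvdG W₂)
      hq3 := three_le_of_prime_dvd_odd h.hodd h.hq (hdvdG W₁)
      card_W₁ := rfl
      card_W₂ := rfl
      card_P := h.hPcard
      card_S := by rw [hcardS, mul_comm]
      card_K := by rw [hcardK, h.hPcard]
      K_le := hderS
      P_le := hPK
      U_le := hP.U_compl.2.1
      W₁_le := hP.W₁_compl.2.1
      W₂_le := hW₂P
      K_normal := fun s hs k hk => Cfsg.Agent.Lib.Helper23.conj_mem_commutator_self S hs hk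
      P_normal := fun s hs x hx => Cfsg.Agent.Lib.Helper4.PF9.conj_mem_fittingHallOf S hs hx
      PU_inf := hP.U_compl.2.2.1
      PU_mul := hP.U_compl.2.2.2
      P_comm := h.hPcomm
      U_comm := h.hUcomm
      W₁_norm_U := ?_
      coprime_PU := hcopPU
      coprime_Kq := hcopKq
      cent := hP.W₂_centralizer
      cover := fun m hm hmK => exists_conj_mem_W hP m hm hmK
      sylow := h.hsylow
      A_sub := fun a ha => h.hA_sub a (mem_AFin.1 ha)
      A_mem := fun a ha ha1 hx => mem_AFin.2 (h.hA_mem a ha ha1 hx)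
      A_coset := fun a ha haP x hx => mem_AFin.2 (h.hA_coset a (mem_AFin.1 ha) haP x hx)
      inv := fun s hs a ha =>
        mem_AFin.2 (Cfsg.Agent.Lib.Helper26.PFBook.conj_mem_litA S hs (mem_AFin.1 ha))
      ti := ?_ }
  · intro w hw z hz
    have hn := hP.U_normal hw
    rw [Subgroup.mem_normalizer_iff] at hn
    exact (hn z).1 hz
  · intro g a ha hga
    have ha' := mem_AFin.1 ha
    have hga' := mem_AFin.1 hga
    exact h.hTI g a (Cfsg.Agent.Lib.Helper26.PFBook.litA_subset_litA0 S ha') (h.hA_sub a ha').2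
      (Cfsg.Agent.Lib.Helper26.PFBook.litA_subset_litA0 S hga')

end Cfsg.Agent.Lib.Helper44.PF13
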