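import Mathlib
import Cfsg.Agent.Lib.Helper16.PF13Defs
import Cfsg.Agent.Lib.Helper9.PFCycMuGal
import Cfsg.Agent.Lib.Helper50.PFCycMuRes
import Cfsg.Agent.S1508

/-!
# PF sec.13 module [MUINT] (helper44): `μ_ψ(z)` is a rational integer for `z ∈ S` of order coprime
to `p = |W₂|`, `ψ` trivial on `W₁`.
-/

set_option autoImplicit false

namespace Cfsg.Agent.Lib.Helper44.PF13

open Cfsg Cfsg.Agent.Lib.Helper24.PFCyc Cfsg.Agent.Lib.Helper4.PF Cfsg.Agent.Lib.Helper16.PF13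

universe u

variable {G : Type u} [Group G] [Fintype G] {S W₁ U W₂ : Subgroup G} [Fintype S]
  {mu : WChar W₁ W₂ → (↥S → ℂ)} {dl : WChar W₁ W₂ → ℂ} {η : WChar W₁ W₂ → (G → ℂ)}

omit [Fintype G] in
/-- a character of `W` trivial on `W₁` has `|W₂|`-th power `1` at every element -/
theorem trivOn_pow_card [Finite G] (hW : IsSelfNormalizingCyclic W₁ W₂) (ψ : WChar W₁ W₂)
    (hψ : TrivOn W₁ ψ) (w : ↥(W₁ ⊔ W₂)) : (ψ w) ^ Nat.card W₂ = 1 := by
  obtain ⟨a, ha, b, hb, hab⟩ :=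
    Cfsg.Agent.Lib.Helper50.PFCyc.mem_sup_of_comm hW.2.2.2.1 w.2
  have hbp : b ^ Nat.card W₂ = 1 := by
    have h1 : (⟨b, hb⟩ : ↥W₂) ^ Nat.card W₂ = 1 := pow_card_eq_one'
    have h2 := congrArg Subtype.val h1
    rwa [Subgroup.coe_pow, Subgroup.coe_one] at h2
  have hcomm : Commute a b := hW.2.2.2.1 a ha b hb
  have hwp : ((w ^ Nat.card W₂ : ↥(W₁ ⊔ W₂)) : G) ∈ W₁ := by
    rw [Subgroup.coe_pow, hab, hcomm.mul_pow, hbp, mul_one]
    exact W₁.pow_mem ha _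
  rw [← map_pow]
  exact hψ _ hwp

/-- MODULE PF13-[MUINT] -/
theorem mu_int_of_coprime (h : PSide S W₁ U W₂ mu dl η) (ψ : WChar W₁ W₂) (hψ : TrivOn W₁ ψ)
    (z : ↥S) (hz : (orderOf z).Coprime (Nat.card W₂)) : ∃ n : ℤ, mu ψ z = (n : ℂ) := by
  classical
  have hoddS : Odd (Nat.card ↥S) := h.hodd.of_dvd_nat (Subgroup.card_subgroup_dvd_card S)
  set m := orderOf z with hm_def
  have hm : 0 < m := orderOf_pos z
  set t := Nat.card W₂ with ht_def
  have ht : 0 < t := Nat.card_pos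
  have hψt : ∀ w, (ψ w : ℂˣ) ^ t = 1 := fun w => trivOn_pow_card h.hP.selfNormalizing ψ hψ w
  have hzm : z ^ m = 1 := pow_orderOf_eq_one z
  let ζ : ℂ := Complex.exp (2 * Real.pi * Complex.I / m)
  have hζ : IsPrimitiveRoot ζ m := Complex.isPrimitiveRoot_exp m hm.ne'
  have hchar : IsCharacter ↥S (mu ψ) := Cfsg.Agent.Lib.Helper25.isCharacter_of_irr (h.md.irr ψ)
  obtain ⟨hx1, hx2, hx3⟩ :=
    Cfsg.Agent.S1508.signed_char_galois (Or.inl hchar) z m hm hzm ζ hζ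
  have hfix : ∀ k : ℕ, k.Coprime m → ∀ σ : ℂ ≃+* ℂ, (∀ μ : ℂ, μ ^ m = 1 → σ μ = μ ^ k) →
      σ (mu ψ z) = mu ψ z := by
    intro k hk σ hσ
    rw [hx3 k σ hσ]
    obtain ⟨k', hk'm, hk't⟩ := Nat.chineseRemainder hz k 1
    have hk'cop : Nat.Coprime k' (m * t) := by
      apply Nat.Coprime.mul_right
      · have := hk'm.gcd_eq
        unfold Nat.Coprime
        rw [this]
        exact hk
      · have := hk't.gcd_eq
        unfold Nat.Coprime
        rw [this]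
        exact Nat.gcd_one_left t
    obtain ⟨σ', hσ'⟩ :=
      Cfsg.Agent.Lib.Helper75.exists_ringEquiv_pow (m * t) (Nat.mul_pos hm ht) k' hk'cop
    have hσ'm : ∀ μ : ℂ, μ ^ m = 1 → σ' μ = μ ^ k' := by
      intro μ hμ
      apply hσ'
      rw [pow_mul, hμ, one_pow]
    have e1 : σ' (mu ψ z) = mu ψ (z ^ k') := hx3 k' σ' hσ'm
    have e2 : z ^ k' = z ^ k := pow_eq_pow_iff_modEq.mpr hk'm
    have hgal : galChar σ' ψ = ψ := by
      apply MonoidHom.ext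
      intro w
      apply Units.ext
      rw [galChar_apply]
      have hωt : ((ψ w : ℂˣ) : ℂ) ^ (m * t) = 1 := by
        rw [mul_comm, pow_mul, ← Units.val_pow_eq_pow_val, hψt w, Units.val_one, one_pow]
      rw [hσ' _ hωt, ← Units.val_pow_eq_pow_val]
      have hdvd : orderOf (ψ w) ∣ t := orderOf_dvd_of_pow_eq_one (hψt w)
      have : (ψ w) ^ k' = (ψ w) ^ 1 := pow_eq_pow_iff_modEq.mpr (hk't.of_dvd hdvd)
      rw [this, pow_one]
    have e3 : (fun s => σ' (mu ψ s)) = mu ψ := by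
      have := (Cfsg.Agent.Lib.Helper9.PFCyc.mu_galChar h.hP hoddS h.md σ' ψ).1
      rw [hgal] at this
      exact this.symm
    rw [← e2, ← e1]
    exact congrFun e3 z
  obtain ⟨q, hq⟩ := Cfsg.Agent.Lib.Helper25.exists_rat_of_fixed' m hm ζ hζ (mu ψ z) hx1 hfix
  rw [hq] at hx2 ⊢
  have h1 : IsIntegral ℤ q := by
    have hinj : Function.Injective (algebraMap ℚ ℂ) := (algebraMap ℚ ℂ).injective
    rw [← isIntegral_algebraMap_iff hinj]
    simpa using hx2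
  obtain ⟨n, hn⟩ := IsIntegrallyClosed.algebraMap_eq_of_integral h1
  refine ⟨n, ?_⟩
  rw [← hn]
  simp

end Cfsg.Agent.Lib.Helper44.PF13
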