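/-
helper44: subfield subgroups of GL(ι, F), part 1: rational matrices, the group
`NGrp F₀ = GL(ι, F₀) · scalars`, membership criteria.
-/
import Mathlib
import Cfsg.Prelude.Def_GeometricClasses
import Cfsg.Agent.Lib.Helper93.SLGeneration

set_option autoImplicit false
set_option linter.unusedSectionVars false

namespace Cfsg.Agent.Lib.Helper44.SubF

open Matrix Cfsg.Geo Cfsg.Agent.Lib.Helper93

variable {ι : Type} [Fintype ι] [DecidableEq ι] {F : Type*} [Field F] (F₀ : Subfield F)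

/-- all entries in the subfield -/
def RatMat (A : Matrix ι ι F) : Prop := ∀ i j, A i j ∈ F₀

/-- all coordinates in the subfield -/
def RatVec (v : ι → F) : Prop := ∀ i, v i ∈ F₀

variable {F₀}

lemma RatMat.one : RatMat F₀ (1 : Matrix ι ι F) := by
  intro i j
  by_cases h : i = j
  · subst h; rw [Matrix.one_apply_eq]; exact F₀.one_mem
  · rw [Matrix.one_apply_ne h]; exact F₀.zero_mem

lemma RatMat.mul {A B : Matrix ι ι F} (hA : RatMat F₀ A) (hB : RatMat F₀ B) : RatMat F₀ (A * B) := by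
  intro i j
  rw [Matrix.mul_apply]
  exact F₀.sum_mem (fun k _ => F₀.mul_mem (hA i k) (hB k j))

lemma RatMat.add {A B : Matrix ι ι F} (hA : RatMat F₀ A) (hB : RatMat F₀ B) : RatMat F₀ (A + B) := by
  intro i j
  rw [Matrix.add_apply]
  exact F₀.add_mem (hA i j) (hB i j)

lemma RatMat.smul {A : Matrix ι ι F} {c : F} (hc : c ∈ F₀) (hA : RatMat F₀ A) : RatMat F₀ (c • A) := by
  intro i j
  rw [Matrix.smul_apply, smul_eq_mul]
  exact F₀.mul_mem hc (hA i j)

lemma RatMat.vecMulVec {v φ : ι → F} (hv : RatVec F₀ v) (hφ : RatVec F₀ φ) :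
    RatMat F₀ (Matrix.vecMulVec v φ) := by
  intro i j
  rw [Matrix.vecMulVec_apply]
  exact F₀.mul_mem (hv i) (hφ j)

lemma RatMat.tvMat {v φ : ι → F} (hv : RatVec F₀ v) (hφ : RatVec F₀ φ) : RatMat F₀ (tvMat v φ) := by
  unfold Helper93.tvMat
  exact RatMat.one.add (RatMat.vecMulVec hv hφ)

lemma RatVec.dot {v φ : ι → F} (hv : RatVec F₀ v) (hφ : RatVec F₀ φ) : φ ⬝ᵥ v ∈ F₀ := by
  unfold dotProduct
  exact F₀.sum_mem (fun k _ => F₀.mul_mem (hφ k) (hv k))

lemma RatMat.mulVec {A : Matrix ι ι F} {v : ι → F} (hA : RatMat F₀ A) (hv : RatVec F₀ v) :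
    RatVec F₀ (A *ᵥ v) := by
  intro i
  show (fun j => A i j) ⬝ᵥ v ∈ F₀
  exact RatVec.dot hv (hA i)

lemma RatMat.vecMul {A : Matrix ι ι F} {φ : ι → F} (hA : RatMat F₀ A) (hφ : RatVec F₀ φ) :
    RatVec F₀ (φ ᵥ* A) := by
  intro j
  show φ ⬝ᵥ (fun i => A i j) ∈ F₀
  exact RatVec.dot (fun i => hA i j) hφ

lemma ratVec_single (i : ι) {c : F} (hc : c ∈ F₀) : RatVec F₀ (Pi.single i c) := by
  intro k
  by_cases h : k = i
  · subst h; rw [Pi.single_eq_same]; exact hc
  · rw [Pi.single_eq_of_ne h]; exact F₀.zero_mem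

variable (F₀)

/-- the scalar matrix as an element of GL -/
def scalarGL (c : Fˣ) : GL ι F := Units.map (Matrix.scalar ι : F →+* Matrix ι ι F).toMonoidHom c

variable {F₀}

lemma scalarGL_val (c : Fˣ) :
    ((scalarGL c : GL ι F) : Matrix ι ι F) = (c : F) • (1 : Matrix ι ι F) := by
  show Matrix.scalar ι (c : F) = _
  rw [Matrix.scalar_apply, ← Matrix.smul_one_eq_diagonal]

lemma mem_scalars_iff (g : GL ι F) : g ∈ scalars ι F ↔ ∃ c : Fˣ, g = scalarGL c := by
  unfold scalars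
  rw [MonoidHom.mem_range]
  constructor
  · rintro ⟨c, hc⟩; exact ⟨c, hc.symm⟩
  · rintro ⟨c, hc⟩; exact ⟨c, hc.symm⟩

lemma scalarGL_comm (c : Fˣ) (g : GL ι F) : scalarGL c * g = g * scalarGL c := by
  apply Units.ext
  rw [Units.val_mul, Units.val_mul, scalarGL_val, Matrix.smul_mul, Matrix.mul_smul, Matrix.one_mul,
    Matrix.mul_one]

instance scalars_normal : (scalars ι F).Normal := ⟨by
  intro x hx g
  obtain ⟨c, rfl⟩ := (mem_scalars_iff x).1 hx
  rw [← scalarGL_comm, mul_inv_cancel_right]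
  exact hx⟩

lemma scalarGL_mul_val (c : Fˣ) (g : GL ι F) :
    ((scalarGL c * g : GL ι F) : Matrix ι ι F) = (c : F) • (g : Matrix ι ι F) := by
  rw [Units.val_mul, scalarGL_val, Matrix.smul_mul, Matrix.one_mul]

variable (F₀)

/-- `GL(ι, F₀) · scalars` -/
def NGrp : Subgroup (GL ι F) :=
  (Matrix.GeneralLinearGroup.map (F₀.subtype : F₀ →+* F)).range ⊔ scalars ι F

variable {F₀}

lemma mem_range_iff (g : GL ι F) :
    g ∈ (Matrix.GeneralLinearGroup.map (F₀.subtype : F₀ →+* F)).range ↔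
      RatMat F₀ (g : Matrix ι ι F) := by
  constructor
  · rintro ⟨a, rfl⟩ i j
    show ((a : Matrix ι ι F₀).map F₀.subtype) i j ∈ F₀
    rw [Matrix.map_apply]
    exact ((a : Matrix ι ι F₀) i j).2
  · intro h
    let A₀ : Matrix ι ι F₀ := Matrix.of fun i j => (⟨(g : Matrix ι ι F) i j, h i j⟩ : F₀)
    have hmap : A₀.map F₀.subtype = (g : Matrix ι ι F) := by
      ext i j; rfl
    have hdet : A₀.det ≠ 0 := by
      intro h0
      have h1 : (F₀.subtype : F₀ →+* F) A₀.det = (g : Matrix ι ι F).det := by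
        rw [RingHom.map_det, RingHom.mapMatrix_apply, hmap]
      rw [h0, map_zero] at h1
      have h2 : IsUnit (g : Matrix ι ι F).det := by
        rw [← Matrix.isUnit_iff_isUnit_det]; exact g.isUnit
      exact h2.ne_zero h1.symm
    refine ⟨Matrix.GeneralLinearGroup.mkOfDetNeZero A₀ hdet, ?_⟩
    apply Units.ext
    exact hmap

lemma ratMat_inv {g : GL ι F} (h : RatMat F₀ (g : Matrix ι ι F)) :
    RatMat F₀ ((g⁻¹ : GL ι F) : Matrix ι ι F) := by
  rw [← mem_range_iff] at h ⊢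
  exact Subgroup.inv_mem _ h

lemma mem_NGrp_iff (g : GL ι F) :
    g ∈ NGrp F₀ ↔ ∃ c : Fˣ, RatMat F₀ ((c : F) • (g : Matrix ι ι F)) := by
  unfold NGrp
  rw [Subgroup.mem_sup_of_normal_right]
  constructor
  · rintro ⟨y, hy, z, hz, rfl⟩
    obtain ⟨c, rfl⟩ := (mem_scalars_iff z).1 hz
    refine ⟨c⁻¹, ?_⟩
    rw [mem_range_iff] at hy
    rw [← scalarGL_comm, scalarGL_mul_val, smul_smul, ← Units.val_mul, inv_mul_cancel, Units.val_one,
      one_smul]
    exact hy
  · rintro ⟨c, hc⟩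
    refine ⟨scalarGL c * g, ?_, scalarGL c⁻¹, (mem_scalars_iff _).2 ⟨_, rfl⟩, ?_⟩
    · rw [mem_range_iff, scalarGL_mul_val]; exact hc
    · rw [scalarGL_comm, mul_assoc]
      have : (scalarGL c : GL ι F) * scalarGL c⁻¹ = 1 := by
        apply Units.ext
        rw [Units.val_mul, scalarGL_val, scalarGL_val, Matrix.smul_mul, Matrix.one_mul, smul_smul,
          ← Units.val_mul, mul_inv_cancel, Units.val_one, one_smul, Units.val_one]
      rw [this, mul_one]

lemma mem_NGrp_of_ratMat {g : GL ι F} (h : RatMat F₀ (g : Matrix ι ι F)) : g ∈ NGrp F₀ :=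
  (mem_NGrp_iff g).2 ⟨1, by rw [Units.val_one, one_smul]; exact h⟩

/-- a rational general transvection lies in `NGrp ⊓ SL` -/
lemma tv_mem_NS {v φ : ι → F} (hv : RatVec F₀ v) (hφ : RatVec F₀ φ) (h : φ ⬝ᵥ v = 0) :
    tv v φ h ∈ NGrp F₀ ⊓ specialLinear ι F :=
  ⟨mem_NGrp_of_ratMat (by rw [tv_val]; exact RatMat.tvMat hv hφ), tv_mem_specialLinear v φ h⟩

/-- an element of `NGrp` with a rational nonzero entry somewhere in a column whose other
entries... : if `g` fixes the basis vector `e_o` then `g` is rational -/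
lemma ratMat_of_mem_NGrp_of_col {g : GL ι F} (hg : g ∈ NGrp F₀) (o : ι)
    (ho : (g : Matrix ι ι F) o o = 1) : RatMat F₀ (g : Matrix ι ι F) := by
  obtain ⟨c, hc⟩ := (mem_NGrp_iff g).1 hg
  have h1 : (c : F) ∈ F₀ := by
    have := hc o o
    rwa [Matrix.smul_apply, ho, smul_eq_mul, mul_one] at this
  have h2 : ((c⁻¹ : Fˣ) : F) ∈ F₀ := by
    rw [Units.val_inv_eq_inv_val]; exact F₀.inv_mem h1
  have h3 : (g : Matrix ι ι F) = ((c⁻¹ : Fˣ) : F) • ((c : F) • (g : Matrix ι ι F)) := by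
    rw [smul_smul, ← Units.val_mul, inv_mul_cancel, Units.val_one, one_smul]
  rw [h3]
  exact RatMat.smul h2 hc

end Cfsg.Agent.Lib.Helper44.SubF
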