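import Mathlib

set_option autoImplicit false
set_option linter.unusedSimpArgs false
set_option linter.unusedVariables false

/-!
# Lines in general position with respect to a pair of complementary subspaces

`V = A ⊕ A'`, and `R` a relation between vectors of `A` and of `A'` ("perpendicularity") such that
every nonzero `x ∈ A` is related to two independent vectors of `A'`, and symmetrically.  A linear
automorphism neither preserving nor interchanging `A`, `A'` maps some related pair `(x, x')` to a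
pair whose `A`-components, or whose `A'`-components, are linearly independent.  No form is involved.
-/

namespace Cfsg.Agent.Lib.Helper44

open Module

section geom
variable {F V : Type*} [Field F] [AddCommGroup V] [Module F V]

/-- two independent vectors in a subspace of dimension at least two -/
theorem exists_li_pair_of_finrank [FiniteDimensional F V] (W : Submodule F V)
    (h2 : 2 ≤ finrank F W) : ∃ a ∈ W, ∃ b ∈ W, LinearIndependent F ![a, b] := by
  obtain ⟨bW⟩ : Nonempty (Basis (Fin (finrank F W)) F W) := ⟨finBasis F W⟩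
  have hpos : 1 < finrank F W := by omega
  refine ⟨(bW ⟨0, by omega⟩ : V), (bW _).2, (bW ⟨1, hpos⟩ : V), (bW _).2, ?_⟩
  have h1 : LinearIndependent F (fun i => ((bW i : W) : V)) :=
    bW.linearIndependent.map' W.subtype (Submodule.ker_subtype _)
  have h3 := h1.comp ![(⟨0, by omega⟩ : Fin (finrank F W)), ⟨1, hpos⟩] (by
    intro a b hab
    fin_cases a <;> fin_cases b <;> simp_all [Fin.ext_iff])
  convert h3 using 1
  ext i
  fin_cases i <;> rfl

/-- the image under `g` of a vector of `A` lies in `A'` or in `A`, if `g` maps every related pair to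
a pair in special position -/
theorem image_mem_or_of_rel (A A' : Submodule F V) (hc : IsCompl A A') (R : V → V → Prop)
    (hd : ∀ x ∈ A, x ≠ 0 → ∃ x₁' ∈ A', ∃ x₂' ∈ A', R x x₁' ∧ R x x₂' ∧
      LinearIndependent F ![x₁', x₂'])
    (g : V ≃ₗ[F] V)
    (hbad : ∀ x ∈ A, ∀ x' ∈ A', R x x' →
      ¬ LinearIndependent F ![A.projection A' hc (g x), A.projection A' hc (g x')] ∧
      ¬ LinearIndependent F ![A'.projection A hc.symm (g x), A'.projection A hc.symm (g x')])
    (x : V) (hxU : x ∈ A) : g x ∈ A' ∨ g x ∈ A := by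
  rw [← Submodule.projection_apply_eq_zero_iff hc,
    ← Submodule.projection_apply_eq_zero_iff hc.symm]
  by_contra hcon
  push Not at hcon
  obtain ⟨hp1, hp2⟩ := hcon
  have hx0 : x ≠ 0 := by
    rintro rfl
    apply hp1
    rw [map_zero, map_zero]
  obtain ⟨x₁', hx₁'U, x₂', hx₂'U, e10, e20, hli'⟩ := hd x hxU hx0
  obtain ⟨b1a, b1b⟩ := hbad x hxU x₁' hx₁'U e10
  obtain ⟨b2a, b2b⟩ := hbad x hxU x₂' hx₂'U e20
  rw [LinearIndependent.pair_iff' hp1] at b1a b2a
  rw [LinearIndependent.pair_iff' hp2] at b1b b2b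
  push Not at b1a b2a b1b b2b
  obtain ⟨l₁, hl₁⟩ := b1a
  obtain ⟨l₂, hl₂⟩ := b2a
  obtain ⟨m₁, hm₁⟩ := b1b
  obtain ⟨m₂, hm₂⟩ := b2b
  have s0 := Submodule.projection_add_projection_eq_self hc (g x)
  have s1 := Submodule.projection_add_projection_eq_self hc (g x₁')
  have s2 := Submodule.projection_add_projection_eq_self hc (g x₂')
  obtain ⟨p₁, hp₁⟩ : ∃ p₁, p₁ = A.projection A' hc (g x) := ⟨_, rfl⟩
  obtain ⟨p₂, hp₂⟩ : ∃ p₂, p₂ = A'.projection A hc.symm (g x) := ⟨_, rfl⟩
  rw [← hp₁] at hl₁ hl₂ s0 hp1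
  rw [← hp₂] at hm₁ hm₂ s0 hp2
  rw [← hl₁, ← hm₁] at s1
  rw [← hl₂, ← hm₂] at s2
  have v1 : g (x₁' - l₁ • x) = (m₁ - l₁) • p₂ := by
    rw [map_sub, map_smul, ← s1, ← s0]
    module
  have v2 : g (x₂' - l₂ • x) = (m₂ - l₂) • p₂ := by
    rw [map_sub, map_smul, ← s2, ← s0]
    module
  have v3 : g ((m₂ - l₂) • (x₁' - l₁ • x) - (m₁ - l₁) • (x₂' - l₂ • x)) = 0 := by
    rw [map_sub, map_smul, map_smul, v1, v2]
    module
  have v4 : (m₂ - l₂) • (x₁' - l₁ • x) - (m₁ - l₁) • (x₂' - l₂ • x) = 0 := by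
    have := g.injective (v3.trans (map_zero g).symm)
    exact this
  have hinter : ∀ z, z ∈ A → z ∈ A' → z = 0 := by
    intro z hz hz'
    have : z ∈ A ⊓ A' := ⟨hz, hz'⟩
    rw [hc.inf_eq_bot] at this
    exact (Submodule.mem_bot F).1 this
  have v5 : (m₂ - l₂) • x₁' - (m₁ - l₁) • x₂' = 0 := by
    have hU' : (m₂ - l₂) • x₁' - (m₁ - l₁) • x₂' ∈ A' :=
      A'.sub_mem (A'.smul_mem _ hx₁'U) (A'.smul_mem _ hx₂'U)
    have hU : (m₂ - l₂) • x₁' - (m₁ - l₁) • x₂' ∈ A := by
      have : (m₂ - l₂) • x₁' - (m₁ - l₁) • x₂' =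
          ((m₂ - l₂) * l₁ - (m₁ - l₁) * l₂) • x := by
        have h2 : (m₂ - l₂) • x₁' - (m₁ - l₁) • x₂' -
            ((m₂ - l₂) * l₁ - (m₁ - l₁) * l₂) • x =
            (m₂ - l₂) • (x₁' - l₁ • x) - (m₁ - l₁) • (x₂' - l₂ • x) := by module
        rw [← sub_eq_zero, h2, v4]
      rw [this]
      exact A.smul_mem _ hxU
    exact hinter _ hU hU'
  have hpair := LinearIndependent.pair_iff.1 hli' (m₂ - l₂) (-(m₁ - l₁))
    (by rw [neg_smul, ← sub_eq_add_neg]; exact v5)
  have c2 : m₁ - l₁ = 0 := neg_eq_zero.1 hpair.2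
  rw [c2, zero_smul] at v1
  have v6 : x₁' - l₁ • x = 0 := g.injective (v1.trans (map_zero g).symm)
  have v7 : x₁' = l₁ • x := sub_eq_zero.1 v6
  have v8 : x₁' = 0 := hinter _ (by rw [v7]; exact A.smul_mem _ hxU) hx₁'U
  exact hli'.ne_zero 0 v8

/-- a linear map sending a subspace into the union of two subspaces sends it into one of them -/
theorem map_le_or_le' (g : V ≃ₗ[F] V) (A B C : Submodule F V)
    (hA : ∀ x ∈ A, g x ∈ B ∨ g x ∈ C) : (∀ x ∈ A, g x ∈ B) ∨ (∀ x ∈ A, g x ∈ C) := by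
  by_contra hcon
  push Not at hcon
  obtain ⟨⟨x₁, hx₁, h1⟩, ⟨x₂, hx₂, h2⟩⟩ := hcon
  have h1' : g x₁ ∈ C := (hA x₁ hx₁).resolve_left h1
  have h2' : g x₂ ∈ B := (hA x₂ hx₂).resolve_right h2
  rcases hA (x₁ + x₂) (A.add_mem hx₁ hx₂) with h3 | h3
  · apply h1
    have := B.sub_mem h3 h2'
    rwa [map_add, add_sub_cancel_right] at this
  · apply h2
    have := C.sub_mem h3 h1'
    rwa [map_add, add_sub_cancel_left] at this

/-- an automorphism not stabilising the pair moves some related pair into general position -/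
theorem exists_general_line_of_rel (U U' : Submodule F V) (hc : IsCompl U U') (R : V → V → Prop)
    (hd : ∀ x ∈ U, x ≠ 0 → ∃ x₁' ∈ U', ∃ x₂' ∈ U', R x x₁' ∧ R x x₂' ∧
      LinearIndependent F ![x₁', x₂'])
    (hd' : ∀ x' ∈ U', x' ≠ 0 → ∃ x₁ ∈ U, ∃ x₂ ∈ U, R x₁ x' ∧ R x₂ x' ∧
      LinearIndependent F ![x₁, x₂])
    (hUne : U ≠ ⊤) (hU'ne : U' ≠ ⊤) (g : V ≃ₗ[F] V)
    (hg1 : ¬ ((∀ u ∈ U, g u ∈ U) ∧ (∀ u ∈ U', g u ∈ U')))
    (hg2 : ¬ ((∀ u ∈ U, g u ∈ U') ∧ (∀ u ∈ U', g u ∈ U))) :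
    ∃ x ∈ U, ∃ x' ∈ U', R x x' ∧
      (LinearIndependent F ![U.projection U' hc (g x), U.projection U' hc (g x')] ∨
       LinearIndependent F ![U'.projection U hc.symm (g x), U'.projection U hc.symm (g x')]) := by
  by_contra hcon
  push Not at hcon
  have hbad : ∀ x ∈ U, ∀ x' ∈ U', R x x' →
      ¬ LinearIndependent F ![U.projection U' hc (g x), U.projection U' hc (g x')] ∧
      ¬ LinearIndependent F ![U'.projection U hc.symm (g x),
        U'.projection U hc.symm (g x')] := hcon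
  have hbad' : ∀ x ∈ U', ∀ x' ∈ U, (fun a b => R b a) x x' →
      ¬ LinearIndependent F ![U'.projection U hc.symm (g x), U'.projection U hc.symm (g x')] ∧
      ¬ LinearIndependent F ![U.projection U' hc.symm.symm (g x),
        U.projection U' hc.symm.symm (g x')] := by
    intro x hx x' hx' hxx'
    have := hbad x' hx' x hx hxx'
    constructor
    · intro hli
      exact this.2 (LinearIndependent.pair_symm_iff.1 hli)
    · intro hli
      exact this.1 (LinearIndependent.pair_symm_iff.1 hli)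
  have hU := map_le_or_le' g U U' U
    (fun x hx => image_mem_or_of_rel U U' hc R hd g hbad x hx)
  have hU' := map_le_or_le' g U' U U'
    (fun x hx => image_mem_or_of_rel U' U hc.symm (fun a b => R b a) hd' g hbad' x hx)
  have htop : ∀ (A : Submodule F V), (∀ u ∈ U, g u ∈ A) → (∀ u ∈ U', g u ∈ A) → A = ⊤ := by
    intro A h1 h2
    rw [eq_top_iff]
    intro z _
    obtain ⟨w, rfl⟩ := g.surjective z
    have hs := Submodule.projection_add_projection_eq_self hc w
    rw [← hs, map_add]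
    exact A.add_mem (h1 _ (Submodule.projection_apply_mem _ _))
      (h2 _ (Submodule.projection_apply_mem _ _))
  rcases hU with hU | hU <;> rcases hU' with hU' | hU'
  · exact hg2 ⟨hU, hU'⟩
  · exact hU'ne (htop U' hU hU')
  · exact hUne (htop U hU hU')
  · exact hg1 ⟨hU, hU'⟩

end geom

end Cfsg.Agent.Lib.Helper44
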