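import Mathlib
import Cfsg.Agent.Lib.Helper13.UnitMax
import Cfsg.Agent.Lib.Helper44.PairGeom

set_option autoImplicit false
set_option linter.unusedSimpArgs false
set_option linter.unusedVariables false

/-!
# Unitary short root elements and transvections, without dependent arguments

In helper37's matrix setting (`hf σ`, `UG σ n ≤ GL (Fin n) F`): `sgU a b` acts as
`x ↦ x + h(x,a) b - h(x,b) a` (for isotropic perpendicular `a`, `b`) and `tvU u c` as
`x ↦ x + c h(x,u) u` (for isotropic `u`); both are `1` when the side conditions fail.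
-/

namespace Cfsg.Agent.Lib.Helper44

open Matrix Module Cfsg.Agent.S0837 Cfsg.Agent.S0781 Cfsg.Agent.S2644 Cfsg.Agent.Lib.Helper37

section upair
variable {F : Type*} [Field F] (σ : F →+* F) {n : ℕ}

theorem gl_ext {g g' : GL (Fin n) F} (h : ∀ x : Fin n → F, g.1 *ᵥ x = g'.1 *ᵥ x) : g = g' := by
  apply Units.ext
  apply Matrix.toLin'.injective
  apply LinearMap.ext
  intro x
  rw [Matrix.toLin'_apply, Matrix.toLin'_apply]
  exact h x

theorem gl_mul_mulVec (g g' : GL (Fin n) F) (x : Fin n → F) :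
    (g * g').1 *ᵥ x = g.1 *ᵥ (g'.1 *ᵥ x) := by
  rw [Units.val_mul, mulVec_mulVec]

theorem gl_one_mulVec (x : Fin n → F) : (1 : GL (Fin n) F).1 *ᵥ x = x := by
  rw [Units.val_one, one_mulVec]

theorem gl_inv_mulVec (g : GL (Fin n) F) (x : Fin n → F) : (g⁻¹).1 *ᵥ (g.1 *ᵥ x) = x := by
  rw [← gl_mul_mulVec, inv_mul_cancel, gl_one_mulVec]

theorem gl_mulVec_inv (g : GL (Fin n) F) (x : Fin n → F) : g.1 *ᵥ ((g⁻¹).1 *ᵥ x) = x := by
  rw [← gl_mul_mulVec, mul_inv_cancel, gl_one_mulVec]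

/-- `h(g⁻¹ x, a) = h(x, g a)` for unitary `g` -/
theorem hf_inv_left {g : GL (Fin n) F} (hg : g ∈ UG σ n) (x a : Fin n → F) :
    hf σ ((g⁻¹).1 *ᵥ x) a = hf σ x (g.1 *ᵥ a) := by
  rw [← hg ((g⁻¹).1 *ᵥ x) a, gl_mulVec_inv]

/-- the short root element `x ↦ x + h(x,a) b - h(x,b) a` -/
noncomputable def sgU (hσ2 : ∀ a, σ (σ a) = a) (a b : Fin n → F) : GL (Fin n) F := by
  classical
  exact if h : hf σ a a = 0 ∧ hf σ b b = 0 ∧ hf σ b a = 0 then
    siegGL σ hσ2 a b 0 h.1 h.2.2 (by rw [map_zero, add_zero, zero_add]; exact h.2.1)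
  else 1

theorem sgU_mulVec (hσ2 : ∀ a, σ (σ a) = a) {a b : Fin n → F} (ha : hf σ a a = 0)
    (hb : hf σ b b = 0) (hba : hf σ b a = 0) (x : Fin n → F) :
    (sgU σ hσ2 a b).1 *ᵥ x = x + hf σ x a • b - hf σ x b • a := by
  unfold sgU
  rw [dif_pos ⟨ha, hb, hba⟩]
  show sieg σ a b 0 *ᵥ x = _
  rw [sieg_mulVec, zero_smul, add_zero]

theorem sgU_mem_UG (hσ2 : ∀ a, σ (σ a) = a) (a b : Fin n → F) : sgU σ hσ2 a b ∈ UG σ n := by
  unfold sgU
  split_ifs with h
  · exact siegGL_mem_UG σ hσ2 a b 0 _ _ _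
  · exact (UG σ n).one_mem

theorem sgU_det (hσ2 : ∀ a, σ (σ a) = a) (a b : Fin n → F) : (sgU σ hσ2 a b).1.det = 1 := by
  unfold sgU
  split_ifs with h
  · show (sieg σ a b 0).det = 1
    exact sieg_det σ hσ2 a b 0 h.1 h.2.2
  · rw [Units.val_one, det_one]

/-- the unitary transvection `x ↦ x + c h(x,u) u` -/
noncomputable def tvU (u : Fin n → F) (c : F) : GL (Fin n) F := by
  classical
  exact if h : hf σ u u = 0 then tvGL σ u c h else 1

theorem tvU_eq {u : Fin n → F} (hu : hf σ u u = 0) (c : F) : tvU σ u c = tvGL σ u c hu := by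
  unfold tvU
  rw [dif_pos hu]

theorem tvU_mulVec {u : Fin n → F} (hu : hf σ u u = 0) (c : F) (x : Fin n → F) :
    (tvU σ u c).1 *ᵥ x = x + (c * hf σ x u) • u := by
  rw [tvU_eq σ hu]
  exact tv_mulVec σ u c x

theorem tvU_mem_UG (hσ2 : ∀ a, σ (σ a) = a) {u : Fin n → F} (hu : hf σ u u = 0) {c : F}
    (hc : c + σ c = 0) : tvU σ u c ∈ UG σ n := by
  rw [tvU_eq σ hu]
  exact TG_le_UG σ hσ2 (tvGL_mem σ u c hu hc)

/-- conjugating a short root element by a unitary matrix -/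
theorem conj_sgU (hσ2 : ∀ a, σ (σ a) = a) {g : GL (Fin n) F} (hg : g ∈ UG σ n)
    {a b : Fin n → F} (ha : hf σ a a = 0) (hb : hf σ b b = 0) (hba : hf σ b a = 0) :
    g * sgU σ hσ2 a b * g⁻¹ = sgU σ hσ2 (g.1 *ᵥ a) (g.1 *ᵥ b) := by
  apply gl_ext
  intro x
  rw [gl_mul_mulVec, gl_mul_mulVec, sgU_mulVec σ hσ2 ha hb hba,
    sgU_mulVec σ hσ2 (by rw [hg, ha]) (by rw [hg, hb]) (by rw [hg, hba]),
    hf_inv_left σ hg, hf_inv_left σ hg]
  simp only [mulVec_add, mulVec_sub, mulVec_smul, gl_mulVec_inv]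

/-- conjugating a transvection by a unitary matrix -/
theorem conj_tvU {g : GL (Fin n) F} (hg : g ∈ UG σ n) {u : Fin n → F} (hu : hf σ u u = 0)
    (c : F) : g * tvU σ u c * g⁻¹ = tvU σ (g.1 *ᵥ u) c := by
  apply gl_ext
  intro x
  rw [gl_mul_mulVec, gl_mul_mulVec, tvU_mulVec σ hu, tvU_mulVec σ (by rw [hg, hu]),
    hf_inv_left σ hg]
  simp only [mulVec_add, mulVec_smul, gl_mulVec_inv]

theorem tvU_mul_tvU {u : Fin n → F} (hu : hf σ u u = 0) (c d : F) :
    tvU σ u c * tvU σ u d = tvU σ u (c + d) := by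
  apply gl_ext
  intro x
  rw [gl_mul_mulVec, tvU_mulVec σ hu, tvU_mulVec σ hu, tvU_mulVec σ hu]
  simp only [hf_add_left, hf_smul_left, hu, mul_zero, add_zero]
  module

end upair

end Cfsg.Agent.Lib.Helper44
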