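import Mathlib
import Cfsg.Agent.Lib.Helper44.UPair1
import Cfsg.Agent.Lib.Helper13.GUParabolic

set_option autoImplicit false
set_option linter.unusedSimpArgs false
set_option linter.unusedVariables false

/-!
# Complementary pairs of totally isotropic subspaces of a unitary space: geometry
-/

namespace Cfsg.Agent.Lib.Helper44

open Matrix Module Cfsg.Agent.S0837 Cfsg.Agent.S0781 Cfsg.Agent.S2644 Cfsg.Agent.Lib.Helper37
open Cfsg.Agent.Lib.Helper13 (hPhi hPhi_apply range_hPhi hf_left_eq_zero UX ux_map ux_smul ux_tv)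

section upair
variable {F : Type*} [Field F] (σ : F →+* F) {n : ℕ}

theorem hf_neg_right' (hσ2 : ∀ a, σ (σ a) = a) (u v : Fin n → F) :
    hf σ u (-v) = -hf σ u v := by
  rw [hf_symm σ hσ2, hf_neg_left, map_neg, ← hf_symm σ hσ2]

theorem hf_eq_zero_symm (hσ2 : ∀ a, σ (σ a) = a) {u v : Fin n → F} (h : hf σ u v = 0) :
    hf σ v u = 0 := by
  rw [hf_symm σ hσ2, h, map_zero]

/-- a complementary pair of totally isotropic subspaces of the standard unitary space -/
structure UIPair (U U' : Submodule F (Fin n → F)) : Prop where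
  tiU : ∀ u ∈ U, ∀ v ∈ U, hf σ u v = 0
  tiU' : ∀ u ∈ U', ∀ v ∈ U', hf σ u v = 0
  compl : IsCompl U U'

namespace UIPair
variable {σ} {U U' : Submodule F (Fin n → F)}

theorem symm (hp : UIPair σ U U') : UIPair σ U' U := ⟨hp.tiU', hp.tiU, hp.compl.symm⟩

theorem inter (hp : UIPair σ U U') {z : Fin n → F} (hz : z ∈ U) (hz' : z ∈ U') : z = 0 := by
  have : z ∈ U ⊓ U' := ⟨hz, hz'⟩
  rw [hp.compl.inf_eq_bot] at this
  exact (Submodule.mem_bot F).1 this

/-- perfect pairing: a vector of `U'` with prescribed pairings against an independent family in `U` -/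
theorem exists_dual_in (hp : UIPair σ U U') (hσ2 : ∀ a, σ (σ a) = a) {k : ℕ}
    (t : Fin k → (Fin n → F)) (htU : ∀ i, t i ∈ U) (ht : LinearIndependent F t) (c : Fin k → F) :
    ∃ y ∈ U', ∀ i, hf σ y (t i) = c i := by
  have hr := range_hPhi σ hσ2 t ht
  have hc : c ∈ LinearMap.range (hPhi σ t) := by rw [hr]; trivial
  obtain ⟨y, hy⟩ := hc
  refine ⟨U'.projection U hp.compl.symm y, Submodule.projection_apply_mem _ _, fun i => ?_⟩
  have hsum := Submodule.projection_add_projection_eq_self hp.compl y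
  have h1 : hf σ (U.projection U' hp.compl y) (t i) = 0 :=
    hp.tiU _ (Submodule.projection_apply_mem _ _) _ (htU i)
  have h2 : hf σ y (t i) = c i := by rw [← hPhi_apply, hy]
  rw [← h2]
  conv_rhs => rw [← hsum]
  rw [hf_add_left, h1, zero_add]

/-- a vector of `U` perpendicular to two given vectors and outside a subspace of dimension ≤ 2 -/
theorem exists_perp_not_mem (hp : UIPair σ U U') (h5 : 5 ≤ finrank F U) (c d : Fin n → F)
    (S : Submodule F (Fin n → F)) (hS : finrank F S ≤ 2) :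
    ∃ u ∈ U, hf σ u c = 0 ∧ hf σ u d = 0 ∧ u ∉ S := by
  let φ : (Fin n → F) →ₗ[F] (Fin 2 → F) := hPhi σ ![c, d]
  have h1 := LinearMap.finrank_range_add_finrank_ker φ
  have h2 : finrank F ↥(LinearMap.range φ) ≤ 2 := by
    have := Submodule.finrank_le (LinearMap.range φ)
    simpa using this
  have h3 := Submodule.finrank_sup_add_finrank_inf_eq U (LinearMap.ker φ)
  have h4 : finrank F ↥(U ⊔ LinearMap.ker φ) ≤ finrank F (Fin n → F) := Submodule.finrank_le _
  have h6 : ¬ (U ⊓ LinearMap.ker φ) ≤ S := by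
    intro hle
    have := Submodule.finrank_mono hle
    omega
  obtain ⟨u, hu, huS⟩ := SetLike.not_le_iff_exists.1 h6
  have hφ : φ u = 0 := hu.2
  have e1 : hf σ u c = 0 := congrFun hφ 0
  have e2 : hf σ u d = 0 := congrFun hφ 1
  exact ⟨u, hu.1, e1, e2, huS⟩

/-- two independent vectors of a subspace of dimension ≥ 3 perpendicular to a given vector -/
theorem exists_li_pair_perp (hσ2 : ∀ a, σ (σ a) = a) (W : Submodule F (Fin n → F))
    (h3 : 3 ≤ finrank F W) (x : Fin n → F) :
    ∃ a ∈ W, ∃ b ∈ W, hf σ x a = 0 ∧ hf σ x b = 0 ∧ LinearIndependent F ![a, b] := by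
  let φ : (Fin n → F) →ₗ[F] (Fin 1 → F) := hPhi σ ![x]
  have h1 := LinearMap.finrank_range_add_finrank_ker φ
  have h2 : finrank F ↥(LinearMap.range φ) ≤ 1 := by
    have := Submodule.finrank_le (LinearMap.range φ)
    simpa using this
  have h3' := Submodule.finrank_sup_add_finrank_inf_eq W (LinearMap.ker φ)
  have h4 : finrank F ↥(W ⊔ LinearMap.ker φ) ≤ finrank F (Fin n → F) := Submodule.finrank_le _
  obtain ⟨a, ha, b, hb, hli⟩ := exists_li_pair_of_finrank (W ⊓ LinearMap.ker φ) (by omega)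
  have ea : hf σ a x = 0 := congrFun (show φ a = 0 from ha.2) 0
  have eb : hf σ b x = 0 := congrFun (show φ b = 0 from hb.2) 0
  exact ⟨a, ha.1, b, hb.1, hf_eq_zero_symm σ hσ2 ea, hf_eq_zero_symm σ hσ2 eb, hli⟩

/-- a matrix in `GL` neither preserving nor interchanging `U`, `U'` moves a Levi line to general
position -/
theorem exists_general_line (hp : UIPair σ U U') (hσ2 : ∀ a, σ (σ a) = a)
    (h3 : 3 ≤ finrank F U) (h3' : 3 ≤ finrank F U') (g : (Fin n → F) ≃ₗ[F] (Fin n → F))
    (hg1 : ¬ ((∀ u ∈ U, g u ∈ U) ∧ (∀ u ∈ U', g u ∈ U')))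
    (hg2 : ¬ ((∀ u ∈ U, g u ∈ U') ∧ (∀ u ∈ U', g u ∈ U))) :
    ∃ x ∈ U, ∃ x' ∈ U', hf σ x' x = 0 ∧
      (LinearIndependent F ![U.projection U' hp.compl (g x), U.projection U' hp.compl (g x')] ∨
       LinearIndependent F ![U'.projection U hp.compl.symm (g x),
         U'.projection U hp.compl.symm (g x')]) := by
  have hUne : U ≠ ⊤ := by
    intro hU1
    have : U' = ⊥ := by
      have := hp.compl.inf_eq_bot
      rwa [hU1, top_inf_eq] at this
    rw [this, finrank_bot] at h3'
    omega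
  have hU'ne : U' ≠ ⊤ := by
    intro hU1
    have : U = ⊥ := by
      have := hp.compl.inf_eq_bot
      rwa [hU1, inf_top_eq] at this
    rw [this, finrank_bot] at h3
    omega
  exact exists_general_line_of_rel U U' hp.compl (fun x x' => hf σ x' x = 0)
    (fun x hx hx0 => by
      obtain ⟨a, ha, b, hb, e1, e2, hli⟩ := exists_li_pair_perp hσ2 U' h3' x
      exact ⟨a, ha, b, hb, hf_eq_zero_symm σ hσ2 e1, hf_eq_zero_symm σ hσ2 e2, hli⟩)
    (fun x' hx' hx0 => by
      obtain ⟨a, ha, b, hb, e1, e2, hli⟩ := exists_li_pair_perp hσ2 U h3 x'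
      exact ⟨a, ha, b, hb, e1, e2, hli⟩)
    hUne hU'ne g hg1 hg2

end UIPair

end upair

end Cfsg.Agent.Lib.Helper44
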