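import Mathlib
import Cfsg.Prelude.Def_LieClassical

set_option autoImplicit false

namespace Cfsg.Agent.Lib.Helper44

section mono
variable {ι : Type} [Fintype ι] [DecidableEq ι] {F : Type*} [Field F]

/-- monomial matrix: `(monoMat σ c) *ᵥ v = fun k => c k * v (σ k)` -/
def monoMat (σ : Equiv.Perm ι) (c : ι → F) : Matrix ι ι F :=
  Matrix.of fun k l => if σ k = l then c k else 0

theorem monoMat_mulVec (σ : Equiv.Perm ι) (c : ι → F) (v : ι → F) :
    (monoMat σ c).mulVec v = fun k => c k * v (σ k) := by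
  ext k
  simp [monoMat, Matrix.mulVec, dotProduct]

theorem matrix_ext_mulVec {A B : Matrix ι ι F} (h : ∀ v, A.mulVec v = B.mulVec v) : A = B := by
  ext i j
  have := congrFun (h (Pi.single j 1)) i
  simpa using this

theorem monoMat_mul (σ τ : Equiv.Perm ι) (c d : ι → F) :
    monoMat σ c * monoMat τ d = monoMat (σ.trans τ) (fun k => c k * d (σ k)) := by
  apply matrix_ext_mulVec
  intro v
  rw [← Matrix.mulVec_mulVec, monoMat_mulVec, monoMat_mulVec, monoMat_mulVec]
  ext k
  simp [mul_assoc]

theorem monoMat_one : monoMat (1 : Equiv.Perm ι) (fun _ => (1 : F)) = 1 := by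
  apply matrix_ext_mulVec
  intro v
  rw [monoMat_mulVec]
  simp

/-- monomial element of `GL` -/
def monoGL (σ : Equiv.Perm ι) (c : ι → Fˣ) : GL ι F where
  val := monoMat σ (fun k => (c k : F))
  inv := monoMat σ⁻¹ (fun k => ((c (σ⁻¹ k))⁻¹ : Fˣ))
  val_inv := by
    rw [monoMat_mul, ← monoMat_one]
    congr 1
    · ext k; simp
    · ext k; simp
  inv_val := by
    rw [monoMat_mul, ← monoMat_one]
    congr 1
    · ext k; simp
    · ext k; simp

theorem monoGL_mulVec (σ : Equiv.Perm ι) (c : ι → Fˣ) (v : ι → F) :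
    ((monoGL σ c : GL ι F) : Matrix ι ι F).mulVec v = fun k => (c k : F) * v (σ k) :=
  monoMat_mulVec σ _ v

theorem GL_ext_mulVec {A B : GL ι F}
    (h : ∀ v, (A : Matrix ι ι F).mulVec v = (B : Matrix ι ι F).mulVec v) : A = B :=
  Units.ext (matrix_ext_mulVec h)

theorem monoGL_mul (σ τ : Equiv.Perm ι) (c d : ι → Fˣ) :
    monoGL σ c * monoGL τ d = monoGL (σ.trans τ) (fun k => c k * d (σ k)) := by
  apply Units.ext
  show monoMat σ _ * monoMat τ _ = monoMat _ _
  rw [monoMat_mul]
  congr 1

theorem monoGL_inv (σ : Equiv.Perm ι) (c : ι → Fˣ) :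
    (monoGL σ c)⁻¹ = monoGL σ⁻¹ (fun k => (c (σ⁻¹ k))⁻¹) := by
  apply Units.ext
  rfl

theorem monoGL_diag_val (c : ι → Fˣ) :
    ((monoGL (1 : Equiv.Perm ι) c : GL ι F) : Matrix ι ι F) = Matrix.diagonal (fun k => (c k : F)) := by
  apply matrix_ext_mulVec
  intro v
  rw [monoGL_mulVec]
  ext k
  rw [Matrix.mulVec_diagonal]
  rfl

end mono


set_option linter.unusedSectionVars false

theorem sign_involution {α : Type*} [Fintype α] [DecidableEq α] (σ : Equiv.Perm α) (hσ : σ ^ 2 = 1) :
    ∃ k : ℕ, Fintype.card α = Nat.card {x : α // σ x = x} + 2 * k ∧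
      Equiv.Perm.sign σ = (-1) ^ k := by
  have : Fact (Nat.Prime 2) := ⟨Nat.prime_two⟩
  have h1 := Equiv.Perm.cycleType_of_pow_prime_eq_one hσ
  refine ⟨Multiset.card σ.cycleType, ?_, ?_⟩
  · have h2 := Equiv.Perm.card_fixedPoints σ
    have h3 := Equiv.Perm.sum_cycleType_le σ
    have h4 : σ.cycleType.sum = 2 * Multiset.card σ.cycleType := by
      rw [h1, Multiset.sum_replicate, Multiset.card_replicate, smul_eq_mul, mul_comm]
    have h5 : Nat.card {x : α // σ x = x} = Fintype.card (Function.fixedPoints σ) := by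
      rw [Nat.card_eq_fintype_card]
      rfl
    rw [h5, h2]
    omega
  · rw [Equiv.Perm.sign_of_cycleType]
    have h4 : σ.cycleType.sum = 2 * Multiset.card σ.cycleType := by
      rw [h1, Multiset.sum_replicate, Multiset.card_replicate, smul_eq_mul, mul_comm]
    rw [h4]
    have : 2 * Multiset.card σ.cycleType + Multiset.card σ.cycleType =
        Multiset.card σ.cycleType + 2 * Multiset.card σ.cycleType := by ring
    rw [this, pow_add, pow_mul]
    simp

section
open Classical

/-- a finite type with an involution having exactly one fixed point has odd cardinality -/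
theorem odd_card_of_involution {α : Type*} [Fintype α] (f : α → α) (hf : ∀ x, f (f x) = x)
    (x₀ : α) (hx₀ : ∀ x, f x = x ↔ x = x₀) : Odd (Fintype.card α) := by
  let σ : Equiv.Perm α := ⟨f, f, hf, hf⟩
  have hσ : σ ^ 2 = 1 := by
    ext x
    simp [sq, σ, hf]
  obtain ⟨k, hk, -⟩ := sign_involution σ hσ
  have h1 : Nat.card {x : α // σ x = x} = 1 := by
    rw [Nat.card_eq_one_iff_unique]
    refine ⟨⟨?_⟩, ⟨⟨x₀, (hx₀ x₀).2 rfl⟩⟩⟩
    rintro ⟨x, hx⟩ ⟨y, hy⟩
    apply Subtype.ext
    show x = y
    rw [(hx₀ x).1 hx, (hx₀ y).1 hy]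
  rw [hk, h1]
  exact ⟨k, by ring⟩

/-- a finite type with a fixed-point-free involution has even cardinality -/
theorem even_card_of_involution {α : Type*} [Fintype α] (f : α → α) (hf : ∀ x, f (f x) = x)
    (hfix : ∀ x, f x ≠ x) : Even (Fintype.card α) := by
  let σ : Equiv.Perm α := ⟨f, f, hf, hf⟩
  have hσ : σ ^ 2 = 1 := by
    ext x
    simp [sq, σ, hf]
  obtain ⟨k, hk, -⟩ := sign_involution σ hσ
  have h1 : Nat.card {x : α // σ x = x} = 0 := by
    rw [Nat.card_eq_zero]
    left
    exact ⟨fun x => hfix x.1 x.2⟩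
  rw [hk, h1]
  exact ⟨k, by ring⟩


variable {F : Type*} [Field F] [Fintype F]

theorem card_hyperbola (d : F) :
    Fintype.card {p : F × F // p.1 * p.2 = d} =
      if d = 0 then 2 * Fintype.card F - 1 else Fintype.card F - 1 := by
  split_ifs with hd
  · subst hd
    -- {p | p.1 * p.2 = 0} = {p.1 = 0} ∪ {p.1 ≠ 0, p.2 = 0}
    have e : {p : F × F // p.1 * p.2 = 0} ≃ F ⊕ {x : F // x ≠ 0} :=
      { toFun := fun p => if h : p.1.1 = 0 then Sum.inl p.1.2 else Sum.inr ⟨p.1.1, h⟩
        invFun := fun s => Sum.elim (fun y => ⟨(0, y), by simp⟩) (fun x => ⟨(x.1, 0), by simp⟩) s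
        left_inv := by
          rintro ⟨⟨x, y⟩, hxy⟩
          by_cases h : x = 0
          · subst h; simp
          · have hy : y = 0 := by
              rcases mul_eq_zero.1 hxy with h' | h'
              · exact absurd h' h
              · exact h'
            subst hy
            simp [h]
        right_inv := by
          rintro (y | ⟨x, hx⟩)
          · simp
          · simp [hx] }
    rw [Fintype.card_congr e, Fintype.card_sum, Fintype.card_subtype_compl, Fintype.card_subtype_eq]
    have : 1 ≤ Fintype.card F := Fintype.card_pos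
    omega
  · have e : {p : F × F // p.1 * p.2 = d} ≃ {x : F // x ≠ 0} :=
      { toFun := fun p => ⟨p.1.1, by
          intro h
          apply hd
          rw [← p.2, h, zero_mul]⟩
        invFun := fun x => ⟨(x.1, d / x.1), by
          show x.1 * (d / x.1) = d
          field_simp [x.2]⟩
        left_inv := by
          rintro ⟨⟨x, y⟩, hxy⟩
          have hx : x ≠ 0 := by
            intro h
            apply hd
            rw [← hxy]
            show x * y = 0
            rw [h, zero_mul]
          apply Subtype.ext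
          show (x, d / x) = (x, y)
          congr 1
          rw [← hxy]
          show x * y / x = y
          field_simp
        right_inv := by
          rintro ⟨x, hx⟩
          rfl }
    rw [Fintype.card_congr e, Fintype.card_subtype_compl, Fintype.card_subtype_eq]


variable {ι : Type} [Fintype ι] [DecidableEq ι]

theorem card_level_split (Q : (ι → F) → F) (a₀ b₀ : ι) (hab : a₀ ≠ b₀) (c : F)
    (H1 : ∀ v, Q v = v a₀ * v b₀ + Q (Function.update (Function.update v a₀ 0) b₀ 0)) :
    Fintype.card {v : ι → F // Q v = c} =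
      (Fintype.card F - 1) * Fintype.card {w : ι → F // w a₀ = 0 ∧ w b₀ = 0} +
        Fintype.card F * Fintype.card {w : ι → F // (w a₀ = 0 ∧ w b₀ = 0) ∧ Q w = c} := by
  have hupd : ∀ (w : ι → F), w a₀ = 0 → w b₀ = 0 → ∀ x y : F,
      Function.update (Function.update (Function.update (Function.update w a₀ x) b₀ y) a₀ 0) b₀ 0 = w := by
    intro w h1 h2 x y
    ext k
    by_cases hkb : k = b₀
    · subst hkb; simp [h2]
    · by_cases hka : k = a₀
      · subst hka; simp [hkb, h1]
      · simp [hkb, hka]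
  let e : {v : ι → F // Q v = c} ≃
      {x : {w : ι → F // w a₀ = 0 ∧ w b₀ = 0} × (F × F) // x.2.1 * x.2.2 = c - Q x.1.1} :=
    { toFun := fun v => ⟨(⟨Function.update (Function.update v.1 a₀ 0) b₀ 0, by simp [hab]⟩,
        (v.1 a₀, v.1 b₀)), by
          have := H1 v.1
          have h2 := v.2
          show v.1 a₀ * v.1 b₀ = c - Q (Function.update (Function.update v.1 a₀ 0) b₀ 0)
          linear_combination h2 - this⟩
      invFun := fun x => ⟨Function.update (Function.update x.1.1.1 a₀ x.1.2.1) b₀ x.1.2.2, by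
        rw [H1, hupd x.1.1.1 x.1.1.2.1 x.1.1.2.2]
        have := x.2
        simp only [Function.update_self, ne_eq, hab, not_false_eq_true, Function.update_of_ne]
        rw [this]; ring⟩
      left_inv := by
        rintro ⟨v, hv⟩
        apply Subtype.ext
        ext k
        by_cases hkb : k = b₀
        · subst hkb; simp
        · by_cases hka : k = a₀
          · subst hka; simp [hkb]
          · simp [hkb, hka]
      right_inv := by
        rintro ⟨⟨⟨w, hw1, hw2⟩, ⟨x, y⟩⟩, hxy⟩
        have h3 := hupd w hw1 hw2 x y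
        apply Subtype.ext
        apply Prod.ext
        · exact Subtype.ext h3
        · simp [hab] }
  rw [Fintype.card_congr e,
    Fintype.card_congr (Equiv.subtypeProdEquivSigmaSubtype
      (fun (w : {w : ι → F // w a₀ = 0 ∧ w b₀ = 0}) (p : F × F) => p.1 * p.2 = c - Q w.1)),
    Fintype.card_sigma]
  simp only [card_hyperbola]
  have hq : 1 ≤ Fintype.card F := Fintype.card_pos
  have h1 : ∀ x : {w : ι → F // w a₀ = 0 ∧ w b₀ = 0},
      (if c - Q x.1 = 0 then 2 * Fintype.card F - 1 else Fintype.card F - 1) =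
        (Fintype.card F - 1) + (if Q x.1 = c then Fintype.card F else 0) := by
    intro x
    by_cases h : Q x.1 = c
    · rw [if_pos (by rw [h, sub_self]), if_pos h]; omega
    · rw [if_neg (fun h' => h (sub_eq_zero.1 h').symm), if_neg h]; omega
  simp only [h1]
  rw [Finset.sum_add_distrib, Finset.sum_const, Finset.card_univ, smul_eq_mul, mul_comm,
    ← Finset.sum_filter, Finset.sum_const, smul_eq_mul, mul_comm (Fintype.card F)]
  congr 2
  rw [← Fintype.card_subtype]
  exact Fintype.card_congr (Equiv.subtypeSubtypeEquivSubtypeInter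
    (fun w : ι → F => w a₀ = 0 ∧ w b₀ = 0) (fun w : ι → F => Q w = c))


theorem isometry_apply {Q : (ι → F) → F} (g : ↥(Cfsg.isometryGroup F Q)) (v : ι → F) :
    Q (((g : GL ι F) : Matrix ι ι F).mulVec v) = Q v := g.2 v v

/-- the isometry group permutes a level set of `Q` -/
noncomputable def permRep (Q : (ι → F) → F) (c : F) :
    ↥(Cfsg.isometryGroup F Q) →* Equiv.Perm {v : ι → F // Q v = c} where
  toFun g :=
    { toFun := fun v => ⟨((g : GL ι F) : Matrix ι ι F).mulVec v.1, (isometry_apply g v.1).trans v.2⟩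
      invFun := fun v => ⟨((g⁻¹ : ↥(Cfsg.isometryGroup F Q)) : GL ι F).1.mulVec v.1,
        (isometry_apply g⁻¹ v.1).trans v.2⟩
      left_inv := fun v => by
        apply Subtype.ext
        show ((g⁻¹ : ↥(Cfsg.isometryGroup F Q)) : GL ι F).1.mulVec (((g : GL ι F) : Matrix ι ι F).mulVec v.1) = v.1
        rw [Matrix.mulVec_mulVec, ← Units.val_mul, ← Subgroup.coe_mul, inv_mul_cancel]
        simp
      right_inv := fun v => by
        apply Subtype.ext
        show ((g : GL ι F) : Matrix ι ι F).mulVec (((g⁻¹ : ↥(Cfsg.isometryGroup F Q)) : GL ι F).1.mulVec v.1) = v.1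
        rw [Matrix.mulVec_mulVec, ← Units.val_mul, ← Subgroup.coe_mul, mul_inv_cancel]
        simp }
  map_one' := by
    ext v
    simp
  map_mul' g h := by
    ext v
    simp [Matrix.mulVec_mulVec]

/-- the sign character of the action on a level set -/
noncomputable def signChar (Q : (ι → F) → F) (c : F) : ↥(Cfsg.isometryGroup F Q) →* ℤˣ :=
  Equiv.Perm.sign.comp (permRep Q c)

theorem signChar_of_mem_Omega (Q : (ι → F) → F) (c : F) (g : ↥(Cfsg.isometryGroup F Q))
    (hg : g ∈ Cfsg.Omega F Q) : signChar Q c g = 1 := by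
  have := Abelianization.commutator_subset_ker (signChar Q c) hg
  exact this


theorem permRep_apply (Q : (ι → F) → F) (c : F) (g : ↥(Cfsg.isometryGroup F Q))
    (v : {v : ι → F // Q v = c}) :
    ((permRep Q c g) v : ι → F) = ((g : GL ι F) : Matrix ι ι F).mulVec v.1 := rfl


theorem two_ne_zero_of_card (hq : Fintype.card F % 4 = 3) : (2 : F) ≠ 0 := by
  apply Ring.two_ne_zero
  intro h
  have := (FiniteField.even_card_iff_char_two).1 h
  omega

theorem signChar_negPair (Q : (ι → F) → F) (a₀ b₀ : ι) (hab : a₀ ≠ b₀) (c : F) (hc : c ≠ 0)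
    (hq : Fintype.card F % 4 = 3)
    (H1 : ∀ v, Q v = v a₀ * v b₀ + Q (Function.update (Function.update v a₀ 0) b₀ 0))
    (H2 : ∀ v, Q (-v) = Q v) (H3 : Q 0 = 0)
    (s : ↥(Cfsg.isometryGroup F Q))
    (hs : ∀ v, ((s : GL ι F) : Matrix ι ι F).mulVec v = fun k => if k = a₀ ∨ k = b₀ then - v k else v k) :
    signChar Q c s = -1 := by
  have h2F : (2 : F) ≠ 0 := two_ne_zero_of_card hq
  have hneg : ∀ t : F, -t = t ↔ t = 0 := by
    intro t
    constructor
    · intro h
      have : (2 : F) * t = 0 := by linear_combination -h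
      exact (mul_eq_zero.1 this).resolve_left h2F
    · rintro rfl; simp
  set σ := permRep Q c s with hσdef
  have hσ : σ ^ 2 = 1 := by
    ext x k
    show (σ (σ x)).1 k = x.1 k
    rw [permRep_apply, permRep_apply, hs, hs]
    by_cases hk : k = a₀ ∨ k = b₀
    · simp [hk]
    · simp [hk]
  obtain ⟨k, hk1, hk2⟩ := sign_involution σ hσ
  have hfix : Nat.card {x : {v : ι → F // Q v = c} // σ x = x} =
      Fintype.card {w : ι → F // (w a₀ = 0 ∧ w b₀ = 0) ∧ Q w = c} := by
    rw [Nat.card_eq_fintype_card]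
    have hiff : ∀ x : {v : ι → F // Q v = c}, σ x = x ↔ (x.1 a₀ = 0 ∧ x.1 b₀ = 0) := by
      intro x
      constructor
      · intro h
        have h1 : (σ x).1 = x.1 := congrArg Subtype.val h
        rw [permRep_apply, hs] at h1
        have ha := congrFun h1 a₀
        have hb := congrFun h1 b₀
        simp only [true_or, or_true, if_true] at ha hb
        exact ⟨(hneg _).1 ha, (hneg _).1 hb⟩
      · rintro ⟨ha, hb⟩
        apply Subtype.ext
        rw [permRep_apply, hs]
        ext k
        by_cases hk : k = a₀ ∨ k = b₀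
        · rw [if_pos hk]
          rcases hk with rfl | rfl
          · rw [ha]; simp
          · rw [hb]; simp
        · rw [if_neg hk]
    exact Fintype.card_congr ((Equiv.subtypeEquivRight hiff).trans
      ((Equiv.subtypeSubtypeEquivSubtypeInter (fun v : ι → F => Q v = c)
        (fun v : ι → F => v a₀ = 0 ∧ v b₀ = 0)).trans
        (Equiv.subtypeEquivRight (fun v => and_comm))))
  have hsplit := card_level_split Q a₀ b₀ hab c H1
  -- parity of W'
  have hW : Odd (Fintype.card {w : ι → F // w a₀ = 0 ∧ w b₀ = 0}) := by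
    refine odd_card_of_involution (fun w => ⟨-w.1, by simp [w.2.1, w.2.2]⟩) ?_ ⟨0, by simp⟩ ?_
    · intro w; apply Subtype.ext; simp
    · intro w
      constructor
      · intro h
        apply Subtype.ext
        have h1 : -w.1 = w.1 := congrArg Subtype.val h
        ext k
        exact (hneg _).1 (congrFun h1 k)
      · rintro rfl
        apply Subtype.ext
        simp
  have hN : Even (Fintype.card {w : ι → F // (w a₀ = 0 ∧ w b₀ = 0) ∧ Q w = c}) := by
    refine even_card_of_involution (fun w => ⟨-w.1, by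
      refine ⟨by simp [w.2.1.1, w.2.1.2], ?_⟩
      rw [H2]; exact w.2.2⟩) ?_ ?_
    · intro w; apply Subtype.ext; simp
    · intro w h
      have h1 : -w.1 = w.1 := congrArg Subtype.val h
      have h0 : w.1 = 0 := by
        ext k
        exact (hneg _).1 (congrFun h1 k)
      have := w.2.2
      rw [h0, H3] at this
      exact hc this.symm
  show Equiv.Perm.sign σ = -1
  rw [hk2]
  apply Odd.neg_one_pow
  rw [hfix, hsplit] at hk1
  obtain ⟨a, ha⟩ := hW
  obtain ⟨b, hb⟩ := hN
  obtain ⟨t, ht⟩ : ∃ t, Fintype.card F = 4 * t + 3 := ⟨Fintype.card F / 4, by omega⟩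
  rw [ha, hb, ht] at hk1
  have h5 : k = (2 * t + 1) * (2 * a + 1 + (b + b)) := by
    have h6 : (4 * t + 3 - 1) = 2 * (2 * t + 1) := by omega
    rw [h6] at hk1
    have h7 : 2 * k = 2 * ((2 * t + 1) * (2 * a + 1 + (b + b))) := by
      have : (b + b) + 2 * k = 2 * (2 * t + 1) * (2 * a + 1) + (4 * t + 3) * (b + b) := by
        rw [← hk1]
      nlinarith [this]
    omega
  rw [h5]
  apply Odd.mul
  · exact ⟨t, by ring⟩
  · exact ⟨a + b, by ring⟩


end

end Cfsg.Agent.Lib.Helper44
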