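import Mathlib
import Cfsg.Prelude.Def_LieClassical
import Cfsg.Agent.Lib.Helper44.SignChar

set_option autoImplicit false

namespace Cfsg.Agent.Lib.Helper44

structure HypFrame {ι : Type} [Fintype ι] [DecidableEq ι] {F : Type*} [Field F]
    (Q : (ι → F) → F) (m : ℕ) where
  e : Fin m → ι
  f : Fin m → ι
  he : Function.Injective e
  hf : Function.Injective f
  hef : ∀ i j, e i ≠ f j
  R : (ι → F) → F
  hQ : ∀ v, Q v = ∑ j, v (e j) * v (f j) + R v
  hR1 : ∀ v v', (∀ k, (∀ j, k ≠ e j) → (∀ j, k ≠ f j) → v k = v' k) → R v = R v'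
  hR2 : ∀ v, R (-v) = R v
  hR3 : R 0 = 0

section frame
open scoped commutatorElement
variable {ι : Type} [Fintype ι] [DecidableEq ι] {F : Type*} [Field F]
variable {Q : (ι → F) → F} {m : ℕ} (fr : HypFrame Q m)

theorem mem_isometryGroup_of_mulVec (g : GL ι F)
    (h : ∀ v : ι → F, Q ((g : Matrix ι ι F).mulVec v) = Q v) : g ∈ Cfsg.isometryGroup F Q :=
  fun u _ => h u

theorem HypFrame.local_mem (j : Fin m) (σ : Equiv.Perm ι) (c : ι → Fˣ)
    (hσ : ∀ k, k ≠ fr.e j → k ≠ fr.f j → σ k = k)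
    (hc : ∀ k, k ≠ fr.e j → k ≠ fr.f j → c k = 1)
    (hterm : ∀ v : ι → F, ((c (fr.e j) : F) * v (σ (fr.e j))) * ((c (fr.f j) : F) * v (σ (fr.f j))) =
      v (fr.e j) * v (fr.f j)) :
    monoGL σ c ∈ Cfsg.isometryGroup F Q := by
  apply mem_isometryGroup_of_mulVec
  intro v
  rw [monoGL_mulVec, fr.hQ, fr.hQ]
  congr 1
  · apply Finset.sum_congr rfl
    intro j' _
    by_cases hj : j' = j
    · subst hj
      exact hterm v
    · have h1 : fr.e j' ≠ fr.e j := fun h => hj (fr.he h)
      have h2 : fr.e j' ≠ fr.f j := fr.hef j' j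
      have h3 : fr.f j' ≠ fr.e j := fun h => fr.hef j j' h.symm
      have h4 : fr.f j' ≠ fr.f j := fun h => hj (fr.hf h)
      simp only [hσ _ h1 h2, hσ _ h3 h4, hc _ h1 h2, hc _ h3 h4, Units.val_one, one_mul]
  · apply fr.hR1
    intro k hk1 hk2
    simp only [hσ k (hk1 j) (hk2 j), hc k (hk1 j) (hk2 j), Units.val_one, one_mul]

/-- scalar function: `a` at `e j`, `b` at `f j`, `1` elsewhere -/
def HypFrame.pairFun (j : Fin m) (a b : Fˣ) : ι → Fˣ :=
  fun k => if k = fr.e j then a else if k = fr.f j then b else 1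

theorem HypFrame.pairFun_e (j : Fin m) (a b : Fˣ) : fr.pairFun j a b (fr.e j) = a := by
  simp [HypFrame.pairFun]

theorem HypFrame.pairFun_f (j : Fin m) (a b : Fˣ) : fr.pairFun j a b (fr.f j) = b := by
  have : fr.f j ≠ fr.e j := fun h => fr.hef j j h.symm
  simp [HypFrame.pairFun, this]

theorem HypFrame.pairFun_other (j : Fin m) (a b : Fˣ) (k : ι) (h1 : k ≠ fr.e j) (h2 : k ≠ fr.f j) :
    fr.pairFun j a b k = 1 := by
  simp [HypFrame.pairFun, h1, h2]

theorem HypFrame.pairFun_mul (j : Fin m) (a b a' b' : Fˣ) (k : ι) :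
    fr.pairFun j a b k * fr.pairFun j a' b' k = fr.pairFun j (a * a') (b * b') k := by
  unfold HypFrame.pairFun
  split_ifs <;> simp

/-- the diagonal isometry `x_j ↦ a x_j, y_j ↦ a⁻¹ y_j` -/
def HypFrame.diagHom (j : Fin m) : Fˣ →* ↥(Cfsg.isometryGroup F Q) where
  toFun a := ⟨monoGL 1 (fr.pairFun j a a⁻¹), by
    apply fr.local_mem j
    · intro k _ _; rfl
    · intro k h1 h2; exact fr.pairFun_other j _ _ k h1 h2
    · intro v
      rw [fr.pairFun_e, fr.pairFun_f]
      simp only [Equiv.Perm.coe_one, id_eq, Units.val_inv_eq_inv_val]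
      have : (a : F) ≠ 0 := a.ne_zero
      field_simp⟩
  map_one' := by
    apply Subtype.ext
    apply GL_ext_mulVec
    intro v
    show (monoGL 1 (fr.pairFun j 1 1⁻¹) : GL ι F).1.mulVec v = (1 : GL ι F).1.mulVec v
    rw [monoGL_mulVec]
    ext k
    unfold HypFrame.pairFun
    split_ifs <;> simp
  map_mul' a b := by
    apply Subtype.ext
    show monoGL 1 (fr.pairFun j (a * b) (a * b)⁻¹) = monoGL 1 (fr.pairFun j a a⁻¹) * monoGL 1 (fr.pairFun j b b⁻¹)
    rw [monoGL_mul]
    congr 1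
    ext k
    simp only [Equiv.Perm.coe_one, id_eq]
    rw [fr.pairFun_mul, mul_inv]

theorem HypFrame.diagHom_val (j : Fin m) (a : Fˣ) :
    ((fr.diagHom j a : ↥(Cfsg.isometryGroup F Q)) : GL ι F) = monoGL 1 (fr.pairFun j a a⁻¹) := rfl


/-- the isometry swapping `x_j` and `y_j` -/
def HypFrame.flip (j : Fin m) : ↥(Cfsg.isometryGroup F Q) :=
  ⟨monoGL (Equiv.swap (fr.e j) (fr.f j)) 1, by
    apply fr.local_mem j
    · intro k h1 h2; exact Equiv.swap_apply_of_ne_of_ne h1 h2
    · intro k _ _; rfl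
    · intro v
      simp only [Pi.one_apply, Units.val_one, one_mul, Equiv.swap_apply_left, Equiv.swap_apply_right]
      ring⟩

/-- the isometry interchanging the `j`-th and `j'`-th pairs -/
def HypFrame.swapPairs (j j' : Fin m) : ↥(Cfsg.isometryGroup F Q) :=
  ⟨monoGL (Equiv.swap (fr.e j) (fr.e j') * Equiv.swap (fr.f j) (fr.f j')) 1, by
    apply mem_isometryGroup_of_mulVec
    intro v
    rw [monoGL_mulVec, fr.hQ, fr.hQ]
    have hE : ∀ j'' : Fin m, (Equiv.swap (fr.e j) (fr.e j') * Equiv.swap (fr.f j) (fr.f j')) (fr.e j'') =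
        fr.e (Equiv.swap j j' j'') := by
      intro j''
      rw [Equiv.Perm.mul_apply, Equiv.swap_apply_of_ne_of_ne (fr.hef j'' j) (fr.hef j'' j'),
        fr.he.swap_apply]
    have hF : ∀ j'' : Fin m, (Equiv.swap (fr.e j) (fr.e j') * Equiv.swap (fr.f j) (fr.f j')) (fr.f j'') =
        fr.f (Equiv.swap j j' j'') := by
      intro j''
      rw [Equiv.Perm.mul_apply, fr.hf.swap_apply,
        Equiv.swap_apply_of_ne_of_ne (fun h => fr.hef j _ h.symm) (fun h => fr.hef j' _ h.symm)]
    congr 1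
    · simp only [Pi.one_apply, Units.val_one, one_mul, hE, hF]
      exact Equiv.sum_comp (Equiv.swap j j') (fun j'' => v (fr.e j'') * v (fr.f j''))
    · apply fr.hR1
      intro k hk1 hk2
      simp only [Pi.one_apply, Units.val_one, one_mul]
      rw [Equiv.Perm.mul_apply, Equiv.swap_apply_of_ne_of_ne (hk2 j) (hk2 j'),
        Equiv.swap_apply_of_ne_of_ne (hk1 j) (hk1 j')]⟩

theorem monoGL_conj (σ : Equiv.Perm ι) (d : ι → Fˣ) :
    monoGL σ (1 : ι → Fˣ) * monoGL 1 d * (monoGL σ (1 : ι → Fˣ))⁻¹ = monoGL 1 (fun k => d (σ k)) := by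
  apply GL_ext_mulVec
  intro v
  rw [monoGL_inv, Units.val_mul, Units.val_mul, ← Matrix.mulVec_mulVec, ← Matrix.mulVec_mulVec,
    monoGL_mulVec, monoGL_mulVec, monoGL_mulVec, monoGL_mulVec]
  ext k
  simp


theorem HypFrame.conj_flip (j : Fin m) (a : Fˣ) :
    fr.flip j * fr.diagHom j a * (fr.flip j)⁻¹ = fr.diagHom j a⁻¹ := by
  apply Subtype.ext
  show monoGL (Equiv.swap (fr.e j) (fr.f j)) 1 * monoGL 1 (fr.pairFun j a a⁻¹) *
    (monoGL (Equiv.swap (fr.e j) (fr.f j)) 1)⁻¹ = monoGL 1 (fr.pairFun j a⁻¹ a⁻¹⁻¹)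
  rw [monoGL_conj]
  congr 1
  ext k
  by_cases h1 : k = fr.e j
  · subst h1
    rw [Equiv.swap_apply_left, fr.pairFun_f, fr.pairFun_e]
  · by_cases h2 : k = fr.f j
    · subst h2
      rw [Equiv.swap_apply_right, fr.pairFun_f, fr.pairFun_e, inv_inv]
    · rw [Equiv.swap_apply_of_ne_of_ne h1 h2, fr.pairFun_other j _ _ k h1 h2,
        fr.pairFun_other j _ _ k h1 h2]

theorem HypFrame.conj_swapPairs (j j' : Fin m) (hjj' : j ≠ j') (a : Fˣ) :
    fr.swapPairs j j' * fr.diagHom j a * (fr.swapPairs j j')⁻¹ = fr.diagHom j' a := by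
  apply Subtype.ext
  show monoGL (Equiv.swap (fr.e j) (fr.e j') * Equiv.swap (fr.f j) (fr.f j')) 1 *
    monoGL 1 (fr.pairFun j a a⁻¹) *
    (monoGL (Equiv.swap (fr.e j) (fr.e j') * Equiv.swap (fr.f j) (fr.f j')) 1)⁻¹ =
      monoGL 1 (fr.pairFun j' a a⁻¹)
  rw [monoGL_conj]
  congr 1
  ext k
  have hee : fr.e j ≠ fr.e j' := fun h => hjj' (fr.he h)
  have hff : fr.f j ≠ fr.f j' := fun h => hjj' (fr.hf h)
  rw [Equiv.Perm.mul_apply]
  by_cases h1 : k = fr.e j'
  · subst h1
    rw [Equiv.swap_apply_of_ne_of_ne (fr.hef j' j) (fr.hef j' j'), Equiv.swap_apply_right,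
      fr.pairFun_e, fr.pairFun_e]
  · by_cases h2 : k = fr.f j'
    · subst h2
      rw [Equiv.swap_apply_right,
        Equiv.swap_apply_of_ne_of_ne (fun h => fr.hef j j h.symm) (fun h => fr.hef j' j h.symm),
        fr.pairFun_f, fr.pairFun_f]
    · rw [fr.pairFun_other j' _ _ k h1 h2]
      by_cases h3 : k = fr.e j
      · subst h3
        rw [Equiv.swap_apply_of_ne_of_ne (fr.hef j j) (fr.hef j j'), Equiv.swap_apply_left,
          fr.pairFun_other j _ _ _ hee.symm (fr.hef j' j)]
      · by_cases h4 : k = fr.f j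
        · subst h4
          rw [Equiv.swap_apply_left,
            Equiv.swap_apply_of_ne_of_ne (fun h => fr.hef j j' h.symm) (fun h => fr.hef j' j' h.symm),
            fr.pairFun_other j _ _ _ (fun h => fr.hef j j' h.symm) hff.symm]
        · rw [Equiv.swap_apply_of_ne_of_ne h4 h2, Equiv.swap_apply_of_ne_of_ne h3 h1,
            fr.pairFun_other j _ _ k h3 h4]

/-- If `-1` is a square, negating a hyperbolic pair is a commutator. -/
theorem HypFrame.neg_pair_mem_Omega (j : Fin m) (l : Fˣ) (hl : l * l = -1) :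
    fr.diagHom j (-1) ∈ Cfsg.Omega F Q := by
  have h1 : ⁅fr.flip j, fr.diagHom j l⁆ = fr.diagHom j (-1) := by
    rw [commutatorElement_def, fr.conj_flip, ← map_inv, ← map_mul]
    congr 1
    rw [← mul_inv, hl, inv_neg, inv_one]
  rw [← h1]
  exact Subgroup.commutator_mem_commutator (Subgroup.mem_top _) (Subgroup.mem_top _)

/-- Negating two hyperbolic pairs is a commutator. -/
theorem HypFrame.neg_two_pairs_mem_Omega (j j' : Fin m) (hjj' : j ≠ j') :
    fr.diagHom j (-1) * fr.diagHom j' (-1) ∈ Cfsg.Omega F Q := by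
  have h1 : ⁅fr.diagHom j (-1), fr.swapPairs j j'⁆ = fr.diagHom j (-1) * fr.diagHom j' (-1) := by
    rw [commutatorElement_def, mul_assoc, mul_assoc]
    congr 1
    rw [← mul_assoc, ← map_inv, inv_neg, inv_one, fr.conj_swapPairs j j' hjj']
  rw [← h1]
  exact Subgroup.commutator_mem_commutator (Subgroup.mem_top _) (Subgroup.mem_top _)


/-- the diagonal sign function of the involution negating the first `i` pairs -/
def HypFrame.tFun (i : ℕ) : ι → Fˣ :=
  fun k => if ∃ j : Fin m, (j : ℕ) < i ∧ (k = fr.e j ∨ k = fr.f j) then -1 else 1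

/-- the involution negating the first `i` pairs, as an isometry -/
def HypFrame.tElt (i : ℕ) : ↥(Cfsg.isometryGroup F Q) :=
  Nat.rec 1 (fun i t => if h : i < m then t * fr.diagHom ⟨i, h⟩ (-1) else t) i

theorem HypFrame.tElt_zero : fr.tElt 0 = 1 := rfl

theorem HypFrame.tElt_succ (i : ℕ) (h : i < m) :
    fr.tElt (i + 1) = fr.tElt i * fr.diagHom ⟨i, h⟩ (-1) := by
  show (if h : i < m then fr.tElt i * fr.diagHom ⟨i, h⟩ (-1) else fr.tElt i) = _
  rw [dif_pos h]

theorem HypFrame.tElt_val (i : ℕ) (hi : i ≤ m) :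
    ((fr.tElt i : ↥(Cfsg.isometryGroup F Q)) : GL ι F) = monoGL 1 (fr.tFun i) := by
  induction i with
  | zero =>
    show (1 : GL ι F) = _
    apply GL_ext_mulVec
    intro v
    rw [monoGL_mulVec]
    ext k
    simp [HypFrame.tFun]
  | succ i ih =>
    have him : i < m := hi
    rw [fr.tElt_succ i him]
    show ((fr.tElt i : ↥(Cfsg.isometryGroup F Q)) : GL ι F) * monoGL 1 (fr.pairFun ⟨i, him⟩ (-1) (-1)⁻¹) = _
    rw [ih (by omega), monoGL_mul]
    congr 1
    ext k
    simp only [Equiv.Perm.coe_one, id_eq]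
    unfold HypFrame.tFun
    by_cases hk : k = fr.e ⟨i, him⟩ ∨ k = fr.f ⟨i, him⟩
    · have h1 : ¬ ∃ j : Fin m, (j : ℕ) < i ∧ (k = fr.e j ∨ k = fr.f j) := by
        rintro ⟨j, hj, hjk⟩
        have hne : j ≠ ⟨i, him⟩ := by
          intro h; rw [h] at hj; simp at hj
        rcases hk with rfl | rfl <;> rcases hjk with h | h
        · exact hne (fr.he h).symm
        · exact fr.hef _ _ h
        · exact fr.hef _ _ h.symm
        · exact hne (fr.hf h).symm
      have h2 : ∃ j : Fin m, (j : ℕ) < i + 1 ∧ (k = fr.e j ∨ k = fr.f j) := ⟨⟨i, him⟩, by simp, hk⟩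
      rw [if_neg h1, if_pos h2]
      rcases hk with rfl | rfl
      · rw [fr.pairFun_e]; simp
      · rw [fr.pairFun_f]; simp
    · push Not at hk
      rw [fr.pairFun_other _ _ _ k hk.1 hk.2, mul_one]
      have h3 : (∃ j : Fin m, (j : ℕ) < i + 1 ∧ (k = fr.e j ∨ k = fr.f j)) ↔
          ∃ j : Fin m, (j : ℕ) < i ∧ (k = fr.e j ∨ k = fr.f j) := by
        constructor
        · rintro ⟨j, hj, hjk⟩
          refine ⟨j, ?_, hjk⟩
          have : (j : ℕ) ≠ i := by
            intro h
            have hj' : j = ⟨i, him⟩ := Fin.ext h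
            rw [hj'] at hjk
            rcases hjk with h | h
            · exact hk.1 h
            · exact hk.2 h
          omega
        · rintro ⟨j, hj, hjk⟩
          exact ⟨j, by omega, hjk⟩
      simp only [h3]


theorem HypFrame.tElt_mem_of_sq (l : Fˣ) (hl : l * l = -1) (i : ℕ) (hi : i ≤ m) :
    fr.tElt i ∈ Cfsg.Omega F Q := by
  induction i with
  | zero => rw [fr.tElt_zero]; exact Subgroup.one_mem _
  | succ i ih =>
    have him : i < m := hi
    rw [fr.tElt_succ i him]
    exact Subgroup.mul_mem _ (ih (by omega)) (fr.neg_pair_mem_Omega _ l hl)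

theorem HypFrame.tElt_mem_of_even (k : ℕ) (hk : 2 * k ≤ m) :
    fr.tElt (2 * k) ∈ Cfsg.Omega F Q := by
  induction k with
  | zero => rw [Nat.mul_zero, fr.tElt_zero]; exact Subgroup.one_mem _
  | succ k ih =>
    have h1 : 2 * k < m := by omega
    have h2 : 2 * k + 1 < m := by omega
    have h3 : 2 * (k + 1) = (2 * k + 1) + 1 := by ring
    rw [h3, fr.tElt_succ _ h2, fr.tElt_succ _ h1, mul_assoc]
    refine Subgroup.mul_mem _ (ih (by omega)) (fr.neg_two_pairs_mem_Omega _ _ ?_)
    intro h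
    have := congrArg Fin.val h
    simp at this

end frame

section frameFin
open Classical
variable {ι : Type} [Fintype ι] [DecidableEq ι] {F : Type*} [Field F] [Fintype F]
variable {Q : (ι → F) → F} {m : ℕ} (fr : HypFrame Q m)

theorem HypFrame.signChar_neg_pair (hq : Fintype.card F % 4 = 3) (j : Fin m) :
    signChar Q 1 (fr.diagHom j (-1)) = -1 := by
  have hfe : fr.f j ≠ fr.e j := fun h => fr.hef j j h.symm
  apply signChar_negPair Q (fr.e j) (fr.f j) (fr.hef j j) 1 one_ne_zero hq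
  · intro v
    rw [fr.hQ, fr.hQ]
    have hR : fr.R (Function.update (Function.update v (fr.e j) 0) (fr.f j) 0) = fr.R v := by
      apply fr.hR1
      intro k hk1 hk2
      rw [Function.update_of_ne (hk2 j), Function.update_of_ne (hk1 j)]
    rw [hR, ← add_assoc]
    congr 1
    rw [← Finset.add_sum_erase Finset.univ _ (Finset.mem_univ j),
      ← Finset.add_sum_erase Finset.univ (fun j' => Function.update (Function.update v (fr.e j) 0) (fr.f j) 0 (fr.e j') *
        Function.update (Function.update v (fr.e j) 0) (fr.f j) 0 (fr.f j')) (Finset.mem_univ j)]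
    simp only [Function.update_self, mul_zero, zero_add]
    congr 1
    apply Finset.sum_congr rfl
    intro j' hj'
    have hne : j' ≠ j := Finset.ne_of_mem_erase hj'
    have h1 : fr.e j' ≠ fr.e j := fun h => hne (fr.he h)
    have h2 : fr.e j' ≠ fr.f j := fr.hef j' j
    have h3 : fr.f j' ≠ fr.e j := fun h => fr.hef j j' h.symm
    have h4 : fr.f j' ≠ fr.f j := fun h => hne (fr.hf h)
    rw [Function.update_of_ne h2, Function.update_of_ne h1, Function.update_of_ne h4,
      Function.update_of_ne h3]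
  · intro v
    rw [fr.hQ, fr.hQ, fr.hR2]
    simp
  · rw [fr.hQ, fr.hR3]
    simp
  · intro v
    rw [fr.diagHom_val, monoGL_mulVec]
    ext k
    simp only [Equiv.Perm.coe_one, id_eq]
    by_cases h1 : k = fr.e j
    · subst h1
      rw [fr.pairFun_e]; simp
    · by_cases h2 : k = fr.f j
      · subst h2
        rw [fr.pairFun_f]; simp
      · rw [fr.pairFun_other j _ _ k h1 h2]; simp [h1, h2]

theorem HypFrame.signChar_tElt (hq : Fintype.card F % 4 = 3) (i : ℕ) (hi : i ≤ m) :
    signChar Q 1 (fr.tElt i) = (-1) ^ i := by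
  induction i with
  | zero => rw [fr.tElt_zero, map_one, pow_zero]
  | succ i ih =>
    have him : i < m := hi
    rw [fr.tElt_succ i him, map_mul, ih (by omega), fr.signChar_neg_pair hq, pow_succ]

/-- Main theorem on involutions negating `i` hyperbolic pairs. -/
theorem HypFrame.main (hq : Odd (Fintype.card F)) (i : ℕ) (hi : i ≤ m) (D : ι → F)
    (hD : ∀ k, D k = ((fr.tFun i k : Fˣ) : F)) :
    (∃ g : ↥(Cfsg.isometryGroup F Q), g ∈ Cfsg.Omega F Q ∧
      ((g : GL ι F) : Matrix ι ι F) = Matrix.diagonal D) ↔ Fintype.card F ^ i % 4 = 1 := by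
  have hval : ((fr.tElt i : GL ι F) : Matrix ι ι F) = Matrix.diagonal D := by
    rw [fr.tElt_val i hi, monoGL_diag_val]
    congr 1
    ext k
    rw [hD]
  have hq4 : Fintype.card F % 4 = 1 ∨ Fintype.card F % 4 = 3 := by
    obtain ⟨t, ht⟩ := hq
    omega
  constructor
  · rintro ⟨g, hg, hgD⟩
    have hgt : g = fr.tElt i := Subtype.ext (Units.ext (hgD.trans hval.symm))
    rcases hq4 with h1 | h3
    · rw [Nat.pow_mod, h1]; simp
    · have hs := signChar_of_mem_Omega Q 1 g hg
      rw [hgt, fr.signChar_tElt h3 i hi] at hs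
      have hev : Even i := by
        by_contra hodd
        rw [Nat.not_even_iff_odd] at hodd
        rw [hodd.neg_one_pow] at hs
        exact absurd hs (by decide)
      obtain ⟨k, rfl⟩ := hev
      rw [Nat.pow_mod, h3, ← two_mul, pow_mul]
      norm_num
      rw [Nat.pow_mod]; simp
  · intro h
    refine ⟨fr.tElt i, ?_, hval⟩
    rcases hq4 with h1 | h3
    · have hsq : IsSquare (-1 : F) := by
        rw [FiniteField.isSquare_neg_one_iff]; omega
      obtain ⟨l, hl⟩ := hsq
      have hl0 : l ≠ 0 := by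
        rintro rfl
        simp at hl
      exact fr.tElt_mem_of_sq (Units.mk0 l hl0) (by apply Units.ext; simp [← hl]) i hi
    · have hev : Even i := by
        by_contra hodd
        rw [Nat.not_even_iff_odd] at hodd
        obtain ⟨k, rfl⟩ := hodd
        rw [Nat.pow_mod, h3, pow_succ, pow_mul] at h
        norm_num at h
        rw [Nat.mul_mod, Nat.pow_mod] at h
        simp at h
      obtain ⟨k, rfl⟩ := hev
      rw [← two_mul] at hi ⊢
      exact fr.tElt_mem_of_even k hi

end frameFin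

end Cfsg.Agent.Lib.Helper44
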