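import Mathlib
import Cfsg.Prelude.Def_LieClassical
import Cfsg.Agent.Lib.Helper44.SignChar

set_option autoImplicit false

namespace Cfsg.Agent.Lib.Helper44

section transport
variable {ι ι' : Type} [Fintype ι] [DecidableEq ι] [Fintype ι'] [DecidableEq ι'] {F : Type*} [Field F]

/-- conjugation by a linear equivalence, as a multiplicative equivalence of matrix rings -/
noncomputable def conjMat (T : (ι → F) ≃ₗ[F] (ι' → F)) : Matrix ι ι F ≃* Matrix ι' ι' F :=
  (Matrix.toLinAlgEquiv' (R := F) (n := ι)).toRingEquiv.toMulEquiv.trans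
    (T.conjRingEquiv.toMulEquiv.trans
      (LinearMap.toMatrixAlgEquiv' (R := F) (n := ι')).toRingEquiv.toMulEquiv)

theorem conjMat_mulVec (T : (ι → F) ≃ₗ[F] (ι' → F)) (A : Matrix ι ι F) (v : ι → F) :
    (conjMat T A).mulVec (T v) = T (A.mulVec v) := by
  show (LinearMap.toMatrix' (T.conjRingEquiv (Matrix.toLin' A))).mulVec (T v) = _
  rw [LinearMap.toMatrix'_mulVec]
  simp [LinearEquiv.conjRingEquiv]

/-- the induced isomorphism of general linear groups -/
noncomputable def conjGL (T : (ι → F) ≃ₗ[F] (ι' → F)) : GL ι F ≃* GL ι' F :=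
  Units.mapEquiv (conjMat T)

theorem conjGL_mulVec (T : (ι → F) ≃ₗ[F] (ι' → F)) (g : GL ι F) (v : ι → F) :
    ((conjGL T g : GL ι' F) : Matrix ι' ι' F).mulVec (T v) = T ((g : Matrix ι ι F).mulVec v) :=
  conjMat_mulVec T _ v

theorem conjGL_mem (T : (ι → F) ≃ₗ[F] (ι' → F)) (Q : (ι → F) → F) (Q' : (ι' → F) → F)
    (hT : ∀ v, Q' (T v) = Q v) (g : GL ι F) (hg : g ∈ Cfsg.isometryGroup F Q) :
    conjGL T g ∈ Cfsg.isometryGroup F Q' := by
  intro u _
  obtain ⟨u, rfl⟩ := T.surjective u
  show Q' (((conjGL T g : GL ι' F) : Matrix ι' ι' F).mulVec (T u)) = Q' (T u)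
  rw [conjGL_mulVec, hT, hT]
  exact hg u u


/-- an isometric change of coordinates induces an isomorphism of isometry groups -/
noncomputable def conjIso (T : (ι → F) ≃ₗ[F] (ι' → F)) (Q : (ι → F) → F) (Q' : (ι' → F) → F)
    (hT : ∀ v, Q' (T v) = Q v) : ↥(Cfsg.isometryGroup F Q) ≃* ↥(Cfsg.isometryGroup F Q') where
  toFun g := ⟨conjGL T g.1, conjGL_mem T Q Q' hT g.1 g.2⟩
  invFun g := ⟨(conjGL T).symm g.1, by
    intro u _
    show Q ((((conjGL T).symm g.1 : GL ι F) : Matrix ι ι F).mulVec u) = Q u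
    rw [← hT, ← conjGL_mulVec, MulEquiv.apply_symm_apply, ← hT u]
    exact g.2 (T u) (T u)⟩
  left_inv g := by
    apply Subtype.ext
    exact (conjGL T).symm_apply_apply g.1
  right_inv g := by
    apply Subtype.ext
    exact (conjGL T).apply_symm_apply g.1
  map_mul' g h := by
    apply Subtype.ext
    exact map_mul (conjGL T) g.1 h.1

theorem conjIso_mulVec (T : (ι → F) ≃ₗ[F] (ι' → F)) (Q : (ι → F) → F) (Q' : (ι' → F) → F)
    (hT : ∀ v, Q' (T v) = Q v) (g : ↥(Cfsg.isometryGroup F Q)) (v : ι → F) :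
    ((conjIso T Q Q' hT g : GL ι' F) : Matrix ι' ι' F).mulVec (T v) =
      T (((g : GL ι F) : Matrix ι ι F).mulVec v) :=
  conjGL_mulVec T g.1 v

theorem monoidHom_mem_commutator {G H : Type*} [Group G] [Group H] (f : G →* H) {x : G}
    (hx : x ∈ commutator G) : f x ∈ commutator H := by
  have h1 : f x ∈ (commutator G).map f := Subgroup.mem_map_of_mem f hx
  rw [commutator_def, Subgroup.map_commutator] at h1
  exact Subgroup.commutator_mono le_top le_top h1

theorem mulEquiv_mem_commutator_iff {G H : Type*} [Group G] [Group H] (e : G ≃* H) (x : G) :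
    e x ∈ commutator H ↔ x ∈ commutator G := by
  constructor
  · intro h
    have := monoidHom_mem_commutator e.symm.toMonoidHom h
    simpa using this
  · intro h
    exact monoidHom_mem_commutator e.toMonoidHom h

theorem conjIso_mem_Omega_iff (T : (ι → F) ≃ₗ[F] (ι' → F)) (Q : (ι → F) → F) (Q' : (ι' → F) → F)
    (hT : ∀ v, Q' (T v) = Q v) (g : ↥(Cfsg.isometryGroup F Q)) :
    conjIso T Q Q' hT g ∈ Cfsg.Omega F Q' ↔ g ∈ Cfsg.Omega F Q :=
  mulEquiv_mem_commutator_iff (conjIso T Q Q' hT) g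

end transport

section transportSign
open Classical
variable {ι ι' : Type} [Fintype ι] [DecidableEq ι] [Fintype ι'] [DecidableEq ι'] {F : Type*} [Field F]
  [Fintype F]

theorem signChar_conjIso (T : (ι → F) ≃ₗ[F] (ι' → F)) (Q : (ι → F) → F) (Q' : (ι' → F) → F)
    (hT : ∀ v, Q' (T v) = Q v) (c : F) (g : ↥(Cfsg.isometryGroup F Q)) :
    signChar Q' c (conjIso T Q Q' hT g) = signChar Q c g := by
  let e : {v : ι → F // Q v = c} ≃ {v : ι' → F // Q' v = c} :=
    { toFun := fun v => ⟨T v.1, by rw [hT]; exact v.2⟩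
      invFun := fun v => ⟨T.symm v.1, by rw [← hT, T.apply_symm_apply]; exact v.2⟩
      left_inv := fun v => by apply Subtype.ext; exact T.symm_apply_apply v.1
      right_inv := fun v => by apply Subtype.ext; exact T.apply_symm_apply v.1 }
  have h1 : permRep Q' c (conjIso T Q Q' hT g) = e.permCongr (permRep Q c g) := by
    apply Equiv.ext
    intro v
    obtain ⟨v, rfl⟩ := e.surjective v
    rw [Equiv.permCongr_apply, Equiv.symm_apply_apply]
    apply Subtype.ext
    rw [permRep_apply]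
    show ((conjIso T Q Q' hT g : GL ι' F) : Matrix ι' ι' F).mulVec (T v.1) = T ((permRep Q c g v) : ι → F)
    rw [conjIso_mulVec, permRep_apply]
  show Equiv.Perm.sign (permRep Q' c (conjIso T Q Q' hT g)) = Equiv.Perm.sign (permRep Q c g)
  rw [h1, Equiv.Perm.sign_permCongr]

end transportSign

end Cfsg.Agent.Lib.Helper44
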