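import Mathlib
import Cfsg.Prelude.Def_LieClassical
import Cfsg.Agent.Lib.Helper13.Orth
import Cfsg.Agent.Lib.Helper44.Transport

set_option autoImplicit false

namespace Cfsg.Agent.Lib.Helper44

open Matrix

section refl
variable {ι : Type} [Fintype ι] [DecidableEq ι] {F : Type*} [Field F]

theorem reflectionMatrix_mul_self (Q : QuadraticForm F (ι → F)) (v : ι → F) (hv : Q v ≠ 0) :
    Cfsg.reflectionMatrix (⇑Q) v * Cfsg.reflectionMatrix (⇑Q) v = 1 := by
  apply matrix_ext_mulVec
  intro x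
  rw [← Matrix.mulVec_mulVec, Matrix.one_mulVec]
  rw [Helper13.reflectionMatrix_mulVec Q v x, Matrix.mulVec_sub, Matrix.mulVec_smul,
    Helper13.reflectionMatrix_mulVec_self Q v hv, Helper13.reflectionMatrix_mulVec Q v x]
  simp

/-- the reflection in a non-singular vector, as an element of `GL` -/
noncomputable def reflGL (Q : QuadraticForm F (ι → F)) (v : ι → F) (hv : Q v ≠ 0) : GL ι F where
  val := Cfsg.reflectionMatrix (⇑Q) v
  inv := Cfsg.reflectionMatrix (⇑Q) v
  val_inv := reflectionMatrix_mul_self Q v hv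
  inv_val := reflectionMatrix_mul_self Q v hv

open Classical in
/-- the reflection in `v` as an element of the isometry group (`1` if `v` is singular) -/
noncomputable def reflElt (Q : QuadraticForm F (ι → F)) (v : ι → F) :
    ↥(Cfsg.isometryGroup F (⇑Q)) :=
  if hv : Q v ≠ 0 then
    ⟨reflGL Q v hv, (Helper13.mem_isometryGroup_iff _ _).2
      (fun x => Helper13.reflectionMatrix_isometry Q v hv x)⟩
  else 1

theorem reflElt_val (Q : QuadraticForm F (ι → F)) (v : ι → F) (hv : Q v ≠ 0) :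
    ((reflElt Q v : GL ι F) : Matrix ι ι F) = Cfsg.reflectionMatrix (⇑Q) v := by
  unfold reflElt
  rw [dif_pos hv]
  rfl

theorem reflElt_of_singular (Q : QuadraticForm F (ι → F)) (v : ι → F) (hv : Q v = 0) :
    reflElt Q v = 1 := by
  unfold reflElt
  rw [dif_neg (not_not.2 hv)]

theorem reflElt_mulVec (Q : QuadraticForm F (ι → F)) (v : ι → F) (hv : Q v ≠ 0) (x : ι → F) :
    ((reflElt Q v : GL ι F) : Matrix ι ι F) *ᵥ x =
      x - ((Q v)⁻¹ * QuadraticMap.polar (⇑Q) v x) • v := by
  rw [reflElt_val Q v hv, Helper13.reflectionMatrix_mulVec]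

theorem reflElt_mul_self (Q : QuadraticForm F (ι → F)) (v : ι → F) :
    reflElt Q v * reflElt Q v = 1 := by
  by_cases hv : Q v = 0
  · rw [reflElt_of_singular Q v hv, mul_one]
  · apply Subtype.ext
    apply Units.ext
    show ((reflElt Q v : GL ι F) : Matrix ι ι F) * ((reflElt Q v : GL ι F) : Matrix ι ι F) = 1
    rw [reflElt_val Q v hv, reflectionMatrix_mul_self Q v hv]

theorem iso_apply {Q : (ι → F) → F} (g : ↥(Cfsg.isometryGroup F Q)) (v : ι → F) :
    Q (((g : GL ι F) : Matrix ι ι F) *ᵥ v) = Q v := g.2 v v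

theorem reflElt_conj (Q : QuadraticForm F (ι → F)) (h : ↥(Cfsg.isometryGroup F (⇑Q))) (v : ι → F) :
    h * reflElt Q v * h⁻¹ = reflElt Q (((h : GL ι F) : Matrix ι ι F) *ᵥ v) := by
  rw [mul_inv_eq_iff_eq_mul]
  by_cases hv : Q v = 0
  · have hv' : Q (((h : GL ι F) : Matrix ι ι F) *ᵥ v) = 0 := by rw [iso_apply h v]; exact hv
    rw [reflElt_of_singular Q v hv, reflElt_of_singular Q _ hv', mul_one, one_mul]
  · have hv' : Q (((h : GL ι F) : Matrix ι ι F) *ᵥ v) ≠ 0 := by rw [iso_apply h v]; exact hv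
    apply Subtype.ext
    apply GL_ext_mulVec
    intro x
    show (((h : GL ι F) : Matrix ι ι F) * ((reflElt Q v : GL ι F) : Matrix ι ι F)) *ᵥ x =
      (((reflElt Q _ : GL ι F) : Matrix ι ι F) * ((h : GL ι F) : Matrix ι ι F)) *ᵥ x
    rw [← Matrix.mulVec_mulVec, ← Matrix.mulVec_mulVec, reflElt_mulVec Q v hv,
      reflElt_mulVec Q _ hv', Matrix.mulVec_sub, Matrix.mulVec_smul, iso_apply h v,
      Helper13.polar_mulVec_of_isometry Q _ (fun u => iso_apply h u)]

theorem reflElt_smul (Q : QuadraticForm F (ι → F)) (a : F) (ha : a ≠ 0) (v : ι → F) :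
    reflElt Q (a • v) = reflElt Q v := by
  by_cases hv : Q v = 0
  · have hv' : Q (a • v) = 0 := by rw [QuadraticMap.map_smul, hv, smul_zero]
    rw [reflElt_of_singular Q v hv, reflElt_of_singular Q _ hv']
  · have hv' : Q (a • v) ≠ 0 := by
      rw [QuadraticMap.map_smul, smul_eq_mul]
      exact mul_ne_zero (mul_ne_zero ha ha) hv
    apply Subtype.ext
    apply GL_ext_mulVec
    intro x
    rw [reflElt_mulVec Q v hv, reflElt_mulVec Q _ hv', QuadraticMap.map_smul,
      QuadraticMap.polar_smul_left, smul_smul, smul_eq_mul, smul_eq_mul]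
    congr 2
    field_simp

theorem reflElt_neg (Q : QuadraticForm F (ι → F)) (v : ι → F) :
    reflElt Q (-v) = reflElt Q v := by
  have := reflElt_smul Q (-1 : F) (by simp) v
  simpa using this

theorem reflElt_sub_mulVec (Q : QuadraticForm F (ι → F)) (u v : ι → F) (huv : Q u = Q v)
    (h : Q (u - v) ≠ 0) : ((reflElt Q (u - v) : GL ι F) : Matrix ι ι F) *ᵥ u = v := by
  rw [reflElt_mulVec Q _ h]
  have h1 : QuadraticMap.polar (⇑Q) (u - v) u = Q (u - v) := by
    have e1 : QuadraticMap.polar (⇑Q) (u - v) u =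
        QuadraticMap.polar (⇑Q) u u - QuadraticMap.polar (⇑Q) v u := by
      rw [QuadraticMap.polar_sub_left]
    have e2 : Q (u - v) = Q u + Q v - QuadraticMap.polar (⇑Q) v u := by
      have := Helper13.quadraticForm_sub_smul Q u v 1
      simpa using this
    rw [e1, e2, QuadraticMap.polar_self, huv]
    simp [two_mul]
  rw [h1, inv_mul_cancel₀ h, one_smul]
  abel

theorem exists_conj_reflElt (Q : QuadraticForm F (ι → F)) (h2 : (2 : F) ≠ 0) (u v : ι → F)
    (hu : Q u ≠ 0) (hv : Q v ≠ 0) (hsq : IsSquare (Q u * Q v)) :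
    ∃ h : ↥(Cfsg.isometryGroup F (⇑Q)), h * reflElt Q u * h⁻¹ = reflElt Q v := by
  obtain ⟨r, hr⟩ := hsq
  have hr0 : r ≠ 0 := by
    rintro rfl
    rw [mul_zero] at hr
    exact mul_ne_zero hu hv hr
  set v' : ι → F := (Q u / r) • v with hv'def
  have hQv' : Q v' = Q u := by
    rw [hv'def, QuadraticMap.map_smul, smul_eq_mul]
    field_simp
    linear_combination hr
  have hρ : reflElt Q v' = reflElt Q v := reflElt_smul Q _ (div_ne_zero hu hr0) v
  by_cases hcase : Q (u - v') = 0
  · have hplus : Q (u - -v') ≠ 0 := by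
      have e1 := Helper13.quadraticForm_sub_smul Q u v' 1
      have e2 := Helper13.quadraticForm_sub_smul Q u v' (-1)
      rw [one_smul] at e1
      rw [neg_one_smul] at e2
      rw [hcase, hQv'] at e1
      rw [hQv'] at e2
      have e3 : Q (u - -v') = 4 * Q u := by linear_combination e2 + e1
      rw [e3]
      have h4 : (4 : F) ≠ 0 := by
        have : (4 : F) = 2 * 2 := by norm_num
        rw [this]
        exact mul_ne_zero h2 h2
      exact mul_ne_zero h4 hu
    refine ⟨reflElt Q (u - -v'), ?_⟩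
    rw [reflElt_conj, reflElt_sub_mulVec Q u (-v') (by rw [QuadraticMap.map_neg, hQv']) hplus,
      reflElt_neg, hρ]
  · refine ⟨reflElt Q (u - v'), ?_⟩
    rw [reflElt_conj, reflElt_sub_mulVec Q u v' hQv'.symm hcase, hρ]

theorem reflElt_list_prod (Q : QuadraticForm F (ι → F)) (vs : List (ι → F))
    (hvs : ∀ v ∈ vs, Q v ≠ 0) :
    ((((vs.map (reflElt Q)).prod : ↥(Cfsg.isometryGroup F (⇑Q))) : GL ι F) : Matrix ι ι F) =
      (vs.map (fun v => Cfsg.reflectionMatrix (⇑Q) v)).prod := by
  induction vs with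
  | nil => simp
  | cons v vs ih =>
    rw [List.map_cons, List.prod_cons, List.map_cons, List.prod_cons, Subgroup.coe_mul,
      Units.val_mul, ih (fun w hw => hvs w (List.mem_cons_of_mem _ hw)),
      reflElt_val Q v (hvs v List.mem_cons_self)]

end refl

section reflTransport
variable {ι ι' : Type} [Fintype ι] [DecidableEq ι] [Fintype ι'] [DecidableEq ι'] {F : Type*} [Field F]

theorem conjIso_reflElt (T : (ι → F) ≃ₗ[F] (ι' → F)) (Q : QuadraticForm F (ι → F))
    (Q' : QuadraticForm F (ι' → F)) (hT : ∀ v, Q' (T v) = Q v) (u : ι → F) :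
    conjIso T (⇑Q) (⇑Q') hT (reflElt Q u) = reflElt Q' (T u) := by
  by_cases hu : Q u = 0
  · have hu' : Q' (T u) = 0 := by rw [hT]; exact hu
    rw [reflElt_of_singular Q u hu, reflElt_of_singular Q' _ hu', map_one]
  · have hu' : Q' (T u) ≠ 0 := by rw [hT]; exact hu
    apply Subtype.ext
    apply GL_ext_mulVec
    intro x
    obtain ⟨x, rfl⟩ := T.surjective x
    rw [conjIso_mulVec, reflElt_mulVec Q u hu, reflElt_mulVec Q' _ hu', map_sub, map_smul, hT]
    congr 3
    unfold QuadraticMap.polar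
    rw [← map_add, hT, hT, hT]

end reflTransport

section combin
variable {F : Type*} [Field F] [Fintype F]

theorem quadraticChar_mul_eq_one_iff [DecidableEq F] {x y : F} (hx : x ≠ 0) (hy : y ≠ 0) :
    IsSquare (x * y) ↔ quadraticChar F x = quadraticChar F y := by
  rw [← quadraticChar_one_iff_isSquare (mul_ne_zero hx hy), map_mul]
  rcases quadraticChar_dichotomy hx with h | h <;> rcases quadraticChar_dichotomy hy with h' | h' <;>
    rw [h, h'] <;> norm_num

theorem list_prod_eq_one_of_classes {X A : Type*} [CommGroup A] (a : X → A) (c : X → F)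
    (hc : ∀ x, c x ≠ 0) (H1 : ∀ x, a x * a x = 1)
    (H2 : ∀ x y, IsSquare (c x * c y) → a x = a y) (xs : List X)
    (hk : Even xs.length) (hs : IsSquare (xs.map c).prod) : (xs.map a).prod = 1 := by
  classical
  have key : ∀ e : ℤ, ∃ α : A, α * α = 1 ∧ ∀ x, quadraticChar F (c x) = e → a x = α := by
    intro e
    by_cases h : ∃ x₀, quadraticChar F (c x₀) = e
    · obtain ⟨x₀, hx₀⟩ := h
      refine ⟨a x₀, H1 x₀, fun x hx => H2 x x₀ ?_⟩
      rw [quadraticChar_mul_eq_one_iff (hc x) (hc x₀), hx, hx₀]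
    · exact ⟨1, one_mul 1, fun x hx => absurd ⟨x, hx⟩ h⟩
  obtain ⟨α, hα, hα'⟩ := key 1
  obtain ⟨β, hβ, hβ'⟩ := key (-1)
  have main : ∀ xs : List X, ∃ n₀ n₁ : ℕ, n₀ + n₁ = xs.length ∧
      (xs.map a).prod = α ^ n₀ * β ^ n₁ ∧ quadraticChar F (xs.map c).prod = (-1) ^ n₁ := by
    intro xs
    induction xs with
    | nil => exact ⟨0, 0, by simp⟩
    | cons x xs ih =>
      obtain ⟨n₀, n₁, h1, h2, h3⟩ := ih
      rcases quadraticChar_dichotomy (hc x) with h | h
      · refine ⟨n₀ + 1, n₁, by simp; omega, ?_, ?_⟩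
        · rw [List.map_cons, List.prod_cons, h2, hα' x h, pow_succ', mul_assoc]
        · rw [List.map_cons, List.prod_cons, map_mul, h, h3, one_mul]
      · refine ⟨n₀, n₁ + 1, by simp; omega, ?_, ?_⟩
        · rw [List.map_cons, List.prod_cons, h2, hβ' x h, pow_succ', mul_left_comm]
        · rw [List.map_cons, List.prod_cons, map_mul, h, h3, pow_succ]
          ring
  obtain ⟨n₀, n₁, h1, h2, h3⟩ := main xs
  have hne : (xs.map c).prod ≠ 0 := by
    apply List.prod_ne_zero
    intro h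
    obtain ⟨x, -, hx⟩ := List.mem_map.1 h
    exact hc x hx
  rw [(quadraticChar_one_iff_isSquare hne).2 hs] at h3
  have hn₁ : Even n₁ := by
    by_contra hodd
    rw [Nat.not_even_iff_odd] at hodd
    rw [hodd.neg_one_pow] at h3
    norm_num at h3
  have hn₀ : Even n₀ := by
    rw [← h1] at hk
    exact (Nat.even_add.1 hk).2 hn₁
  obtain ⟨m₀, rfl⟩ := hn₀
  obtain ⟨m₁, rfl⟩ := hn₁
  rw [h2, ← two_mul, ← two_mul, pow_mul, pow_mul, sq, sq, hα, hβ, one_pow, one_pow, one_mul]

theorem isSquare_of_list_prod_eq_one {X : Type*} (a : X → ℤˣ) (c : X → F) (hc : ∀ x, c x ≠ 0)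
    (H2 : ∀ x y, IsSquare (c x * c y) → a x = a y)
    (H3 : ∀ x y, ¬ IsSquare (c x * c y) → a x ≠ a y) (xs : List X)
    (hk : Even xs.length) (h1 : (xs.map a).prod = 1) : IsSquare (xs.map c).prod := by
  classical
  have hne : (xs.map c).prod ≠ 0 := by
    apply List.prod_ne_zero
    intro h
    obtain ⟨x, -, hx⟩ := List.mem_map.1 h
    exact hc x hx
  by_cases hX : Nonempty X
  swap
  · cases xs with
    | nil => simp
    | cons x _ => exact absurd ⟨x⟩ hX
  obtain ⟨x₀⟩ := hX
  have hunit : ∀ u v : ℤˣ, u ≠ v → ((u : ℤˣ) : ℤ) = - ((v : ℤˣ) : ℤ) := by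
    intro u v huv
    rcases Int.units_eq_one_or u with rfl | rfl <;> rcases Int.units_eq_one_or v with rfl | rfl <;>
      simp at huv ⊢
  have key : ∃ ε : ℤ, ε * ε = 1 ∧ ∀ x, ((a x : ℤˣ) : ℤ) = ε * quadraticChar F (c x) := by
    refine ⟨((a x₀ : ℤˣ) : ℤ) * quadraticChar F (c x₀), ?_, ?_⟩
    · rcases quadraticChar_dichotomy (hc x₀) with h | h <;>
        rcases Int.units_eq_one_or (a x₀) with h' | h' <;> rw [h, h'] <;> norm_num
    · intro y
      by_cases hy : IsSquare (c y * c x₀)
      · rw [H2 y x₀ hy]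
        rw [quadraticChar_mul_eq_one_iff (hc y) (hc x₀)] at hy
        rw [hy]
        rcases quadraticChar_dichotomy (hc x₀) with h | h <;> rw [h] <;> ring
      · rw [hunit _ _ (H3 y x₀ hy)]
        rw [quadraticChar_mul_eq_one_iff (hc y) (hc x₀)] at hy
        rcases quadraticChar_dichotomy (hc x₀) with h | h <;>
          rcases quadraticChar_dichotomy (hc y) with h' | h' <;> rw [h, h'] at hy ⊢ <;>
          first | (exfalso; exact hy rfl) | ring
  obtain ⟨ε, hε, hε'⟩ := key
  have main : ∀ xs : List X, (((xs.map a).prod : ℤˣ) : ℤ) =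
      ε ^ xs.length * quadraticChar F (xs.map c).prod := by
    intro xs
    induction xs with
    | nil => simp
    | cons x xs ih =>
      rw [List.map_cons, List.prod_cons, List.map_cons, List.prod_cons, Units.val_mul, ih, hε',
        map_mul, List.length_cons, pow_succ]
      ring
  have h3 := main xs
  obtain ⟨m, hm⟩ := hk
  rw [h1, hm, ← two_mul, pow_mul, sq, hε, one_pow, one_mul] at h3
  exact (quadraticChar_one_iff_isSquare hne).1 h3.symm

end combin

end Cfsg.Agent.Lib.Helper44
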