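import Mathlib
import Cfsg.Prelude.Def_LieClassical
import Cfsg.Agent.Lib.Helper44.Refl

set_option autoImplicit false
set_option linter.unusedSectionVars false

namespace Cfsg.Agent.Lib.Helper44

open Matrix

section keycomp
open Classical
variable {ι : Type} [Fintype ι] [DecidableEq ι] {F : Type*} [Field F] [Fintype F]

/-- vector in the coordinate plane `⟨e_{a₀}, e_{b₀}⟩` -/
def planeVec (a₀ b₀ : ι) (s t : F) : ι → F := fun k => if k = a₀ then s else if k = b₀ then t else 0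

/-- zero the two coordinates -/
def zeroTwo (a₀ b₀ : ι) (v : ι → F) : ι → F := Function.update (Function.update v a₀ 0) b₀ 0

theorem zeroTwo_apply (a₀ b₀ : ι) (v : ι → F) (k : ι) :
    zeroTwo a₀ b₀ v k = if k = a₀ ∨ k = b₀ then 0 else v k := by
  unfold zeroTwo
  by_cases hb : k = b₀
  · subst hb; simp
  · by_cases ha : k = a₀
    · subst ha; simp [hb]
    · simp [ha, hb]

theorem zeroTwo_planeVec (a₀ b₀ : ι) (s t : F) : zeroTwo a₀ b₀ (planeVec a₀ b₀ s t) = 0 := by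
  ext k
  rw [zeroTwo_apply]
  unfold planeVec
  by_cases ha : k = a₀
  · simp [ha]
  · by_cases hb : k = b₀
    · simp [hb]
    · simp [ha, hb]

theorem zeroTwo_planeVec_add (a₀ b₀ : ι) (s t : F) (v : ι → F) :
    zeroTwo a₀ b₀ (planeVec a₀ b₀ s t + v) = zeroTwo a₀ b₀ v := by
  ext k
  rw [zeroTwo_apply, zeroTwo_apply]
  unfold planeVec
  by_cases ha : k = a₀
  · simp [ha]
  · by_cases hb : k = b₀
    · simp [hb]
    · simp [ha, hb]

/-- set the two coordinates -/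
def setTwo (a₀ b₀ : ι) (w : ι → F) (p q : F) : ι → F := Function.update (Function.update w a₀ p) b₀ q

theorem setTwo_apply (a₀ b₀ : ι) (w : ι → F) (p q : F) (k : ι) :
    setTwo a₀ b₀ w p q k = if k = b₀ then q else if k = a₀ then p else w k := by
  unfold setTwo
  by_cases hb : k = b₀
  · subst hb; simp
  · by_cases ha : k = a₀
    · subst ha; simp [hb]
    · simp [ha, hb]

theorem zeroTwo_setTwo (a₀ b₀ : ι) (w : ι → F) (p q : F) (h1 : w a₀ = 0) (h2 : w b₀ = 0) :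
    zeroTwo a₀ b₀ (setTwo a₀ b₀ w p q) = w := by
  ext k
  rw [zeroTwo_apply, setTwo_apply]
  by_cases hb : k = b₀
  · subst hb; simp [h2]
  · by_cases ha : k = a₀
    · subst ha; simp [h1]
    · simp [ha, hb]

theorem setTwo_zeroTwo (a₀ b₀ : ι) (hab : a₀ ≠ b₀) (v : ι → F) (p q : F) (hp : v a₀ = p) (hq : v b₀ = q) :
    setTwo a₀ b₀ (zeroTwo a₀ b₀ v) p q = v := by
  ext k
  rw [setTwo_apply, zeroTwo_apply]
  by_cases hb : k = b₀
  · subst hb; simp [hq]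
  · by_cases ha : k = a₀
    · subst ha; simp [hb, hp]
    · simp [ha, hb]

theorem coords_of_lin (w₀ w₁ s t va vb x : F) (hN : w₀ * s ^ 2 + w₁ * t ^ 2 ≠ 0)
    (hlin : w₀ * s * va + w₁ * t * vb = 0) (hx : x = (s * vb - t * va) / (w₀ * s ^ 2 + w₁ * t ^ 2)) :
    va = -w₁ * t * x ∧ vb = w₀ * s * x := by
  have hx' : (w₀ * s ^ 2 + w₁ * t ^ 2) * x = s * vb - t * va := by
    rw [hx]; field_simp
  constructor
  · apply mul_left_cancel₀ hN
    linear_combination s * hlin + w₁ * t * hx'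
  · apply mul_left_cancel₀ hN
    linear_combination t * hlin - w₀ * s * hx'

theorem ringChar_ne_two_of (h2 : (2 : F) ≠ 0) : ringChar F ≠ 2 := by
  intro h
  apply h2
  have := CharP.cast_eq_zero F (ringChar F)
  rw [h] at this
  exact_mod_cast this

theorem card_sqrts_scaled (h2 : (2 : F) ≠ 0) (d e : F) (hd : d ≠ 0) :
    (Fintype.card {x : F // d * x ^ 2 = e} : ℤ) = quadraticChar F d * quadraticChar F e + 1 := by
  have h1 : Fintype.card {x : F // d * x ^ 2 = e} = ({x : F | x ^ 2 = e / d}.toFinset).card := by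
    apply Fintype.card_of_subtype
    intro x
    simp only [Set.mem_toFinset, Set.mem_ofPred_eq]
    rw [eq_div_iff hd, mul_comm]
  rw [h1, quadraticChar_card_sqrts (ringChar_ne_two_of h2)]
  have h3 : e / d = d * e * (d⁻¹) ^ 2 := by
    field_simp
  rw [h3, map_mul, map_mul, quadraticChar_sq_one' (inv_ne_zero hd), mul_one]

variable (Q : QuadraticForm F (ι → F)) (a₀ b₀ : ι) (hab : a₀ ≠ b₀) (w₀ w₁ : F)
  (H1 : ∀ v, Q v = w₀ * (v a₀) ^ 2 + w₁ * (v b₀) ^ 2 + Q (zeroTwo a₀ b₀ v))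

include hab H1

theorem Q_planeVec (s t : F) : Q (planeVec a₀ b₀ s t) = w₀ * s ^ 2 + w₁ * t ^ 2 := by
  rw [H1, zeroTwo_planeVec, map_zero]
  unfold planeVec
  simp [hab.symm]

theorem polar_planeVec (s t : F) (v : ι → F) :
    QuadraticMap.polar (⇑Q) (planeVec a₀ b₀ s t) v = 2 * (w₀ * s * v a₀ + w₁ * t * v b₀) := by
  unfold QuadraticMap.polar
  rw [H1 (planeVec a₀ b₀ s t + v), Q_planeVec Q a₀ b₀ hab w₀ w₁ H1, zeroTwo_planeVec_add, H1 v]
  have e1 : (planeVec a₀ b₀ s t + v) a₀ = s + v a₀ := by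
    unfold planeVec; simp
  have e2 : (planeVec a₀ b₀ s t + v) b₀ = t + v b₀ := by
    unfold planeVec; simp [hab.symm]
  rw [e1, e2]
  ring

/-- the set of fixed points of the reflection in `planeVec s t` on the level set `Q = c` -/
theorem fix_iff (s t : F) (hu : Q (planeVec a₀ b₀ s t) ≠ 0) (h2 : (2 : F) ≠ 0) (c : F)
    (x : {v : ι → F // Q v = c}) :
    permRep (⇑Q) c (reflElt Q (planeVec a₀ b₀ s t)) x = x ↔
      w₀ * s * x.1 a₀ + w₁ * t * x.1 b₀ = 0 := by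
  have hne : planeVec a₀ b₀ s t ≠ 0 := by
    intro h
    rw [h, map_zero] at hu
    exact hu rfl
  constructor
  · intro h
    have h1 : ((permRep (⇑Q) c (reflElt Q (planeVec a₀ b₀ s t)) x : {v : ι → F // Q v = c}) : ι → F)
        = x.1 := congrArg Subtype.val h
    rw [permRep_apply, reflElt_mulVec Q _ hu, polar_planeVec Q a₀ b₀ hab w₀ w₁ H1] at h1
    have h3 : ((Q (planeVec a₀ b₀ s t))⁻¹ * (2 * (w₀ * s * x.1 a₀ + w₁ * t * x.1 b₀))) •
        planeVec a₀ b₀ s t = 0 := by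
      have := sub_eq_self.1 h1
      exact this
    rcases smul_eq_zero.1 h3 with h4 | h4
    · rcases mul_eq_zero.1 h4 with h5 | h5
      · exact absurd (inv_eq_zero.1 h5) hu
      · exact (mul_eq_zero.1 h5).resolve_left h2
    · exact absurd h4 hne
  · intro h
    apply Subtype.ext
    rw [permRep_apply, reflElt_mulVec Q _ hu, polar_planeVec Q a₀ b₀ hab w₀ w₁ H1, h]
    simp

/-- parametrisation of the fixed points -/
noncomputable def fixEquiv (s t : F) (hN : w₀ * s ^ 2 + w₁ * t ^ 2 ≠ 0) (c : F) :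
    {v : ι → F // Q v = c ∧ w₀ * s * v a₀ + w₁ * t * v b₀ = 0} ≃
      {p : {w : ι → F // w a₀ = 0 ∧ w b₀ = 0} × F //
        (w₀ * w₁ * (w₀ * s ^ 2 + w₁ * t ^ 2)) * p.2 ^ 2 = c - Q p.1.1} where
  toFun v := ⟨(⟨zeroTwo a₀ b₀ v.1, by simp [zeroTwo_apply]⟩,
    (s * v.1 b₀ - t * v.1 a₀) / (w₀ * s ^ 2 + w₁ * t ^ 2)), by
      obtain ⟨ha, hb⟩ := coords_of_lin w₀ w₁ s t (v.1 a₀) (v.1 b₀) _ hN v.2.2 rfl
      have h1 := H1 v.1
      have h0 := v.2.1
      set x := (s * v.1 b₀ - t * v.1 a₀) / (w₀ * s ^ 2 + w₁ * t ^ 2) with hx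
      show w₀ * w₁ * (w₀ * s ^ 2 + w₁ * t ^ 2) * x ^ 2 = c - Q (zeroTwo a₀ b₀ v.1)
      have h3 : w₀ * (v.1 a₀) ^ 2 + w₁ * (v.1 b₀) ^ 2 =
          w₀ * w₁ * (w₀ * s ^ 2 + w₁ * t ^ 2) * x ^ 2 := by
        rw [ha, hb]; ring
      linear_combination -h3 - h1 + h0⟩
  invFun p := ⟨setTwo a₀ b₀ p.1.1.1 (-w₁ * t * p.1.2) (w₀ * s * p.1.2), by
    have e1 : setTwo a₀ b₀ p.1.1.1 (-w₁ * t * p.1.2) (w₀ * s * p.1.2) a₀ = -w₁ * t * p.1.2 := by
      rw [setTwo_apply]; simp [hab]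
    have e2 : setTwo a₀ b₀ p.1.1.1 (-w₁ * t * p.1.2) (w₀ * s * p.1.2) b₀ = w₀ * s * p.1.2 := by
      rw [setTwo_apply]; simp
    refine ⟨?_, ?_⟩
    · rw [H1, zeroTwo_setTwo a₀ b₀ _ _ _ p.1.1.2.1 p.1.1.2.2, e1, e2]
      have := p.2
      linear_combination this
    · rw [e1, e2]; ring⟩
  left_inv v := by
    obtain ⟨ha, hb⟩ := coords_of_lin w₀ w₁ s t (v.1 a₀) (v.1 b₀) _ hN v.2.2 rfl
    apply Subtype.ext
    exact setTwo_zeroTwo a₀ b₀ hab v.1 _ _ ha hb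
  right_inv p := by
    obtain ⟨⟨⟨w, hw1, hw2⟩, x⟩, hx⟩ := p
    have e1 : setTwo a₀ b₀ w (-w₁ * t * x) (w₀ * s * x) a₀ = -w₁ * t * x := by
      rw [setTwo_apply]; simp [hab]
    have e2 : setTwo a₀ b₀ w (-w₁ * t * x) (w₀ * s * x) b₀ = w₀ * s * x := by
      rw [setTwo_apply]; simp
    have e3 := zeroTwo_setTwo a₀ b₀ w (-w₁ * t * x) (w₀ * s * x) hw1 hw2
    have e4 : (s * (w₀ * s * x) - t * (-w₁ * t * x)) / (w₀ * s ^ 2 + w₁ * t ^ 2) = x := by
      rw [div_eq_iff hN]; ring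
    apply Subtype.ext
    apply Prod.ext
    · apply Subtype.ext
      exact e3
    · show (s * (setTwo a₀ b₀ w (-w₁ * t * x) (w₀ * s * x) b₀) -
        t * (setTwo a₀ b₀ w (-w₁ * t * x) (w₀ * s * x) a₀)) / (w₀ * s ^ 2 + w₁ * t ^ 2) = x
      rw [e1, e2, e4]

theorem card_fix (h2 : (2 : F) ≠ 0) (hw₀ : w₀ ≠ 0) (hw₁ : w₁ ≠ 0) (s t : F)
    (hN : w₀ * s ^ 2 + w₁ * t ^ 2 ≠ 0) (c : F) :
    (Fintype.card {v : ι → F // Q v = c ∧ w₀ * s * v a₀ + w₁ * t * v b₀ = 0} : ℤ) =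
      quadraticChar F (w₀ * w₁) * quadraticChar F (w₀ * s ^ 2 + w₁ * t ^ 2) *
        (∑ w' : {w : ι → F // w a₀ = 0 ∧ w b₀ = 0}, quadraticChar F (c - Q w'.1)) +
        Fintype.card {w : ι → F // w a₀ = 0 ∧ w b₀ = 0} := by
  rw [Fintype.card_congr (fixEquiv Q a₀ b₀ hab w₀ w₁ H1 s t hN c),
    Fintype.card_congr (Equiv.subtypeProdEquivSigmaSubtype
      (fun (w' : {w : ι → F // w a₀ = 0 ∧ w b₀ = 0}) (x : F) =>
        (w₀ * w₁ * (w₀ * s ^ 2 + w₁ * t ^ 2)) * x ^ 2 = c - Q w'.1)),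
    Fintype.card_sigma, Nat.cast_sum]
  have hd : w₀ * w₁ * (w₀ * s ^ 2 + w₁ * t ^ 2) ≠ 0 := mul_ne_zero (mul_ne_zero hw₀ hw₁) hN
  simp only [card_sqrts_scaled h2 _ _ hd]
  rw [Finset.sum_add_distrib, Finset.sum_const, Finset.card_univ, ← Finset.mul_sum, map_mul]
  simp

omit hab H1 in
theorem odd_charSum (h2 : (2 : F) ≠ 0) (c : F) (hc : c ≠ 0) :
    Odd (∑ w' : {w : ι → F // w a₀ = 0 ∧ w b₀ = 0}, quadraticChar F (c - Q w'.1)) := by
  have hneg : ∀ t : F, -t = t ↔ t = 0 := by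
    intro t
    constructor
    · intro h
      have : (2 : F) * t = 0 := by linear_combination -h
      exact (mul_eq_zero.1 this).resolve_left h2
    · rintro rfl; simp
  rw [← ZMod.intCast_eq_one_iff_odd, Int.cast_sum]
  have h1 : ∀ w' : {w : ι → F // w a₀ = 0 ∧ w b₀ = 0},
      ((quadraticChar F (c - Q w'.1) : ℤ) : ZMod 2) = if Q w'.1 = c then 0 else 1 := by
    intro w'
    by_cases h : Q w'.1 = c
    · rw [if_pos h, h, sub_self, quadraticChar_zero]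
      simp
    · rw [if_neg h]
      rcases quadraticChar_dichotomy (sub_ne_zero.2 (Ne.symm h)) with h' | h' <;> rw [h']
      · simp
      · decide
  simp only [h1]
  rw [Finset.sum_ite, Finset.sum_const_zero, zero_add, Finset.sum_const, nsmul_one,
    ZMod.natCast_eq_one_iff_odd]
  have h3 := Finset.card_filter_add_card_filter_not (s := (Finset.univ :
    Finset {w : ι → F // w a₀ = 0 ∧ w b₀ = 0})) (fun w' => Q w'.1 = c)
  rw [Finset.card_univ] at h3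
  have hW : Odd (Fintype.card {w : ι → F // w a₀ = 0 ∧ w b₀ = 0}) := by
    refine odd_card_of_involution (fun w => ⟨-w.1, by simp [w.2.1, w.2.2]⟩) ?_ ⟨0, by simp⟩ ?_
    · intro w; apply Subtype.ext; simp
    · intro w
      constructor
      · intro h
        apply Subtype.ext
        have h1 : -w.1 = w.1 := congrArg Subtype.val h
        ext k
        exact (hneg _).1 (congrFun h1 k)
      · rintro rfl
        apply Subtype.ext
        simp
  have hN : Even (Finset.card (Finset.filter (fun w' : {w : ι → F // w a₀ = 0 ∧ w b₀ = 0} =>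
      Q w'.1 = c) Finset.univ)) := by
    rw [← Fintype.card_subtype]
    refine even_card_of_involution (fun w => ⟨⟨-w.1.1, by simp [w.1.2.1, w.1.2.2]⟩, by
      show Q (-w.1.1) = c
      rw [QuadraticMap.map_neg]; exact w.2⟩) ?_ ?_
    · intro w; apply Subtype.ext; apply Subtype.ext; simp
    · intro w h
      have h1 : -w.1.1 = w.1.1 := congrArg (fun z => z.1.1) h
      have h0 : w.1.1 = 0 := by
        ext k
        exact (hneg _).1 (congrFun h1 k)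
      have := w.2
      rw [h0, map_zero] at this
      exact hc this.symm
  rw [← h3] at hW
  rcases Nat.odd_add.1 hW with h4
  by_contra h5
  rw [Nat.not_odd_iff_even] at h5
  exact (Nat.not_odd_iff_even.2 hN) (h4.2 h5)

theorem signChar_reflElt_planeVec (h2 : (2 : F) ≠ 0) (hw₀ : w₀ ≠ 0) (hw₁ : w₁ ≠ 0) (s t : F)
    (hN : w₀ * s ^ 2 + w₁ * t ^ 2 ≠ 0) (c : F) :
    ∃ k : ℕ, (Fintype.card {v : ι → F // Q v = c} : ℤ) =
      quadraticChar F (w₀ * w₁) * quadraticChar F (w₀ * s ^ 2 + w₁ * t ^ 2) *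
        (∑ w' : {w : ι → F // w a₀ = 0 ∧ w b₀ = 0}, quadraticChar F (c - Q w'.1)) +
        Fintype.card {w : ι → F // w a₀ = 0 ∧ w b₀ = 0} + 2 * k ∧
      signChar (⇑Q) c (reflElt Q (planeVec a₀ b₀ s t)) = (-1) ^ k := by
  have hu : Q (planeVec a₀ b₀ s t) ≠ 0 := by
    rw [Q_planeVec Q a₀ b₀ hab w₀ w₁ H1]; exact hN
  set σ := permRep (⇑Q) c (reflElt Q (planeVec a₀ b₀ s t)) with hσdef
  have hσ : σ ^ 2 = 1 := by
    rw [hσdef, sq, ← map_mul, reflElt_mul_self, map_one]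
  obtain ⟨k, hk1, hk2⟩ := sign_involution σ hσ
  refine ⟨k, ?_, hk2⟩
  have hfix : Nat.card {x : {v : ι → F // Q v = c} // σ x = x} =
      Fintype.card {v : ι → F // Q v = c ∧ w₀ * s * v a₀ + w₁ * t * v b₀ = 0} := by
    rw [Nat.card_eq_fintype_card]
    exact Fintype.card_congr ((Equiv.subtypeEquivRight
      (fix_iff Q a₀ b₀ hab w₀ w₁ H1 s t hu h2 c)).trans
      (Equiv.subtypeSubtypeEquivSubtypeInter (fun v : ι → F => Q v = c)
        (fun v : ι → F => w₀ * s * v a₀ + w₁ * t * v b₀ = 0)))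
  rw [hk1, hfix, Nat.cast_add, card_fix Q a₀ b₀ hab w₀ w₁ H1 h2 hw₀ hw₁ s t hN c]
  push_cast
  ring

theorem signChar_reflElt_ne (h2 : (2 : F) ≠ 0) (hw₀ : w₀ ≠ 0) (hw₁ : w₁ ≠ 0) (c : F) (hc : c ≠ 0)
    (s₁ t₁ s₂ t₂ : F) (h₁ : quadraticChar F (w₀ * s₁ ^ 2 + w₁ * t₁ ^ 2) = 1)
    (h₂ : quadraticChar F (w₀ * s₂ ^ 2 + w₁ * t₂ ^ 2) = -1) :
    signChar (⇑Q) c (reflElt Q (planeVec a₀ b₀ s₁ t₁)) ≠
      signChar (⇑Q) c (reflElt Q (planeVec a₀ b₀ s₂ t₂)) := by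
  have hN₁ : w₀ * s₁ ^ 2 + w₁ * t₁ ^ 2 ≠ 0 := by
    intro h
    rw [h, quadraticChar_zero] at h₁
    norm_num at h₁
  have hN₂ : w₀ * s₂ ^ 2 + w₁ * t₂ ^ 2 ≠ 0 := by
    intro h
    rw [h, quadraticChar_zero] at h₂
    norm_num at h₂
  obtain ⟨k₁, hk₁, hk₁'⟩ := signChar_reflElt_planeVec Q a₀ b₀ hab w₀ w₁ H1 h2 hw₀ hw₁ s₁ t₁ hN₁ c
  obtain ⟨k₂, hk₂, hk₂'⟩ := signChar_reflElt_planeVec Q a₀ b₀ hab w₀ w₁ H1 h2 hw₀ hw₁ s₂ t₂ hN₂ c
  obtain ⟨m, hm⟩ := odd_charSum Q a₀ b₀ h2 c hc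
  rw [h₁, hm] at hk₁
  rw [h₂, hm, hk₁] at hk₂
  rw [hk₁', hk₂']
  intro heq
  rcases quadraticChar_dichotomy (mul_ne_zero hw₀ hw₁) with hκ | hκ <;> rw [hκ] at hk₂ <;>
    rcases Nat.even_or_odd k₁ with ⟨a, ha⟩ | ⟨a, ha⟩ <;>
    rcases Nat.even_or_odd k₂ with ⟨b, hb⟩ | ⟨b, hb⟩ <;> subst ha <;> subst hb <;>
    first
      | omega
      | (rw [Even.neg_one_pow ⟨_, rfl⟩, Odd.neg_one_pow ⟨_, rfl⟩] at heq; revert heq; decide)

end keycomp

end Cfsg.Agent.Lib.Helper44
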