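import Mathlib
import Cfsg.Prelude.Def_LieClassical
import Cfsg.Agent.Lib.Helper44.ReflSign

set_option autoImplicit false
set_option linter.unusedSectionVars false

namespace Cfsg.Agent.Lib.Helper44

open Matrix

section diag
open Classical
variable {ι : Type} [Fintype ι] [DecidableEq ι] {F : Type*} [Field F] [Fintype F]

theorem exists_plane_rep (h2 : (2 : F) ≠ 0) (w₀ w₁ : F) (hw₀ : w₀ ≠ 0) (hw₁ : w₁ ≠ 0) (e : F) :
    ∃ s t : F, w₀ * s ^ 2 + w₁ * t ^ 2 = e := by
  have hf : (Polynomial.C w₀ * Polynomial.X ^ 2 + Polynomial.C 0 * Polynomial.X +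
      Polynomial.C (-e)).degree = 2 := Polynomial.degree_quadratic hw₀
  have hg : (Polynomial.C w₁ * Polynomial.X ^ 2 + Polynomial.C 0 * Polynomial.X +
      Polynomial.C 0).degree = 2 := Polynomial.degree_quadratic hw₁
  obtain ⟨s, t, hst⟩ := FiniteField.exists_root_sum_quadratic hf hg
    (FiniteField.odd_card_of_char_ne_two (ringChar_ne_two_of h2))
  refine ⟨s, t, ?_⟩
  simp only [Polynomial.eval_add, Polynomial.eval_mul, Polynomial.eval_C, Polynomial.eval_pow,
    Polynomial.eval_X] at hst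
  linear_combination hst

theorem weightedSumSquares_split {κ : Type} [Fintype κ] [DecidableEq κ] (w : κ → Fˣ) (a₀ b₀ : κ)
    (hab : a₀ ≠ b₀) (v : κ → F) :
    QuadraticMap.weightedSumSquares F w v = (w a₀ : F) * (v a₀) ^ 2 + (w b₀ : F) * (v b₀) ^ 2 +
      QuadraticMap.weightedSumSquares F w (zeroTwo a₀ b₀ v) := by
  rw [QuadraticMap.weightedSumSquares_apply, QuadraticMap.weightedSumSquares_apply]
  have h1 : ∀ i : κ, w i • (v i * v i) = (if i = a₀ then (w a₀ : F) * (v a₀) ^ 2 else 0) +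
      (if i = b₀ then (w b₀ : F) * (v b₀) ^ 2 else 0) +
      w i • (zeroTwo a₀ b₀ v i * zeroTwo a₀ b₀ v i) := by
    intro i
    rw [zeroTwo_apply]
    by_cases ha : i = a₀
    · subst ha
      simp [hab, Units.smul_def, sq]
    · by_cases hb : i = b₀
      · subst hb
        simp [ha, Units.smul_def, sq]
      · simp [ha, hb]
  rw [Finset.sum_congr rfl (fun i _ => h1 i), Finset.sum_add_distrib, Finset.sum_add_distrib,
    Finset.sum_ite_eq', Finset.sum_ite_eq']
  simp

theorem hom_conj_eq {G A : Type*} [Group G] [CommGroup A] (f : G →* A) (h g : G) :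
    f (h * g * h⁻¹) = f g := by
  rw [map_mul, map_mul, map_inv, mul_comm, inv_mul_cancel_left]

theorem exists_signChar_reflElt_ne (Q : QuadraticForm F (ι → F)) (h2 : (2 : F) ≠ 0)
    (hcard : 2 ≤ Fintype.card ι) (hQ : (QuadraticMap.polarBilin Q).Nondegenerate) (c : F)
    (hc : c ≠ 0) :
    ∃ u₁ u₂ : ι → F, quadraticChar F (Q u₁) = 1 ∧ quadraticChar F (Q u₂) = -1 ∧
      signChar (⇑Q) c (reflElt Q u₁) ≠ signChar (⇑Q) c (reflElt Q u₂) := by
  let _ : Invertible (2 : F) := invertibleOfNonzero h2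
  have hsep : (QuadraticMap.associated (R := F) Q).SeparatingLeft := by
    intro x hx
    apply hQ.1 x
    intro y
    have h3 := hx y
    rw [← QuadraticMap.two_nsmul_associated (S := F) Q]
    show (2 • (QuadraticMap.associatedHom F Q)) x y = 0
    rw [LinearMap.smul_apply, LinearMap.smul_apply]
    have h4 : (QuadraticMap.associatedHom F Q) x y = 0 := h3
    rw [h4, smul_zero]
  obtain ⟨w, ⟨T⟩⟩ := QuadraticForm.equivalent_weightedSumSquares_units_of_nondegenerate' Q hsep
  have hκ : 1 < Fintype.card (Fin (Module.finrank F (ι → F))) := by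
    rw [Fintype.card_fin, Module.finrank_fintype_fun_eq_card]
    omega
  obtain ⟨a₀, b₀, hab⟩ := Fintype.exists_pair_of_one_lt_card hκ
  have H1 := weightedSumSquares_split w a₀ b₀ hab
  have hw₀ : ((w a₀ : Fˣ) : F) ≠ 0 := Units.ne_zero _
  have hw₁ : ((w b₀ : Fˣ) : F) ≠ 0 := Units.ne_zero _
  obtain ⟨s₁, t₁, h₁⟩ := exists_plane_rep h2 (w a₀ : F) (w b₀ : F) hw₀ hw₁ 1
  obtain ⟨η, hη⟩ := FiniteField.exists_nonsquare (ringChar_ne_two_of h2)
  obtain ⟨s₂, t₂, h₂⟩ := exists_plane_rep h2 (w a₀ : F) (w b₀ : F) hw₀ hw₁ η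
  have hne := signChar_reflElt_ne (QuadraticMap.weightedSumSquares F w) a₀ b₀ hab (w a₀ : F)
    (w b₀ : F) H1 h2 hw₀ hw₁ c hc s₁ t₁ s₂ t₂ (by rw [h₁]; exact map_one _)
    (by rw [h₂]; exact quadraticChar_neg_one_iff_not_isSquare.2 hη)
  have hT : ∀ v, (QuadraticMap.weightedSumSquares F w) (T.toLinearEquiv v) = Q v := T.map_app
  have htr : ∀ p : Fin (Module.finrank F (ι → F)) → F,
      signChar (⇑Q) c (reflElt Q (T.toLinearEquiv.symm p)) =
        signChar (⇑(QuadraticMap.weightedSumSquares F w)) c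
          (reflElt (QuadraticMap.weightedSumSquares F w) p) := by
    intro p
    rw [← signChar_conjIso T.toLinearEquiv (⇑Q) (⇑(QuadraticMap.weightedSumSquares F w)) hT c,
      conjIso_reflElt T.toLinearEquiv Q (QuadraticMap.weightedSumSquares F w) hT,
      LinearEquiv.apply_symm_apply]
  have hQs : ∀ p : Fin (Module.finrank F (ι → F)) → F,
      Q (T.toLinearEquiv.symm p) = (QuadraticMap.weightedSumSquares F w) p := by
    intro p
    rw [← hT, LinearEquiv.apply_symm_apply]
  refine ⟨T.toLinearEquiv.symm (planeVec a₀ b₀ s₁ t₁), T.toLinearEquiv.symm (planeVec a₀ b₀ s₂ t₂),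
    ?_, ?_, ?_⟩
  · rw [hQs, Q_planeVec _ a₀ b₀ hab (w a₀ : F) (w b₀ : F) H1, h₁]
    exact map_one _
  · rw [hQs, Q_planeVec _ a₀ b₀ hab (w a₀ : F) (w b₀ : F) H1, h₂]
    exact quadraticChar_neg_one_iff_not_isSquare.2 hη
  · rw [htr, htr]
    exact hne

omit [Fintype F] in
theorem hom_reflElt_eq_of_isSquare {A : Type*} [CommGroup A] (Q : QuadraticForm F (ι → F))
    (h2 : (2 : F) ≠ 0) (f : ↥(Cfsg.isometryGroup F (⇑Q)) →* A) (u v : ι → F) (hu : Q u ≠ 0)
    (hv : Q v ≠ 0) (hsq : IsSquare (Q u * Q v)) : f (reflElt Q u) = f (reflElt Q v) := by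
  obtain ⟨h, hh⟩ := exists_conj_reflElt Q h2 u v hu hv hsq
  rw [← hh, hom_conj_eq]

theorem signChar_reflElt_ne_of_not_isSquare (Q : QuadraticForm F (ι → F)) (h2 : (2 : F) ≠ 0)
    (hcard : 2 ≤ Fintype.card ι) (hQ : (QuadraticMap.polarBilin Q).Nondegenerate) (c : F)
    (hc : c ≠ 0) (u v : ι → F) (hu : Q u ≠ 0) (hv : Q v ≠ 0) (hsq : ¬ IsSquare (Q u * Q v)) :
    signChar (⇑Q) c (reflElt Q u) ≠ signChar (⇑Q) c (reflElt Q v) := by
  obtain ⟨u₁, u₂, h₁, h₂, hne⟩ := exists_signChar_reflElt_ne Q h2 hcard hQ c hc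
  have hu₁ : Q u₁ ≠ 0 := by
    intro h
    rw [h, quadraticChar_zero] at h₁
    norm_num at h₁
  have hu₂ : Q u₂ ≠ 0 := by
    intro h
    rw [h, quadraticChar_zero] at h₂
    norm_num at h₂
  rw [quadraticChar_mul_eq_one_iff hu hv] at hsq
  rcases quadraticChar_dichotomy hu with h | h <;> rcases quadraticChar_dichotomy hv with h' | h'
  · exact absurd (h.trans h'.symm) hsq
  · rw [hom_reflElt_eq_of_isSquare Q h2 (signChar (⇑Q) c) u u₁ hu hu₁
        ((quadraticChar_mul_eq_one_iff hu hu₁).2 (h.trans h₁.symm)),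
      hom_reflElt_eq_of_isSquare Q h2 (signChar (⇑Q) c) v u₂ hv hu₂
        ((quadraticChar_mul_eq_one_iff hv hu₂).2 (h'.trans h₂.symm))]
    exact hne
  · rw [hom_reflElt_eq_of_isSquare Q h2 (signChar (⇑Q) c) u u₂ hu hu₂
        ((quadraticChar_mul_eq_one_iff hu hu₂).2 (h.trans h₂.symm)),
      hom_reflElt_eq_of_isSquare Q h2 (signChar (⇑Q) c) v u₁ hv hu₁
        ((quadraticChar_mul_eq_one_iff hv hu₁).2 (h'.trans h₁.symm))]
    exact hne.symm
  · exact absurd (h.trans h'.symm) hsq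

omit [Fintype F] in
theorem det_reflection_list_prod (Q : QuadraticForm F (ι → F)) (vs : List (ι → F))
    (hvs : ∀ v ∈ vs, Q v ≠ 0) :
    ((vs.map (fun v => Cfsg.reflectionMatrix (⇑Q) v)).prod).det = (-1) ^ vs.length := by
  induction vs with
  | nil => simp
  | cons v vs ih =>
    rw [List.map_cons, List.prod_cons, Matrix.det_mul,
      ih (fun w hw => hvs w (List.mem_cons_of_mem _ hw)),
      Helper13.reflectionMatrix_det Q v (hvs v List.mem_cons_self), List.length_cons, pow_succ']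

omit [Fintype F] in
theorem even_length_of_mem_Omega (Q : QuadraticForm F (ι → F)) (h2 : (2 : F) ≠ 0)
    (vs : List (ι → F)) (hvs : ∀ v ∈ vs, Q v ≠ 0)
    (hmem : (vs.map (reflElt Q)).prod ∈ Cfsg.Omega F (⇑Q)) : Even vs.length := by
  have h1 := Abelianization.commutator_subset_ker
    ((Matrix.GeneralLinearGroup.det (n := ι) (R := F)).comp (Cfsg.isometryGroup F (⇑Q)).subtype) hmem
  have h3 : ((((vs.map (reflElt Q)).prod : ↥(Cfsg.isometryGroup F (⇑Q))) : GL ι F) :
      Matrix ι ι F).det = 1 := by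
    have := congrArg Units.val (MonoidHom.mem_ker.1 h1)
    simpa using this
  rw [reflElt_list_prod Q vs hvs, det_reflection_list_prod Q vs hvs] at h3
  by_contra hodd
  rw [Nat.not_even_iff_odd] at hodd
  rw [hodd.neg_one_pow] at h3
  apply h2
  linear_combination -h3

/-- **Spinor norm criterion** for products of reflections, odd characteristic. -/
theorem reflElt_list_prod_mem_Omega_iff (Q : QuadraticForm F (ι → F)) (h2 : (2 : F) ≠ 0)
    (hcard : 2 ≤ Fintype.card ι) (hQ : (QuadraticMap.polarBilin Q).Nondegenerate)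
    (vs : List (ι → F)) (hvs : ∀ v ∈ vs, Q v ≠ 0) :
    (vs.map (reflElt Q)).prod ∈ Cfsg.Omega F (⇑Q) ↔
      (Even vs.length ∧ IsSquare (vs.map (fun v => Q v)).prod) := by
  have e1 : vs.map (reflElt Q) = vs.attach.map (fun x => reflElt Q x.1) := by
    rw [← List.attach_map_subtype_val vs, List.map_map]
    simp
  have e2 : vs.map (fun v => Q v) = vs.attach.map (fun x => Q x.1) := by
    conv_lhs => rw [← List.attach_map_subtype_val vs, List.map_map]
    rfl
  have e3 : vs.length = vs.attach.length := by simp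
  constructor
  · intro hmem
    have hk : Even vs.length := even_length_of_mem_Omega Q h2 vs hvs hmem
    refine ⟨hk, ?_⟩
    have hs := signChar_of_mem_Omega (⇑Q) 1 _ hmem
    rw [e1, map_list_prod, List.map_map] at hs
    rw [e2]
    rw [e3] at hk
    exact isSquare_of_list_prod_eq_one
      (fun x : {x // x ∈ vs} => signChar (⇑Q) 1 (reflElt Q x.1)) (fun x => Q x.1)
      (fun x => hvs x.1 x.2)
      (fun x y hxy => hom_reflElt_eq_of_isSquare Q h2 _ x.1 y.1 (hvs x.1 x.2) (hvs y.1 y.2) hxy)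
      (fun x y hxy => signChar_reflElt_ne_of_not_isSquare Q h2 hcard hQ 1 one_ne_zero x.1 y.1
        (hvs x.1 x.2) (hvs y.1 y.2) hxy) vs.attach hk hs
  · rintro ⟨hk, hs⟩
    rw [e3] at hk
    rw [e2] at hs
    have h1 := list_prod_eq_one_of_classes
      (fun x : {x // x ∈ vs} => Abelianization.of (reflElt Q x.1)) (fun x => Q x.1)
      (fun x => hvs x.1 x.2)
      (fun x => by rw [← map_mul, reflElt_mul_self, map_one])
      (fun x y hxy => hom_reflElt_eq_of_isSquare Q h2 _ x.1 y.1 (hvs x.1 x.2) (hvs y.1 y.2) hxy)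
      vs.attach hk hs
    rw [e1]
    have h3 : Abelianization.of (vs.attach.map (fun x => reflElt Q x.1)).prod = 1 := by
      rw [map_list_prod, List.map_map]
      exact h1
    rw [← MonoidHom.mem_ker, Abelianization.ker_of] at h3
    exact h3

end diag

end Cfsg.Agent.Lib.Helper44
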