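import Mathlib
import Cfsg.Prelude.Def_LieClassical
import Cfsg.Agent.Lib.Helper44.HypFrame
import Cfsg.Agent.Lib.Helper44.SpinorCrit
import Cfsg.Agent.Lib.Helper5.SLGen

set_option autoImplicit false
set_option linter.unusedSectionVars false

namespace Cfsg.Agent.Lib.Helper44

open Matrix
open scoped commutatorElement

section levi
variable {m : ℕ} {F : Type*} [Field F]

theorem quadFormPlus_eq_dot (v : Fin m ⊕ Fin m → F) :
    Cfsg.quadFormPlus m F v = (v ∘ Sum.inl) ⬝ᵥ (v ∘ Sum.inr) := rfl

/-- the matrix `diag(A, (A⁻¹)ᵀ)` -/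
def leviMat (A : GL (Fin m) F) : Matrix (Fin m ⊕ Fin m) (Fin m ⊕ Fin m) F :=
  Matrix.fromBlocks (A : Matrix (Fin m) (Fin m) F) 0 0
    ((A⁻¹ : GL (Fin m) F) : Matrix (Fin m) (Fin m) F)ᵀ

theorem leviMat_mul (A B : GL (Fin m) F) : leviMat (A * B) = leviMat A * leviMat B := by
  unfold leviMat
  rw [Matrix.fromBlocks_multiply]
  simp [Matrix.transpose_mul]

theorem leviMat_one : leviMat (1 : GL (Fin m) F) = 1 := by
  unfold leviMat
  simp [Matrix.fromBlocks_one]

theorem leviMat_mulVec (A : GL (Fin m) F) (v : Fin m ⊕ Fin m → F) :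
    (leviMat A).mulVec v = Sum.elim ((A : Matrix (Fin m) (Fin m) F) *ᵥ (v ∘ Sum.inl))
      (((A⁻¹ : GL (Fin m) F) : Matrix (Fin m) (Fin m) F)ᵀ *ᵥ (v ∘ Sum.inr)) := by
  unfold leviMat
  rw [Matrix.fromBlocks_mulVec]
  simp

/-- `diag(A, (A⁻¹)ᵀ)` as an element of `GL` -/
def leviGL : GL (Fin m) F →* GL (Fin m ⊕ Fin m) F where
  toFun A :=
    { val := leviMat A
      inv := leviMat A⁻¹
      val_inv := by rw [← leviMat_mul, mul_inv_cancel, leviMat_one]
      inv_val := by rw [← leviMat_mul, inv_mul_cancel, leviMat_one] }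
  map_one' := Units.ext leviMat_one
  map_mul' A B := Units.ext (leviMat_mul A B)

theorem leviGL_mem (A : GL (Fin m) F) : leviGL A ∈ Cfsg.isometryGroup F (Cfsg.quadFormPlus m F) := by
  apply mem_isometryGroup_of_mulVec
  intro v
  show Cfsg.quadFormPlus m F ((leviMat A).mulVec v) = _
  rw [leviMat_mulVec, quadFormPlus_eq_dot, quadFormPlus_eq_dot]
  simp only [Sum.elim_comp_inl, Sum.elim_comp_inr]
  rw [Matrix.dotProduct_mulVec, Matrix.vecMul_transpose, Matrix.mulVec_mulVec, ← Units.val_mul,
    inv_mul_cancel]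
  simp

/-- the Levi embedding `GL_m → O⁺_{2m}` -/
def levi : GL (Fin m) F →* ↥(Cfsg.isometryGroup F (Cfsg.quadFormPlus m F)) where
  toFun A := ⟨leviGL A, leviGL_mem A⟩
  map_one' := Subtype.ext (map_one leviGL)
  map_mul' A B := Subtype.ext (map_mul leviGL A B)

theorem levi_val (A : GL (Fin m) F) :
    ((levi A : GL (Fin m ⊕ Fin m) F) : Matrix (Fin m ⊕ Fin m) (Fin m ⊕ Fin m) F) =
      Matrix.fromBlocks (A : Matrix (Fin m) (Fin m) F) 0 0
        ((A : Matrix (Fin m) (Fin m) F)⁻¹)ᵀ := by
  show leviMat A = _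
  unfold leviMat
  rw [Matrix.coe_units_inv]

theorem levi_mulVec (A : GL (Fin m) F) (v : Fin m ⊕ Fin m → F) :
    ((levi A : GL (Fin m ⊕ Fin m) F) : Matrix (Fin m ⊕ Fin m) (Fin m ⊕ Fin m) F).mulVec v =
      Sum.elim ((A : Matrix (Fin m) (Fin m) F) *ᵥ (v ∘ Sum.inl))
      (((A⁻¹ : GL (Fin m) F) : Matrix (Fin m) (Fin m) F)ᵀ *ᵥ (v ∘ Sum.inr)) :=
  leviMat_mulVec A v

/-- the standard hyperbolic frame of `quadFormPlus` -/
def plusFrame (m : ℕ) (F : Type*) [Field F] : HypFrame (Cfsg.quadFormPlus m F) m where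
  e := Sum.inl
  f := Sum.inr
  he := Sum.inl_injective
  hf := Sum.inr_injective
  hef := fun _ _ => Sum.inl_ne_inr
  R := fun _ => 0
  hQ := fun v => by simp [Cfsg.quadFormPlus]
  hR1 := fun _ _ _ => rfl
  hR2 := fun _ => rfl
  hR3 := rfl

/-- `diag(1,…,d,…,1)` with `d` in position `j₀` -/
def dgGL (j₀ : Fin m) (d : Fˣ) : GL (Fin m) F := monoGL 1 (Function.update (1 : Fin m → Fˣ) j₀ d)

theorem dgGL_inv (j₀ : Fin m) (d : Fˣ) : (dgGL j₀ d : GL (Fin m) F)⁻¹ = dgGL j₀ d⁻¹ := by
  unfold dgGL
  rw [monoGL_inv]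
  congr 1
  ext k
  rw [inv_one, Equiv.Perm.one_apply]
  by_cases hk : k = j₀
  · subst hk; simp
  · simp [Function.update_of_ne hk]

theorem dgGL_det (j₀ : Fin m) (d : Fˣ) :
    ((dgGL j₀ d : GL (Fin m) F) : Matrix (Fin m) (Fin m) F).det = d := by
  unfold dgGL
  rw [monoGL_diag_val, Matrix.det_diagonal, Finset.prod_eq_single j₀]
  · simp
  · intro k _ hk
    simp [Function.update_of_ne hk]
  · intro h; exact absurd (Finset.mem_univ _) h

theorem levi_dgGL (j₀ : Fin m) (d : Fˣ) :
    levi (dgGL j₀ d) = (plusFrame m F).diagHom j₀ d := by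
  apply Subtype.ext
  apply GL_ext_mulVec
  intro v
  rw [levi_mulVec, dgGL_inv, (plusFrame m F).diagHom_val, monoGL_mulVec]
  unfold dgGL
  rw [monoGL_diag_val, monoGL_diag_val, Matrix.diagonal_transpose]
  ext k
  rcases k with k | k
  · simp only [Sum.elim_inl, Matrix.mulVec_diagonal, Function.comp_apply, Equiv.Perm.one_apply]
    by_cases hk : k = j₀
    · subst hk
      simp [HypFrame.pairFun, plusFrame]
    · simp [HypFrame.pairFun, plusFrame, hk]
  · simp only [Sum.elim_inr, Matrix.mulVec_diagonal, Function.comp_apply, Equiv.Perm.one_apply]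
    by_cases hk : k = j₀
    · subst hk
      simp [HypFrame.pairFun, plusFrame]
    · simp [HypFrame.pairFun, plusFrame, hk]

theorem transvection_mulVec (i j : Fin m) (c : F) (v : Fin m → F) :
    (Matrix.transvection i j c).mulVec v = fun k => v k + if k = i then c * v j else 0 := by
  ext k
  rw [Matrix.transvection, Matrix.add_mulVec, Matrix.one_mulVec, Matrix.single_mulVec_eq]
  simp [Pi.single_apply]

theorem exists_ne_zero_ne_one [Fintype F] (h : Fintype.card F ≠ 2) : ∃ a : F, a ≠ 0 ∧ a ≠ 1 := by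
  classical
  by_contra hcon
  push Not at hcon
  have h1 : (Finset.univ : Finset F) ⊆ {0, 1} := by
    intro a _
    by_cases ha : a = 0
    · simp [ha]
    · simp [hcon a ha]
  have h2 := Finset.card_le_card h1
  have h3 : ({0, 1} : Finset F).card ≤ 2 := Finset.card_le_two
  rw [Finset.card_univ] at h2
  have h4 : 1 < Fintype.card F := Fintype.one_lt_card
  omega

/-- A homomorphism from `GL_m(F)` to an abelian group kills transvections
(unless `m = 2` and `|F| = 2`). -/
theorem hom_toGL_transvection_eq_one {A : Type*} [CommGroup A] [Fintype F]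
    (ψ : GL (Fin m) F →* A) (h : Fintype.card F ≠ 2 ∨ m ≠ 2) (i j : Fin m) (hij : i ≠ j) (c : F) :
    ψ (SpecialLinearGroup.toGL (SpecialLinearGroup.transvection hij c)) = 1 := by
  by_cases hq : Fintype.card F = 2
  · have hm2 : m ≠ 2 := h.resolve_left (fun h' => h' hq)
    have hm3 : 3 ≤ Fintype.card (Fin m) := by
      rw [Fintype.card_fin]
      have : (i : ℕ) ≠ (j : ℕ) := fun h' => hij (Fin.ext h')
      have := i.2
      have := j.2
      omega
    have hperf := Helper5.commutator_SL_eq_top_of_three_le_card (F := F) hm3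
    have hker := Abelianization.commutator_subset_ker (ψ.comp SpecialLinearGroup.toGL)
    rw [hperf] at hker
    exact hker (Subgroup.mem_top _)
  · obtain ⟨a, ha0, ha1⟩ := exists_ne_zero_ne_one hq
    have ha1' : a - 1 ≠ 0 := sub_ne_zero.2 ha1
    set c' := c / (a - 1) with hc'
    set D : GL (Fin m) F := dgGL i (Units.mk0 a ha0) with hD
    have hconj : D * SpecialLinearGroup.toGL (SpecialLinearGroup.transvection hij c') * D⁻¹ =
        SpecialLinearGroup.toGL (SpecialLinearGroup.transvection hij (a * c')) := by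
      rw [mul_inv_eq_iff_eq_mul]
      apply GL_ext_mulVec
      intro v
      rw [Units.val_mul, Units.val_mul, ← Matrix.mulVec_mulVec, ← Matrix.mulVec_mulVec]
      show (D : Matrix (Fin m) (Fin m) F).mulVec ((Matrix.transvection i j c').mulVec v) =
        (Matrix.transvection i j (a * c')).mulVec ((D : Matrix (Fin m) (Fin m) F).mulVec v)
      rw [transvection_mulVec, transvection_mulVec, hD]
      unfold dgGL
      rw [monoGL_mulVec, monoGL_mulVec]
      ext k
      by_cases hk : k = i
      · subst hk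
        simp [Function.update_of_ne hij.symm]
        ring
      · simp [hk]
    have h1 : ψ (SpecialLinearGroup.toGL (SpecialLinearGroup.transvection hij (a * c'))) =
        ψ (SpecialLinearGroup.toGL (SpecialLinearGroup.transvection hij c')) := by
      rw [← hconj, hom_conj_eq]
    have h3 : c = a * c' + (- c') := by
      rw [hc']; field_simp; ring
    rw [h3, SpecialLinearGroup.transvection_add, map_mul, map_mul, h1, ← map_mul, ← map_mul,
      ← SpecialLinearGroup.transvection_add, add_neg_cancel,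
      SpecialLinearGroup.transvection_coeff_zero, map_one, map_one]

theorem hom_eq_one_of_det_eq_one {A : Type*} [CommGroup A] [Fintype F]
    (ψ : GL (Fin m) F →* A) (h : Fintype.card F ≠ 2 ∨ m ≠ 2) (B : GL (Fin m) F)
    (hB : (B : Matrix (Fin m) (Fin m) F).det = 1) : ψ B = 1 := by
  have key : ∀ S : SpecialLinearGroup (Fin m) F, ψ (SpecialLinearGroup.toGL S) = 1 := by
    intro S
    refine Helper5.transvection_induction (fun S => ψ (SpecialLinearGroup.toGL S) = 1) ?_ ?_ ?_ S
    · rw [map_one, map_one]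
    · intro i j hij c
      exact hom_toGL_transvection_eq_one ψ h i j hij c
    · intro S T hS hT
      rw [map_mul, map_mul, hS, hT, one_mul]
  have : B = SpecialLinearGroup.toGL ⟨(B : Matrix (Fin m) (Fin m) F), hB⟩ := by
    apply Units.ext
    rfl
  rw [this]
  exact key _

theorem levi_mem_Omega_iff [Fintype F] (h : Fintype.card F ≠ 2 ∨ m ≠ 2) (j₀ : Fin m)
    (A : GL (Fin m) F) :
    levi A ∈ Cfsg.Omega F (Cfsg.quadFormPlus m F) ↔
      (plusFrame m F).diagHom j₀ (Matrix.GeneralLinearGroup.det A) ∈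
        Cfsg.Omega F (Cfsg.quadFormPlus m F) := by
  set ψ : GL (Fin m) F →* Abelianization ↥(Cfsg.isometryGroup F (Cfsg.quadFormPlus m F)) :=
    (Abelianization.of).comp levi with hψ
  set δ : Fˣ := Matrix.GeneralLinearGroup.det A with hδ
  have hB : ((A * (dgGL j₀ δ)⁻¹ : GL (Fin m) F) : Matrix (Fin m) (Fin m) F).det = 1 := by
    rw [dgGL_inv, Units.val_mul, Matrix.det_mul, dgGL_det, hδ]
    show (A : Matrix (Fin m) (Fin m) F).det * _ = 1
    have : ((Matrix.GeneralLinearGroup.det A : Fˣ) : F) = (A : Matrix (Fin m) (Fin m) F).det := rfl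
    rw [Units.val_inv_eq_inv_val, this]
    exact mul_inv_cancel₀ (by rw [← this]; exact Units.ne_zero _)
  have h1 := hom_eq_one_of_det_eq_one ψ h _ hB
  rw [map_mul, map_inv, mul_inv_eq_one] at h1
  have h2 : ψ (dgGL j₀ δ) = Abelianization.of ((plusFrame m F).diagHom j₀ δ) := by
    rw [hψ, MonoidHom.comp_apply, levi_dgGL]
  have h3 : ψ A = Abelianization.of (levi A) := rfl
  rw [h2, h3] at h1
  show levi A ∈ commutator _ ↔ (plusFrame m F).diagHom j₀ δ ∈ commutator _
  rw [← Abelianization.ker_of, MonoidHom.mem_ker, MonoidHom.mem_ker, h1]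

/-- the hyperbolic form as a `QuadraticForm` -/
def hypBil (m : ℕ) (F : Type*) [Field F] : LinearMap.BilinForm F (Fin m ⊕ Fin m → F) :=
  LinearMap.mk₂ F (fun u v => ∑ i : Fin m, (u (Sum.inl i) * v (Sum.inr i) + v (Sum.inl i) * u (Sum.inr i)))
    (by
      intro u u' v
      rw [← Finset.sum_add_distrib]
      apply Finset.sum_congr rfl
      intro i _
      simp only [Pi.add_apply]
      ring)
    (by
      intro c u v
      rw [smul_eq_mul, Finset.mul_sum]
      apply Finset.sum_congr rfl
      intro i _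
      simp only [Pi.smul_apply, smul_eq_mul]
      ring)
    (by
      intro u v v'
      rw [← Finset.sum_add_distrib]
      apply Finset.sum_congr rfl
      intro i _
      simp only [Pi.add_apply]
      ring)
    (by
      intro c u v
      rw [smul_eq_mul, Finset.mul_sum]
      apply Finset.sum_congr rfl
      intro i _
      simp only [Pi.smul_apply, smul_eq_mul]
      ring)

theorem hypBil_apply (u v : Fin m ⊕ Fin m → F) :
    hypBil m F u v = ∑ i : Fin m, (u (Sum.inl i) * v (Sum.inr i) + v (Sum.inl i) * u (Sum.inr i)) :=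
  rfl

/-- The plus form as a quadratic form. -/
def hypQF (m : ℕ) (F : Type*) [Field F] : QuadraticForm F (Fin m ⊕ Fin m → F) where
  toFun := Cfsg.quadFormPlus m F
  toFun_smul := by
    intro a x
    unfold Cfsg.quadFormPlus
    rw [smul_eq_mul, Finset.mul_sum]
    apply Finset.sum_congr rfl
    intro i _
    simp only [Pi.smul_apply, smul_eq_mul]
    ring
  exists_companion' := ⟨hypBil m F, by
    intro x y
    rw [hypBil_apply]
    unfold Cfsg.quadFormPlus
    rw [← Finset.sum_add_distrib, ← Finset.sum_add_distrib]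
    apply Finset.sum_congr rfl
    intro i _
    simp only [Pi.add_apply]
    ring⟩

theorem hypQF_apply (v : Fin m ⊕ Fin m → F) : hypQF m F v = Cfsg.quadFormPlus m F v := rfl

theorem hypQF_polar (u v : Fin m ⊕ Fin m → F) :
    QuadraticMap.polar (⇑(hypQF m F)) u v = hypBil m F u v := by
  show Cfsg.quadFormPlus m F (u + v) - Cfsg.quadFormPlus m F u - Cfsg.quadFormPlus m F v = _
  rw [hypBil_apply]
  unfold Cfsg.quadFormPlus
  rw [← Finset.sum_sub_distrib, ← Finset.sum_sub_distrib]
  apply Finset.sum_congr rfl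
  intro i _
  simp only [Pi.add_apply]
  ring

theorem hypQF_nondeg : (QuadraticMap.polarBilin (hypQF m F)).Nondegenerate := by
  classical
  have hleft : ∀ x : Fin m ⊕ Fin m → F,
      (∀ y, QuadraticMap.polar (⇑(hypQF m F)) x y = 0) → x = 0 := by
    intro x hx
    funext j
    rcases j with j | j
    · have h := hx (Pi.single (Sum.inr j) 1)
      rw [hypQF_polar, hypBil_apply, Finset.sum_eq_single j] at h
      · simpa using h
      · intro i _ hij
        simp [hij]
      · intro h'
        exact absurd (Finset.mem_univ j) h'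
    · have h := hx (Pi.single (Sum.inl j) 1)
      rw [hypQF_polar, hypBil_apply, Finset.sum_eq_single j] at h
      · simpa using h
      · intro i _ hij
        simp [hij]
      · intro h'
        exact absurd (Finset.mem_univ j) h'
  constructor
  · intro x hx
    exact hleft x hx
  · intro y hy
    apply hleft y
    intro x
    rw [QuadraticMap.polar_comm]
    exact hy x

/-- the vector `e_j − a f_j` -/
def hypVec (j₀ : Fin m) (a : F) : Fin m ⊕ Fin m → F :=
  Sum.elim (Pi.single j₀ 1) (Pi.single j₀ (-a))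

theorem hypQF_hypVec (j₀ : Fin m) (a : F) : hypQF m F (hypVec j₀ a) = -a := by
  rw [hypQF_apply]
  unfold Cfsg.quadFormPlus hypVec
  rw [Finset.sum_eq_single j₀]
  · simp
  · intro i _ hij
    simp [hij]
  · intro h'
    exact absurd (Finset.mem_univ j₀) h'

theorem hypQF_polar_hypVec (j₀ : Fin m) (a : F) (v : Fin m ⊕ Fin m → F) :
    QuadraticMap.polar (⇑(hypQF m F)) (hypVec j₀ a) v = v (Sum.inr j₀) - a * v (Sum.inl j₀) := by
  rw [hypQF_polar, hypBil_apply]
  unfold hypVec
  rw [Finset.sum_eq_single j₀]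
  · simp
    ring
  · intro i _ hij
    simp [hij]
  · intro h'
    exact absurd (Finset.mem_univ j₀) h'

theorem reflElt_hypVec_mulVec (j₀ : Fin m) (a : F) (ha : a ≠ 0) (v : Fin m ⊕ Fin m → F) :
    ((reflElt (hypQF m F) (hypVec j₀ a) : GL (Fin m ⊕ Fin m) F) :
      Matrix (Fin m ⊕ Fin m) (Fin m ⊕ Fin m) F).mulVec v =
      fun k => if k = Sum.inl j₀ then v (Sum.inr j₀) / a else
        if k = Sum.inr j₀ then a * v (Sum.inl j₀) else v k := by
  have hne : hypQF m F (hypVec j₀ a) ≠ 0 := by
    rw [hypQF_hypVec]; exact neg_ne_zero.2 ha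
  rw [reflElt_mulVec _ _ hne, hypQF_hypVec, hypQF_polar_hypVec]
  ext k
  rcases k with k | k
  · by_cases hk : k = j₀
    · subst hk
      simp [hypVec]
      field_simp
      ring
    · simp [hypVec, hk]
  · by_cases hk : k = j₀
    · subst hk
      simp [hypVec]
      field_simp
      ring
    · simp [hypVec, hk]

theorem diagHom_eq_refl_mul_refl (j₀ : Fin m) (d : Fˣ) :
    (plusFrame m F).diagHom j₀ d =
      ([hypVec j₀ (1 : F), hypVec j₀ (d : F)].map (reflElt (hypQF m F))).prod := by
  apply Subtype.ext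
  apply GL_ext_mulVec
  intro v
  rw [(plusFrame m F).diagHom_val, monoGL_mulVec]
  simp only [List.map_cons, List.map_nil, List.prod_cons, List.prod_nil, mul_one]
  rw [Subgroup.coe_mul, Units.val_mul, ← Matrix.mulVec_mulVec,
    reflElt_hypVec_mulVec j₀ (d : F) (Units.ne_zero d), reflElt_hypVec_mulVec j₀ 1 one_ne_zero]
  ext k
  rcases k with k | k
  · by_cases hk : k = j₀
    · subst hk
      simp [HypFrame.pairFun, plusFrame]
    · simp [HypFrame.pairFun, plusFrame, hk]
  · by_cases hk : k = j₀
    · subst hk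
      simp [HypFrame.pairFun, plusFrame]
      field_simp
    · simp [HypFrame.pairFun, plusFrame, hk]

theorem diagHom_mem_Omega_iff [Fintype F] (hm : 1 ≤ m) (j₀ : Fin m) (d : Fˣ) :
    (plusFrame m F).diagHom j₀ d ∈ Cfsg.Omega F (Cfsg.quadFormPlus m F) ↔ IsSquare (d : F) := by
  constructor
  · intro hmem
    by_cases h2 : (2 : F) = 0
    · have hchar : ringChar F = 2 := by
        have hdvd : ringChar F ∣ 2 := (ringChar.spec F 2).1 (by exact_mod_cast h2)
        rcases (Nat.dvd_prime Nat.prime_two).1 hdvd with h1 | h1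
        · exfalso
          have := CharP.ringChar_ne_one (R := F)
          exact this h1
        · exact h1
      exact FiniteField.isSquare_of_char_two hchar _
    · rw [diagHom_eq_refl_mul_refl] at hmem
      have hvs : ∀ v ∈ [hypVec j₀ (1 : F), hypVec j₀ (d : F)], hypQF m F v ≠ 0 := by
        intro v hv
        simp only [List.mem_cons, List.not_mem_nil, or_false] at hv
        rcases hv with rfl | rfl
        · rw [hypQF_hypVec]; simp
        · rw [hypQF_hypVec]; simp
      have hcard : 2 ≤ Fintype.card (Fin m ⊕ Fin m) := by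
        rw [Fintype.card_sum, Fintype.card_fin]; omega
      have := (reflElt_list_prod_mem_Omega_iff (hypQF m F) h2 hcard hypQF_nondeg _ hvs).1 hmem
      obtain ⟨-, hsq⟩ := this
      simp only [List.map_cons, List.map_nil, List.prod_cons, List.prod_nil, mul_one,
        hypQF_hypVec] at hsq
      simpa using hsq
  · rintro ⟨l, hl⟩
    have hl0 : l ≠ 0 := by
      rintro rfl
      rw [mul_zero] at hl
      exact Units.ne_zero d hl
    have hd : d = Units.mk0 l hl0 * Units.mk0 l hl0 := by
      apply Units.ext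
      simpa using hl
    have h1 : ⁅(plusFrame m F).flip j₀, (plusFrame m F).diagHom j₀ (Units.mk0 l hl0)⁻¹⁆ =
        (plusFrame m F).diagHom j₀ d := by
      rw [commutatorElement_def, (plusFrame m F).conj_flip, ← map_inv, ← map_mul, inv_inv, hd]
    rw [← h1]
    exact Subgroup.commutator_mem_commutator (Subgroup.mem_top _) (Subgroup.mem_top _)

end levi

end Cfsg.Agent.Lib.Helper44
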