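import Mathlib
import Cfsg.Prelude.Def_LieClassical
import Cfsg.Prelude.Def_EvenType
import Cfsg.Prelude.Def_CaseTheorems
import Cfsg.Agent.Lib.Helper44.SpinorCrit
import Cfsg.Agent.Lib.Helper44.HypFrame

set_option autoImplicit false
set_option linter.unusedSectionVars false

namespace Cfsg.Agent.Lib.Helper44

open Matrix

section diagorth
variable {κ : Type} [Fintype κ] [DecidableEq κ] {F : Type*} [Field F]

/-- weighted sum of squares with weights in `F` -/
abbrev wssF (w : κ → F) : QuadraticForm F (κ → F) := QuadraticMap.weightedSumSquares F w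

theorem wssF_apply (w : κ → F) (v : κ → F) : wssF w v = ∑ i, w i * (v i * v i) := by
  rw [QuadraticMap.weightedSumSquares_apply]
  rfl

theorem wssF_single (w : κ → F) (i : κ) : wssF w (Pi.single i (1 : F)) = w i := by
  rw [wssF_apply, Finset.sum_eq_single i]
  · simp
  · intro j _ hj
    simp [hj]
  · intro h; exact absurd (Finset.mem_univ i) h

theorem wssF_polar_single (w : κ → F) (i : κ) (x : κ → F) :
    QuadraticMap.polar (⇑(wssF w)) (Pi.single i (1 : F)) x = 2 * w i * x i := by
  unfold QuadraticMap.polar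
  rw [wssF_single, wssF_apply, wssF_apply, sub_right_comm, ← Finset.sum_sub_distrib]
  have h1 : ∀ j : κ, w j * (((Pi.single i (1 : F) : κ → F) + x) j *
      ((Pi.single i (1 : F) : κ → F) + x) j) -
      w j * (x j * x j) = if j = i then w i + 2 * w i * x i else 0 := by
    intro j
    by_cases hj : j = i
    · subst hj
      simp
      ring
    · simp [hj]
  rw [Finset.sum_congr rfl (fun j _ => h1 j), Finset.sum_ite_eq']
  simp

theorem wssF_nondeg (h2 : (2 : F) ≠ 0) (w : κ → F) (hw : ∀ i, w i ≠ 0) :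
    (QuadraticMap.polarBilin (wssF w)).Nondegenerate := by
  have hleft : ∀ x : κ → F, (∀ y, QuadraticMap.polar (⇑(wssF w)) x y = 0) → x = 0 := by
    intro x hx
    funext i
    have h := hx (Pi.single i 1)
    rw [QuadraticMap.polar_comm, wssF_polar_single] at h
    rcases mul_eq_zero.1 h with h' | h'
    · exact absurd h' (mul_ne_zero h2 (hw i))
    · exact h'
  constructor
  · intro x hx
    exact hleft x hx
  · intro y hy
    apply hleft y
    intro x
    rw [QuadraticMap.polar_comm]
    exact hy x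

/-- cast of a sign to a unit of `F` -/
def signUnit (e : ℤˣ) : Fˣ := Units.map (Int.castRingHom F).toMonoidHom e

theorem signUnit_val (e : ℤˣ) : ((signUnit e : Fˣ) : F) = ((e : ℤ) : F) := rfl

theorem signUnit_mul (e e' : ℤˣ) : (signUnit (e * e') : Fˣ) = signUnit e * signUnit e' :=
  map_mul _ e e'

theorem signUnit_one : (signUnit (1 : ℤˣ) : Fˣ) = 1 := map_one _

theorem signUnit_sq (e : ℤˣ) : ((signUnit e : Fˣ) : F) * ((signUnit e : Fˣ) : F) = 1 := by
  rcases Int.units_eq_one_or e with rfl | rfl <;> simp [signUnit_val]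

/-- diagonal sign isometry of a weighted sum of squares -/
def dsign (w : κ → F) : (κ → ℤˣ) →* ↥(Cfsg.isometryGroup F (⇑(wssF w))) where
  toFun ε := ⟨monoGL 1 (fun k => signUnit (ε k)), by
    apply mem_isometryGroup_of_mulVec
    intro v
    rw [monoGL_mulVec, wssF_apply, wssF_apply]
    apply Finset.sum_congr rfl
    intro k _
    simp only [Equiv.Perm.one_apply]
    have := signUnit_sq (F := F) (ε k)
    linear_combination (w k * (v k * v k)) * this⟩
  map_one' := by
    apply Subtype.ext
    apply GL_ext_mulVec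
    intro v
    show (monoGL 1 (fun k => signUnit ((1 : κ → ℤˣ) k)) : GL κ F).1.mulVec v = (1 : GL κ F).1.mulVec v
    rw [monoGL_mulVec]
    ext k
    simp [signUnit_one]
  map_mul' ε ε' := by
    apply Subtype.ext
    show monoGL 1 (fun k => signUnit ((ε * ε') k)) =
      monoGL 1 (fun k => signUnit (ε k)) * monoGL 1 (fun k => signUnit (ε' k))
    rw [monoGL_mul]
    congr 1
    ext k
    simp [signUnit_mul]

theorem dsign_mulVec (w : κ → F) (ε : κ → ℤˣ) (v : κ → F) :
    ((dsign w ε : GL κ F) : Matrix κ κ F).mulVec v = fun k => ((ε k : ℤ) : F) * v k := by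
  show (monoGL 1 (fun k => signUnit (ε k)) : GL κ F).1.mulVec v = _
  rw [monoGL_mulVec]
  rfl

theorem dsign_injective (h2 : (2 : F) ≠ 0) (w : κ → F) : Function.Injective (dsign w) := by
  intro ε ε' h
  funext k
  have h1 := congrArg (fun g : ↥(Cfsg.isometryGroup F (⇑(wssF w))) =>
    ((g : GL κ F) : Matrix κ κ F).mulVec (Pi.single k 1) k) h
  simp only [dsign_mulVec, Pi.single_eq_same, mul_one] at h1
  rcases Int.units_eq_one_or (ε k) with h' | h' <;> rcases Int.units_eq_one_or (ε' k) with h'' | h'' <;>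
    rw [h', h''] at h1 ⊢
  · exfalso
    apply h2
    simp at h1
    linear_combination h1
  · exfalso
    apply h2
    simp at h1
    linear_combination -h1

theorem prod_refl_single_mulVec' (w : κ → F) (hw : ∀ i, w i ≠ 0) (l : List κ) (hl : l.Nodup)
    (x : κ → F) :
    ((((l.map (fun i => reflElt (wssF w) (Pi.single i (1 : F)))).prod :
      ↥(Cfsg.isometryGroup F (⇑(wssF w)))) : GL κ F) :
        Matrix κ κ F).mulVec x = fun k => if k ∈ l then - x k else x k := by
  induction l generalizing x with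
  | nil => simp
  | cons i l ih =>
    have hi : i ∉ l := (List.nodup_cons.1 hl).1
    rw [List.map_cons, List.prod_cons, Subgroup.coe_mul, Units.val_mul, ← Matrix.mulVec_mulVec,
      ih (List.nodup_cons.1 hl).2]
    have hne : wssF w (Pi.single i (1 : F)) ≠ 0 := by
      rw [wssF_single]; exact hw i
    set y : κ → F := fun k => if k ∈ l then - x k else x k with hy
    have hyi : y i = x i := by rw [hy]; simp [hi]
    rw [reflElt_mulVec _ _ hne, wssF_single, wssF_polar_single, hyi]
    have hwi : w i ≠ 0 := hw i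
    ext k
    by_cases hk : k = i
    · subst hk
      simp only [Pi.sub_apply, Pi.smul_apply, Pi.single_eq_same, smul_eq_mul, hyi,
        List.mem_cons, true_or, if_true]
      field_simp
      ring
    · have e1 : (Pi.single i (1 : F) : κ → F) k = 0 := by simp [hk]
      simp only [Pi.sub_apply, Pi.smul_apply, e1, smul_eq_mul, mul_zero, sub_zero, List.mem_cons,
        hk, false_or]
      rfl

/-- the set of coordinates negated by a sign vector -/
def negSet (ε : κ → ℤˣ) : Finset κ := Finset.univ.filter (fun k => ε k = -1)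

theorem mem_negSet (ε : κ → ℤˣ) (k : κ) : k ∈ negSet ε ↔ ε k = -1 := by
  simp [negSet]

theorem dsign_eq_prod_refl (w : κ → F) (hw : ∀ i, w i ≠ 0) (ε : κ → ℤˣ) :
    dsign w ε = ((negSet ε).toList.map (fun i => reflElt (wssF w) (Pi.single i (1 : F)))).prod := by
  apply Subtype.ext
  apply GL_ext_mulVec
  intro v
  rw [dsign_mulVec, prod_refl_single_mulVec' w hw _ (Finset.nodup_toList _)]
  ext k
  by_cases hk : ε k = -1
  · rw [if_pos (Finset.mem_toList.2 ((mem_negSet ε k).2 hk)), hk]
    simp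
  · rw [if_neg (fun h => hk ((mem_negSet ε k).1 (Finset.mem_toList.1 h)))]
    rcases Int.units_eq_one_or (ε k) with h | h
    · rw [h]; simp
    · exact absurd h hk

theorem dsign_mem_Omega_iff [Fintype F] (h2 : (2 : F) ≠ 0) (hcard : 2 ≤ Fintype.card κ) (w : κ → F)
    (hw : ∀ i, w i ≠ 0) (ε : κ → ℤˣ) :
    dsign w ε ∈ Cfsg.Omega F (⇑(wssF w)) ↔
      (Even (negSet ε).card ∧ IsSquare (∏ k ∈ negSet ε, w k)) := by
  rw [dsign_eq_prod_refl w hw]
  have h1 : (negSet ε).toList.map (fun i => reflElt (wssF w) (Pi.single i (1 : F))) =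
      ((negSet ε).toList.map (fun i => (Pi.single i (1 : F) : κ → F))).map (reflElt (wssF w)) := by
    rw [List.map_map]
    rfl
  rw [h1, reflElt_list_prod_mem_Omega_iff (wssF w) h2 hcard (wssF_nondeg h2 w hw)]
  · rw [List.length_map, Finset.length_toList, List.map_map]
    have h3 : ((fun v => (wssF w) v) ∘ fun i => (Pi.single i (1 : F) : κ → F)) = w := by
      funext i
      simp only [Function.comp_apply]
      exact wssF_single w i
    rw [h3, Finset.prod_map_toList]
  · intro v hv
    obtain ⟨i, -, rfl⟩ := List.mem_map.1 hv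
    rw [wssF_single]
    exact hw i

theorem units_int_mul_self (e : ℤˣ) : e * e = 1 := by
  rcases Int.units_eq_one_or e with rfl | rfl <;> rfl

theorem units_int_eq_of_mul_eq_one (e e' : ℤˣ) (h : e * e' = 1) : e = e' := by
  rcases Int.units_eq_one_or e with rfl | rfl <;> rcases Int.units_eq_one_or e' with rfl | rfl <;>
    first | rfl | (exfalso; revert h; decide)

/-- first upper bound: sign vectors with `dsign` in `Ω` are determined off one coordinate -/
theorem card_le_of_dsign [Fintype F] (h2 : (2 : F) ≠ 0) (hcard : 2 ≤ Fintype.card κ) (w : κ → F)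
    (hw : ∀ i, w i ≠ 0) {A : Type*} [Finite A] (φ : A → (κ → ℤˣ)) (hinj : Function.Injective φ)
    (hΩ : ∀ a a', dsign w (φ a * φ a') ∈ Cfsg.Omega F (⇑(wssF w))) (i₀ : κ) :
    Nat.card A ≤ 2 ^ (Fintype.card κ - 1) := by
  let r : A → (↥(({i₀} : Finset κ)ᶜ) → ℤˣ) := fun a k => φ a k.1
  have hr : Function.Injective r := by
    intro a a' h
    apply hinj
    have hoff : ∀ k, k ≠ i₀ → φ a k = φ a' k := by
      intro k hk
      have := congrFun h ⟨k, by simp [hk]⟩
      exact this
    have hδ := ((dsign_mem_Omega_iff h2 hcard w hw _).1 (hΩ a a')).1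
    have hsub : negSet (φ a * φ a') ⊆ {i₀} := by
      intro k hk
      rw [mem_negSet] at hk
      by_contra hne
      have hne' : k ≠ i₀ := by simpa using hne
      rw [Pi.mul_apply, hoff k hne', units_int_mul_self] at hk
      revert hk; decide
    have hc : (negSet (φ a * φ a')).card ≤ 1 := by
      calc (negSet (φ a * φ a')).card ≤ ({i₀} : Finset κ).card := Finset.card_le_card hsub
        _ = 1 := Finset.card_singleton _
    have h0 : (negSet (φ a * φ a')).card = 0 := by
      obtain ⟨t, ht⟩ := hδ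
      omega
    rw [Finset.card_eq_zero] at h0
    funext k
    apply units_int_eq_of_mul_eq_one
    have hk : k ∉ negSet (φ a * φ a') := by rw [h0]; simp
    rw [mem_negSet] at hk
    rcases Int.units_eq_one_or ((φ a * φ a') k) with h' | h'
    · exact h'
    · exact absurd h' hk
  have h1 := Nat.card_le_card_of_injective r hr
  have h3 : Nat.card (↥(({i₀} : Finset κ)ᶜ) → ℤˣ) = 2 ^ (Fintype.card κ - 1) := by
    rw [Nat.card_eq_fintype_card, Fintype.card_fun, Fintype.card_units_int, Fintype.card_coe,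
      Finset.card_compl, Finset.card_singleton]
  rw [h3] at h1
  exact h1

/-- second upper bound: if two weights differ by a non-square -/
theorem card_le_of_dsign' [Fintype F] (h2 : (2 : F) ≠ 0) (hcard : 2 ≤ Fintype.card κ) (w : κ → F)
    (hw : ∀ i, w i ≠ 0) {A : Type*} [Finite A] (φ : A → (κ → ℤˣ)) (hinj : Function.Injective φ)
    (hΩ : ∀ a a', dsign w (φ a * φ a') ∈ Cfsg.Omega F (⇑(wssF w))) (i j : κ) (hij : i ≠ j)
    (hns : ¬ IsSquare (w i * w j)) :
    Nat.card A ≤ 2 ^ (Fintype.card κ - 2) := by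
  let r : A → (↥(({i, j} : Finset κ)ᶜ) → ℤˣ) := fun a k => φ a k.1
  have hr : Function.Injective r := by
    intro a a' h
    apply hinj
    have hoff : ∀ k, k ≠ i → k ≠ j → φ a k = φ a' k := by
      intro k hk hk'
      have := congrFun h ⟨k, by simp [hk, hk']⟩
      exact this
    obtain ⟨hδ, hsq⟩ := (dsign_mem_Omega_iff h2 hcard w hw _).1 (hΩ a a')
    have hsub : negSet (φ a * φ a') ⊆ {i, j} := by
      intro k hk
      rw [mem_negSet] at hk
      by_contra hne
      have hne' : k ≠ i ∧ k ≠ j := by simpa using hne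
      rw [Pi.mul_apply, hoff k hne'.1 hne'.2, units_int_mul_self] at hk
      revert hk; decide
    have hc : (negSet (φ a * φ a')).card ≤ 2 := by
      calc (negSet (φ a * φ a')).card ≤ ({i, j} : Finset κ).card := Finset.card_le_card hsub
        _ = 2 := Finset.card_pair hij
    have h0 : (negSet (φ a * φ a')).card = 0 := by
      by_contra hne
      have h2' : (negSet (φ a * φ a')).card = 2 := by
        obtain ⟨t, ht⟩ := hδ
        omega
      have heq : negSet (φ a * φ a') = {i, j} := by
        apply Finset.eq_of_subset_of_card_le hsub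
        rw [h2', Finset.card_pair hij]
      rw [heq, Finset.prod_pair hij] at hsq
      exact hns hsq
    rw [Finset.card_eq_zero] at h0
    funext k
    apply units_int_eq_of_mul_eq_one
    have hk : k ∉ negSet (φ a * φ a') := by rw [h0]; simp
    rw [mem_negSet] at hk
    rcases Int.units_eq_one_or ((φ a * φ a') k) with h' | h'
    · exact h'
    · exact absurd h' hk
  have h1 := Nat.card_le_card_of_injective r hr
  have h3 : Nat.card (↥(({i, j} : Finset κ)ᶜ) → ℤˣ) = 2 ^ (Fintype.card κ - 2) := by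
    rw [Nat.card_eq_fintype_card, Fintype.card_fun, Fintype.card_units_int, Fintype.card_coe,
      Finset.card_compl, Finset.card_pair hij]
  rw [h3] at h1
  exact h1

/-- extension of a sign vector on `J.erase j₀` to all of `κ` with total product one -/
def extSign (J : Finset κ) (j₀ : κ) : (↥(J.erase j₀) → ℤˣ) →* (κ → ℤˣ) where
  toFun ε' := fun k => if h : k ∈ J.erase j₀ then ε' ⟨k, h⟩ else if k = j₀ then ∏ x, ε' x else 1
  map_one' := by
    funext k
    simp
  map_mul' ε' ε'' := by
    funext k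
    simp only [Pi.mul_apply]
    split_ifs
    · rfl
    · rw [Finset.prod_mul_distrib]
    · simp

theorem extSign_apply_mem (J : Finset κ) (j₀ : κ) (ε' : ↥(J.erase j₀) → ℤˣ) (x : ↥(J.erase j₀)) :
    extSign J j₀ ε' x.1 = ε' x := by
  show (if h : x.1 ∈ J.erase j₀ then ε' ⟨x.1, h⟩ else _) = _
  rw [dif_pos x.2]

theorem negSet_extSign_mulSingle (J : Finset κ) (j₀ : κ) (x : ↥(J.erase j₀)) :
    negSet (extSign J j₀ (Pi.mulSingle x (-1))) = {x.1, j₀} := by
  have hx : x.1 ≠ j₀ := (Finset.mem_erase.1 x.2).1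
  have hj₀ : j₀ ∉ J.erase j₀ := Finset.notMem_erase j₀ J
  ext k
  rw [mem_negSet]
  show (if h : k ∈ J.erase j₀ then (Pi.mulSingle x (-1) : ↥(J.erase j₀) → ℤˣ) ⟨k, h⟩ else
    if k = j₀ then ∏ y, (Pi.mulSingle x (-1) : ↥(J.erase j₀) → ℤˣ) y else 1) = -1 ↔ _
  by_cases hk : k ∈ J.erase j₀
  · rw [dif_pos hk]
    have hkj : k ≠ j₀ := (Finset.mem_erase.1 hk).1
    by_cases hkx : k = x.1
    · subst hkx
      simp
    · have : (⟨k, hk⟩ : ↥(J.erase j₀)) ≠ x := fun h => hkx (congrArg Subtype.val h)
      rw [Pi.mulSingle_eq_of_ne this]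
      simp [hkx, hkj]
  · rw [dif_neg hk]
    by_cases hkj : k = j₀
    · subst hkj
      rw [if_pos rfl, Finset.prod_eq_single x]
      · simp
      · intro y _ hy
        rw [Pi.mulSingle_eq_of_ne hy]
      · intro h; exact absurd (Finset.mem_univ x) h
    · rw [if_neg hkj]
      have hkx : k ≠ x.1 := fun h => hk (h ▸ x.2)
      simp [hkx, hkj]

theorem dsign_extSign_mem_Omega [Fintype F] (h2 : (2 : F) ≠ 0) (hcard : 2 ≤ Fintype.card κ)
    (w : κ → F) (hw : ∀ i, w i ≠ 0) (J : Finset κ) (j₀ : κ)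
    (hJ : ∀ k ∈ J, IsSquare (w k * w j₀)) (ε' : ↥(J.erase j₀) → ℤˣ) :
    dsign w (extSign J j₀ ε') ∈ Cfsg.Omega F (⇑(wssF w)) := by
  have key : ε' ∈ (Cfsg.Omega F (⇑(wssF w))).comap ((dsign w).comp (extSign J j₀)) := by
    rw [← Finset.univ_prod_mulSingle ε']
    apply Subgroup.prod_mem
    intro x _
    rw [Subgroup.mem_comap, MonoidHom.comp_apply]
    rcases Int.units_eq_one_or (ε' x) with h | h
    · rw [h, Pi.mulSingle_one, map_one, map_one]
      exact one_mem _
    · rw [h, dsign_mem_Omega_iff h2 hcard w hw, negSet_extSign_mulSingle]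
      have hx : x.1 ≠ j₀ := (Finset.mem_erase.1 x.2).1
      rw [Finset.card_pair hx, Finset.prod_pair hx]
      exact ⟨⟨1, rfl⟩, hJ x.1 (Finset.mem_of_mem_erase x.2)⟩
  exact key

theorem pRankAtLeast_of_weights [Fintype F] (h2 : (2 : F) ≠ 0) (hcard : 2 ≤ Fintype.card κ)
    (w : κ → F) (hw : ∀ i, w i ≠ 0) (J : Finset κ) (j₀ : κ) (hj₀ : j₀ ∈ J)
    (hJ : ∀ k ∈ J, IsSquare (w k * w j₀)) :
    Cfsg.PRankAtLeast 2 (J.card - 1) ↥(Cfsg.Omega F (⇑(wssF w))) := by
  set Ψ : (↥(J.erase j₀) → ℤˣ) →* ↥(Cfsg.Omega F (⇑(wssF w))) :=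
    ((dsign w).comp (extSign J j₀)).codRestrict (Cfsg.Omega F (⇑(wssF w)))
      (fun ε' => dsign_extSign_mem_Omega h2 hcard w hw J j₀ hJ ε') with hΨ
  have hinj : Function.Injective Ψ := by
    intro ε' ε'' h
    have h1 : dsign w (extSign J j₀ ε') = dsign w (extSign J j₀ ε'') := congrArg Subtype.val h
    have h3 := dsign_injective h2 w h1
    funext x
    rw [← extSign_apply_mem J j₀ ε' x, ← extSign_apply_mem J j₀ ε'' x, h3]
  refine ⟨Ψ.range, ?_, ?_, ?_⟩
  · apply IsMulCommutative.of_comm
    rintro ⟨a, ε', rfl⟩ ⟨b, ε'', rfl⟩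
    apply Subtype.ext
    show Ψ ε' * Ψ ε'' = Ψ ε'' * Ψ ε'
    rw [← map_mul, ← map_mul, mul_comm]
  · rintro a ⟨ε', rfl⟩
    rw [← map_pow]
    have : ε' ^ 2 = 1 := by
      funext x
      rw [Pi.pow_apply, sq, units_int_mul_self]
      rfl
    rw [this, map_one]
  · have h1 : Nat.card Ψ.range = Nat.card (↥(J.erase j₀) → ℤˣ) :=
      Nat.card_congr (MonoidHom.ofInjective hinj).symm.toEquiv
    rw [h1, Nat.card_eq_fintype_card, Fintype.card_fun, Fintype.card_units_int, Fintype.card_coe,
      Finset.card_erase_of_mem hj₀]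

theorem dsign_neg_one_val (w : κ → F) :
    ((dsign w (fun _ => (-1 : ℤˣ)) : GL κ F) : Matrix κ κ F) = -1 := by
  apply matrix_ext_mulVec
  intro v
  rw [dsign_mulVec, Matrix.neg_mulVec, Matrix.one_mulVec]
  ext k
  simp

theorem neg_one_mem_Omega_iff [Fintype F] (h2 : (2 : F) ≠ 0) (hcard : 2 ≤ Fintype.card κ)
    (w : κ → F) (hw : ∀ i, w i ≠ 0) :
    dsign w (fun _ => (-1 : ℤˣ)) ∈ Cfsg.Omega F (⇑(wssF w)) ↔
      (Even (Fintype.card κ) ∧ IsSquare (∏ k, w k)) := by
  rw [dsign_mem_Omega_iff h2 hcard w hw]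
  have : negSet (fun _ : κ => (-1 : ℤˣ)) = Finset.univ := by
    ext k; simp [mem_negSet]
  rw [this, Finset.card_univ]

end diagorth

end Cfsg.Agent.Lib.Helper44
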