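import Mathlib

set_option autoImplicit false

namespace Cfsg.Agent.Lib.Helper44

open Module

universe u

/-- Simultaneous orthogonal diagonalisation of a commuting family of isometric involutions
(characteristic not two). -/
theorem exists_orthogonal_eigenbasis {F : Type*} [Field F] (h2 : (2 : F) ≠ 0) (n : ℕ) :
    ∀ (V : Type u) [AddCommGroup V] [Module F V] [FiniteDimensional F V]
      (B : LinearMap.BilinForm F V) (_ : LinearMap.IsSymm B) (S : Set (V →ₗ[F] V)),
      finrank F V = n →
      (∀ g ∈ S, ∀ x, g (g x) = x) → (∀ g ∈ S, ∀ h ∈ S, ∀ x, g (h x) = h (g x)) →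
      (∀ g ∈ S, ∀ x y, B (g x) (g y) = B x y) →
      ∃ b : Basis (Fin n) F V, (∀ i j, i ≠ j → B (b i) (b j) = 0) ∧
        ∀ g ∈ S, ∀ i, g (b i) = b i ∨ g (b i) = - b i := by
  induction n using Nat.strong_induction_on with
  | _ n ih =>
  intro V _ _ _ B hB S hn hinv hcomm hiso
  by_cases hall : ∀ g ∈ S, (∀ x, g x = x) ∨ (∀ x, g x = -x)
  · let _ : Invertible (2 : F) := invertibleOfNonzero h2
    obtain ⟨v, hv⟩ := LinearMap.BilinForm.exists_orthogonal_basis hB
    refine ⟨v.reindex (finCongr hn), ?_, ?_⟩
    · intro i j hij
      rw [Basis.reindex_apply, Basis.reindex_apply]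
      apply hv
      intro h
      exact hij ((finCongr hn).symm.injective h)
    · intro g hg i
      rcases hall g hg with h | h
      · left; exact h _
      · right; exact h _
  · push Not at hall
    obtain ⟨g, hgS, ⟨x₁, hx₁⟩, ⟨x₂, hx₂⟩⟩ := hall
    set Vp : Submodule F V := LinearMap.ker (g - LinearMap.id) with hVp
    set Vm : Submodule F V := LinearMap.ker (g + LinearMap.id) with hVm
    have memp : ∀ x, x ∈ Vp ↔ g x = x := by
      intro x
      rw [hVp, LinearMap.mem_ker, LinearMap.sub_apply, LinearMap.id_apply, sub_eq_zero]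
    have memm : ∀ x, x ∈ Vm ↔ g x = -x := by
      intro x
      rw [hVm, LinearMap.mem_ker, LinearMap.add_apply, LinearMap.id_apply, add_eq_zero_iff_eq_neg]
    have hgg := hinv g hgS
    have hc : IsCompl Vp Vm := by
      constructor
      · rw [Submodule.disjoint_def]
        intro x hp hm
        rw [memp] at hp
        rw [memm] at hm
        have h3 : (2 : F) • x = 0 := by
          rw [two_smul]
          nth_rewrite 1 [← hp]
          rw [hm]
          simp
        exact (smul_eq_zero.1 h3).resolve_left h2
      · rw [codisjoint_iff, eq_top_iff]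
        intro x _
        have hx : x = (2 : F)⁻¹ • (x + g x) + (2 : F)⁻¹ • (x - g x) := by
          rw [← smul_add]
          have : x + g x + (x - g x) = (2 : F) • x := by rw [two_smul]; abel
          rw [this, smul_smul, inv_mul_cancel₀ h2, one_smul]
        rw [hx]
        apply Submodule.add_mem_sup
        · apply Submodule.smul_mem
          rw [memp, map_add, hgg]
          abel
        · apply Submodule.smul_mem
          rw [memm, map_sub, hgg]
          abel
    have hsum := Submodule.finrank_add_eq_of_isCompl hc
    have hVp_ne : Vp ≠ ⊤ := by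
      intro h
      have : x₁ ∈ Vp := by rw [h]; exact Submodule.mem_top
      rw [memp] at this
      exact hx₁ this
    have hVm_ne : Vm ≠ ⊤ := by
      intro h
      have : x₂ ∈ Vm := by rw [h]; exact Submodule.mem_top
      rw [memm] at this
      exact hx₂ this
    have hp_lt : finrank F Vp < n := by
      rw [← hn]; exact Submodule.finrank_lt hVp_ne
    have hm_lt : finrank F Vm < n := by
      rw [← hn]; exact Submodule.finrank_lt hVm_ne
    -- invariance
    have hmapp : ∀ h ∈ S, ∀ x ∈ Vp, h x ∈ Vp := by
      intro h hh x hx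
      rw [memp] at hx ⊢
      rw [hcomm g hgS h hh, hx]
    have hmapm : ∀ h ∈ S, ∀ x ∈ Vm, h x ∈ Vm := by
      intro h hh x hx
      rw [memm] at hx ⊢
      rw [hcomm g hgS h hh, hx, map_neg]
    -- the general restriction step
    have step : ∀ (W : Submodule F V), finrank F W < n → (∀ h ∈ S, ∀ x ∈ W, h x ∈ W) →
        ∃ b : Basis (Fin (finrank F W)) F W, (∀ i j, i ≠ j → B (b i : V) (b j : V) = 0) ∧
          ∀ h ∈ S, ∀ i, h (b i : V) = (b i : V) ∨ h (b i : V) = - (b i : V) := by
      intro W hW hmap
      set SW : Set (W →ₗ[F] W) := {k | ∃ h ∈ S, ∀ x : W, ((k x : W) : V) = h (x : V)} with hSW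
      obtain ⟨b, hb1, hb2⟩ := ih (finrank F W) hW W (B.restrict W) ⟨fun x y => ‹LinearMap.IsSymm B›.eq x y⟩ SW rfl
        (by
          rintro k ⟨h, hh, hk⟩ x
          apply Subtype.ext
          rw [hk, hk, hinv h hh])
        (by
          rintro k ⟨h, hh, hk⟩ k' ⟨h', hh', hk'⟩ x
          apply Subtype.ext
          rw [hk, hk', hk', hk, hcomm h hh h' hh'])
        (by
          rintro k ⟨h, hh, hk⟩ x y
          show B ((k x : W) : V) ((k y : W) : V) = B (x : V) (y : V)
          rw [hk, hk, hiso h hh])
      refine ⟨b, fun i j hij => hb1 i j hij, ?_⟩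
      intro h hh i
      have hk : h.restrict (hmap h hh) ∈ SW := ⟨h, hh, fun x => rfl⟩
      rcases hb2 _ hk i with h' | h'
      · left
        have := congrArg Subtype.val h'
        exact this
      · right
        have := congrArg Subtype.val h'
        simpa using this
    obtain ⟨bp, hbp1, hbp2⟩ := step Vp hp_lt hmapp
    obtain ⟨bm, hbm1, hbm2⟩ := step Vm hm_lt hmapm
    -- orthogonality of the two eigenspaces
    have horth : ∀ x ∈ Vp, ∀ y ∈ Vm, B x y = 0 := by
      intro x hx y hy
      rw [memp] at hx
      rw [memm] at hy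
      have h3 := hiso g hgS x y
      rw [hx, hy, map_neg] at h3
      have h4 : (2 : F) * B x y = 0 := by linear_combination -h3
      exact (mul_eq_zero.1 h4).resolve_left h2
    have horth' : ∀ x ∈ Vm, ∀ y ∈ Vp, B x y = 0 := by
      intro x hx y hy
      have := ‹LinearMap.IsSymm B›.eq x y
      simp only [RingHom.id_apply] at this
      rw [this]
      exact horth y hy x hx
    set b' : Basis (Fin (finrank F Vp) ⊕ Fin (finrank F Vm)) F V :=
      (bp.prod bm).map (Submodule.prodEquivOfIsCompl Vp Vm hc) with hb'
    have hb'l : ∀ i, b' (Sum.inl i) = (bp i : V) := by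
      intro i
      simp only [hb', Basis.map_apply, Submodule.coe_prodEquivOfIsCompl', Basis.prod_apply_inl_fst,
        Basis.prod_apply_inl_snd]
      simp
    have hb'r : ∀ i, b' (Sum.inr i) = (bm i : V) := by
      intro i
      simp only [hb', Basis.map_apply, Submodule.coe_prodEquivOfIsCompl', Basis.prod_apply_inr_fst,
        Basis.prod_apply_inr_snd]
      simp
    have e : Fin (finrank F Vp) ⊕ Fin (finrank F Vm) ≃ Fin n :=
      finSumFinEquiv.trans (finCongr (hsum.trans hn))
    refine ⟨b'.reindex e, ?_, ?_⟩
    · intro i j hij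
      rw [Basis.reindex_apply, Basis.reindex_apply]
      have hij' : e.symm i ≠ e.symm j := fun h => hij (e.symm.injective h)
      rcases hi : e.symm i with i' | i' <;> rcases hj : e.symm j with j' | j'
      · rw [hb'l, hb'l]
        apply hbp1
        intro h
        apply hij'
        rw [hi, hj, h]
      · rw [hb'l, hb'r]
        exact horth _ (bp i').2 _ (bm j').2
      · rw [hb'r, hb'l]
        exact horth' _ (bm i').2 _ (bp j').2
      · rw [hb'r, hb'r]
        apply hbm1
        intro h
        apply hij'
        rw [hi, hj, h]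
    · intro h hh i
      rw [Basis.reindex_apply]
      rcases e.symm i with i' | i'
      · rw [hb'l]
        exact hbp2 h hh i'
      · rw [hb'r]
        exact hbm2 h hh i'

end Cfsg.Agent.Lib.Helper44
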