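import Mathlib
import Cfsg.Prelude.Def_LieClassical
import Cfsg.Prelude.Def_EvenType
import Cfsg.Prelude.Def_CaseTheorems
import Cfsg.Agent.Lib.Helper44.DiagOrth
import Cfsg.Agent.Lib.Helper44.EigenBasis
import Cfsg.Agent.S2623

set_option autoImplicit false
set_option linter.unusedSectionVars false

namespace Cfsg.Agent.Lib.Helper44

open Matrix Module

section tworank
variable {ι : Type} [Fintype ι] [DecidableEq ι] {F : Type*} [Field F]

theorem associated_isOrtho_of_polar (Q : QuadraticForm F (ι → F)) [Invertible (2 : F)] {κ : Type*}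
    (b : κ → (ι → F)) (hb : ∀ i j, i ≠ j → QuadraticMap.polar (⇑Q) (b i) (b j) = 0) :
    (QuadraticMap.associated (R := F) Q).IsOrthoᵢ b := by
  intro i j hij
  show QuadraticMap.associated (R := F) Q (b i) (b j) = 0
  rw [QuadraticMap.associated_apply]
  have := hb i j hij
  unfold QuadraticMap.polar at this
  rw [this]
  simp

/-- simultaneous diagonalisation of an elementary abelian 2-subgroup of the isometry group -/
theorem exists_diag_of_elemAb (Q : QuadraticForm F (ι → F)) (h2 : (2 : F) ≠ 0)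
    (hQ : (QuadraticMap.polarBilin Q).Nondegenerate)
    (A : Subgroup ↥(Cfsg.isometryGroup F (⇑Q))) (hcomm : ∀ a ∈ A, ∀ a' ∈ A, a * a' = a' * a)
    (hexp : ∀ a ∈ A, a * a = 1) :
    ∃ (w : Fin (finrank F (ι → F)) → F) (_ : ∀ i, w i ≠ 0)
      (T : (ι → F) ≃ₗ[F] (Fin (finrank F (ι → F)) → F)) (hT : ∀ v, wssF w (T v) = Q v)
      (φ : A → (Fin (finrank F (ι → F)) → ℤˣ)), Function.Injective φ ∧
        ∀ a : A, conjIso T (⇑Q) (⇑(wssF w)) hT a.1 = dsign w (φ a) := by
  classical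
  let _ : Invertible (2 : F) := invertibleOfNonzero h2
  set S : Set ((ι → F) →ₗ[F] (ι → F)) :=
    {f | ∃ a ∈ A, f = Matrix.toLin' ((a : GL ι F) : Matrix ι ι F)} with hS
  have hsymm : LinearMap.IsSymm (QuadraticMap.polarBilin Q) :=
    ⟨fun x y => QuadraticMap.polar_comm _ x y⟩
  obtain ⟨b, hb1, hb2⟩ := exists_orthogonal_eigenbasis h2 (finrank F (ι → F)) (ι → F)
    (QuadraticMap.polarBilin Q) hsymm S rfl
    (by
      rintro f ⟨a, ha, rfl⟩ x
      rw [Matrix.toLin'_apply, Matrix.toLin'_apply, Matrix.mulVec_mulVec, ← Units.val_mul,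
        ← Subgroup.coe_mul, hexp a ha]
      simp)
    (by
      rintro f ⟨a, ha, rfl⟩ f' ⟨a', ha', rfl⟩ x
      rw [Matrix.toLin'_apply, Matrix.toLin'_apply, Matrix.toLin'_apply, Matrix.toLin'_apply,
        Matrix.mulVec_mulVec, Matrix.mulVec_mulVec, ← Units.val_mul, ← Units.val_mul,
        ← Subgroup.coe_mul, ← Subgroup.coe_mul, hcomm a ha a' ha'])
    (by
      rintro f ⟨a, ha, rfl⟩ x y
      rw [Matrix.toLin'_apply, Matrix.toLin'_apply]
      exact Helper13.polar_mulVec_of_isometry Q _ (fun u => iso_apply a u) x y)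
  have hb1' : ∀ i j, i ≠ j → QuadraticMap.polar (⇑Q) (b i) (b j) = 0 := hb1
  have hw : ∀ i, Q (b i) ≠ 0 := by
    intro i hi
    apply b.ne_zero i
    apply hQ.1 (b i)
    intro y
    have hy : y = ∑ j, b.equivFun y j • b j := (b.sum_equivFun y).symm
    rw [hy, map_sum]
    apply Finset.sum_eq_zero
    intro j _
    rw [map_smul]
    by_cases hij : i = j
    · subst hij
      show _ • QuadraticMap.polar (⇑Q) (b i) (b i) = 0
      rw [QuadraticMap.polar_self, hi]
      simp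
    · show _ • QuadraticMap.polar (⇑Q) (b i) (b j) = 0
      rw [hb1' i j hij, smul_zero]
  have hT : ∀ v, wssF (fun i => Q (b i)) (b.equivFun v) = Q v := by
    intro v
    have h1 := QuadraticMap.basisRepr_eq_of_iIsOrtho Q b (associated_isOrtho_of_polar Q b hb1')
    show QuadraticMap.weightedSumSquares F (fun i => Q (b i)) (b.equivFun v) = Q v
    rw [← h1, QuadraticMap.basisRepr_apply, b.sum_equivFun]
  have hTb : ∀ i, b.equivFun (b i) = Pi.single i (1 : F) := by
    intro i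
    ext k
    simp [Pi.single_apply, eq_comm]
  set φ : A → (Fin (finrank F (ι → F)) → ℤˣ) := fun a i =>
    if ((a.1 : GL ι F) : Matrix ι ι F).mulVec (b i) = b i then 1 else -1 with hφ
  have hmain : ∀ a : A, conjIso b.equivFun (⇑Q) (⇑(wssF (fun i => Q (b i)))) hT a.1 =
      dsign (fun i => Q (b i)) (φ a) := by
    intro a
    apply Subtype.ext
    apply Units.ext
    apply Matrix.ext_of_mulVec_single
    intro i
    have e1 := conjIso_mulVec b.equivFun (⇑Q) (⇑(wssF (fun i => Q (b i)))) hT a.1 (b i)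
    rw [hTb] at e1
    have e2 := dsign_mulVec (fun i => Q (b i)) (φ a) (Pi.single i (1 : F))
    refine e1.trans (Eq.trans ?_ e2.symm)
    have hcase := hb2 (Matrix.toLin' ((a.1 : GL ι F) : Matrix ι ι F)) ⟨a.1, a.2, rfl⟩ i
    rw [Matrix.toLin'_apply] at hcase
    rcases hcase with h | h
    · rw [h, hTb]
      ext k
      by_cases hk : k = i
      · subst hk
        simp [hφ, h]
      · simp [hk]
    · have hne : ((a.1 : GL ι F) : Matrix ι ι F).mulVec (b i) ≠ b i := by
        rw [h]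
        intro h'
        have h3 : (2 : F) • b i = 0 := by
          rw [two_smul]
          nth_rewrite 1 [← h']
          simp
        exact b.ne_zero i ((smul_eq_zero.1 h3).resolve_left h2)
      rw [h, map_neg, hTb]
      ext k
      by_cases hk : k = i
      · subst hk
        simp [hφ, hne]
      · simp [hk]
  refine ⟨fun i => Q (b i), hw, b.equivFun, hT, φ, ?_, hmain⟩
  intro a a' h
  have h1 := hmain a
  rw [h, ← hmain a'] at h1
  exact Subtype.ext ((conjIso b.equivFun (⇑Q) _ hT).injective h1)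

theorem conjIso_val_eq_neg_one_iff {ι' : Type} [Fintype ι'] [DecidableEq ι']
    (T : (ι → F) ≃ₗ[F] (ι' → F)) (Q : (ι → F) → F) (Q' : (ι' → F) → F)
    (hT : ∀ v, Q' (T v) = Q v) (g : ↥(Cfsg.isometryGroup F Q)) :
    ((conjIso T Q Q' hT g : GL ι' F) : Matrix ι' ι' F) = -1 ↔
      ((g : GL ι F) : Matrix ι ι F) = -1 := by
  constructor
  · intro h
    apply matrix_ext_mulVec
    intro v
    have e1 := conjIso_mulVec T Q Q' hT g v
    rw [h, Matrix.neg_mulVec, Matrix.one_mulVec, ← map_neg] at e1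
    rw [← T.injective e1, Matrix.neg_mulVec, Matrix.one_mulVec]
  · intro h
    apply matrix_ext_mulVec
    intro v
    obtain ⟨v, rfl⟩ := T.surjective v
    rw [conjIso_mulVec, h, Matrix.neg_mulVec, Matrix.one_mulVec, Matrix.neg_mulVec,
      Matrix.one_mulVec, map_neg]

theorem isSquare_prod_of_pairwise [Fintype F] {κ : Type} [Fintype κ] (w : κ → F)
    (hw : ∀ i, w i ≠ 0) (hpair : ∀ i j, i ≠ j → IsSquare (w i * w j))
    (heven : Even (Fintype.card κ)) : IsSquare (∏ k, w k) := by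
  classical
  rcases isEmpty_or_nonempty κ with he | ⟨⟨k₀⟩⟩
  · simp
  · have hχ : ∀ k, quadraticChar F (w k) = quadraticChar F (w k₀) := by
      intro k
      by_cases hk : k = k₀
      · rw [hk]
      · exact (quadraticChar_mul_eq_one_iff (hw k) (hw k₀)).1 (hpair k k₀ hk)
    have hne : (∏ k, w k) ≠ 0 := Finset.prod_ne_zero_iff.2 (fun k _ => hw k)
    rw [← quadraticChar_one_iff_isSquare hne, map_prod, Finset.prod_congr rfl (fun k _ => hχ k),
      Finset.prod_const, Finset.card_univ]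
    obtain ⟨t, ht⟩ := heven
    rw [ht, ← two_mul, pow_mul]
    rcases quadraticChar_dichotomy (hw k₀) with h | h <;> rw [h] <;> simp

theorem finrank_pos_of_card (hcard : 2 ≤ Fintype.card ι) : 0 < finrank F (ι → F) := by
  rw [Module.finrank_fintype_fun_eq_card]; omega

theorem pRankLE_Omega [Fintype F] (Q : QuadraticForm F (ι → F)) (h2 : (2 : F) ≠ 0)
    (hcard : 2 ≤ Fintype.card ι) (hQ : (QuadraticMap.polarBilin Q).Nondegenerate) :
    Cfsg.PRankLE 2 (Fintype.card ι - 1) ↥(Cfsg.Omega F (⇑Q)) := by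
  intro A hcomm hexp
  set A' : Subgroup ↥(Cfsg.isometryGroup F (⇑Q)) := A.map (Cfsg.Omega F (⇑Q)).subtype with hA'
  have hcardA : Nat.card A' = Nat.card A :=
    Nat.card_congr (A.equivMapOfInjective _ (Subgroup.subtype_injective _)).symm.toEquiv
  have hmemΩ : ∀ a ∈ A', a ∈ Cfsg.Omega F (⇑Q) := by
    rintro a ⟨x, -, rfl⟩
    exact x.2
  obtain ⟨w, hw, T, hT, φ, hφ, hmain⟩ := exists_diag_of_elemAb Q h2 hQ A'
    (by
      rintro a ⟨x, hx, rfl⟩ a' ⟨y, hy, rfl⟩
      have := mul_comm' (⟨x, hx⟩ : A) ⟨y, hy⟩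
      have h3 : x * y = y * x := congrArg Subtype.val this
      rw [← map_mul, ← map_mul, h3])
    (by
      rintro a ⟨x, hx, rfl⟩
      rw [← map_mul, ← sq, hexp x hx, map_one])
  have hκ : Fintype.card (Fin (finrank F (ι → F))) = Fintype.card ι := by
    rw [Fintype.card_fin, Module.finrank_fintype_fun_eq_card]
  have hΩ : ∀ a a' : A', dsign w (φ a * φ a') ∈ Cfsg.Omega F (⇑(wssF w)) := by
    intro a a'
    rw [map_mul, ← hmain a, ← hmain a', ← map_mul, conjIso_mem_Omega_iff]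
    exact mul_mem (hmemΩ a.1 a.2) (hmemΩ a'.1 a'.2)
  have := card_le_of_dsign h2 (by rw [hκ]; exact hcard) w hw φ hφ hΩ
    ⟨0, finrank_pos_of_card hcard⟩
  rw [hκ, hcardA] at this
  exact this

theorem pRankLE_Omega' [Fintype F] (Q : QuadraticForm F (ι → F)) (h2 : (2 : F) ≠ 0)
    (hcard : 2 ≤ Fintype.card ι) (hQ : (QuadraticMap.polarBilin Q).Nondegenerate)
    (heven : Even (Fintype.card ι))
    (hneg : ¬ ∃ g : ↥(Cfsg.isometryGroup F (⇑Q)), g ∈ Cfsg.Omega F (⇑Q) ∧
      ((g : GL ι F) : Matrix ι ι F) = -1) :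
    Cfsg.PRankLE 2 (Fintype.card ι - 2) ↥(Cfsg.Omega F (⇑Q)) := by
  intro A hcomm hexp
  set A' : Subgroup ↥(Cfsg.isometryGroup F (⇑Q)) := A.map (Cfsg.Omega F (⇑Q)).subtype with hA'
  have hcardA : Nat.card A' = Nat.card A :=
    Nat.card_congr (A.equivMapOfInjective _ (Subgroup.subtype_injective _)).symm.toEquiv
  have hmemΩ : ∀ a ∈ A', a ∈ Cfsg.Omega F (⇑Q) := by
    rintro a ⟨x, -, rfl⟩
    exact x.2
  obtain ⟨w, hw, T, hT, φ, hφ, hmain⟩ := exists_diag_of_elemAb Q h2 hQ A'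
    (by
      rintro a ⟨x, hx, rfl⟩ a' ⟨y, hy, rfl⟩
      have := mul_comm' (⟨x, hx⟩ : A) ⟨y, hy⟩
      have h3 : x * y = y * x := congrArg Subtype.val this
      rw [← map_mul, ← map_mul, h3])
    (by
      rintro a ⟨x, hx, rfl⟩
      rw [← map_mul, ← sq, hexp x hx, map_one])
  have hκ : Fintype.card (Fin (finrank F (ι → F))) = Fintype.card ι := by
    rw [Fintype.card_fin, Module.finrank_fintype_fun_eq_card]
  have hΩ : ∀ a a' : A', dsign w (φ a * φ a') ∈ Cfsg.Omega F (⇑(wssF w)) := by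
    intro a a'
    rw [map_mul, ← hmain a, ← hmain a', ← map_mul, conjIso_mem_Omega_iff]
    exact mul_mem (hmemΩ a.1 a.2) (hmemΩ a'.1 a'.2)
  by_cases hex : ∃ i j, i ≠ j ∧ ¬ IsSquare (w i * w j)
  · obtain ⟨i, j, hij, hns⟩ := hex
    have := card_le_of_dsign' h2 (by rw [hκ]; exact hcard) w hw φ hφ hΩ i j hij hns
    rw [hκ, hcardA] at this
    exact this
  · exfalso
    push Not at hex
    apply hneg
    have hsq := isSquare_prod_of_pairwise w hw hex (by rw [hκ]; exact heven)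
    have hmem := (neg_one_mem_Omega_iff h2 (by rw [hκ]; exact hcard) w hw).2
      ⟨by rw [hκ]; exact heven, hsq⟩
    refine ⟨(conjIso T (⇑Q) (⇑(wssF w)) hT).symm (dsign w (fun _ => (-1 : ℤˣ))), ?_, ?_⟩
    · rw [← conjIso_mem_Omega_iff T (⇑Q) (⇑(wssF w)) hT, MulEquiv.apply_symm_apply]
      exact hmem
    · rw [← conjIso_val_eq_neg_one_iff T (⇑Q) (⇑(wssF w)) hT, MulEquiv.apply_symm_apply]
      exact dsign_neg_one_val w

theorem pRankAtLeast_of_mulEquiv {G H : Type*} [Group G] [Group H] (e : G ≃* H) (p k : ℕ)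
    (h : Cfsg.PRankAtLeast p k G) : Cfsg.PRankAtLeast p k H := by
  obtain ⟨A, hc, hexp, hcard⟩ := h
  refine ⟨A.map e.toMonoidHom, ?_, ?_, ?_⟩
  · apply IsMulCommutative.of_comm
    rintro ⟨a, x, hx, rfl⟩ ⟨b, y, hy, rfl⟩
    apply Subtype.ext
    show e.toMonoidHom x * e.toMonoidHom y = e.toMonoidHom y * e.toMonoidHom x
    have := mul_comm' (⟨x, hx⟩ : A) ⟨y, hy⟩
    have h3 : x * y = y * x := congrArg Subtype.val this
    rw [← map_mul, ← map_mul, h3]
  · rintro a ⟨x, hx, rfl⟩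
    rw [← map_pow, hexp x hx, map_one]
  · have : Nat.card (A.map e.toMonoidHom) = Nat.card A :=
      Nat.card_congr (A.equivMapOfInjective _ e.injective).symm.toEquiv
    rw [this]
    exact hcard

/-- isometric change of coordinates induces an isomorphism of the groups `Ω` -/
noncomputable def omegaIso {ι' : Type} [Fintype ι'] [DecidableEq ι']
    (T : (ι → F) ≃ₗ[F] (ι' → F)) (Q : (ι → F) → F) (Q' : (ι' → F) → F)
    (hT : ∀ v, Q' (T v) = Q v) : ↥(Cfsg.Omega F Q) ≃* ↥(Cfsg.Omega F Q') where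
  toFun a := ⟨conjIso T Q Q' hT a.1, (conjIso_mem_Omega_iff T Q Q' hT a.1).2 a.2⟩
  invFun a := ⟨(conjIso T Q Q' hT).symm a.1, by
    rw [← conjIso_mem_Omega_iff T Q Q' hT, MulEquiv.apply_symm_apply]; exact a.2⟩
  left_inv a := by
    apply Subtype.ext
    exact (conjIso T Q Q' hT).symm_apply_apply a.1
  right_inv a := by
    apply Subtype.ext
    exact (conjIso T Q Q' hT).apply_symm_apply a.1
  map_mul' a b := by
    apply Subtype.ext
    exact map_mul (conjIso T Q Q' hT) a.1 b.1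

theorem gram_wssF {κ : Type} [Fintype κ] [DecidableEq κ] (w : κ → F) :
    (Matrix.of (fun i j : κ => QuadraticMap.polar (⇑(wssF w)) (Pi.single i 1) (Pi.single j 1))).det
      = ∏ i, (2 * w i) := by
  have : Matrix.of (fun i j : κ => QuadraticMap.polar (⇑(wssF w)) (Pi.single i 1) (Pi.single j 1))
      = Matrix.diagonal (fun i => 2 * w i) := by
    ext i j
    rw [Matrix.of_apply, wssF_polar_single, Matrix.diagonal_apply]
    by_cases hij : i = j
    · subst hij; simp
    · simp [hij]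
  rw [this, Matrix.det_diagonal]

theorem exists_isometry_to_wss [Fintype F] (Q : QuadraticForm F (ι → F)) (h2 : (2 : F) ≠ 0)
    (hQ : (QuadraticMap.polarBilin Q).Nondegenerate) :
    ∃ D₀ : F, D₀ ≠ 0 ∧ ∀ w' : Fin (finrank F (ι → F)) → F, (∀ i, w' i ≠ 0) →
      IsSquare (D₀ * ∏ i, (2 * w' i)) →
      ∃ T : (ι → F) ≃ₗ[F] (Fin (finrank F (ι → F)) → F), ∀ v, wssF w' (T v) = Q v := by
  obtain ⟨w, hw, T, hT, -, -, -⟩ := exists_diag_of_elemAb Q h2 hQ ⊥
    (by
      intro a ha a' ha'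
      rw [Subgroup.mem_bot] at ha ha'
      rw [ha, ha'])
    (by
      intro a ha
      rw [Subgroup.mem_bot] at ha
      rw [ha, mul_one])
  refine ⟨∏ i, (2 * w i), Finset.prod_ne_zero_iff.2 (fun i _ => mul_ne_zero h2 (hw i)), ?_⟩
  intro w' hw' hsq
  have h3 := (Cfsg.Agent.S2623.result h2 (wssF w) (wssF w') (wssF_nondeg h2 w hw)
    (wssF_nondeg h2 w' hw')).2 (by rw [gram_wssF, gram_wssF]; exact hsq)
  obtain ⟨g, hg⟩ := h3
  refine ⟨T.trans g, ?_⟩
  intro v
  rw [LinearEquiv.trans_apply, hg, hT]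

theorem pRankAtLeast_Omega_sub_two [Fintype F] (Q : QuadraticForm F (ι → F)) (h2 : (2 : F) ≠ 0)
    (hcard : 2 ≤ Fintype.card ι) (hQ : (QuadraticMap.polarBilin Q).Nondegenerate) :
    Cfsg.PRankAtLeast 2 (Fintype.card ι - 2) ↥(Cfsg.Omega F (⇑Q)) := by
  classical
  obtain ⟨D₀, hD₀, hex⟩ := exists_isometry_to_wss Q h2 hQ
  have hN : finrank F (ι → F) = Fintype.card ι := Module.finrank_fintype_fun_eq_card F
  have hκ : Fintype.card (Fin (finrank F (ι → F))) = Fintype.card ι := by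
    rw [Fintype.card_fin, hN]
  set i₁ : Fin (finrank F (ι → F)) := ⟨0, by rw [hN]; omega⟩ with hi₁
  set j₀ : Fin (finrank F (ι → F)) := ⟨1, by rw [hN]; omega⟩ with hj₀
  have hij : j₀ ≠ i₁ := by
    intro h
    have := congrArg Fin.val h
    simp [hi₁, hj₀] at this
  set d : F := D₀ / 2 ^ (finrank F (ι → F)) with hd
  have h2n : (2 : F) ^ (finrank F (ι → F)) ≠ 0 := pow_ne_zero _ h2
  have hd0 : d ≠ 0 := div_ne_zero hD₀ h2n
  set w' : Fin (finrank F (ι → F)) → F := Function.update (fun _ => (1 : F)) i₁ d with hw'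
  have hw'0 : ∀ i, w' i ≠ 0 := by
    intro i
    by_cases hi : i = i₁
    · rw [hw', hi, Function.update_self]; exact hd0
    · rw [hw', Function.update_of_ne hi]; exact one_ne_zero
  have hprod : ∏ i, (2 * w' i) = D₀ := by
    rw [Finset.prod_mul_distrib, Finset.prod_const, Finset.card_univ, Fintype.card_fin,
      hw', Finset.prod_update_of_mem (Finset.mem_univ _)]
    simp only [Finset.prod_const_one, mul_one]
    rw [hd]
    field_simp
  obtain ⟨T, hT⟩ := hex w' hw'0 (by rw [hprod]; exact ⟨D₀, rfl⟩)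
  have h3 := pRankAtLeast_of_weights h2 (by rw [hκ]; exact hcard) w' hw'0
    (Finset.univ.erase i₁) j₀ (Finset.mem_erase.2 ⟨hij, Finset.mem_univ _⟩)
    (by
      intro k hk
      have hk' : k ≠ i₁ := (Finset.mem_erase.1 hk).1
      rw [hw', Function.update_of_ne hk', Function.update_of_ne hij]
      exact ⟨1, by ring⟩)
  rw [Finset.card_erase_of_mem (Finset.mem_univ _), Finset.card_univ, hκ] at h3
  have h4 := pRankAtLeast_of_mulEquiv (omegaIso T (⇑Q) (⇑(wssF w')) hT).symm 2 _ h3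
  have : Fintype.card ι - 1 - 1 = Fintype.card ι - 2 := by omega
  rw [this] at h4
  exact h4

theorem pRankAtLeast_Omega_odd [Fintype F] (Q : QuadraticForm F (ι → F)) (h2 : (2 : F) ≠ 0)
    (hcard : 2 ≤ Fintype.card ι) (hQ : (QuadraticMap.polarBilin Q).Nondegenerate)
    (hodd : Odd (Fintype.card ι)) :
    Cfsg.PRankAtLeast 2 (Fintype.card ι - 1) ↥(Cfsg.Omega F (⇑Q)) := by
  classical
  obtain ⟨D₀, hD₀, hex⟩ := exists_isometry_to_wss Q h2 hQ
  have hN : finrank F (ι → F) = Fintype.card ι := Module.finrank_fintype_fun_eq_card F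
  have hκ : Fintype.card (Fin (finrank F (ι → F))) = Fintype.card ι := by
    rw [Fintype.card_fin, hN]
  set j₀ : Fin (finrank F (ι → F)) := ⟨0, by rw [hN]; omega⟩ with hj₀
  set c : F := D₀ / 2 with hc
  have hc0 : c ≠ 0 := div_ne_zero hD₀ h2
  have hprod : ∏ _i : Fin (finrank F (ι → F)), (2 * c) = D₀ ^ (Fintype.card ι) := by
    rw [Finset.prod_const, Finset.card_univ, hκ, hc]
    congr 1
    field_simp
  obtain ⟨T, hT⟩ := hex (fun _ => c) (fun _ => hc0) (by
    rw [hprod, ← pow_succ']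
    obtain ⟨t, ht⟩ := hodd
    refine ⟨D₀ ^ (t + 1), ?_⟩
    rw [ht, ← pow_add]
    congr 1
    omega)
  have h3 := pRankAtLeast_of_weights h2 (by rw [hκ]; exact hcard) (fun _ => c) (fun _ => hc0)
    Finset.univ j₀ (Finset.mem_univ _) (fun k _ => ⟨c, rfl⟩)
  rw [Finset.card_univ, hκ] at h3
  exact pRankAtLeast_of_mulEquiv (omegaIso T (⇑Q) (⇑(wssF fun _ => c)) hT).symm 2 _ h3

theorem pRankAtLeast_Omega_even [Fintype F] (Q : QuadraticForm F (ι → F)) (h2 : (2 : F) ≠ 0)
    (hcard : 2 ≤ Fintype.card ι) (hQ : (QuadraticMap.polarBilin Q).Nondegenerate)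
    (hneg : ∃ g : ↥(Cfsg.isometryGroup F (⇑Q)), g ∈ Cfsg.Omega F (⇑Q) ∧
      ((g : GL ι F) : Matrix ι ι F) = -1) :
    Cfsg.PRankAtLeast 2 (Fintype.card ι - 1) ↥(Cfsg.Omega F (⇑Q)) := by
  classical
  obtain ⟨D₀, hD₀, hex⟩ := exists_isometry_to_wss Q h2 hQ
  have hN : finrank F (ι → F) = Fintype.card ι := Module.finrank_fintype_fun_eq_card F
  have hκ : Fintype.card (Fin (finrank F (ι → F))) = Fintype.card ι := by
    rw [Fintype.card_fin, hN]
  set i₁ : Fin (finrank F (ι → F)) := ⟨0, by rw [hN]; omega⟩ with hi₁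
  set d : F := D₀ / 2 ^ (finrank F (ι → F)) with hd
  have h2n : (2 : F) ^ (finrank F (ι → F)) ≠ 0 := pow_ne_zero _ h2
  have hd0 : d ≠ 0 := div_ne_zero hD₀ h2n
  set w' : Fin (finrank F (ι → F)) → F := Function.update (fun _ => (1 : F)) i₁ d with hw'
  have hw'0 : ∀ i, w' i ≠ 0 := by
    intro i
    by_cases hi : i = i₁
    · rw [hw', hi, Function.update_self]; exact hd0
    · rw [hw', Function.update_of_ne hi]; exact one_ne_zero
  have hprodw : ∏ i, w' i = d := by
    rw [hw', Finset.prod_update_of_mem (Finset.mem_univ _)]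
    simp
  have hprod : ∏ i, (2 * w' i) = D₀ := by
    rw [Finset.prod_mul_distrib, Finset.prod_const, Finset.card_univ, Fintype.card_fin, hprodw, hd]
    field_simp
  obtain ⟨T, hT⟩ := hex w' hw'0 (by rw [hprod]; exact ⟨D₀, rfl⟩)
  -- `-1 ∈ Ω` in the new coordinates
  obtain ⟨g, hgΩ, hgm⟩ := hneg
  have hg' : conjIso T (⇑Q) (⇑(wssF w')) hT g = dsign w' (fun _ => (-1 : ℤˣ)) := by
    apply Subtype.ext
    apply Units.ext
    rw [dsign_neg_one_val, conjIso_val_eq_neg_one_iff]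
    exact hgm
  have hmem : dsign w' (fun _ => (-1 : ℤˣ)) ∈ Cfsg.Omega F (⇑(wssF w')) := by
    rw [← hg', conjIso_mem_Omega_iff]
    exact hgΩ
  have hdsq : IsSquare d := by
    have := ((neg_one_mem_Omega_iff h2 (by rw [hκ]; exact hcard) w' hw'0).1 hmem).2
    rw [hprodw] at this
    exact this
  have h3 := pRankAtLeast_of_weights h2 (by rw [hκ]; exact hcard) w' hw'0
    Finset.univ i₁ (Finset.mem_univ _)
    (by
      intro k _
      by_cases hk : k = i₁
      · rw [hk]; exact ⟨w' i₁, rfl⟩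
      · rw [hw', Function.update_of_ne hk, Function.update_self, one_mul]
        exact hdsq)
  rw [Finset.card_univ, hκ] at h3
  exact pRankAtLeast_of_mulEquiv (omegaIso T (⇑Q) (⇑(wssF w')) hT).symm 2 _ h3

end tworank

end Cfsg.Agent.Lib.Helper44
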