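import Mathlib
import Cfsg.Prelude.Def_LieClassical
import Cfsg.Agent.Lib.Helper44.TwoRank
import Cfsg.Agent.Lib.Helper44.Levi

set_option autoImplicit false

namespace Cfsg.Agent.Lib.Helper44

open Module

section general
variable {F : Type*} [Field F] {ι : Type} [Fintype ι] [DecidableEq ι]

/-- the Gram matrix of the polar form in the standard basis -/
def gramStd (Q : (ι → F) → F) : Matrix ι ι F :=
  Matrix.of (fun i j : ι => QuadraticMap.polar Q (Pi.single i 1) (Pi.single j 1))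

theorem gramStd_apply (Q : (ι → F) → F) (i j : ι) :
    gramStd Q i j = QuadraticMap.polar Q (Pi.single i 1) (Pi.single j 1) := rfl

/-- the Gram determinant of `Q` is, up to a nonzero square, `∏ 2 w_i` if `Q` is isometric to
`Σ w_i x_i²` -/
theorem gramStd_det_of_isometry {κ : Type} [Fintype κ] [DecidableEq κ]
    (Q : QuadraticForm F (ι → F)) (w : κ → F)
    (T : (ι → F) ≃ₗ[F] (κ → F)) (hT : ∀ v, wssF w (T v) = Q v) :
    ∃ s : F, s ≠ 0 ∧ ∏ i, (2 * w i) = s * s * (gramStd (⇑Q)).det := by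
  have hQs : ∀ p : κ → F, Q (T.symm p) = wssF w p := by
    intro p
    rw [← hT, LinearEquiv.apply_symm_apply]
  have hb : LinearMap.BilinForm.toMatrix (Pi.basisFun F ι) (QuadraticMap.polarBilin Q) =
      gramStd (⇑Q) := by
    ext i j
    rw [LinearMap.BilinForm.toMatrix_apply, Pi.basisFun_apply, Pi.basisFun_apply]
    rfl
  have hpol : ∀ p q : κ → F,
      QuadraticMap.polar ⇑Q (T.symm p) (T.symm q) = QuadraticMap.polar (⇑(wssF w)) p q := by
    intro p q
    unfold QuadraticMap.polar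
    rw [← map_add, hQs, hQs, hQs]
  have hc : LinearMap.BilinForm.toMatrix ((Pi.basisFun F κ).map T.symm)
      (QuadraticMap.polarBilin Q) = Matrix.diagonal (fun i => 2 * w i) := by
    ext i j
    rw [LinearMap.BilinForm.toMatrix_apply, Module.Basis.map_apply, Module.Basis.map_apply,
      Pi.basisFun_apply, Pi.basisFun_apply]
    show QuadraticMap.polar ⇑Q (T.symm (Pi.single i 1)) (T.symm (Pi.single j 1)) = _
    rw [hpol, wssF_polar_single, Matrix.diagonal_apply]
    by_cases hij : i = j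
    · subst hij; simp
    · simp [hij]
  obtain ⟨s, hs0, hs⟩ := Cfsg.Agent.S2623.gram_change (QuadraticMap.polarBilin Q) (Pi.basisFun F ι)
    ((Pi.basisFun F κ).map T.symm)
  rw [hb, hc, Matrix.det_diagonal] at hs
  exact ⟨s, hs0, hs⟩

theorem gramStd_det_ne_zero (Q : QuadraticForm F (ι → F)) (h2 : (2 : F) ≠ 0)
    (hQ : (QuadraticMap.polarBilin Q).Nondegenerate) : (gramStd (⇑Q)).det ≠ 0 := by
  obtain ⟨w, hw, T, hT, -, -, -⟩ := exists_diag_of_elemAb Q h2 hQ ⊥
    (by
      intro a ha a' ha'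
      rw [Subgroup.mem_bot] at ha ha'
      rw [ha, ha'])
    (by
      intro a ha
      rw [Subgroup.mem_bot] at ha
      rw [ha, mul_one])
  obtain ⟨s, hs0, hs⟩ := gramStd_det_of_isometry Q w T hT
  intro h0
  rw [h0, mul_zero] at hs
  exact (Finset.prod_ne_zero_iff.2 (fun i _ => mul_ne_zero h2 (hw i))) hs

theorem toMatrix_basisFun_polarBilin (Q : QuadraticForm F (ι → F)) :
    LinearMap.BilinForm.toMatrix (Pi.basisFun F ι) (QuadraticMap.polarBilin Q) =
      gramStd (⇑Q) := by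
  ext i j
  rw [LinearMap.BilinForm.toMatrix_apply, Pi.basisFun_apply, Pi.basisFun_apply]
  rfl

theorem nondeg_iff_gramStd_det_ne_zero (Q : QuadraticForm F (ι → F)) :
    (QuadraticMap.polarBilin Q).Nondegenerate ↔ (gramStd (⇑Q)).det ≠ 0 := by
  rw [LinearMap.nondegenerate_iff_det_ne_zero (Pi.basisFun F ι),
    show LinearMap.toMatrix₂ (Pi.basisFun F ι) (Pi.basisFun F ι) (QuadraticMap.polarBilin Q) =
      gramStd (⇑Q) from toMatrix_basisFun_polarBilin Q]

/-- `-1 ∈ Ω(Q)` iff the discriminant is a square (even dimension, odd characteristic, finite field) -/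
theorem neg_one_mem_Omega_iff_isSquare_gram [Fintype F] (Q : QuadraticForm F (ι → F))
    (h2 : (2 : F) ≠ 0) (hcard : 2 ≤ Fintype.card ι) (he : Even (Fintype.card ι))
    (hQ : (QuadraticMap.polarBilin Q).Nondegenerate) :
    (∃ g : ↥(Cfsg.isometryGroup F (⇑Q)), g ∈ Cfsg.Omega F (⇑Q) ∧
      ((g : GL ι F) : Matrix ι ι F) = -1) ↔ IsSquare (gramStd (⇑Q)).det := by
  classical
  obtain ⟨w, hw, T, hT, -, -, -⟩ := exists_diag_of_elemAb Q h2 hQ ⊥
    (by
      intro a ha a' ha'
      rw [Subgroup.mem_bot] at ha ha'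
      rw [ha, ha'])
    (by
      intro a ha
      rw [Subgroup.mem_bot] at ha
      rw [ha, mul_one])
  have hN : finrank F (ι → F) = Fintype.card ι := Module.finrank_fintype_fun_eq_card F
  have hκ : Fintype.card (Fin (finrank F (ι → F))) = Fintype.card ι := by
    rw [Fintype.card_fin, hN]
  have hcrit := neg_one_mem_Omega_iff h2 (by rw [hκ]; exact hcard) w hw
  rw [hκ] at hcrit
  obtain ⟨s, hs0, hs⟩ := gramStd_det_of_isometry Q w T hT
  rw [Finset.prod_mul_distrib, Finset.prod_const, Finset.card_univ, hκ] at hs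
  obtain ⟨m, hm⟩ := he
  have h2m : (2 : F) ^ m ≠ 0 := pow_ne_zero _ h2
  have h2n : (2 : F) ^ (Fintype.card ι) = 2 ^ m * 2 ^ m := by rw [hm, pow_add]
  rw [h2n] at hs
  have hgram : IsSquare (gramStd (⇑Q)).det ↔ IsSquare (∏ i, w i) := by
    constructor
    · rintro ⟨r, hr⟩
      refine ⟨s * r / 2 ^ m, ?_⟩
      rw [hr] at hs
      field_simp
      linear_combination hs
    · rintro ⟨r, hr⟩
      refine ⟨2 ^ m * r / s, ?_⟩
      rw [hr] at hs
      field_simp
      linear_combination -hs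
  rw [hgram]
  constructor
  · rintro ⟨g, hgΩ, hgm⟩
    have hg' : conjIso T (⇑Q) (⇑(wssF w)) hT g = dsign w (fun _ => (-1 : ℤˣ)) := by
      apply Subtype.ext
      apply Units.ext
      rw [dsign_neg_one_val, conjIso_val_eq_neg_one_iff]
      exact hgm
    have hmem : dsign w (fun _ => (-1 : ℤˣ)) ∈ Cfsg.Omega F (⇑(wssF w)) := by
      rw [← hg', conjIso_mem_Omega_iff]
      exact hgΩ
    exact (hcrit.1 hmem).2
  · intro hsq
    have hmem : dsign w (fun _ => (-1 : ℤˣ)) ∈ Cfsg.Omega F (⇑(wssF w)) :=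
      hcrit.2 ⟨⟨m, hm⟩, hsq⟩
    refine ⟨(conjIso T (⇑Q) (⇑(wssF w)) hT).symm (dsign w (fun _ => (-1 : ℤˣ))), ?_, ?_⟩
    · rw [← conjIso_mem_Omega_iff T (⇑Q) (⇑(wssF w)) hT, MulEquiv.apply_symm_apply]
      exact hmem
    · rw [← conjIso_val_eq_neg_one_iff T (⇑Q) (⇑(wssF w)) hT, MulEquiv.apply_symm_apply,
        dsign_neg_one_val]

end general

section minusqf
variable (m : ℕ) (F : Type*) [Field F] (a b : F)

/-- the form `Σ x_i y_i + (z₁² + a z₁ z₂ + b z₂²)` as a `QuadraticForm` -/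
noncomputable def minusQF : QuadraticForm F ((Fin m ⊕ Fin m) ⊕ Fin 2 → F) :=
  (∑ i : Fin m, QuadraticMap.proj (Sum.inl (Sum.inl i)) (Sum.inl (Sum.inr i))) +
    (QuadraticMap.proj (Sum.inr 0) (Sum.inr 0) + a • QuadraticMap.proj (Sum.inr 0) (Sum.inr 1) +
      b • QuadraticMap.proj (Sum.inr 1) (Sum.inr 1))

theorem minusQF_coe : ⇑(minusQF m F a b) = Cfsg.quadFormMinus m F a b := by
  funext v
  unfold minusQF Cfsg.quadFormMinus
  rw [add_apply, sum_apply]
  simp [sq]
  ring

theorem minusQF_polar (u v : (Fin m ⊕ Fin m) ⊕ Fin 2 → F) :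
    QuadraticMap.polar (⇑(minusQF m F a b)) u v =
      (∑ i : Fin m, (u (Sum.inl (Sum.inl i)) * v (Sum.inl (Sum.inr i)) +
        v (Sum.inl (Sum.inl i)) * u (Sum.inl (Sum.inr i)))) +
      (2 * u (Sum.inr 0) * v (Sum.inr 0) +
        a * (u (Sum.inr 0) * v (Sum.inr 1) + u (Sum.inr 1) * v (Sum.inr 0)) +
        2 * b * u (Sum.inr 1) * v (Sum.inr 1)) := by
  rw [minusQF_coe]
  unfold QuadraticMap.polar Cfsg.quadFormMinus
  have : ∀ a b c d e f : F, (a + b) - (c + d) - (e + f) = (a - c - e) + (b - d - f) := by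
    intros; ring
  rw [this, ← Finset.sum_sub_distrib, ← Finset.sum_sub_distrib]
  congr 1
  · apply Finset.sum_congr rfl
    intro i _
    simp only [Pi.add_apply]
    ring
  · simp only [Pi.add_apply]; ring

/-- the hyperbolic part of the polar form -/
theorem minusQF_polar_inl_inl (u v : Fin m ⊕ Fin m → F) :
    QuadraticMap.polar (⇑(minusQF m F a b)) (Sum.elim u 0) (Sum.elim v 0) =
      QuadraticMap.polar (⇑(hypQF m F)) u v := by
  rw [minusQF_polar, hypQF_polar, hypBil_apply]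
  simp

theorem minusQF_polar_inl_inr (u : Fin m ⊕ Fin m → F) (z : Fin 2 → F) :
    QuadraticMap.polar (⇑(minusQF m F a b)) (Sum.elim u 0) (Sum.elim 0 z) = 0 := by
  rw [minusQF_polar]
  simp

theorem minusQF_polar_inr_inl (u : Fin m ⊕ Fin m → F) (z : Fin 2 → F) :
    QuadraticMap.polar (⇑(minusQF m F a b)) (Sum.elim 0 z) (Sum.elim u 0) = 0 := by
  rw [minusQF_polar]
  simp

theorem minusQF_polar_inr_inr (z z' : Fin 2 → F) :
    QuadraticMap.polar (⇑(minusQF m F a b)) (Sum.elim 0 z) (Sum.elim 0 z') =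
      2 * z 0 * z' 0 + a * (z 0 * z' 1 + z 1 * z' 0) + 2 * b * z 1 * z' 1 := by
  rw [minusQF_polar]
  simp

theorem gramStd_minusQF :
    gramStd (⇑(minusQF m F a b)) =
      Matrix.fromBlocks (gramStd (⇑(hypQF m F))) 0 0 (!![2, a; a, 2 * b]) := by
  ext i j
  rw [gramStd_apply]
  rcases i with i | i <;> rcases j with j | j
  · rw [Matrix.fromBlocks_apply₁₁, gramStd_apply, ← Sum.elim_single_zero, ← Sum.elim_single_zero,
      minusQF_polar_inl_inl]
  · rw [Matrix.fromBlocks_apply₁₂, ← Sum.elim_single_zero, ← Sum.elim_zero_single,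
      minusQF_polar_inl_inr]
    rfl
  · rw [Matrix.fromBlocks_apply₂₁, ← Sum.elim_single_zero, ← Sum.elim_zero_single,
      minusQF_polar_inr_inl]
    rfl
  · rw [Matrix.fromBlocks_apply₂₂, ← Sum.elim_zero_single, ← Sum.elim_zero_single,
      minusQF_polar_inr_inr]
    fin_cases i <;> fin_cases j <;> simp

theorem gramStd_minusQF_det :
    (gramStd (⇑(minusQF m F a b))).det = (gramStd (⇑(hypQF m F))).det * (4 * b - a * a) := by
  rw [gramStd_minusQF, Matrix.det_fromBlocks_zero₂₁, Matrix.det_fin_two_of]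
  ring

end minusqf

end Cfsg.Agent.Lib.Helper44
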