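import Mathlib
import Cfsg.Agent.S0795
import Cfsg.Agent.Lib.Helper36.DicksonAbs

set_option autoImplicit false

/-!
# Eichler (Siegel) transformations, abstractly

`E(p,w) z = z + (f(w,z) - Q(w) f(p,z)) p - f(p,z) w` for `p` singular and `w ⊥ p`
(helper13's `siegelLin`).  We define the subgroup `KE Q` of the abstract isometry group
`isoGroup Q` (helper36) generated by them, and prove basic facts in any characteristic.
-/

namespace Cfsg.Agent.Lib.Helper44

open Cfsg.Agent.Lib.Helper13 hiding isoGroup mem_isoGroup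
open Cfsg.Agent.Lib.Helper36 Module

section eichler
variable {F V : Type*} [Field F] [AddCommGroup V] [Module F V]

local notation "pol" => QuadraticMap.polar

theorem siegelLin_zero (Q : QuadraticForm F V) (p z : V) (hp : Q p = 0) :
    siegelLin Q p 0 z = z := by
  have h := siegel_smul_self Q p 0 hp z
  rwa [zero_smul] at h

/-- Eichler transformation as a linear equivalence. -/
noncomputable def eich (Q : QuadraticForm F V) (p w : V) (hp : Q p = 0)
    (hpw : pol (⇑Q) p w = 0) : V ≃ₗ[F] V :=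
  LinearEquiv.ofLinearMap (siegelLin Q p w) (siegelLin Q p (-w))
    (by
      apply LinearMap.ext
      intro z
      rw [LinearMap.comp_apply, ← siegel_add Q p w (-w) hp hpw
        (by rw [QuadraticMap.polar_neg_right, hpw, neg_zero]), add_neg_cancel,
        siegelLin_zero Q p z hp]
      rfl)
    (by
      apply LinearMap.ext
      intro z
      rw [LinearMap.comp_apply, ← siegel_add Q p (-w) w hp
        (by rw [QuadraticMap.polar_neg_right, hpw, neg_zero]) hpw, neg_add_cancel,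
        siegelLin_zero Q p z hp]
      rfl)

theorem eich_apply (Q : QuadraticForm F V) (p w : V) (hp : Q p = 0)
    (hpw : pol (⇑Q) p w = 0) (z : V) : eich Q p w hp hpw z = siegelLin Q p w z := rfl

theorem eich_mem_isoGroup (Q : QuadraticForm F V) (p w : V) (hp : Q p = 0)
    (hpw : pol (⇑Q) p w = 0) : eich Q p w hp hpw ∈ isoGroup Q := by
  rw [mem_isoGroup]
  intro z
  rw [eich_apply, siegelLin_isom Q p w hp hpw]

/-- Eichler transformation as an element of the isometry group. -/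
noncomputable def eichG (Q : QuadraticForm F V) (p w : V) (hp : Q p = 0)
    (hpw : pol (⇑Q) p w = 0) : ↥(isoGroup Q) := ⟨eich Q p w hp hpw, eich_mem_isoGroup Q p w hp hpw⟩

theorem eichG_apply (Q : QuadraticForm F V) (p w : V) (hp : Q p = 0)
    (hpw : pol (⇑Q) p w = 0) (z : V) :
    ((eichG Q p w hp hpw : ↥(isoGroup Q)) : V ≃ₗ[F] V) z = siegelLin Q p w z := rfl

/-- extensionality for elements of the isometry group -/
theorem isoGroup_ext {Q : QuadraticForm F V} {g h : ↥(isoGroup Q)}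
    (H : ∀ z, (g : V ≃ₗ[F] V) z = (h : V ≃ₗ[F] V) z) : g = h :=
  Subtype.ext (LinearEquiv.ext H)

theorem isoG_mul_apply {Q : QuadraticForm F V} (g h : ↥(isoGroup Q)) (z : V) :
    ((g * h : ↥(isoGroup Q)) : V ≃ₗ[F] V) z = (g : V ≃ₗ[F] V) ((h : V ≃ₗ[F] V) z) := rfl

theorem isoG_one_apply {Q : QuadraticForm F V} (z : V) :
    ((1 : ↥(isoGroup Q)) : V ≃ₗ[F] V) z = z := rfl

theorem isoG_inv_apply {Q : QuadraticForm F V} (g : ↥(isoGroup Q)) (z : V) :
    (g : V ≃ₗ[F] V) (((g⁻¹ : ↥(isoGroup Q)) : V ≃ₗ[F] V) z) = z := by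
  rw [← isoG_mul_apply, mul_inv_cancel]
  rfl

theorem isoG_inv_apply' {Q : QuadraticForm F V} (g : ↥(isoGroup Q)) (z : V) :
    ((g⁻¹ : ↥(isoGroup Q)) : V ≃ₗ[F] V) ((g : V ≃ₗ[F] V) z) = z := by
  rw [← isoG_mul_apply, inv_mul_cancel]
  rfl

theorem isoG_Q {Q : QuadraticForm F V} (g : ↥(isoGroup Q)) (z : V) :
    Q ((g : V ≃ₗ[F] V) z) = Q z := g.2 z

theorem isoG_pol {Q : QuadraticForm F V} (g : ↥(isoGroup Q)) (x y : V) :
    pol (⇑Q) ((g : V ≃ₗ[F] V) x) ((g : V ≃ₗ[F] V) y) = pol (⇑Q) x y :=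
  polar_isoGroup Q g g.2 x y

theorem isoG_pol_inv {Q : QuadraticForm F V} (g : ↥(isoGroup Q)) (x y : V) :
    pol (⇑Q) x (((g⁻¹ : ↥(isoGroup Q)) : V ≃ₗ[F] V) y) = pol (⇑Q) ((g : V ≃ₗ[F] V) x) y := by
  rw [← isoG_pol g x, isoG_inv_apply]

/-- the set of Eichler transformations -/
def EichSet (Q : QuadraticForm F V) : Set ↥(isoGroup Q) :=
  {g | ∃ (p w : V), Q p = 0 ∧ pol (⇑Q) p w = 0 ∧ ∀ z, (g : V ≃ₗ[F] V) z = siegelLin Q p w z}

/-- the group generated by the Eichler transformations -/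
def KE (Q : QuadraticForm F V) : Subgroup ↥(isoGroup Q) := Subgroup.closure (EichSet Q)

theorem eichG_mem_EichSet (Q : QuadraticForm F V) (p w : V) (hp : Q p = 0)
    (hpw : pol (⇑Q) p w = 0) : eichG Q p w hp hpw ∈ EichSet Q :=
  ⟨p, w, hp, hpw, fun _ => rfl⟩

theorem eichG_mem_KE (Q : QuadraticForm F V) (p w : V) (hp : Q p = 0)
    (hpw : pol (⇑Q) p w = 0) : eichG Q p w hp hpw ∈ KE Q :=
  Subgroup.subset_closure (eichG_mem_EichSet Q p w hp hpw)

/-- conjugation of Eichler transformations -/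
theorem conj_eich (Q : QuadraticForm F V) (g : ↥(isoGroup Q)) (p w z : V) :
    (g : V ≃ₗ[F] V) (siegelLin Q p w (((g⁻¹ : ↥(isoGroup Q)) : V ≃ₗ[F] V) z)) =
      siegelLin Q ((g : V ≃ₗ[F] V) p) ((g : V ≃ₗ[F] V) w) z := by
  rw [siegelLin_apply, siegelLin_apply, map_sub, map_add, map_smul, map_smul, isoG_inv_apply,
    isoG_pol_inv, isoG_pol_inv, isoG_Q]

theorem conj_eichG (Q : QuadraticForm F V) (g : ↥(isoGroup Q)) (p w : V) (hp : Q p = 0)
    (hpw : pol (⇑Q) p w = 0) :
    g * eichG Q p w hp hpw * g⁻¹ =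
      eichG Q ((g : V ≃ₗ[F] V) p) ((g : V ≃ₗ[F] V) w) (by rw [isoG_Q, hp])
        (by rw [isoG_pol, hpw]) := by
  apply isoGroup_ext
  intro z
  rw [isoG_mul_apply, isoG_mul_apply, eichG_apply, eichG_apply, conj_eich]

theorem KE_normal (Q : QuadraticForm F V) : (KE Q).Normal := by
  constructor
  intro k hk h
  unfold KE at hk ⊢
  induction hk using Subgroup.closure_induction with
  | mem k hk =>
    obtain ⟨p, w, hp, hpw, hk⟩ := hk
    apply Subgroup.subset_closure
    refine ⟨(h : V ≃ₗ[F] V) p, (h : V ≃ₗ[F] V) w, by rw [isoG_Q, hp], by rw [isoG_pol, hpw], ?_⟩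
    intro z
    rw [isoG_mul_apply, isoG_mul_apply, hk, conj_eich]
  | one => simp
  | mul a b _ _ ha hb =>
    have : h * (a * b) * h⁻¹ = (h * a * h⁻¹) * (h * b * h⁻¹) := by group
    rw [this]
    exact Subgroup.mul_mem _ ha hb
  | inv a _ ha =>
    have : h * a⁻¹ * h⁻¹ = (h * a * h⁻¹)⁻¹ := by group
    rw [this]
    exact Subgroup.inv_mem _ ha

theorem eichG_add (Q : QuadraticForm F V) (p w₁ w₂ : V) (hp : Q p = 0)
    (h1 : pol (⇑Q) p w₁ = 0) (h2 : pol (⇑Q) p w₂ = 0) :
    eichG Q p (w₁ + w₂) hp (by rw [QuadraticMap.polar_add_right, h1, h2, add_zero]) =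
      eichG Q p w₁ hp h1 * eichG Q p w₂ hp h2 := by
  apply isoGroup_ext
  intro z
  rw [isoG_mul_apply, eichG_apply, eichG_apply, eichG_apply, siegel_add Q p w₁ w₂ hp h1 h2]

theorem eichG_zero (Q : QuadraticForm F V) (p : V) (hp : Q p = 0) :
    eichG Q p 0 hp (by rw [QuadraticMap.polar_zero_right]) = 1 := by
  apply isoGroup_ext
  intro z
  rw [eichG_apply, siegelLin_zero Q p z hp]
  rfl

theorem eichG_comm (Q : QuadraticForm F V) (p w₁ w₂ : V) (hp : Q p = 0)
    (h1 : pol (⇑Q) p w₁ = 0) (h2 : pol (⇑Q) p w₂ = 0) :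
    eichG Q p w₁ hp h1 * eichG Q p w₂ hp h2 = eichG Q p w₂ hp h2 * eichG Q p w₁ hp h1 := by
  rw [← eichG_add, ← eichG_add]
  congr 1
  exact add_comm _ _

/-- rescaling the singular vector -/
theorem siegelLin_smul_left (Q : QuadraticForm F V) (p w : V) (c : F) (z : V) :
    siegelLin Q (c • p) w z = siegelLin Q p (c • w) z := by
  rw [siegelLin_apply, siegelLin_apply, QuadraticMap.map_smul]
  simp only [QuadraticMap.polar_smul_left, smul_eq_mul]
  match_scalars <;> ring

end eichler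

end Cfsg.Agent.Lib.Helper44
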