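import Mathlib
import Cfsg.Agent.Lib.Helper44.Eichler

set_option autoImplicit false
set_option linter.unusedSimpArgs false
set_option linter.unusedVariables false

/-!
# Geometry for Eichler transformations: transitivity, perfectness
-/

namespace Cfsg.Agent.Lib.Helper44

open Cfsg.Agent.Lib.Helper13 hiding isoGroup mem_isoGroup
open Cfsg.Agent.Lib.Helper36 Module
open scoped commutatorElement

section geom
variable {F V : Type*} [Field F] [AddCommGroup V] [Module F V]

local notation "pol" => QuadraticMap.polar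

/-- two independent vectors have "dual" vectors -/
theorem dual2 (Q : QuadraticForm F V) (hQ : (QuadraticMap.polarBilin Q).Nondegenerate)
    (t x : V) (ht : t ≠ 0) (hx : ∀ c : F, x ≠ c • t) (α β : F) :
    ∃ y, pol (⇑Q) t y = α ∧ pol (⇑Q) x y = β := by
  obtain ⟨z, hz⟩ := Cfsg.Agent.S0795.exists_dual Q hQ t ht
  have hx1 : x - pol (⇑Q) x z • t ≠ 0 := by
    intro h
    exact hx _ (sub_eq_zero.1 h)
  obtain ⟨z1, hz1⟩ := Cfsg.Agent.S0795.exists_dual Q hQ _ hx1
  rw [QuadraticMap.polar_sub_left, QuadraticMap.polar_smul_left, smul_eq_mul] at hz1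
  set yx := z1 - pol (⇑Q) t z1 • z with hyx
  have h1 : pol (⇑Q) t yx = 0 := by
    rw [hyx, QuadraticMap.polar_sub_right, QuadraticMap.polar_smul_right, hz]
    simp
  have h2 : pol (⇑Q) x yx = 1 := by
    rw [hyx, QuadraticMap.polar_sub_right, QuadraticMap.polar_smul_right, smul_eq_mul]
    linear_combination hz1
  set yt := z - pol (⇑Q) x z • yx with hyt
  have h3 : pol (⇑Q) t yt = 1 := by
    rw [hyt, QuadraticMap.polar_sub_right, QuadraticMap.polar_smul_right, hz, h1]
    simp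
  have h4 : pol (⇑Q) x yt = 0 := by
    rw [hyt, QuadraticMap.polar_sub_right, QuadraticMap.polar_smul_right, h2]
    simp
  refine ⟨α • yt + β • yx, ?_, ?_⟩
  · rw [QuadraticMap.polar_add_right, QuadraticMap.polar_smul_right, QuadraticMap.polar_smul_right,
      h3, h1]
    simp
  · rw [QuadraticMap.polar_add_right, QuadraticMap.polar_smul_right, QuadraticMap.polar_smul_right,
      h4, h2]
    simp

theorem pol_self_of_sing (Q : QuadraticForm F V) (t : V) (ht : Q t = 0) : pol (⇑Q) t t = 0 := by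
  rw [polar_self', ht, mul_zero]

/-- make a vector singular by subtracting a multiple of a singular vector it pairs to 1 with -/
theorem Q_sub_smul_one (Q : QuadraticForm F V) (y t : V) (ht : Q t = 0)
    (hty : pol (⇑Q) t y = 1) : Q (y - Q y • t) = 0 := by
  rw [Q_sub, QuadraticMap.map_smul, ht, QuadraticMap.polar_smul_right,
    QuadraticMap.polar_comm (⇑Q) y t, hty]
  simp

/-- a singular vector pairing to `1` with both of two orthogonal independent singular vectors -/
theorem exists_sing_dual2 (Q : QuadraticForm F V) (hQ : (QuadraticMap.polarBilin Q).Nondegenerate)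
    (t x : V) (ht : t ≠ 0) (hx : ∀ c : F, x ≠ c • t) (hQt : Q t = 0) (htx : pol (⇑Q) t x = 0) :
    ∃ y, Q y = 0 ∧ pol (⇑Q) t y = 1 ∧ pol (⇑Q) x y = 1 := by
  obtain ⟨y0, h1, h2⟩ := dual2 Q hQ t x ht hx 1 1
  refine ⟨y0 - Q y0 • t, Q_sub_smul_one Q y0 t hQt h1, ?_, ?_⟩
  · rw [QuadraticMap.polar_sub_right, QuadraticMap.polar_smul_right, pol_self_of_sing Q t hQt, h1]
    simp
  · rw [QuadraticMap.polar_sub_right, QuadraticMap.polar_smul_right,
      QuadraticMap.polar_comm (⇑Q) x t, htx, h2]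
    simp

/-- a singular partner of `r` orthogonal to `p` -/
theorem exists_sing_partner_perp (Q : QuadraticForm F V)
    (hQ : (QuadraticMap.polarBilin Q).Nondegenerate)
    (r p : V) (hr : r ≠ 0) (hp : ∀ c : F, p ≠ c • r) (hQr : Q r = 0) (hrp : pol (⇑Q) r p = 0) :
    ∃ e, Q e = 0 ∧ pol (⇑Q) r e = 1 ∧ pol (⇑Q) p e = 0 := by
  obtain ⟨y0, h1, h2⟩ := dual2 Q hQ r p hr hp 1 0
  refine ⟨y0 - Q y0 • r, Q_sub_smul_one Q y0 r hQr h1, ?_, ?_⟩
  · rw [QuadraticMap.polar_sub_right, QuadraticMap.polar_smul_right, pol_self_of_sing Q r hQr, h1]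
    simp
  · rw [QuadraticMap.polar_sub_right, QuadraticMap.polar_smul_right,
      QuadraticMap.polar_comm (⇑Q) p r, hrp, h2]
    simp

/-- In dimension at least 7, the orthogonal complement of two independent mutually orthogonal
isotropic vectors contains a hyperbolic pair. -/
theorem hyp_in_perp2 [Finite F] [FiniteDimensional F V] (Q : QuadraticForm F V)
    (hQ : (QuadraticMap.polarBilin Q).Nondegenerate) (h7 : 7 ≤ finrank F V) (d₁ d₂ : V)
    (hd₁ : d₁ ≠ 0) (hd₂ : ∀ c : F, d₂ ≠ c • d₁) (h11 : pol (⇑Q) d₁ d₁ = 0)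
    (h22 : pol (⇑Q) d₂ d₂ = 0) (h12 : pol (⇑Q) d₁ d₂ = 0) :
    ∃ p p' : V, Q p = 0 ∧ Q p' = 0 ∧ pol (⇑Q) p p' = 1 ∧ pol (⇑Q) d₁ p = 0 ∧ pol (⇑Q) d₂ p = 0 ∧
      pol (⇑Q) d₁ p' = 0 ∧ pol (⇑Q) d₂ p' = 0 := by
  have h21 : pol (⇑Q) d₂ d₁ = 0 := by rw [QuadraticMap.polar_comm]; exact h12
  obtain ⟨e₁, he11, he21⟩ := dual2 Q hQ d₁ d₂ hd₁ hd₂ 1 0
  obtain ⟨e₂, he12, he22⟩ := dual2 Q hQ d₁ d₂ hd₁ hd₂ 0 1
  set φ : V →ₗ[F] (F × F) × (F × F) :=
    ((QuadraticMap.polarBilin Q d₁).prod (QuadraticMap.polarBilin Q d₂)).prod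
      ((QuadraticMap.polarBilin Q e₁).prod (QuadraticMap.polarBilin Q e₂)) with hφ
  have hker : 3 ≤ finrank F (LinearMap.ker φ) := by
    have h1 := LinearMap.finrank_range_add_finrank_ker φ
    have h2 : finrank F (LinearMap.range φ) ≤ 4 := by
      have := Submodule.finrank_le (LinearMap.range φ)
      rw [Module.finrank_prod, Module.finrank_prod, Module.finrank_self] at this
      exact this
    omega
  obtain ⟨p0, hp0, hQp0⟩ := exists_isotropic (Q.comp (LinearMap.ker φ).subtype) hker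
  obtain ⟨p, hp⟩ : ∃ p : V, p = (p0 : V) := ⟨_, rfl⟩
  have hpne : p ≠ 0 := by
    intro h
    apply hp0
    apply Subtype.ext
    rw [← hp]; exact h
  have hQp : Q p = 0 := by rw [hp]; exact hQp0
  have hpmem : φ p = 0 := by rw [hp]; exact LinearMap.mem_ker.1 p0.2
  have hd1p : pol (⇑Q) d₁ p = 0 := (Prod.ext_iff.1 (Prod.ext_iff.1 hpmem).1).1
  have hd2p : pol (⇑Q) d₂ p = 0 := (Prod.ext_iff.1 (Prod.ext_iff.1 hpmem).1).2
  have he1p : pol (⇑Q) e₁ p = 0 := (Prod.ext_iff.1 (Prod.ext_iff.1 hpmem).2).1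
  have he2p : pol (⇑Q) e₂ p = 0 := (Prod.ext_iff.1 (Prod.ext_iff.1 hpmem).2).2
  obtain ⟨y0, hy0⟩ := Cfsg.Agent.S0795.exists_dual Q hQ p hpne
  set y := y0 - pol (⇑Q) d₁ y0 • e₁ - pol (⇑Q) d₂ y0 • e₂ with hy
  have hd1y : pol (⇑Q) d₁ y = 0 := by
    rw [hy, QuadraticMap.polar_sub_right, QuadraticMap.polar_sub_right,
      QuadraticMap.polar_smul_right, QuadraticMap.polar_smul_right, he11, he12]
    simp
  have hd2y : pol (⇑Q) d₂ y = 0 := by
    rw [hy, QuadraticMap.polar_sub_right, QuadraticMap.polar_sub_right,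
      QuadraticMap.polar_smul_right, QuadraticMap.polar_smul_right, he21, he22]
    simp
  have hpy : pol (⇑Q) p y = 1 := by
    rw [hy, QuadraticMap.polar_sub_right, QuadraticMap.polar_sub_right,
      QuadraticMap.polar_smul_right, QuadraticMap.polar_smul_right,
      QuadraticMap.polar_comm (⇑Q) p e₁, QuadraticMap.polar_comm (⇑Q) p e₂, he1p, he2p, hy0]
    simp
  refine ⟨p, y - Q y • p, hQp, Q_sub_smul_one Q y p hQp hpy, ?_, hd1p, hd2p, ?_, ?_⟩
  · rw [QuadraticMap.polar_sub_right, QuadraticMap.polar_smul_right, pol_self_of_sing Q p hQp, hpy]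
    simp
  · rw [QuadraticMap.polar_sub_right, QuadraticMap.polar_smul_right, hd1y, hd1p]
    simp
  · rw [QuadraticMap.polar_sub_right, QuadraticMap.polar_smul_right, hd2y, hd2p]
    simp

/-- transitivity step (abstract version of helper14's `KS_trans_indep`) -/
theorem KE_trans_indep [Finite F] [FiniteDimensional F V] (Q : QuadraticForm F V)
    (hQ : (QuadraticMap.polarBilin Q).Nondegenerate) (h5 : 5 ≤ finrank F V)
    (a a' : V) (haa : Q a = Q a') (hind : ∀ l : F, a ≠ l • (a' - a)) (hne : a' - a ≠ 0) :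
    ∃ k ∈ KE Q, (k : V ≃ₗ[F] V) a = a' := by
  obtain ⟨d, hd⟩ : ∃ d, d = a' - a := ⟨_, rfl⟩
  rw [← hd] at hind hne
  have ha' : a' = a + d := by rw [hd]; abel
  obtain ⟨u, hQu, hdu, hau⟩ := Cfsg.Agent.S0795.exists_sing_perp_not_perp Q hQ h5 d a hne hind
  obtain ⟨p, hQp, hpd, hpa⟩ : ∃ p, Q p = 0 ∧ pol (⇑Q) p d = 0 ∧ pol (⇑Q) p a = 1 := by
    refine ⟨(pol (⇑Q) a u)⁻¹ • u, ?_, ?_, ?_⟩
    · rw [QuadraticMap.map_smul, hQu, smul_zero]
    · rw [QuadraticMap.polar_smul_left, QuadraticMap.polar_comm (⇑Q) u d, hdu, smul_zero]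
    · rw [QuadraticMap.polar_smul_left, QuadraticMap.polar_comm (⇑Q) u a, smul_eq_mul,
        inv_mul_cancel₀ hau]
  have hpd' : pol (⇑Q) p (-d) = 0 := by rw [QuadraticMap.polar_neg_right, hpd, neg_zero]
  refine ⟨eichG Q p (-d) hQp hpd', eichG_mem_KE Q p (-d) hQp hpd', ?_⟩
  have hQd : pol (⇑Q) d a + Q d = 0 := by
    have h1 : Q a' = Q a + Q d + pol (⇑Q) a d := by rw [ha', Q_add']
    rw [← haa] at h1
    rw [QuadraticMap.polar_comm (⇑Q) d a]
    linear_combination -h1
  rw [eichG_apply, siegelLin_apply, QuadraticMap.polar_neg_left, QuadraticMap.map_neg, hpa,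
    mul_one, ha']
  have : -pol (⇑Q) d a - Q d = 0 := by linear_combination -hQd
  rw [this]
  simp

/-- `KE` is transitive on non-zero singular vectors up to scalars (in fact on independent ones) -/
theorem KE_trans_sing [Finite F] [FiniteDimensional F V] (Q : QuadraticForm F V)
    (hQ : (QuadraticMap.polarBilin Q).Nondegenerate) (h5 : 5 ≤ finrank F V)
    (a a' : V) (ha : a ≠ 0) (hQa : Q a = 0) (hQa' : Q a' = 0) (hind : ∀ c : F, a' ≠ c • a) :
    ∃ k ∈ KE Q, (k : V ≃ₗ[F] V) a = a' := by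
  apply KE_trans_indep Q hQ h5 a a' (by rw [hQa, hQa'])
  · intro l hl
    have hl0 : l ≠ 0 := by
      intro h
      rw [h, zero_smul] at hl
      exact ha hl
    apply hind ((1 + l) / l)
    have h1 : l • a' = (1 + l) • a := by
      rw [add_smul, one_smul]
      rw [smul_sub, eq_sub_iff_add_eq] at hl
      exact hl.symm
    rw [div_eq_inv_mul, mul_smul, ← h1, smul_smul, inv_mul_cancel₀ hl0, one_smul]
  · intro h
    apply hind 1
    rw [one_smul]
    exact sub_eq_zero.1 h

/-- the unipotent radical at `t` is transitive on singular vectors pairing to 1 with `t` -/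
theorem eich_trans_opp (Q : QuadraticForm F V) (t s s' : V) (hs : Q s = 0)
    (hs' : Q s' = 0) (hts : pol (⇑Q) t s = 1) (hts' : pol (⇑Q) t s' = 1) :
    siegelLin Q t (s - s') s = s' := by
  have hss : pol (⇑Q) s s = 0 := pol_self_of_sing Q s hs
  rw [siegelLin_apply, Q_sub, hs, hs', hts, QuadraticMap.polar_sub_left, hss,
    QuadraticMap.polar_comm (⇑Q) s' s]
  match_scalars <;> ring

/-- Eichler transformation with non-singular `w` moves `r` to a non-orthogonal vector -/
theorem eich_move (Q : QuadraticForm F V) (e w r : V) (hr : Q r = 0) (her : pol (⇑Q) e r = 1) :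
    pol (⇑Q) r (siegelLin Q e w r) = - Q w := by
  have hrr : pol (⇑Q) r r = 0 := pol_self_of_sing Q r hr
  rw [siegelLin_apply, her, QuadraticMap.polar_sub_right, QuadraticMap.polar_add_right,
    QuadraticMap.polar_smul_right, QuadraticMap.polar_smul_right, hrr,
    QuadraticMap.polar_comm (⇑Q) r e, her, QuadraticMap.polar_comm (⇑Q) r w]
  simp only [smul_eq_mul]
  ring

/-- the commutator formula: `E(p,s) = [E(w,-s), E(p,w')]` for a hyperbolic pair `(w,w')`
orthogonal to the singular orthogonal vectors `p, s`. -/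
theorem eich_commutator (Q : QuadraticForm F V) (p s w w' : V) (hp : Q p = 0) (hs : Q s = 0)
    (hw : Q w = 0) (hw' : Q w' = 0) (hps : pol (⇑Q) p s = 0) (hww' : pol (⇑Q) w w' = 1)
    (hpw : pol (⇑Q) p w = 0) (hpw' : pol (⇑Q) p w' = 0) (hsw : pol (⇑Q) s w = 0)
    (hsw' : pol (⇑Q) s w' = 0) :
    eichG Q p s hp hps =
      ⁅eichG Q w (-s) hw (by rw [QuadraticMap.polar_neg_right, QuadraticMap.polar_comm, hsw,
        neg_zero]), eichG Q p w' hp hpw'⁆ := by
  rw [commutatorElement_def]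
  symm
  rw [mul_inv_eq_iff_eq_mul, mul_inv_eq_iff_eq_mul]
  apply isoGroup_ext
  intro z
  have hsp : pol (⇑Q) s p = 0 := by rw [QuadraticMap.polar_comm]; exact hps
  have hwp : pol (⇑Q) w p = 0 := by rw [QuadraticMap.polar_comm]; exact hpw
  have hw'p : pol (⇑Q) w' p = 0 := by rw [QuadraticMap.polar_comm]; exact hpw'
  have hws : pol (⇑Q) w s = 0 := by rw [QuadraticMap.polar_comm]; exact hsw
  have hw's : pol (⇑Q) w' s = 0 := by rw [QuadraticMap.polar_comm]; exact hsw'
  have hw'w : pol (⇑Q) w' w = 1 := by rw [QuadraticMap.polar_comm]; exact hww'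
  have hpp := pol_self_of_sing Q p hp
  have hss := pol_self_of_sing Q s hs
  have hww := pol_self_of_sing Q w hw
  have hw'w'' := pol_self_of_sing Q w' hw'
  simp only [isoG_mul_apply, eichG_apply, siegelLin_apply, QuadraticMap.map_neg, hs, hw',
    QuadraticMap.polar_add_right, QuadraticMap.polar_sub_right, QuadraticMap.polar_neg_left,
    QuadraticMap.polar_neg_right,
    QuadraticMap.polar_smul_right, hps, hsp, hpw, hwp, hpw', hw'p, hsw, hws, hsw', hw's, hww',
    hw'w, hpp, hss, hww, hw'w'', smul_eq_mul, zero_mul, mul_zero, sub_zero, add_zero, mul_one]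
  match_scalars <;> ring

end geom

end Cfsg.Agent.Lib.Helper44
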