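import Mathlib
import Cfsg.Agent.Lib.Helper44.EichlerGeom
import Cfsg.Agent.Lib.Helper36.DicksonGen

set_option autoImplicit false
set_option linter.unusedSimpArgs false
set_option linter.unusedVariables false

/-!
# `KE Q` is perfect (dimension ≥ 7), and equals `Ω` in characteristic two
-/

namespace Cfsg.Agent.Lib.Helper44

open Cfsg.Agent.Lib.Helper13 hiding isoGroup mem_isoGroup
open Cfsg.Agent.Lib.Helper36 Module
open scoped commutatorElement

section perfect
variable {F V : Type*} [Field F] [AddCommGroup V] [Module F V]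

local notation "pol" => QuadraticMap.polar

theorem siegelLin_zero_left (Q : QuadraticForm F V) (w z : V) : siegelLin Q 0 w z = z := by
  rw [siegelLin_apply]
  simp

/-- an element of `EichSet` given by its data equals `eichG` -/
theorem eq_eichG_of_data (Q : QuadraticForm F V) (g : ↥(isoGroup Q)) (p w : V) (hp : Q p = 0)
    (hpw : pol (⇑Q) p w = 0) (hg : ∀ z, (g : V ≃ₗ[F] V) z = siegelLin Q p w z) :
    g = eichG Q p w hp hpw := by
  apply isoGroup_ext
  intro z
  rw [hg, eichG_apply]

/-- Eichler transformations with singular second vector are commutators in `KE` (dim ≥ 7) -/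
theorem eich_sing_mem_comm [Finite F] [FiniteDimensional F V] (Q : QuadraticForm F V)
    (hQ : (QuadraticMap.polarBilin Q).Nondegenerate) (h7 : 7 ≤ finrank F V)
    (p s : V) (hp : Q p = 0) (hs : Q s = 0) (hps : pol (⇑Q) p s = 0) :
    eichG Q p s hp hps ∈ ⁅KE Q, KE Q⁆ := by
  by_cases hp0 : p = 0
  · have : eichG Q p s hp hps = 1 := by
      apply isoGroup_ext
      intro z
      rw [eichG_apply, isoG_one_apply]
      subst hp0
      exact siegelLin_zero_left Q s z
    rw [this]
    exact Subgroup.one_mem _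
  by_cases hdep : ∃ c : F, s = c • p
  · obtain ⟨c, rfl⟩ := hdep
    have : eichG Q p (c • p) hp hps = 1 := by
      apply isoGroup_ext
      intro z
      rw [eichG_apply, isoG_one_apply, siegel_smul_self Q p c hp]
    rw [this]
    exact Subgroup.one_mem _
  push Not at hdep
  obtain ⟨w, w', hw, hw', hww', hpw, hsw, hpw', hsw'⟩ := hyp_in_perp2 Q hQ h7 p s hp0 hdep
    (pol_self_of_sing Q p hp) (pol_self_of_sing Q s hs) hps
  rw [eich_commutator Q p s w w' hp hs hw hw' hps hww' hpw hpw' hsw hsw']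
  exact Subgroup.commutator_mem_commutator (eichG_mem_KE _ _ _ _ _) (eichG_mem_KE _ _ _ _ _)

/-- all Eichler transformations are products of commutators in `KE` (dim ≥ 7) -/
theorem eich_mem_comm [Finite F] [FiniteDimensional F V] (Q : QuadraticForm F V)
    (hQ : (QuadraticMap.polarBilin Q).Nondegenerate) (h7 : 7 ≤ finrank F V)
    (p w : V) (hp : Q p = 0) (hpw : pol (⇑Q) p w = 0) :
    eichG Q p w hp hpw ∈ ⁅KE Q, KE Q⁆ := by
  by_cases hp0 : p = 0
  · have : eichG Q p w hp hpw = 1 := by
      apply isoGroup_ext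
      intro z
      rw [eichG_apply, isoG_one_apply]
      subst hp0
      exact siegelLin_zero_left Q w z
    rw [this]
    exact Subgroup.one_mem _
  obtain ⟨q, q', hpq, hpq', hQq, hQq', hqq'⟩ :=
    Cfsg.Agent.S0795.exists_hyp_in_perp Q hQ (by omega) p hp0
  have key := Cfsg.Agent.S0795.sing_induction Q (LinearMap.ker (QuadraticMap.polarBilin Q p)) q q'
    (by rw [LinearMap.mem_ker]; exact hpq) (by rw [LinearMap.mem_ker]; exact hpq') hQq hQq' hqq'
    (fun w => ∃ h : pol (⇑Q) p w = 0, eichG Q p w hp h ∈ ⁅KE Q, KE Q⁆) ?_ ?_ w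
    (by rw [LinearMap.mem_ker]; exact hpw)
  · exact key.2
  · rintro x y ⟨hx, hkx⟩ ⟨hy, hky⟩
    refine ⟨by rw [QuadraticMap.polar_add_right, hx, hy, add_zero], ?_⟩
    rw [eichG_add Q p x y hp hx hy]
    exact Subgroup.mul_mem _ hkx hky
  · intro s hs hQs
    rw [LinearMap.mem_ker] at hs
    have hs' : pol (⇑Q) p s = 0 := hs
    exact ⟨hs', eich_sing_mem_comm Q hQ h7 p s hp hQs hs'⟩

theorem KE_le_comm [Finite F] [FiniteDimensional F V] (Q : QuadraticForm F V)
    (hQ : (QuadraticMap.polarBilin Q).Nondegenerate) (h7 : 7 ≤ finrank F V) :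
    KE Q ≤ ⁅KE Q, KE Q⁆ := by
  unfold KE
  rw [Subgroup.closure_le]
  rintro g ⟨p, w, hp, hpw, hg⟩
  rw [eq_eichG_of_data Q g p w hp hpw hg]
  exact eich_mem_comm Q hQ h7 p w hp hpw

/-- `KE Q` is a perfect group in dimension at least 7 -/
theorem KE_perfect [Finite F] [FiniteDimensional F V] (Q : QuadraticForm F V)
    (hQ : (QuadraticMap.polarBilin Q).Nondegenerate) (h7 : 7 ≤ finrank F V) :
    commutator ↥(KE Q) = ⊤ := by
  rw [eq_top_iff]
  intro x _
  have hx : (x : ↥(isoGroup Q)) ∈ ⁅KE Q, KE Q⁆ := KE_le_comm Q hQ h7 x.2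
  rw [← Subgroup.map_subtype_commutator] at hx
  obtain ⟨y, hy, hyx⟩ := hx
  have : y = x := Subtype.ext hyx
  rw [← this]
  exact hy

/-- `KE Q ≤ Ω` in dimension at least 7 -/
theorem KE_le_commutator [Finite F] [FiniteDimensional F V] (Q : QuadraticForm F V)
    (hQ : (QuadraticMap.polarBilin Q).Nondegenerate) (h7 : 7 ≤ finrank F V) :
    KE Q ≤ commutator ↥(isoGroup Q) := by
  refine le_trans (KE_le_comm Q hQ h7) ?_
  rw [commutator_def]
  exact Subgroup.commutator_mono le_top le_top

end perfect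

section chartwo
variable {F V : Type*} [Field F] [AddCommGroup V] [Module F V]

local notation "pol" => QuadraticMap.polar

/-- reflection as an element of the isometry group -/
noncomputable def reflG (Q : QuadraticForm F V) (v : V) (hv : Q v ≠ 0) : ↥(isoGroup Q) :=
  ⟨reflEquiv Q v hv, reflSet_subset_isoGroup Q (reflEquiv_mem Q v hv)⟩

theorem reflG_apply (Q : QuadraticForm F V) (v : V) (hv : Q v ≠ 0) (z : V) :
    ((reflG Q v hv : ↥(isoGroup Q)) : V ≃ₗ[F] V) z = reflLin Q v z := rfl

theorem conj_reflG (Q : QuadraticForm F V) (g : ↥(isoGroup Q)) (v : V) (hv : Q v ≠ 0) :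
    g * reflG Q v hv * g⁻¹ = reflG Q ((g : V ≃ₗ[F] V) v) (by rw [isoG_Q]; exact hv) := by
  apply isoGroup_ext
  intro z
  rw [isoG_mul_apply, isoG_mul_apply, reflG_apply, reflG_apply, reflLin_apply, reflLin_apply,
    map_sub, map_smul, isoG_inv_apply, isoG_pol_inv, isoG_Q]

/-- in characteristic two over a perfect field, all reflections are conjugate under `KE` -/
theorem reflG_conj_KE [Finite F] [FiniteDimensional F V] [CharP F 2] (Q : QuadraticForm F V)
    (hQ : (QuadraticMap.polarBilin Q).Nondegenerate) (h5 : 5 ≤ finrank F V)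
    (hsq : ∀ a : F, IsSquare a) (v₀ v : V) (hv₀ : Q v₀ ≠ 0) (hv : Q v ≠ 0) :
    ∃ k ∈ KE Q, k * reflG Q v₀ hv₀ * k⁻¹ = reflG Q v hv := by
  obtain ⟨c, hc⟩ := hsq (Q v₀ / Q v)
  have hc0 : c ≠ 0 := by
    intro h
    rw [h, mul_zero] at hc
    exact (div_ne_zero hv₀ hv) hc
  set b := c • v with hb
  have hQb : Q b = Q v₀ := by
    rw [hb, QuadraticMap.map_smul, smul_eq_mul, ← hc]
    field_simp
  have hQb0 : Q b ≠ 0 := by rw [hQb]; exact hv₀
  have hrb : reflG Q b hQb0 = reflG Q v hv := by
    apply isoGroup_ext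
    intro z
    rw [reflG_apply, reflG_apply, hb, reflLin_smul_vec Q v hv c hc0]
  rw [← hrb]
  by_cases hbv : b = v₀
  · refine ⟨1, Subgroup.one_mem _, ?_⟩
    rw [one_mul, inv_one, mul_one]
    apply isoGroup_ext
    intro z
    rw [reflG_apply, reflG_apply, hbv]
  · have hne : b - v₀ ≠ 0 := fun h => hbv (sub_eq_zero.1 h)
    have hind : ∀ l : F, v₀ ≠ l • (b - v₀) := by
      intro l hl
      have hl0 : l ≠ 0 := by
        intro h
        rw [h, zero_smul] at hl
        apply hv₀
        rw [hl, QuadraticMap.map_zero]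
      have hb' : b = (1 + l⁻¹) • v₀ := by
        have h1 : l⁻¹ • v₀ = b - v₀ := by
          conv_lhs => rw [hl]
          rw [smul_smul, inv_mul_cancel₀ hl0, one_smul]
        rw [add_smul, one_smul, h1]
        abel
      have h2 : (1 + l⁻¹) * (1 + l⁻¹) = 1 := by
        have h3 : Q b = (1 + l⁻¹) * (1 + l⁻¹) * Q v₀ := by
          conv_lhs => rw [hb']
          rw [QuadraticMap.map_smul, smul_eq_mul]
        rw [hQb] at h3
        have h4 : (1 : F) * Q v₀ = (1 + l⁻¹) * (1 + l⁻¹) * Q v₀ := by rw [one_mul]; exact h3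
        exact (mul_right_cancel₀ hv₀ h4).symm
      have h20 : (2 : F) = 0 := CharTwo.two_eq_zero
      have h5' : l⁻¹ * l⁻¹ = 0 := by linear_combination h2 - l⁻¹ * h20
      have : l⁻¹ = 0 := by
        rcases mul_eq_zero.1 h5' with h | h <;> exact h
      exact (inv_ne_zero hl0) this
    obtain ⟨k, hk, hk'⟩ := KE_trans_indep Q hQ h5 v₀ b hQb.symm hind hne
    refine ⟨k, hk, ?_⟩
    rw [conj_reflG]
    apply isoGroup_ext
    intro z
    rw [reflG_apply, reflG_apply, hk']

/-- in characteristic two (perfect field, dimension ≥ 5), `Ω ≤ KE` -/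
theorem commutator_le_KE [Finite F] [FiniteDimensional F V] [CharP F 2] (Q : QuadraticForm F V)
    (hQ : (QuadraticMap.polarBilin Q).Nondegenerate) (h5 : 5 ≤ finrank F V)
    (hsq : ∀ a : F, IsSquare a) :
    commutator ↥(isoGroup Q) ≤ KE Q := by
  have hn := KE_normal Q
  set π := QuotientGroup.mk' (KE Q) with hπ
  -- all reflections have the same image
  have hrr : ∀ (v₀ v : V) (hv₀ : Q v₀ ≠ 0) (hv : Q v ≠ 0),
      π (reflG Q v hv) = π (reflG Q v₀ hv₀) := by
    intro v₀ v hv₀ hv
    obtain ⟨k, hk, hk'⟩ := reflG_conj_KE Q hQ h5 hsq v₀ v hv₀ hv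
    have hk1 : π k = 1 := (QuotientGroup.eq_one_iff k).2 hk
    rw [← hk', map_mul, map_mul, map_inv, hk1, one_mul, inv_one, mul_one]
  -- the subgroup of elements whose images commute with everything in the image
  have hF : (∀ a b : F, ∃ x : F, x ≠ a ∧ x ≠ b) ∨ finrank F V ≠ 4 := Or.inr (by omega)
  -- every element of the isometry group is a product of reflections
  have hgen : ∀ g : ↥(isoGroup Q), g ∈ Subgroup.closure
      {r : ↥(isoGroup Q) | ∃ (v : V) (hv : Q v ≠ 0), r = reflG Q v hv} := by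
    intro g
    have hg := isometry_mem_reflGroup Q hQ hF (g : V ≃ₗ[F] V) g.2
    have hle : reflGroup Q ≤ (Subgroup.closure
        {r : ↥(isoGroup Q) | ∃ (v : V) (hv : Q v ≠ 0), r = reflG Q v hv}).map
          (isoGroup Q).subtype := by
      unfold reflGroup
      rw [Subgroup.closure_le]
      rintro T ⟨v, hv, hT⟩
      refine ⟨reflG Q v hv, Subgroup.subset_closure ⟨v, hv, rfl⟩, ?_⟩
      apply LinearEquiv.ext
      intro z
      rw [hT]
      rfl
    obtain ⟨g', hg', hgg'⟩ := hle hg
    have : g' = g := Subtype.ext hgg'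
    rw [← this]
    exact hg'
  -- images commute
  have hcomm : ∀ g h : ↥(isoGroup Q), Commute (π g) (π h) := by
    have hrs : ∀ r ∈ {r : ↥(isoGroup Q) | ∃ (v : V) (hv : Q v ≠ 0), r = reflG Q v hv},
        ∀ s ∈ {r : ↥(isoGroup Q) | ∃ (v : V) (hv : Q v ≠ 0), r = reflG Q v hv},
        Commute (π r) (π s) := by
      rintro r ⟨v, hv, rfl⟩ s ⟨v', hv', rfl⟩
      rw [hrr v v' hv hv']
    have hrg : ∀ r ∈ {r : ↥(isoGroup Q) | ∃ (v : V) (hv : Q v ≠ 0), r = reflG Q v hv},
        ∀ g : ↥(isoGroup Q), Commute (π r) (π g) := by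
      intro r hr g
      have hg := hgen g
      induction hg using Subgroup.closure_induction with
      | mem s hs => exact hrs r hr s hs
      | one => rw [map_one]; exact Commute.one_right _
      | mul x y _ _ hx hy => rw [map_mul]; exact Commute.mul_right hx hy
      | inv x _ hx => rw [map_inv]; exact Commute.inv_right hx
    intro g h
    have hg := hgen g
    induction hg using Subgroup.closure_induction with
    | mem r hr => exact hrg r hr h
    | one => rw [map_one]; exact Commute.one_left _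
    | mul x y _ _ hx hy => rw [map_mul]; exact Commute.mul_left hx hy
    | inv x _ hx => rw [map_inv]; exact Commute.inv_left hx
  rw [commutator_def, Subgroup.commutator_le]
  intro g _ h _
  have h1 : π ⁅g, h⁆ = 1 := by
    rw [map_commutatorElement, commutatorElement_eq_one_iff_mul_comm]
    exact hcomm g h
  exact (QuotientGroup.eq_one_iff _).1 h1

/-- in characteristic two (finite field, dimension ≥ 7), `Ω = KE` -/
theorem commutator_eq_KE_char_two [Finite F] [FiniteDimensional F V] [CharP F 2]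
    (Q : QuadraticForm F V) (hQ : (QuadraticMap.polarBilin Q).Nondegenerate)
    (h7 : 7 ≤ finrank F V) (hsq : ∀ a : F, IsSquare a) :
    commutator ↥(isoGroup Q) = KE Q :=
  le_antisymm (commutator_le_KE Q hQ (by omega) hsq) (KE_le_commutator Q hQ h7)

end chartwo

end Cfsg.Agent.Lib.Helper44
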