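import Mathlib
import Cfsg.Agent.Lib.Helper44.EichlerPerfect

set_option autoImplicit false
set_option linter.unusedSimpArgs false
set_option linter.unusedVariables false

/-!
# `Ω ≤ KE` in odd characteristic (abstract port of helper14's S0795 argument)
-/

namespace Cfsg.Agent.Lib.Helper44

open Cfsg.Agent.Lib.Helper13 hiding isoGroup mem_isoGroup
open Cfsg.Agent.Lib.Helper36 Module
open scoped commutatorElement

section odd
variable {F V : Type*} [Field F] [AddCommGroup V] [Module F V]

local notation "pol" => QuadraticMap.polar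

open Cfsg.Agent.S0792 (perp Qperp mem_perp nondeg_perp finrank_perp Qperp_apply)

theorem indep_of_orth' (Q : QuadraticForm F V) (h2 : (2 : F) ≠ 0) (x y : V) (hx : Q x ≠ 0)
    (hy : Q y ≠ 0) (hxy : pol (⇑Q) x y = 0) : (∀ l : F, x ≠ l • (y - x)) ∧ y - x ≠ 0 := by
  have hxx : pol (⇑Q) x x ≠ 0 := by
    rw [polar_self']; exact mul_ne_zero h2 hx
  constructor
  · intro l hl
    have h1 : pol (⇑Q) x x = -(l * pol (⇑Q) x x) := by
      conv_lhs => rw [hl]
      rw [QuadraticMap.polar_smul_right, QuadraticMap.polar_sub_right, ← hl, hxy]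
      simp
    have h3 : (1 + l) * pol (⇑Q) x x = 0 := by linear_combination h1
    have hl1 : l = -1 := by
      rcases mul_eq_zero.1 h3 with h | h
      · linear_combination h
      · exact absurd h hxx
    rw [hl1] at hl
    have hy0 : y = 0 := by
      have : x = x - y := by
        conv_lhs => rw [hl]
        rw [neg_smul, one_smul, neg_sub]
      have h4 : x - (x - y) = 0 := by rw [← this]; simp
      simpa using h4
    apply hy
    rw [hy0, QuadraticMap.map_zero]
  · intro h
    have : y = x := sub_eq_zero.1 h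
    rw [this] at hxy
    exact hxx hxy

/-- a vector of prescribed non-zero norm orthogonal to a non-singular vector -/
theorem exists_perp_norm [Finite F] [FiniteDimensional F V] (Q : QuadraticForm F V)
    (hQ : (QuadraticMap.polarBilin Q).Nondegenerate) (h2 : (2 : F) ≠ 0)
    (h3 : 3 ≤ finrank F V) (a : V) (ha : Q a ≠ 0) (c : F) (hc : c ≠ 0) :
    ∃ b : V, pol (⇑Q) a b = 0 ∧ Q b = c := by
  have haa' : pol (⇑Q) a a ≠ 0 := by
    rw [polar_self']; exact mul_ne_zero h2 ha
  have hnd := nondeg_perp Q a haa' hQ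
  have hfr := finrank_perp Q a haa'
  obtain ⟨b0, hb0⟩ := exists_Q_eq (Qperp Q a) hnd h2 (by omega) c hc
  exact ⟨(b0 : V), (mem_perp Q a _).1 b0.2, hb0⟩

/-- `KE` is transitive on vectors of a given non-zero norm (odd characteristic) -/
theorem KE_trans_odd [Finite F] [FiniteDimensional F V] (Q : QuadraticForm F V)
    (hQ : (QuadraticMap.polarBilin Q).Nondegenerate) (h2 : (2 : F) ≠ 0) (h5 : 5 ≤ finrank F V)
    (a a' : V) (ha : Q a ≠ 0) (haa : Q a = Q a') :
    ∃ k ∈ KE Q, (k : V ≃ₗ[F] V) a = a' := by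
  by_cases hgood : (∀ l : F, a ≠ l • (a' - a)) ∧ a' - a ≠ 0
  · exact KE_trans_indep Q hQ h5 a a' haa hgood.1 hgood.2
  have ha'0 : Q a' ≠ 0 := by rw [← haa]; exact ha
  obtain ⟨ν, hν⟩ : ∃ ν : F, a' = ν • a := by
    by_cases hne : a' - a = 0
    · exact ⟨1, by rw [one_smul]; exact sub_eq_zero.1 hne⟩
    · have : ¬ ∀ l : F, a ≠ l • (a' - a) := fun h => hgood ⟨h, hne⟩
      push Not at this
      obtain ⟨l, hl⟩ := this
      have hl0 : l ≠ 0 := by
        intro h
        rw [h, zero_smul] at hl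
        apply ha
        rw [hl, QuadraticMap.map_zero]
      refine ⟨1 + l⁻¹, ?_⟩
      have : l⁻¹ • a = a' - a := by
        conv_lhs => rw [hl]
        rw [smul_smul, inv_mul_cancel₀ hl0, one_smul]
      rw [add_smul, one_smul, this]
      abel
  obtain ⟨b, hab, hQb⟩ := exists_perp_norm Q hQ h2 (by omega) a ha (Q a) ha
  have hQb0 : Q b ≠ 0 := by rw [hQb]; exact ha
  have hba' : pol (⇑Q) b a' = 0 := by
    rw [hν, QuadraticMap.polar_smul_right, QuadraticMap.polar_comm (⇑Q) b a, hab, smul_zero]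
  obtain ⟨h1a, h1b⟩ := indep_of_orth' Q h2 a b ha hQb0 hab
  obtain ⟨h2a, h2b⟩ := indep_of_orth' Q h2 b a' hQb0 ha'0 hba'
  obtain ⟨k1, hk1, hk1'⟩ := KE_trans_indep Q hQ h5 a b hQb.symm h1a h1b
  obtain ⟨k2, hk2, hk2'⟩ := KE_trans_indep Q hQ h5 b a' (by rw [hQb, haa]) h2a h2b
  refine ⟨k2 * k1, Subgroup.mul_mem _ hk2 hk1, ?_⟩
  rw [isoG_mul_apply, hk1', hk2']

theorem reflG_comm (Q : QuadraticForm F V) (a b : V) (ha : Q a ≠ 0) (hb : Q b ≠ 0)
    (hab : pol (⇑Q) a b = 0) :
    reflG Q a ha * reflG Q b hb = reflG Q b hb * reflG Q a ha := by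
  have hba : pol (⇑Q) b a = 0 := by rw [QuadraticMap.polar_comm]; exact hab
  apply isoGroup_ext
  intro x
  simp only [isoG_mul_apply, reflG_apply, reflLin_apply,
    QuadraticMap.polar_sub_right, QuadraticMap.polar_smul_right, hab, hba, smul_eq_mul,
    mul_zero, sub_zero]
  abel

theorem refl_commute_odd [Finite F] [FiniteDimensional F V] (Q : QuadraticForm F V)
    (hQ : (QuadraticMap.polarBilin Q).Nondegenerate) (h2 : (2 : F) ≠ 0) (h5 : 5 ≤ finrank F V)
    (a b : V) (ha : Q a ≠ 0) (hb : Q b ≠ 0) :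
    ⁅reflG Q a ha, reflG Q b hb⁆ ∈ KE Q := by
  have := KE_normal Q
  obtain ⟨b1, hab1, hQb1⟩ := exists_perp_norm Q hQ h2 (by omega) a ha (Q b) hb
  have hQb10 : Q b1 ≠ 0 := by rw [hQb1]; exact hb
  obtain ⟨k, hk, hk'⟩ := KE_trans_odd Q hQ h2 h5 b1 b hQb10 hQb1
  have hconj : k * reflG Q b1 hQb10 * k⁻¹ = reflG Q b hb := by
    rw [conj_reflG]
    apply isoGroup_ext
    intro z
    rw [reflG_apply, reflG_apply, hk']
  rw [← hconj]
  set r := reflG Q a ha with hr
  set s := reflG Q b1 hQb10 with hs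
  have hrs : r * s = s * r := reflG_comm Q a b1 ha hQb10 hab1
  have hk1 : (QuotientGroup.mk' (KE Q)) k = 1 := (QuotientGroup.eq_one_iff k).2 hk
  have : (QuotientGroup.mk' (KE Q)) ⁅r, k * s * k⁻¹⁆ = 1 := by
    rw [map_commutatorElement, map_mul, map_mul, map_inv, hk1, one_mul, inv_one, mul_one,
      ← map_commutatorElement, commutatorElement_eq_one_iff_mul_comm.2 hrs, map_one]
  exact (QuotientGroup.eq_one_iff _).1 this

/-- in odd characteristic (dimension ≥ 5), `Ω ≤ KE` -/
theorem commutator_le_KE_odd [Finite F] [FiniteDimensional F V] (Q : QuadraticForm F V)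
    (hQ : (QuadraticMap.polarBilin Q).Nondegenerate) (h2 : (2 : F) ≠ 0) (h5 : 5 ≤ finrank F V) :
    commutator ↥(isoGroup Q) ≤ KE Q := by
  have hn := KE_normal Q
  set π := QuotientGroup.mk' (KE Q) with hπ
  have hF : (∀ a b : F, ∃ x : F, x ≠ a ∧ x ≠ b) ∨ finrank F V ≠ 4 := Or.inr (by omega)
  have hgen : ∀ g : ↥(isoGroup Q), g ∈ Subgroup.closure
      {r : ↥(isoGroup Q) | ∃ (v : V) (hv : Q v ≠ 0), r = reflG Q v hv} := by
    intro g
    have hg := isometry_mem_reflGroup Q hQ hF (g : V ≃ₗ[F] V) g.2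
    have hle : reflGroup Q ≤ (Subgroup.closure
        {r : ↥(isoGroup Q) | ∃ (v : V) (hv : Q v ≠ 0), r = reflG Q v hv}).map
          (isoGroup Q).subtype := by
      unfold reflGroup
      rw [Subgroup.closure_le]
      rintro T ⟨v, hv, hT⟩
      refine ⟨reflG Q v hv, Subgroup.subset_closure ⟨v, hv, rfl⟩, ?_⟩
      apply LinearEquiv.ext
      intro z
      rw [hT]
      rfl
    obtain ⟨g', hg', hgg'⟩ := hle hg
    have : g' = g := Subtype.ext hgg'
    rw [← this]
    exact hg'
  have hcomm : ∀ g h : ↥(isoGroup Q), Commute (π g) (π h) := by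
    have hrs : ∀ r ∈ {r : ↥(isoGroup Q) | ∃ (v : V) (hv : Q v ≠ 0), r = reflG Q v hv},
        ∀ s ∈ {r : ↥(isoGroup Q) | ∃ (v : V) (hv : Q v ≠ 0), r = reflG Q v hv},
        Commute (π r) (π s) := by
      rintro r ⟨v, hv, rfl⟩ s ⟨v', hv', rfl⟩
      have h := refl_commute_odd Q hQ h2 h5 v v' hv hv'
      have h1 : π ⁅reflG Q v hv, reflG Q v' hv'⁆ = 1 := (QuotientGroup.eq_one_iff _).2 h
      rw [map_commutatorElement, commutatorElement_eq_one_iff_mul_comm] at h1
      exact h1
    have hrg : ∀ r ∈ {r : ↥(isoGroup Q) | ∃ (v : V) (hv : Q v ≠ 0), r = reflG Q v hv},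
        ∀ g : ↥(isoGroup Q), Commute (π r) (π g) := by
      intro r hr g
      have hg := hgen g
      induction hg using Subgroup.closure_induction with
      | mem s hs => exact hrs r hr s hs
      | one => rw [map_one]; exact Commute.one_right _
      | mul x y _ _ hx hy => rw [map_mul]; exact Commute.mul_right hx hy
      | inv x _ hx => rw [map_inv]; exact Commute.inv_right hx
    intro g h
    have hg := hgen g
    induction hg using Subgroup.closure_induction with
    | mem r hr => exact hrg r hr h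
    | one => rw [map_one]; exact Commute.one_left _
    | mul x y _ _ hx hy => rw [map_mul]; exact Commute.mul_left hx hy
    | inv x _ hx => rw [map_inv]; exact Commute.inv_left hx
  rw [commutator_def, Subgroup.commutator_le]
  intro g _ h _
  have h1 : π ⁅g, h⁆ = 1 := by
    rw [map_commutatorElement, commutatorElement_eq_one_iff_mul_comm]
    exact hcomm g h
  exact (QuotientGroup.eq_one_iff _).1 h1

/-- in odd characteristic (finite field, dimension ≥ 7), `Ω = KE` -/
theorem commutator_eq_KE_odd [Finite F] [FiniteDimensional F V]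
    (Q : QuadraticForm F V) (hQ : (QuadraticMap.polarBilin Q).Nondegenerate)
    (h2 : (2 : F) ≠ 0) (h7 : 7 ≤ finrank F V) :
    commutator ↥(isoGroup Q) = KE Q :=
  le_antisymm (commutator_le_KE_odd Q hQ h2 (by omega)) (KE_le_commutator Q hQ h7)

/-- in any characteristic (finite field, dimension ≥ 7), `Ω = KE` -/
theorem commutator_eq_KE [Finite F] [FiniteDimensional F V]
    (Q : QuadraticForm F V) (hQ : (QuadraticMap.polarBilin Q).Nondegenerate)
    (h7 : 7 ≤ finrank F V) :
    commutator ↥(isoGroup Q) = KE Q := by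
  by_cases h2 : (2 : F) = 0
  · have : CharP F 2 := CharTwo.of_one_ne_zero_of_two_eq_zero one_ne_zero h2
    have hsq : ∀ a : F, IsSquare a := by
      intro a
      have : Fintype F := Fintype.ofFinite F
      exact FiniteField.isSquare_of_char_two (ringChar.eq F 2) a
    exact commutator_eq_KE_char_two Q hQ h7 hsq
  · exact commutator_eq_KE_odd Q hQ h2 h7

end odd

end Cfsg.Agent.Lib.Helper44
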