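import Mathlib
import Cfsg.Agent.Lib.Helper44.EichlerPerfect

set_option autoImplicit false
set_option linter.unusedSimpArgs false
set_option linter.unusedVariables false

/-!
# The action on singular points is primitive; Iwasawa structure
-/

namespace Cfsg.Agent.Lib.Helper44

open Cfsg.Agent.Lib.Helper13 hiding isoGroup mem_isoGroup
open Cfsg.Agent.Lib.Helper36 Module
open scoped Pointwise

section pts
variable {F V : Type*} [Field F] [AddCommGroup V] [Module F V]

local notation "pol" => QuadraticMap.polar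

/-- singular points -/
def IsSingPt (Q : QuadraticForm F V) (P : Submodule F V) : Prop :=
  ∃ p : V, p ≠ 0 ∧ Q p = 0 ∧ P = Submodule.span F {p}

/-- the set of singular points as a type -/
def SingPt (Q : QuadraticForm F V) : Type _ := {P : Submodule F V // IsSingPt Q P}

/-- the point spanned by a non-zero singular vector -/
def mkPt (Q : QuadraticForm F V) (p : V) (hp0 : p ≠ 0) (hp : Q p = 0) : SingPt Q :=
  ⟨Submodule.span F {p}, p, hp0, hp, rfl⟩

theorem exists_rep (Q : QuadraticForm F V) (P : SingPt Q) :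
    ∃ (p : V) (hp0 : p ≠ 0) (hp : Q p = 0), P = mkPt Q p hp0 hp := by
  obtain ⟨p, hp0, hp, hP⟩ := P.2
  exact ⟨p, hp0, hp, Subtype.ext hP⟩

theorem mkPt_eq_iff (Q : QuadraticForm F V) (p p' : V) (hp0 : p ≠ 0) (hp : Q p = 0)
    (hp0' : p' ≠ 0) (hp' : Q p' = 0) :
    mkPt Q p hp0 hp = mkPt Q p' hp0' hp' ↔ ∃ c : F, p' = c • p := by
  constructor
  · intro h
    have h1 : Submodule.span F {p} = Submodule.span F {p'} := congrArg Subtype.val h
    have h2 : p' ∈ Submodule.span F {p} := by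
      rw [h1]; exact Submodule.mem_span_singleton_self p'
    obtain ⟨c, hc⟩ := Submodule.mem_span_singleton.1 h2
    exact ⟨c, hc.symm⟩
  · rintro ⟨c, rfl⟩
    have hc0 : c ≠ 0 := by
      intro h
      rw [h, zero_smul] at hp0'
      exact hp0' rfl
    apply Subtype.ext
    show Submodule.span F {p} = Submodule.span F {c • p}
    rw [Submodule.span_singleton_smul_eq (IsUnit.mk0 c hc0)]

instance instSMulSingPt (Q : QuadraticForm F V) : SMul ↥(isoGroup Q) (SingPt Q) where
  smul g P := ⟨P.1.map ((g : V ≃ₗ[F] V) : V →ₗ[F] V), by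
    obtain ⟨p, hp0, hp, hP⟩ := P.2
    refine ⟨(g : V ≃ₗ[F] V) p, ?_, ?_, ?_⟩
    · intro h
      apply hp0
      exact (LinearEquiv.map_eq_zero_iff _).1 h
    · rw [isoG_Q, hp]
    · rw [hP, Submodule.map_span, Set.image_singleton]
      rfl⟩

theorem smul_val (Q : QuadraticForm F V) (g : ↥(isoGroup Q)) (P : SingPt Q) :
    (g • P).1 = P.1.map ((g : V ≃ₗ[F] V) : V →ₗ[F] V) := rfl

instance instMulActionSingPt (Q : QuadraticForm F V) : MulAction ↥(isoGroup Q) (SingPt Q) where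
  one_smul P := by
    apply Subtype.ext
    rw [smul_val]
    have : (((1 : ↥(isoGroup Q)) : V ≃ₗ[F] V) : V →ₗ[F] V) = LinearMap.id := rfl
    rw [this, Submodule.map_id]
  mul_smul g h P := by
    apply Subtype.ext
    rw [smul_val, smul_val, smul_val, ← Submodule.map_comp]
    rfl

theorem smul_mkPt (Q : QuadraticForm F V) (g : ↥(isoGroup Q)) (p : V) (hp0 : p ≠ 0)
    (hp : Q p = 0) :
    g • mkPt Q p hp0 hp = mkPt Q ((g : V ≃ₗ[F] V) p)
      (fun h => hp0 ((LinearEquiv.map_eq_zero_iff _).1 h)) (by rw [isoG_Q, hp]) := by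
  apply Subtype.ext
  rw [smul_val]
  show (Submodule.span F {p}).map _ = Submodule.span F {(g : V ≃ₗ[F] V) p}
  rw [Submodule.map_span, Set.image_singleton]
  rfl

theorem smul_mkPt_KE (Q : QuadraticForm F V) (k : ↥(KE Q)) (p : V) (hp0 : p ≠ 0)
    (hp : Q p = 0) :
    k • mkPt Q p hp0 hp = mkPt Q (((k : ↥(isoGroup Q)) : V ≃ₗ[F] V) p)
      (fun h => hp0 ((LinearEquiv.map_eq_zero_iff _).1 h)) (by rw [isoG_Q, hp]) :=
  smul_mkPt Q (k : ↥(isoGroup Q)) p hp0 hp

/-- points spanned by proportional vectors agree -/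
theorem mkPt_smul (Q : QuadraticForm F V) (p : V) (hp0 : p ≠ 0) (hp : Q p = 0) (c : F)
    (hc : c ≠ 0) :
    mkPt Q (c • p) (smul_ne_zero hc hp0) (by rw [QuadraticMap.map_smul, hp, smul_zero]) =
      mkPt Q p hp0 hp := by
  symm
  rw [mkPt_eq_iff]
  exact ⟨c, rfl⟩

theorem mkPt_congr (Q : QuadraticForm F V) (p p' : V) (h : p = p') (hp0 : p ≠ 0) (hp : Q p = 0) :
    mkPt Q p hp0 hp = mkPt Q p' (h ▸ hp0) (h ▸ hp) := by
  subst h
  rfl

end pts

section prim
variable {F V : Type*} [Field F] [AddCommGroup V] [Module F V]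

local notation "pol" => QuadraticMap.polar

theorem siegelLin_fix_left (Q : QuadraticForm F V) (t w : V) (ht : Q t = 0)
    (htw : pol (⇑Q) t w = 0) : siegelLin Q t w t = t := by
  rw [siegelLin_apply, pol_self_of_sing Q t ht, QuadraticMap.polar_comm (⇑Q) w t, htw]
  simp

theorem siegelLin_fix_perp (Q : QuadraticForm F V) (e w p : V) (hep : pol (⇑Q) e p = 0)
    (hwp : pol (⇑Q) w p = 0) : siegelLin Q e w p = p := by
  rw [siegelLin_apply, hep, hwp]
  simp

/-- a block containing a point is stable under the elements fixing the point -/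
theorem block_closed (Q : QuadraticForm F V) (B : Set (SingPt Q))
    (hB : MulAction.IsBlock ↥(KE Q) B) (k : ↥(KE Q)) (Y Z : SingPt Q) (hY : Y ∈ B)
    (hkY : k • Y ∈ B) (hZ : Z ∈ B) : k • Z ∈ B := by
  have h := hB.smul_eq_of_mem hY hkY
  rw [← h]
  exact Set.smul_mem_smul_set hZ

/-- Sub-claim 1a -/
theorem block_opp (Q : QuadraticForm F V) (B : Set (SingPt Q))
    (hB : MulAction.IsBlock ↥(KE Q) B) (t s s' : V) (ht0 : t ≠ 0) (hs0 : s ≠ 0) (hs0' : s' ≠ 0)
    (ht : Q t = 0) (hs : Q s = 0) (hs' : Q s' = 0) (hts : pol (⇑Q) t s ≠ 0)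
    (hts' : pol (⇑Q) t s' ≠ 0) (hP : mkPt Q t ht0 ht ∈ B) (hS : mkPt Q s hs0 hs ∈ B) :
    mkPt Q s' hs0' hs' ∈ B := by
  set s1 := (pol (⇑Q) t s)⁻¹ • s with hs1
  set s1' := (pol (⇑Q) t s')⁻¹ • s' with hs1'
  have hQs1 : Q s1 = 0 := by rw [hs1, QuadraticMap.map_smul, hs, smul_zero]
  have hQs1' : Q s1' = 0 := by rw [hs1', QuadraticMap.map_smul, hs', smul_zero]
  have h1 : pol (⇑Q) t s1 = 1 := by
    rw [hs1, QuadraticMap.polar_smul_right, smul_eq_mul, inv_mul_cancel₀ hts]
  have h1' : pol (⇑Q) t s1' = 1 := by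
    rw [hs1', QuadraticMap.polar_smul_right, smul_eq_mul, inv_mul_cancel₀ hts']
  have htw : pol (⇑Q) t (s1 - s1') = 0 := by
    rw [QuadraticMap.polar_sub_right, h1, h1', sub_self]
  set k : ↥(KE Q) := ⟨eichG Q t (s1 - s1') ht htw, eichG_mem_KE Q t _ ht htw⟩ with hk
  have hkP : k • mkPt Q t ht0 ht ∈ B := by
    rw [smul_mkPt_KE]
    have : ((k : ↥(isoGroup Q)) : V ≃ₗ[F] V) t = t := by
      show siegelLin Q t (s1 - s1') t = t
      exact siegelLin_fix_left Q t _ ht htw
    rw [mkPt_congr Q _ t this]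
    exact hP
  have hS1 : mkPt Q s1 (smul_ne_zero (inv_ne_zero hts) hs0) hQs1 ∈ B := by
    rw [mkPt_smul Q s hs0 hs _ (inv_ne_zero hts)]
    exact hS
  have h3 := block_closed Q B hB k _ _ hP hkP hS1
  rw [smul_mkPt_KE] at h3
  have : ((k : ↥(isoGroup Q)) : V ≃ₗ[F] V) s1 = s1' := by
    show siegelLin Q t (s1 - s1') s1 = s1'
    exact eich_trans_opp Q t s1 s1' hQs1 hQs1' h1 h1'
  rw [mkPt_congr Q _ s1' this, mkPt_smul Q s' hs0' hs' _ (inv_ne_zero hts')] at h3
  exact h3

/-- Claim 1: a block containing two non-orthogonal points is everything -/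
theorem block_univ_of_opp (Q : QuadraticForm F V)
    (hQ : (QuadraticMap.polarBilin Q).Nondegenerate) (B : Set (SingPt Q))
    (hB : MulAction.IsBlock ↥(KE Q) B) (t s : V) (ht0 : t ≠ 0) (hs0 : s ≠ 0)
    (ht : Q t = 0) (hs : Q s = 0) (hts : pol (⇑Q) t s ≠ 0)
    (hP : mkPt Q t ht0 ht ∈ B) (hS : mkPt Q s hs0 hs ∈ B) : B = Set.univ := by
  rw [Set.eq_univ_iff_forall]
  intro X0
  obtain ⟨x, hx0, hx, rfl⟩ := exists_rep Q X0
  by_cases htx : pol (⇑Q) t x = 0
  · by_cases hdep : ∃ c : F, x = c • t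
    · have : mkPt Q t ht0 ht = mkPt Q x hx0 hx := by
        rw [mkPt_eq_iff]; exact hdep
      rw [← this]; exact hP
    · push Not at hdep
      obtain ⟨y, hQy, hty, hxy⟩ := exists_sing_dual2 Q hQ t x ht0 hdep ht htx
      have hy0 : y ≠ 0 := by
        intro h
        rw [h, QuadraticMap.polar_zero_right] at hty
        exact zero_ne_one hty
      have hY : mkPt Q y hy0 hQy ∈ B :=
        block_opp Q B hB t s y ht0 hs0 hy0 ht hs hQy hts (by rw [hty]; exact one_ne_zero) hP hS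
      have hyt : pol (⇑Q) y t ≠ 0 := by
        rw [QuadraticMap.polar_comm, hty]; exact one_ne_zero
      have hyx : pol (⇑Q) y x ≠ 0 := by
        rw [QuadraticMap.polar_comm, hxy]; exact one_ne_zero
      exact block_opp Q B hB y t x hy0 ht0 hx0 hQy ht hx hyt hyx hY hP
  · exact block_opp Q B hB t s x ht0 hs0 hx0 ht hs hx hts htx hP hS

/-- Claim 2: a block containing two distinct orthogonal points is everything (dim ≥ 7) -/
theorem block_univ_of_perp [Finite F] [FiniteDimensional F V] (Q : QuadraticForm F V)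
    (hQ : (QuadraticMap.polarBilin Q).Nondegenerate) (h7 : 7 ≤ finrank F V)
    (B : Set (SingPt Q)) (hB : MulAction.IsBlock ↥(KE Q) B) (p r : V) (hp0 : p ≠ 0)
    (hr0 : r ≠ 0) (hp : Q p = 0) (hr : Q r = 0) (hpr : pol (⇑Q) p r = 0)
    (hind : ∀ c : F, p ≠ c • r)
    (hP : mkPt Q p hp0 hp ∈ B) (hR : mkPt Q r hr0 hr ∈ B) : B = Set.univ := by
  have hrp : pol (⇑Q) r p = 0 := by rw [QuadraticMap.polar_comm]; exact hpr
  obtain ⟨e, hQe, hre, hpe⟩ := exists_sing_partner_perp Q hQ r p hr0 hind hr hrp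
  have he0 : e ≠ 0 := by
    intro h
    rw [h, QuadraticMap.polar_zero_right] at hre
    exact zero_ne_one hre
  have hep : pol (⇑Q) e p = 0 := by rw [QuadraticMap.polar_comm]; exact hpe
  have her : pol (⇑Q) e r = 1 := by rw [QuadraticMap.polar_comm]; exact hre
  have hpe' : ∀ c : F, p ≠ c • e := by
    intro c hc
    have h1 : pol (⇑Q) r p = c := by
      rw [hc, QuadraticMap.polar_smul_right, hre, smul_eq_mul, mul_one]
    rw [hrp] at h1
    rw [← h1, zero_smul] at hc
    exact hp0 hc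
  obtain ⟨a, a', hQa, hQa', haa', hea, hpa, hea', hpa'⟩ := hyp_in_perp2 Q hQ h7 e p he0 hpe'
    (pol_self_of_sing Q e hQe) (pol_self_of_sing Q p hp) hep
  set w := a + a' with hw
  have hQw : Q w = 1 := by
    rw [hw, Q_add', hQa, hQa', haa']; ring
  have hew : pol (⇑Q) e w = 0 := by
    rw [hw, QuadraticMap.polar_add_right, hea, hea', add_zero]
  have hwp : pol (⇑Q) w p = 0 := by
    rw [QuadraticMap.polar_comm, hw, QuadraticMap.polar_add_right, hpa, hpa', add_zero]
  set k : ↥(KE Q) := ⟨eichG Q e w hQe hew, eichG_mem_KE Q e w hQe hew⟩ with hk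
  have hkP : k • mkPt Q p hp0 hp ∈ B := by
    rw [smul_mkPt_KE]
    have : ((k : ↥(isoGroup Q)) : V ≃ₗ[F] V) p = p := by
      show siegelLin Q e w p = p
      exact siegelLin_fix_perp Q e w p hep hwp
    rw [mkPt_congr Q _ p this]
    exact hP
  have h3 := block_closed Q B hB k _ _ hP hkP hR
  rw [smul_mkPt_KE] at h3
  have h4 : pol (⇑Q) r (((k : ↥(isoGroup Q)) : V ≃ₗ[F] V) r) ≠ 0 := by
    show pol (⇑Q) r (siegelLin Q e w r) ≠ 0
    rw [eich_move Q e w r hr her, hQw]
    exact neg_ne_zero.2 one_ne_zero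
  exact block_univ_of_opp Q hQ B hB r _ hr0 _ hr _ h4 hR h3

/-- The action of `KE Q` on singular points is primitive (dim ≥ 7). -/
theorem KE_isPreprimitive [Finite F] [FiniteDimensional F V] (Q : QuadraticForm F V)
    (hQ : (QuadraticMap.polarBilin Q).Nondegenerate) (h7 : 7 ≤ finrank F V) :
    MulAction.IsPreprimitive ↥(KE Q) (SingPt Q) := by
  have htrans : MulAction.IsPretransitive ↥(KE Q) (SingPt Q) := by
    constructor
    intro P P'
    obtain ⟨a, ha0, ha, rfl⟩ := exists_rep Q P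
    obtain ⟨a', ha0', ha', rfl⟩ := exists_rep Q P'
    by_cases hdep : ∃ c : F, a' = c • a
    · refine ⟨1, ?_⟩
      rw [one_smul, mkPt_eq_iff]
      exact hdep
    · push Not at hdep
      obtain ⟨k, hk, hka⟩ := KE_trans_sing Q hQ (by omega) a a' ha0 ha ha' hdep
      refine ⟨⟨k, hk⟩, ?_⟩
      rw [smul_mkPt_KE]
      exact (mkPt_congr Q _ a' hka _ _)
  refine { toIsPretransitive := htrans, isTrivialBlock_of_isBlock := ?_ }
  intro B hB
  by_cases hsub : B.Subsingleton
  · exact Or.inl hsub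
  right
  rw [Set.not_subsingleton_iff] at hsub
  obtain ⟨P1, hP1, P2, hP2, hne⟩ := hsub
  obtain ⟨a, ha0, ha, rfl⟩ := exists_rep Q P1
  obtain ⟨b, hb0, hb, rfl⟩ := exists_rep Q P2
  by_cases hab : pol (⇑Q) a b = 0
  · have hind : ∀ c : F, a ≠ c • b := by
      intro c hc
      apply hne
      symm
      rw [mkPt_eq_iff]
      exact ⟨c, hc⟩
    exact block_univ_of_perp Q hQ h7 B hB a b ha0 hb0 ha hb hab hind hP1 hP2
  · exact block_univ_of_opp Q hQ B hB a b ha0 hb0 ha hb hab hP1 hP2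

end prim

end Cfsg.Agent.Lib.Helper44
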