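import Mathlib
import Cfsg.Agent.Lib.Helper44.SingPts

set_option autoImplicit false
set_option linter.unusedSimpArgs false
set_option linter.unusedVariables false

/-!
# Iwasawa structure on singular points and simplicity of `KE Q ⧸ Z(KE Q)`
-/

namespace Cfsg.Agent.Lib.Helper44

open Cfsg.Agent.Lib.Helper13 hiding isoGroup mem_isoGroup
open Cfsg.Agent.Lib.Helper36 Module
open scoped Pointwise

section general

/-- a criterion for simplicity of the central quotient -/
theorem isSimpleGroup_quot_center {M : Type*} [Group M]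
    (hnt : ∃ x : M, x ∉ Subgroup.center M)
    (h : ∀ N : Subgroup M, N.Normal → N ≤ Subgroup.center M ∨ N = ⊤) :
    IsSimpleGroup (M ⧸ Subgroup.center M) := by
  have hnontriv : Nontrivial (M ⧸ Subgroup.center M) := by
    obtain ⟨x, hx⟩ := hnt
    refine ⟨⟨(QuotientGroup.mk x : M ⧸ Subgroup.center M), 1, ?_⟩⟩
    intro h1
    exact hx ((QuotientGroup.eq_one_iff x).1 h1)
  refine { toNontrivial := hnontriv, eq_bot_or_eq_top_of_normal := ?_ }
  intro Nb hNb
  have hN : (Nb.comap (QuotientGroup.mk' (Subgroup.center M))).Normal := hNb.comap _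
  have hsurj : Function.Surjective (QuotientGroup.mk' (Subgroup.center M)) :=
    QuotientGroup.mk'_surjective _
  rcases h _ hN with h1 | h1
  · left
    rw [Subgroup.eq_bot_iff_forall]
    intro y hy
    obtain ⟨x, rfl⟩ := hsurj y
    have hx : x ∈ Nb.comap (QuotientGroup.mk' (Subgroup.center M)) := hy
    exact (QuotientGroup.eq_one_iff x).2 (h1 hx)
  · right
    rw [eq_top_iff]
    intro y _
    obtain ⟨x, rfl⟩ := hsurj y
    have hx : x ∈ Nb.comap (QuotientGroup.mk' (Subgroup.center M)) := by rw [h1]; trivial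
    exact hx

end general

section iwasawa
variable {F V : Type*} [Field F] [AddCommGroup V] [Module F V]

local notation "pol" => QuadraticMap.polar

/-- changing the representative of the point -/
theorem eichG_rep (Q : QuadraticForm F V) (p p' w' : V) (hp : Q p = 0) (hp' : Q p' = 0)
    (hp'w' : pol (⇑Q) p' w' = 0) (hp0 : p ≠ 0)
    (hspan : Submodule.span F {p} = Submodule.span F {p'}) :
    ∃ (w : V) (hpw : pol (⇑Q) p w = 0), eichG Q p' w' hp' hp'w' = eichG Q p w hp hpw := by
  have h2 : p' ∈ Submodule.span F {p} := by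
    rw [hspan]; exact Submodule.mem_span_singleton_self p'
  obtain ⟨c, hc⟩ := Submodule.mem_span_singleton.1 h2
  have hpw : pol (⇑Q) p (c • w') = 0 := by
    rw [QuadraticMap.polar_smul_right, ← QuadraticMap.polar_smul_left, hc, hp'w']
  refine ⟨c • w', hpw, ?_⟩
  apply isoGroup_ext
  intro z
  rw [eichG_apply, eichG_apply, ← hc, siegelLin_smul_left]

theorem eichG_inv (Q : QuadraticForm F V) (p w : V) (hp : Q p = 0) (hpw : pol (⇑Q) p w = 0) :
    (eichG Q p w hp hpw)⁻¹ =
      eichG Q p (-w) hp (by rw [QuadraticMap.polar_neg_right, hpw, neg_zero]) := by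
  apply inv_eq_of_mul_eq_one_right
  rw [← eichG_add]
  have : eichG Q p (w + -w) hp
      (by rw [QuadraticMap.polar_add_right, QuadraticMap.polar_neg_right, hpw]; simp) = 1 := by
    apply isoGroup_ext
    intro z
    rw [eichG_apply, isoG_one_apply, add_neg_cancel, siegelLin_zero Q p z hp]
  exact this

/-- the root subgroup at a singular point, inside `KE Q` -/
def rootSub (Q : QuadraticForm F V) (P : SingPt Q) : Subgroup ↥(KE Q) where
  carrier := {k | ∃ (p w : V) (hp : Q p = 0) (hpw : pol (⇑Q) p w = 0), p ≠ 0 ∧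
    P.1 = Submodule.span F {p} ∧ (k : ↥(isoGroup Q)) = eichG Q p w hp hpw}
  one_mem' := by
    obtain ⟨p, hp0, hp, hP⟩ := P.2
    exact ⟨p, 0, hp, by rw [QuadraticMap.polar_zero_right], hp0, hP, (eichG_zero Q p hp).symm⟩
  mul_mem' := by
    rintro a b ⟨p, w, hp, hpw, hp0, hP, ha⟩ ⟨p', w', hp', hp'w', hp0', hP', hb⟩
    obtain ⟨w'', hpw'', hw''⟩ := eichG_rep Q p p' w' hp hp' hp'w' hp0 (by rw [← hP, ← hP'])
    refine ⟨p, w + w'', hp, by rw [QuadraticMap.polar_add_right, hpw, hpw'', add_zero], hp0, hP, ?_⟩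
    rw [Subgroup.coe_mul, ha, hb, hw'', eichG_add]
  inv_mem' := by
    rintro a ⟨p, w, hp, hpw, hp0, hP, ha⟩
    refine ⟨p, -w, hp, by rw [QuadraticMap.polar_neg_right, hpw, neg_zero], hp0, hP, ?_⟩
    rw [Subgroup.coe_inv, ha, eichG_inv]

theorem mem_rootSub (Q : QuadraticForm F V) (P : SingPt Q) (k : ↥(KE Q)) :
    k ∈ rootSub Q P ↔ ∃ (p w : V) (hp : Q p = 0) (hpw : pol (⇑Q) p w = 0), p ≠ 0 ∧
      P.1 = Submodule.span F {p} ∧ (k : ↥(isoGroup Q)) = eichG Q p w hp hpw := Iff.rfl

theorem rootSub_comm (Q : QuadraticForm F V) (P : SingPt Q) (a b : ↥(KE Q))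
    (ha : a ∈ rootSub Q P) (hb : b ∈ rootSub Q P) : a * b = b * a := by
  obtain ⟨p, w, hp, hpw, hp0, hP, ha⟩ := ha
  obtain ⟨p', w', hp', hp'w', hp0', hP', hb⟩ := hb
  obtain ⟨w'', hpw'', hw''⟩ := eichG_rep Q p p' w' hp hp' hp'w' hp0 (by rw [← hP, ← hP'])
  apply Subtype.ext
  rw [Subgroup.coe_mul, Subgroup.coe_mul, ha, hb, hw'', eichG_comm]

theorem rootSub_conj_le (Q : QuadraticForm F V) (g : ↥(KE Q)) (P : SingPt Q) :
    MulAut.conj g • rootSub Q P ≤ rootSub Q (g • P) := by
  intro x hx
  rw [Subgroup.mem_smul_pointwise_iff_exists] at hx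
  obtain ⟨s, ⟨p, w, hp, hpw, hp0, hP, hs⟩, rfl⟩ := hx
  refine ⟨((g : ↥(isoGroup Q)) : V ≃ₗ[F] V) p, ((g : ↥(isoGroup Q)) : V ≃ₗ[F] V) w,
    by rw [isoG_Q, hp], by rw [isoG_pol, hpw],
    fun h => hp0 ((LinearEquiv.map_eq_zero_iff _).1 h), ?_, ?_⟩
  · show ((g : ↥(isoGroup Q)) • P).1 = _
    rw [smul_val, hP, Submodule.map_span, Set.image_singleton]
    rfl
  · rw [MulAut.smul_def, MulAut.conj_apply, Subgroup.coe_mul, Subgroup.coe_mul, Subgroup.coe_inv,
      hs, conj_eichG]

theorem rootSub_conj (Q : QuadraticForm F V) (g : ↥(KE Q)) (P : SingPt Q) :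
    rootSub Q (g • P) = MulAut.conj g • rootSub Q P := by
  apply le_antisymm
  · have h1 := rootSub_conj_le Q g⁻¹ (g • P)
    rw [inv_smul_smul] at h1
    intro x hx
    rw [Subgroup.mem_smul_pointwise_iff_exists]
    refine ⟨MulAut.conj g⁻¹ • x, h1 (Subgroup.smul_mem_pointwise_smul _ _ _ hx), ?_⟩
    rw [MulAut.smul_def, MulAut.smul_def, MulAut.conj_apply, MulAut.conj_apply]
    group
  · exact rootSub_conj_le Q g P

theorem iSup_rootSub (Q : QuadraticForm F V) : iSup (rootSub Q) = ⊤ := by
  rw [eq_top_iff]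
  intro x _
  have hx : (x : ↥(isoGroup Q)) ∈ KE Q := x.2
  have hle : KE Q ≤ (iSup (rootSub Q)).map (KE Q).subtype := by
    unfold KE
    rw [Subgroup.closure_le]
    rintro g ⟨p, w, hp, hpw, hg⟩
    have hg' := eq_eichG_of_data Q g p w hp hpw hg
    by_cases hp0 : p = 0
    · have : g = 1 := by
        rw [hg']
        apply isoGroup_ext
        intro z
        rw [eichG_apply, isoG_one_apply]
        subst hp0
        exact siegelLin_zero_left Q w z
      rw [this]
      exact Subgroup.one_mem _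
    · have hgK : g ∈ KE Q := by rw [hg']; exact eichG_mem_KE Q p w hp hpw
      refine ⟨⟨g, hgK⟩, ?_, rfl⟩
      have : (⟨g, hgK⟩ : ↥(KE Q)) ∈ rootSub Q (mkPt Q p hp0 hp) :=
        ⟨p, w, hp, hpw, hp0, rfl, hg'⟩
      exact Subgroup.mem_iSup_of_mem (mkPt Q p hp0 hp) this
  obtain ⟨y, hy, hyx⟩ := hle hx
  have : y = x := Subtype.ext hyx
  rw [← this]
  exact hy

/-- the Iwasawa structure -/
def iwasawaKE (Q : QuadraticForm F V) : MulAction.IwasawaStructure ↥(KE Q) (SingPt Q) where
  T := rootSub Q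
  is_comm P := ⟨⟨fun a b => Subtype.ext (rootSub_comm Q P a.1 b.1 a.2 b.2)⟩⟩
  is_conj g P := rootSub_conj Q g P
  is_generator := iSup_rootSub Q

end iwasawa

section scalar
variable {F V : Type*} [Field F] [AddCommGroup V] [Module F V]

local notation "pol" => QuadraticMap.polar

/-- two independent vectors: comparing coefficients -/
theorem coeff_eq_of_indep (p p' : V) (hp0 : p ≠ 0) (hind : ∀ c : F, p' ≠ c • p) (a b c : F)
    (h : c • (p + p') = a • p + b • p') : a = c ∧ b = c := by
  have h1 : (c - a) • p = (b - c) • p' := by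
    rw [sub_smul, sub_smul, sub_eq_sub_iff_add_eq_add]
    rw [smul_add] at h
    rw [add_comm (b • p'), ← h]
  by_cases hbc : b - c = 0
  · rw [hbc, zero_smul] at h1
    have hca : c - a = 0 := by
      rcases smul_eq_zero.1 h1 with h2 | h2
      · exact h2
      · exact absurd h2 hp0
    exact ⟨(sub_eq_zero.1 hca).symm, sub_eq_zero.1 hbc⟩
  · exfalso
    apply hind ((b - c)⁻¹ * (c - a))
    rw [mul_smul, h1, smul_smul, inv_mul_cancel₀ hbc, one_smul]

/-- a linear map acting by a scalar on each singular vector is a scalar (dim ≥ 5) -/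
theorem scalar_of_fix_sing [Finite F] [FiniteDimensional F V] (Q : QuadraticForm F V)
    (hQ : (QuadraticMap.polarBilin Q).Nondegenerate) (h5 : 5 ≤ finrank F V)
    (g : V →ₗ[F] V) (hg : ∀ p : V, Q p = 0 → ∃ c : F, g p = c • p) :
    ∃ l : F, ∀ z, g z = l • z := by
  -- orthogonal independent singular vectors have the same eigenvalue
  have horth : ∀ (p p' : V) (a b : F), p ≠ 0 → Q p = 0 → Q p' = 0 → pol (⇑Q) p p' = 0 →
      (∀ c : F, p' ≠ c • p) → g p = a • p → g p' = b • p' → a = b := by
    intro p p' a b hp0 hp hp' hpp' hind ha hb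
    have hs : Q (p + p') = 0 := by rw [Q_add', hp, hp', hpp']; ring
    obtain ⟨c, hc⟩ := hg _ hs
    rw [map_add, ha, hb] at hc
    obtain ⟨h1, h2⟩ := coeff_eq_of_indep p p' hp0 hind a b c hc.symm
    rw [h1, h2]
  -- any two singular vectors have the same eigenvalue
  have hall : ∀ (p p' : V) (a b : F), p ≠ 0 → p' ≠ 0 → Q p = 0 → Q p' = 0 →
      g p = a • p → g p' = b • p' → a = b := by
    intro p p' a b hp0 hp0' hp hp' ha hb
    by_cases hdep : ∃ c : F, p' = c • p
    · obtain ⟨c, hc⟩ := hdep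
      have h1 : b • p' = a • p' := by
        rw [← hb, hc, map_smul, ha, smul_comm]
      have h2 : (b - a) • p' = 0 := by rw [sub_smul, h1, sub_self]
      rcases smul_eq_zero.1 h2 with h3 | h3
      · exact (sub_eq_zero.1 h3).symm
      · exact absurd h3 hp0'
    push Not at hdep
    by_cases hpp' : pol (⇑Q) p p' = 0
    · exact horth p p' a b hp0 hp hp' hpp' hdep ha hb
    · -- a third singular vector orthogonal to both
      set φ : V →ₗ[F] F × F :=
        (QuadraticMap.polarBilin Q p).prod (QuadraticMap.polarBilin Q p') with hφ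
      have hker : 3 ≤ finrank F (LinearMap.ker φ) := by
        have h1 := LinearMap.finrank_range_add_finrank_ker φ
        have h2 : finrank F (LinearMap.range φ) ≤ 2 := by
          have := Submodule.finrank_le (LinearMap.range φ)
          rw [Module.finrank_prod, Module.finrank_self] at this
          exact this
        omega
      obtain ⟨w0, hw0, hQw0⟩ := exists_isotropic (Q.comp (LinearMap.ker φ).subtype) hker
      obtain ⟨w, hw⟩ : ∃ w : V, w = (w0 : V) := ⟨_, rfl⟩
      have hwne : w ≠ 0 := by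
        intro h
        apply hw0
        apply Subtype.ext
        rw [← hw]; exact h
      have hQw : Q w = 0 := by rw [hw]; exact hQw0
      have hwmem : φ w = 0 := by rw [hw]; exact LinearMap.mem_ker.1 w0.2
      have hpw : pol (⇑Q) p w = 0 := (Prod.ext_iff.1 hwmem).1
      have hp'w : pol (⇑Q) p' w = 0 := (Prod.ext_iff.1 hwmem).2
      obtain ⟨c, hc⟩ := hg w hQw
      have hind1 : ∀ d : F, w ≠ d • p := by
        intro d hd
        have h1 : pol (⇑Q) p' w = d * pol (⇑Q) p' p := by
          rw [hd, QuadraticMap.polar_smul_right, smul_eq_mul]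
        rw [hp'w, QuadraticMap.polar_comm (⇑Q) p' p] at h1
        have hd0 : d = 0 := by
          rcases mul_eq_zero.1 h1.symm with h | h
          · exact h
          · exact absurd h hpp'
        rw [hd0, zero_smul] at hd
        exact hwne hd
      have hind2 : ∀ d : F, w ≠ d • p' := by
        intro d hd
        have h1 : pol (⇑Q) p w = d * pol (⇑Q) p p' := by
          rw [hd, QuadraticMap.polar_smul_right, smul_eq_mul]
        rw [hpw] at h1
        have hd0 : d = 0 := by
          rcases mul_eq_zero.1 h1.symm with h | h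
          · exact h
          · exact absurd h hpp'
        rw [hd0, zero_smul] at hd
        exact hwne hd
      have e1 := horth p w a c hp0 hp hQw hpw hind1 ha hc
      have e2 := horth p' w b c hp0' hp' hQw hp'w hind2 hb hc
      rw [e1, e2]
  -- a hyperbolic pair
  obtain ⟨p, hp0, hp⟩ := exists_isotropic Q (by omega : 3 ≤ finrank F V)
  obtain ⟨p', hp', hpp'⟩ := exists_hyp_partner Q hQ p hp0 hp
  obtain ⟨l, hl⟩ := hg p hp
  refine ⟨l, ?_⟩
  intro z
  apply Cfsg.Agent.S0795.sing_induction Q ⊤ p p' Submodule.mem_top Submodule.mem_top hp hp' hpp'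
    (fun z => g z = l • z) ?_ ?_ z Submodule.mem_top
  · intro x y hx hy
    rw [map_add, hx, hy, smul_add]
  · intro s _ hs
    by_cases hs0 : s = 0
    · rw [hs0, map_zero, smul_zero]
    · obtain ⟨c, hc⟩ := hg s hs
      rw [hc, hall p s l c hp0 hs0 hp hs hl hc]

end scalar

end Cfsg.Agent.Lib.Helper44
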