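import Mathlib
import Cfsg.Agent.Lib.Helper44.KESimple

set_option autoImplicit false
set_option linter.unusedSimpArgs false
set_option linter.unusedVariables false

/-!
# Simplicity of `KE Q ⧸ Z(KE Q)` in dimension at least 7
-/

namespace Cfsg.Agent.Lib.Helper44

open Cfsg.Agent.Lib.Helper13 hiding isoGroup mem_isoGroup
open Cfsg.Agent.Lib.Helper36 Module
open scoped Pointwise commutatorElement

section general

theorem map_center_mulEquiv {H H' : Type*} [Group H] [Group H'] (e : H ≃* H') :
    (Subgroup.center H).map (e : H →* H') = Subgroup.center H' := by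
  ext x
  constructor
  · rintro ⟨y, hy, rfl⟩
    rw [Subgroup.mem_center_iff]
    intro g
    have h1 := Subgroup.mem_center_iff.1 hy (e.symm g)
    have h2 := congrArg e h1
    rw [map_mul, map_mul, MulEquiv.apply_symm_apply] at h2
    exact h2
  · intro hx
    refine ⟨e.symm x, ?_, by simp⟩
    show e.symm x ∈ Subgroup.center H
    rw [Subgroup.mem_center_iff]
    intro g
    have h1 := Subgroup.mem_center_iff.1 hx (e g)
    apply e.injective
    rw [map_mul, map_mul, MulEquiv.apply_symm_apply]
    exact h1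

/-- the central quotients of isomorphic groups are isomorphic -/
noncomputable def quotCenterCongr {H H' : Type*} [Group H] [Group H'] (e : H ≃* H') :
    (H ⧸ Subgroup.center H) ≃* (H' ⧸ Subgroup.center H') :=
  QuotientGroup.congr (Subgroup.center H) (Subgroup.center H') e (map_center_mulEquiv e)

theorem isSimpleGroup_quot_center_of_mulEquiv {H H' : Type*} [Group H] [Group H'] (e : H ≃* H')
    (h : IsSimpleGroup (H ⧸ Subgroup.center H)) : IsSimpleGroup (H' ⧸ Subgroup.center H') :=
  (quotCenterCongr e).isSimpleGroup_congr.1 h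

end general

section simple
variable {F V : Type*} [Field F] [AddCommGroup V] [Module F V]

local notation "pol" => QuadraticMap.polar

/-- an element of `KE` acting as a scalar on `V` is central -/
theorem central_of_scalar (Q : QuadraticForm F V) (n : ↥(KE Q)) (l : F)
    (hl : ∀ z, ((n : ↥(isoGroup Q)) : V ≃ₗ[F] V) z = l • z) : n ∈ Subgroup.center ↥(KE Q) := by
  rw [Subgroup.mem_center_iff]
  intro m
  apply Subtype.ext
  apply isoGroup_ext
  intro z
  show ((m : ↥(isoGroup Q)) : V ≃ₗ[F] V) (((n : ↥(isoGroup Q)) : V ≃ₗ[F] V) z) =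
    ((n : ↥(isoGroup Q)) : V ≃ₗ[F] V) (((m : ↥(isoGroup Q)) : V ≃ₗ[F] V) z)
  rw [hl, hl, map_smul]

/-- a normal subgroup of `KE` is central or everything (dim ≥ 7) -/
theorem KE_normal_dichotomy [Finite F] [FiniteDimensional F V] (Q : QuadraticForm F V)
    (hQ : (QuadraticMap.polarBilin Q).Nondegenerate) (h7 : 7 ≤ finrank F V)
    (N : Subgroup ↥(KE Q)) (hN : N.Normal) : N ≤ Subgroup.center ↥(KE Q) ∨ N = ⊤ := by
  have := KE_isPreprimitive Q hQ h7
  by_cases hfix : MulAction.fixedPoints N (SingPt Q) = Set.univ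
  · left
    intro n hn
    have hfixn : ∀ P : SingPt Q, n • P = P := by
      intro P
      have hP : P ∈ MulAction.fixedPoints N (SingPt Q) := by rw [hfix]; trivial
      exact hP ⟨n, hn⟩
    have hsc : ∀ p : V, Q p = 0 → ∃ c : F,
        (((n : ↥(isoGroup Q)) : V ≃ₗ[F] V) : V →ₗ[F] V) p = c • p := by
      intro p hp
      by_cases hp0 : p = 0
      · exact ⟨0, by rw [hp0, map_zero, smul_zero]⟩
      · have h1 := hfixn (mkPt Q p hp0 hp)
        rw [smul_mkPt_KE] at h1
        have h2 := (mkPt_eq_iff Q _ _ hp0 hp _ _).1 h1.symm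
        exact h2
    obtain ⟨l, hl⟩ := scalar_of_fix_sing Q hQ (by omega) _ hsc
    exact central_of_scalar Q n l hl
  · right
    have h1 := (iwasawaKE Q).commutator_le N hfix
    rw [KE_perfect Q hQ h7] at h1
    exact top_le_iff.1 h1

/-- `KE Q` has a non-central element (dim ≥ 7) -/
theorem KE_exists_noncentral [Finite F] [FiniteDimensional F V] (Q : QuadraticForm F V)
    (hQ : (QuadraticMap.polarBilin Q).Nondegenerate) (h7 : 7 ≤ finrank F V) :
    ∃ x : ↥(KE Q), x ∉ Subgroup.center ↥(KE Q) := by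
  by_contra hcon
  push Not at hcon
  -- then `KE` is abelian, hence trivial
  have hbot : commutator ↥(KE Q) = ⊥ := by
    rw [commutator_def, eq_bot_iff, Subgroup.commutator_le]
    intro a _ b _
    rw [Subgroup.mem_bot, commutatorElement_eq_one_iff_mul_comm]
    exact Subgroup.mem_center_iff.1 (hcon b) a
  rw [KE_perfect Q hQ h7] at hbot
  -- a non-trivial element
  obtain ⟨p, hp0, hp⟩ := exists_isotropic Q (by omega : 3 ≤ finrank F V)
  obtain ⟨q, q', hpq, hpq', hQq, hQq', hqq'⟩ :=
    Cfsg.Agent.S0795.exists_hyp_in_perp Q hQ (by omega) p hp0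
  set x : ↥(KE Q) := ⟨eichG Q p q hp hpq, eichG_mem_KE Q p q hp hpq⟩ with hx
  have hx1 : x = 1 := by
    have : x ∈ (⊤ : Subgroup ↥(KE Q)) := Subgroup.mem_top x
    rw [hbot, Subgroup.mem_bot] at this
    exact this
  have h2 : ((x : ↥(isoGroup Q)) : V ≃ₗ[F] V) q' = q' := by
    rw [hx1]
    rfl
  have h3 : ((x : ↥(isoGroup Q)) : V ≃ₗ[F] V) q' = q' + p := by
    show siegelLin Q p q q' = q' + p
    rw [siegelLin_apply, hqq', hQq, hpq']
    simp
  rw [h3] at h2
  exact hp0 (by simpa using h2)

/-- **`KE Q ⧸ Z(KE Q)` is simple** in dimension at least 7 (any finite field). -/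
theorem KE_quot_center_simple [Finite F] [FiniteDimensional F V] (Q : QuadraticForm F V)
    (hQ : (QuadraticMap.polarBilin Q).Nondegenerate) (h7 : 7 ≤ finrank F V) :
    IsSimpleGroup (↥(KE Q) ⧸ Subgroup.center ↥(KE Q)) :=
  isSimpleGroup_quot_center (KE_exists_noncentral Q hQ h7)
    (fun N hN => KE_normal_dichotomy Q hQ h7 N hN)

/-- If `Ω = KE` then `PΩ` is simple. -/
theorem POmega_abs_simple_of_eq [Finite F] [FiniteDimensional F V] (Q : QuadraticForm F V)
    (hQ : (QuadraticMap.polarBilin Q).Nondegenerate) (h7 : 7 ≤ finrank F V)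
    (hΩ : commutator ↥(isoGroup Q) = KE Q) :
    IsSimpleGroup (↥(commutator ↥(isoGroup Q)) ⧸
      Subgroup.center ↥(commutator ↥(isoGroup Q))) :=
  isSimpleGroup_quot_center_of_mulEquiv (MulEquiv.subgroupCongr hΩ.symm)
    (KE_quot_center_simple Q hQ h7)

/-- **`PΩ(Q)` is simple in characteristic two**, dimension at least 7 (abstract form). -/
theorem POmega_abs_simple_char_two [Finite F] [FiniteDimensional F V] [CharP F 2]
    (Q : QuadraticForm F V) (hQ : (QuadraticMap.polarBilin Q).Nondegenerate)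
    (h7 : 7 ≤ finrank F V) (hsq : ∀ a : F, IsSquare a) :
    IsSimpleGroup (↥(commutator ↥(isoGroup Q)) ⧸
      Subgroup.center ↥(commutator ↥(isoGroup Q))) :=
  POmega_abs_simple_of_eq Q hQ h7 (commutator_eq_KE_char_two Q hQ h7 hsq)

end simple

end Cfsg.Agent.Lib.Helper44
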