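import Mathlib
import Cfsg.Agent.Lib.Helper44.KESimple2
import Cfsg.Agent.Lib.Helper44.EichlerOdd
import Cfsg.Agent.Lib.Helper36.DicksonMatrix

set_option autoImplicit false
set_option linter.unusedSimpArgs false
set_option linter.unusedVariables false

/-!
# Simplicity of `PΩ(Q)` over finite fields in dimension at least 7 (matrix form)
-/

namespace Cfsg.Agent.Lib.Helper44

open Cfsg.Agent.Lib.Helper13 hiding isoGroup mem_isoGroup
open Cfsg.Agent.Lib.Helper36 Module

section abs
variable {F V : Type*} [Field F] [AddCommGroup V] [Module F V]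

/-- **`PΩ(Q)` is simple** over a finite field in dimension at least 7 (abstract form). -/
theorem POmega_abs_simple [Finite F] [FiniteDimensional F V]
    (Q : QuadraticForm F V) (hQ : (QuadraticMap.polarBilin Q).Nondegenerate)
    (h7 : 7 ≤ finrank F V) :
    IsSimpleGroup (↥(commutator ↥(isoGroup Q)) ⧸
      Subgroup.center ↥(commutator ↥(isoGroup Q))) :=
  POmega_abs_simple_of_eq Q hQ h7 (commutator_eq_KE Q hQ h7)

end abs

section mat
variable {ι : Type} [Fintype ι] [DecidableEq ι] {F : Type*} [Field F]

/-- the commutator subgroups of isomorphic groups are isomorphic -/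
noncomputable def commutatorCongr {G G' : Type*} [Group G] [Group G'] (e : G ≃* G') :
    ↥(commutator G) ≃* ↥(commutator G') :=
  subgroupEquivOfIff e (commutator G) (commutator G') (mem_commutator_iff_equiv e)

/-- `Ω` of the matrix group is isomorphic to the abstract `Ω` -/
noncomputable def omegaEquivAbs (Q : QuadraticForm F (ι → F)) :
    ↥(Cfsg.Omega F (⇑Q)) ≃* ↥(commutator ↥(isoGroup Q)) :=
  commutatorCongr (isometryGroupEquiv Q)

/-- **`PΩ(Q)` is simple** over a finite field in dimension at least 7. -/
theorem POmega_simple [Finite F] (Q : QuadraticForm F (ι → F))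
    (hQ : (QuadraticMap.polarBilin Q).Nondegenerate) (h7 : 7 ≤ Fintype.card ι) :
    IsSimpleGroup (Cfsg.POmega F (⇑Q)) := by
  have h7' : 7 ≤ finrank F (ι → F) := by
    rw [Module.finrank_fintype_fun_eq_card]; exact h7
  exact isSimpleGroup_quot_center_of_mulEquiv (omegaEquivAbs Q).symm (POmega_abs_simple Q hQ h7')

end mat

end Cfsg.Agent.Lib.Helper44
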