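import Mathlib
import Cfsg.Agent.Lib.Helper44.POmegaSimple
import Cfsg.Agent.Lib.Helper13.SpinorIndex
import Cfsg.Agent.Lib.Helper13.Dickson

set_option autoImplicit false
set_option linter.unusedSimpArgs false
set_option linter.unusedVariables false

/-!
# The centre of `Ω(Q)` (dimension ≥ 7, finite field): the scalars `±1` in `Ω`
-/

namespace Cfsg.Agent.Lib.Helper44

open Cfsg.Agent.Lib.Helper13 hiding isoGroup mem_isoGroup
open Cfsg.Agent.Lib.Helper36 Module

section center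
variable {F V : Type*} [Field F] [AddCommGroup V] [Module F V]

local notation "pol" => QuadraticMap.polar

/-- an isometry commuting with all Eichler transformations fixes every singular point -/
theorem fix_sing_of_commute [Finite F] [FiniteDimensional F V] (Q : QuadraticForm F V)
    (hQ : (QuadraticMap.polarBilin Q).Nondegenerate) (h5 : 5 ≤ finrank F V)
    (x : ↥(isoGroup Q))
    (hx : ∀ (p s : V) (hp : Q p = 0) (hps : pol (⇑Q) p s = 0),
      x * eichG Q p s hp hps = eichG Q p s hp hps * x)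
    (v : V) (hv : Q v = 0) : ∃ c : F, (x : V ≃ₗ[F] V) v = c • v := by
  by_cases hv0 : v = 0
  · exact ⟨0, by rw [hv0, map_zero, smul_zero]⟩
  obtain ⟨q, q', hvq, hvq', hQq, hQq', hqq'⟩ :=
    Cfsg.Agent.S0795.exists_hyp_in_perp Q hQ h5 v hv0
  -- conjugation formula
  have key : ∀ (s z : V) (hvs : pol (⇑Q) v s = 0),
      siegelLin Q ((x : V ≃ₗ[F] V) v) ((x : V ≃ₗ[F] V) s) z = siegelLin Q v s z := by
    intro s z hvs
    have h1 := conj_eichG Q x v s hv hvs
    have h2 : x * eichG Q v s hv hvs * x⁻¹ = eichG Q v s hv hvs := by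
      rw [hx v s hv hvs, mul_assoc, mul_inv_cancel, mul_one]
    rw [h2] at h1
    have h3 := congrArg (fun g : ↥(isoGroup Q) => (g : V ≃ₗ[F] V) z) h1
    simp only [eichG_apply] at h3
    exact h3.symm
  -- apply to `s = q`, `z = x q'`
  have e1 := key q ((x : V ≃ₗ[F] V) q') hvq
  rw [siegelLin_apply, siegelLin_apply, isoG_pol, isoG_pol, isoG_Q, hQq, hqq', hvq'] at e1
  -- apply to `s = q'`, `z = x q`
  have hq'q : pol (⇑Q) q' q = 1 := by rw [QuadraticMap.polar_comm]; exact hqq'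
  have e2 := key q' ((x : V ≃ₗ[F] V) q) hvq'
  rw [siegelLin_apply, siegelLin_apply, isoG_pol, isoG_pol, isoG_Q, hQq', hq'q, hvq] at e2
  simp only [zero_mul, sub_zero, zero_smul, one_smul] at e1 e2
  -- e1 : x q' + x v = x q' + (pol q (x q')) • v - pol v (x q') • q
  -- e2 : x q + x v = x q + (pol q' (x q)) • v - pol v (x q) • q'
  have f1 : (x : V ≃ₗ[F] V) v = (pol (⇑Q) q ((x : V ≃ₗ[F] V) q') - 0) • v
      - pol (⇑Q) v ((x : V ≃ₗ[F] V) q') • q := by
    have := add_left_cancel (a := (x : V ≃ₗ[F] V) q') (by rw [e1]; abel_nf :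
      (x : V ≃ₗ[F] V) q' + (x : V ≃ₗ[F] V) v = (x : V ≃ₗ[F] V) q' +
        ((pol (⇑Q) q ((x : V ≃ₗ[F] V) q') - 0) • v - pol (⇑Q) v ((x : V ≃ₗ[F] V) q') • q))
    exact this
  have f2 : (x : V ≃ₗ[F] V) v = (pol (⇑Q) q' ((x : V ≃ₗ[F] V) q) - 0) • v
      - pol (⇑Q) v ((x : V ≃ₗ[F] V) q) • q' := by
    have := add_left_cancel (a := (x : V ≃ₗ[F] V) q) (by rw [e2]; abel_nf :
      (x : V ≃ₗ[F] V) q + (x : V ≃ₗ[F] V) v = (x : V ≃ₗ[F] V) q +
        ((pol (⇑Q) q' ((x : V ≃ₗ[F] V) q) - 0) • v - pol (⇑Q) v ((x : V ≃ₗ[F] V) q) • q'))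
    exact this
  -- pair `f1` with `q'`... the coefficient of `q` vanishes
  have hvv : pol (⇑Q) v v = 0 := pol_self_of_sing Q v hv
  have g2 : pol (⇑Q) ((x : V ≃ₗ[F] V) v) q' = 0 := by
    rw [f2, QuadraticMap.polar_sub_left, QuadraticMap.polar_smul_left,
      QuadraticMap.polar_smul_left, hvq', pol_self_of_sing Q q' hQq']
    simp
  have g1 : pol (⇑Q) ((x : V ≃ₗ[F] V) v) q' = - pol (⇑Q) v ((x : V ≃ₗ[F] V) q') := by
    rw [f1, QuadraticMap.polar_sub_left, QuadraticMap.polar_smul_left,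
      QuadraticMap.polar_smul_left, hvq', hqq']
    simp
  have hcoef : pol (⇑Q) v ((x : V ≃ₗ[F] V) q') = 0 := by
    rw [g2] at g1
    exact neg_eq_zero.1 g1.symm
  refine ⟨pol (⇑Q) q ((x : V ≃ₗ[F] V) q') - 0, ?_⟩
  rw [f1, hcoef, zero_smul, sub_zero]

/-- centre of `KE`: exactly the elements acting as scalars (dim ≥ 7... here ≥ 5 suffices) -/
theorem mem_center_KE_iff [Finite F] [FiniteDimensional F V] (Q : QuadraticForm F V)
    (hQ : (QuadraticMap.polarBilin Q).Nondegenerate) (h5 : 5 ≤ finrank F V)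
    (x : ↥(KE Q)) :
    x ∈ Subgroup.center ↥(KE Q) ↔
      ∃ l : F, ∀ z, ((x : ↥(isoGroup Q)) : V ≃ₗ[F] V) z = l • z := by
  constructor
  · intro hx
    have hcomm : ∀ (p s : V) (hp : Q p = 0) (hps : pol (⇑Q) p s = 0),
        (x : ↥(isoGroup Q)) * eichG Q p s hp hps = eichG Q p s hp hps * (x : ↥(isoGroup Q)) := by
      intro p s hp hps
      have h1 := Subgroup.mem_center_iff.1 hx ⟨eichG Q p s hp hps, eichG_mem_KE Q p s hp hps⟩
      have h2 := congrArg (fun g : ↥(KE Q) => (g : ↥(isoGroup Q))) h1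
      simp only [Subgroup.coe_mul] at h2
      exact h2.symm
    exact scalar_of_fix_sing Q hQ h5 _
      (fun p hp => fix_sing_of_commute Q hQ h5 (x : ↥(isoGroup Q)) hcomm p hp)
  · rintro ⟨l, hl⟩
    exact central_of_scalar Q x l hl

/-- a scalar isometry is `±1` -/
theorem scalar_isometry_sq [Finite F] [FiniteDimensional F V] (Q : QuadraticForm F V)
    (hQ : (QuadraticMap.polarBilin Q).Nondegenerate) (h3 : 3 ≤ finrank F V)
    (x : ↥(isoGroup Q)) (l : F) (hl : ∀ z, (x : V ≃ₗ[F] V) z = l • z) : l * l = 1 := by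
  obtain ⟨p, hp0, hp⟩ := exists_isotropic Q h3
  obtain ⟨p', hp', hpp'⟩ := exists_hyp_partner Q hQ p hp0 hp
  have h1 : Q (p + p') = 1 := by rw [Q_add', hp, hp', hpp']; ring
  have h2 := isoG_Q x (p + p')
  rw [hl, QuadraticMap.map_smul, h1, smul_eq_mul, mul_one] at h2
  exact h2

end center

end Cfsg.Agent.Lib.Helper44
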