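import Mathlib
import Cfsg.Agent.Lib.Helper44.EichlerCenter
import Cfsg.Agent.Lib.Helper44.MinusQF
import Cfsg.Agent.S0789

set_option autoImplicit false
set_option linter.unusedSimpArgs false
set_option linter.unusedVariables false

/-!
# The centre and the index of `Ω(Q)` in the matrix isometry group; `|PΩ(Q)|`

For `Q` a quadratic form on `ι → F` with nondegenerate polar form over a finite field and
`7 ≤ |ι|`: the centre of `Ω(Q)` consists of the matrices `±1` in `Ω(Q)`; the index of `Ω(Q)` in the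
isometry group is `4` (`2 ≠ 0`) or `2` (`2 = 0`).
-/

namespace Cfsg.Agent.Lib.Helper44

open Cfsg.Agent.Lib.Helper13 hiding isoGroup mem_isoGroup
open Cfsg.Agent.Lib.Helper36 Module

section mat
variable {ι : Type} [Fintype ι] [DecidableEq ι] {F : Type*} [Field F]

theorem omegaEquivAbs_apply (Q : QuadraticForm F (ι → F)) (x : ↥(Cfsg.Omega F (⇑Q)))
    (v : ι → F) :
    (((omegaEquivAbs Q x : ↥(commutator ↥(isoGroup Q))) : ↥(isoGroup Q)) : (ι → F) ≃ₗ[F] (ι → F)) v
      = (((x : ↥(Cfsg.isometryGroup F (⇑Q))) : GL ι F) : Matrix ι ι F).mulVec v := rfl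

/-- the centre of `Ω(Q)`: the matrices `±1` in it -/
theorem mem_center_Omega_iff [Finite F] (Q : QuadraticForm F (ι → F))
    (hQ : (QuadraticMap.polarBilin Q).Nondegenerate) (h7 : 7 ≤ Fintype.card ι)
    (x : ↥(Cfsg.Omega F (⇑Q))) :
    x ∈ Subgroup.center ↥(Cfsg.Omega F (⇑Q)) ↔
      ((((x : ↥(Cfsg.isometryGroup F (⇑Q))) : GL ι F) : Matrix ι ι F) = 1 ∨
       (((x : ↥(Cfsg.isometryGroup F (⇑Q))) : GL ι F) : Matrix ι ι F) = -1) := by
  have h7' : 7 ≤ finrank F (ι → F) := by
    rw [Module.finrank_fintype_fun_eq_card]; exact h7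
  have hKE := commutator_eq_KE Q hQ h7'
  set e : ↥(Cfsg.Omega F (⇑Q)) ≃* ↥(KE Q) :=
    (omegaEquivAbs Q).trans (MulEquiv.subgroupCongr hKE) with he
  have hev : ∀ v : ι → F, (((e x : ↥(KE Q)) : ↥(isoGroup Q)) : (ι → F) ≃ₗ[F] (ι → F)) v =
      (((x : ↥(Cfsg.isometryGroup F (⇑Q))) : GL ι F) : Matrix ι ι F).mulVec v := fun v => rfl
  rw [← show e x ∈ Subgroup.center _ ↔ x ∈ Subgroup.center _ from
    MulEquivClass.apply_mem_center_iff e, mem_center_KE_iff Q hQ (by omega)]
  constructor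
  · rintro ⟨l, hl⟩
    have hll : l * l = 1 := scalar_isometry_sq Q hQ (by omega) ((e x : ↥(KE Q)) : ↥(isoGroup Q)) l hl
    have hM : (((x : ↥(Cfsg.isometryGroup F (⇑Q))) : GL ι F) : Matrix ι ι F)
        = l • (1 : Matrix ι ι F) := by
      apply Matrix.toLin'.injective
      apply LinearMap.ext
      intro z
      rw [Matrix.toLin'_apply, Matrix.toLin'_apply, ← hev, hl z, Matrix.smul_mulVec,
        Matrix.one_mulVec]
    rcases mul_self_eq_one_iff.1 hll with h | h
    · left; rw [hM, h, one_smul]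
    · right; rw [hM, h, neg_one_smul]
  · rintro (h | h)
    · refine ⟨1, fun z => ?_⟩
      rw [hev, h, Matrix.one_mulVec, one_smul]
    · refine ⟨-1, fun z => ?_⟩
      rw [hev, h, Matrix.neg_mulVec, Matrix.one_mulVec, neg_one_smul]

theorem card_center_Omega_eq_one [Finite F] (Q : QuadraticForm F (ι → F))
    (hQ : (QuadraticMap.polarBilin Q).Nondegenerate) (h7 : 7 ≤ Fintype.card ι)
    (h : (2 : F) = 0 ∨ ¬ ∃ g : ↥(Cfsg.isometryGroup F (⇑Q)), g ∈ Cfsg.Omega F (⇑Q) ∧
      ((g : GL ι F) : Matrix ι ι F) = -1) :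
    Nat.card ↥(Subgroup.center ↥(Cfsg.Omega F (⇑Q))) = 1 := by
  have hbot : Subgroup.center ↥(Cfsg.Omega F (⇑Q)) = ⊥ := by
    rw [Subgroup.eq_bot_iff_forall]
    intro x hx
    have h1 : (((x : ↥(Cfsg.isometryGroup F (⇑Q))) : GL ι F) : Matrix ι ι F) = 1 := by
      rcases (mem_center_Omega_iff Q hQ h7 x).1 hx with h1 | h1
      · exact h1
      · rcases h with h | h
        · rw [h1]
          have : (-1 : F) = 1 := by
            have : (1 : F) + 1 = 0 := by rw [one_add_one_eq_two]; exact h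
            exact neg_eq_of_add_eq_zero_left this
          rw [← neg_one_smul F (1 : Matrix ι ι F), this, one_smul]
        · exact absurd ⟨(x : ↥(Cfsg.isometryGroup F (⇑Q))), x.2, h1⟩ h
    exact Subtype.ext (Subtype.ext (Units.ext h1))
  rw [hbot]
  exact Subgroup.card_bot

theorem card_center_Omega_eq_two [Finite F] (Q : QuadraticForm F (ι → F))
    (hQ : (QuadraticMap.polarBilin Q).Nondegenerate) (h7 : 7 ≤ Fintype.card ι)
    (h2 : (2 : F) ≠ 0) (h : ∃ g : ↥(Cfsg.isometryGroup F (⇑Q)), g ∈ Cfsg.Omega F (⇑Q) ∧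
      ((g : GL ι F) : Matrix ι ι F) = -1) :
    Nat.card ↥(Subgroup.center ↥(Cfsg.Omega F (⇑Q))) = 2 := by
  obtain ⟨g, hg, hgm⟩ := h
  have hne : Nonempty ι := by
    rw [← Fintype.card_pos_iff]; omega
  obtain ⟨i⟩ := hne
  rw [Nat.card_eq_two_iff]
  refine ⟨1, ⟨⟨g, hg⟩, (mem_center_Omega_iff Q hQ h7 ⟨g, hg⟩).2 (Or.inr hgm)⟩, ?_, ?_⟩
  · intro h1
    have h3 : ((1 : GL ι F) : Matrix ι ι F) = -1 := by
      rw [← hgm]
      have := congrArg (fun z : ↥(Subgroup.center ↥(Cfsg.Omega F (⇑Q))) =>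
        ((((z : ↥(Cfsg.Omega F (⇑Q))) : ↥(Cfsg.isometryGroup F (⇑Q))) : GL ι F) :
          Matrix ι ι F)) h1
      exact this
    have h4 := congrFun (congrFun h3 i) i
    rw [Units.val_one, Matrix.neg_apply, Matrix.one_apply_eq] at h4
    apply h2
    have : (1 : F) + 1 = 0 := by
      nth_rewrite 2 [h4]
      ring
    rw [← one_add_one_eq_two]; exact this
  · ext z
    simp only [Set.mem_insert_iff, Set.mem_singleton_iff, Set.mem_univ, iff_true]
    rcases (mem_center_Omega_iff Q hQ h7 (z : ↥(Cfsg.Omega F (⇑Q)))).1 z.2 with h1 | h1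
    · left
      exact Subtype.ext (Subtype.ext (Subtype.ext (Units.ext h1)))
    · right
      exact Subtype.ext (Subtype.ext (Subtype.ext (Units.ext (h1.trans hgm.symm))))

/-- index of `Ω` in `O`: `4` in odd characteristic -/
theorem index_Omega_of_two_ne_zero [Finite F] (Q : QuadraticForm F (ι → F))
    (hQ : (QuadraticMap.polarBilin Q).Nondegenerate) (h5 : 5 ≤ Fintype.card ι)
    (h2 : (2 : F) ≠ 0) : (Cfsg.Omega F (⇑Q)).index = 4 := by
  have hfr : finrank F (ι → F) = Fintype.card ι := Module.finrank_fintype_fun_eq_card F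
  change (commutator ↥(Cfsg.isometryGroup F ⇑Q)).index = 4
  rw [Cfsg.Agent.S0789.commutator_index_congr (isometryGroupEquiv Q)]
  have : Fintype F := Fintype.ofFinite F
  classical
  exact (commutator_isoGroup_eq_ker Q hQ h2 (by omega) (Or.inr (by omega))).1

/-- index of `Ω` in `O`: `2` in characteristic two -/
theorem index_Omega_of_two_eq_zero [Finite F] (Q : QuadraticForm F (ι → F))
    (hQ : (QuadraticMap.polarBilin Q).Nondegenerate) (h5 : 5 ≤ Fintype.card ι)
    (h2 : (2 : F) = 0) : (Cfsg.Omega F (⇑Q)).index = 2 := by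
  have hfr : finrank F (ι → F) = Fintype.card ι := Module.finrank_fintype_fun_eq_card F
  change (commutator ↥(Cfsg.isometryGroup F ⇑Q)).index = 2
  rw [Cfsg.Agent.S0789.commutator_index_congr (isometryGroupEquiv Q)]
  have hchar : ringChar F = 2 :=
    CharP.ringChar_of_prime_eq_zero Nat.prime_two (by exact_mod_cast h2)
  have : Fintype F := Fintype.ofFinite F
  have hsq : ∀ a : F, IsSquare a := FiniteField.isSquare_of_char_two hchar
  have hne : ∃ v : ι → F, Q v ≠ 0 := by
    obtain ⟨p, hp0, hp⟩ := exists_isotropic Q (by omega)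
    obtain ⟨p', hp', hpp'⟩ := exists_hyp_partner Q hQ p hp0 hp
    refine ⟨p + p', ?_⟩
    rw [Q_add', hp, hp', hpp']
    simp
  exact commutator_isoGroup_index Q hQ (Or.inr (by omega)) hsq hne

/-- `|PΩ| · |Z(Ω)| · |O : Ω| = |O|` -/
theorem card_POmega_mul (Q : (ι → F) → F) :
    Nat.card (Cfsg.POmega F Q) * Nat.card ↥(Subgroup.center ↥(Cfsg.Omega F Q)) *
      (Cfsg.Omega F Q).index = Nat.card ↥(Cfsg.isometryGroup F Q) := by
  have h1 := Subgroup.card_mul_index (Cfsg.Omega F Q)
  have h3 := Subgroup.card_eq_card_quotient_mul_card_subgroup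
    (Subgroup.center ↥(Cfsg.Omega F Q))
  rw [← h1, h3]

end mat

section minus
variable {F : Type*} [Field F]

/-- the minus-type form is nondegenerate when its binary part is anisotropic (all characteristics) -/
theorem minusQF_nondeg_of_aniso [Finite F] (m : ℕ) (a b : F)
    (hab : ∀ z₁ z₂ : F, z₁ ^ 2 + a * z₁ * z₂ + b * z₂ ^ 2 = 0 → z₁ = 0 ∧ z₂ = 0) :
    (QuadraticMap.polarBilin (minusQF m F a b)).Nondegenerate := by
  rw [nondeg_iff_gramStd_det_ne_zero, gramStd_minusQF_det]
  refine mul_ne_zero ((nondeg_iff_gramStd_det_ne_zero _).1 hypQF_nondeg) ?_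
  intro h
  by_cases h2 : (2 : F) = 0
  · have h4 : (4 : F) = 0 := by
      have : (4 : F) = 2 * 2 := by norm_num
      rw [this, h2, mul_zero]
    rw [h4, zero_mul, zero_sub, neg_eq_zero, mul_self_eq_zero] at h
    have hchar : ringChar F = 2 :=
      CharP.ringChar_of_prime_eq_zero Nat.prime_two (by exact_mod_cast h2)
    have : Fintype F := Fintype.ofFinite F
    obtain ⟨c, hc⟩ := FiniteField.isSquare_of_char_two hchar b
    have := hab c 1 (by rw [h, hc]; linear_combination (c * c) * h2)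
    exact one_ne_zero this.2
  · have := hab (-a / 2) 1 (by
      field_simp
      linear_combination h)
    exact one_ne_zero this.2

end minus

/-- parity of `|F|` versus `2 = 0` -/
theorem two_eq_zero_iff_even_card {F : Type*} [Field F] [Fintype F] :
    (2 : F) = 0 ↔ Fintype.card F % 2 = 0 := by
  rw [← FiniteField.even_card_iff_char_two]
  constructor
  · intro h2
    exact CharP.ringChar_of_prime_eq_zero Nat.prime_two (by exact_mod_cast h2)
  · intro h
    have : ((ringChar F : ℕ) : F) = 0 := ringChar.Nat.cast_ringChar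
    rw [h] at this
    exact_mod_cast this

theorem gcd_four_eq (n : ℕ) :
    Nat.gcd 4 n = if n % 4 = 0 then 4 else if n % 2 = 0 then 2 else 1 := by
  rw [Nat.gcd_rec]
  have h : n % 4 < 4 := Nat.mod_lt _ (by norm_num)
  have h2 : n % 2 = (n % 4) % 2 := by omega
  rw [h2]
  generalize n % 4 = r at *
  interval_cases r <;> simp

section order
variable {ι : Type} [Fintype ι] [DecidableEq ι] {F : Type*} [Field F]

/-- **order of `PΩ(Q)`**, in terms of `|O(Q)| = 2R` and a number `n` (in practice `q^m ∓ 1`) that is odd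
in characteristic two, even otherwise, and divisible by four exactly when `-1 ∈ Ω(Q)`. -/
theorem gcd_mul_card_POmega [Finite F] (Q : QuadraticForm F (ι → F))
    (hQ : (QuadraticMap.polarBilin Q).Nondegenerate) (h7 : 7 ≤ Fintype.card ι) (R n : ℕ)
    (hO : Nat.card ↥(Cfsg.isometryGroup F (⇑Q)) = 2 * R)
    (hn2 : (2 : F) = 0 → n % 2 = 1)
    (hn : (2 : F) ≠ 0 → n % 2 = 0 ∧
      ((∃ g : ↥(Cfsg.isometryGroup F (⇑Q)), g ∈ Cfsg.Omega F (⇑Q) ∧
        ((g : GL ι F) : Matrix ι ι F) = -1) ↔ n % 4 = 0)) :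
    Nat.gcd 4 n * Nat.card (Cfsg.POmega F (⇑Q)) = R := by
  have hmul := card_POmega_mul (F := F) (⇑Q)
  rw [hO] at hmul
  rw [gcd_four_eq]
  by_cases h2 : (2 : F) = 0
  · have hidx := index_Omega_of_two_eq_zero Q hQ (by omega) h2
    have hZ := card_center_Omega_eq_one Q hQ h7 (Or.inl h2)
    have h1 := hn2 h2
    rw [hidx, hZ] at hmul
    rw [if_neg (by omega), if_neg (by omega)]
    omega
  · have hidx := index_Omega_of_two_ne_zero Q hQ (by omega) h2
    obtain ⟨h1, h3⟩ := hn h2
    rw [hidx] at hmul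
    by_cases h4 : n % 4 = 0
    · have hZ := card_center_Omega_eq_two Q hQ h7 h2 (h3.2 h4)
      rw [hZ] at hmul
      rw [if_pos h4]
      omega
    · have hZ := card_center_Omega_eq_one Q hQ h7 (Or.inr (fun h => h4 (h3.1 h)))
      rw [hZ] at hmul
      rw [if_neg h4, if_pos h1]
      omega

end order

end Cfsg.Agent.Lib.Helper44
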