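import Mathlib
set_option autoImplicit false
namespace Cfsg.Agent.Lib.Helper44.SimsFront

/-- `x T x⁻¹ = T` puts `x` in the normalizer. -/
theorem mem_normalizer_of_map_conj {G : Type*} [Group G] (T : Subgroup G) (x : G)
    (hxT : T.map (MulAut.conj x).toMonoidHom = T) : x ∈ Subgroup.normalizer (T : Set G) := by
  rw [Subgroup.mem_normalizer_iff_map_conj_eq]
  exact hxT

/-- Both `P₁` and `P₂ = x P₁ x⁻¹` lie in a subgroup `N` containing `x`, as soon as one of them does. -/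
theorem both_le_of_conj {G : Type*} [Group G] (P₁ P₂ N : Subgroup G) (x : G) (hx : x ∈ N)
    (hxP : P₂ = P₁.map (MulAut.conj x).toMonoidHom) (h : P₁ ≤ N ∨ P₂ ≤ N) : P₁ ≤ N ∧ P₂ ≤ N := by
  have h12 : P₁ ≤ N → P₂ ≤ N := by
    intro h1 y hy
    rw [hxP] at hy
    obtain ⟨p, hp, rfl⟩ := hy
    simp only [MulEquiv.coe_toMonoidHom, MulAut.conj_apply]
    exact N.mul_mem (N.mul_mem hx (h1 hp)) (N.inv_mem hx)
  have h21 : P₂ ≤ N → P₁ ≤ N := by
    intro h2 p hp
    have hy : x * p * x⁻¹ ∈ P₂ := by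
      rw [hxP]
      exact ⟨p, hp, by simp [MulAut.conj_apply]⟩
    have := N.mul_mem (N.mul_mem (N.inv_mem hx) (h2 hy)) hx
    simpa [mul_assoc] using this
  rcases h with h | h
  · exact ⟨h, h12 h⟩
  · exact ⟨h21 h, h⟩

theorem eq_bot_of_normal {G : Type*} [Group G] (P₁ P₂ T : Subgroup G)
    (hT₁ : T ≤ P₁) (hT₂ : T ≤ P₂) (hgen : P₁ ⊔ P₂ = ⊤)
    (core : ∀ N : Subgroup G, N.Normal → N ≤ T → N = ⊥)
    (x : G) (hxP : P₂ = P₁.map (MulAut.conj x).toMonoidHom)
    (hxT : T.map (MulAut.conj x).toMonoidHom = T)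
    (hn : (T.subgroupOf P₁).Normal ∨ (T.subgroupOf P₂).Normal) : T = ⊥ := by
  have hx : x ∈ Subgroup.normalizer (T : Set G) := mem_normalizer_of_map_conj T x hxT
  have h : P₁ ≤ Subgroup.normalizer (T : Set G) ∨ P₂ ≤ Subgroup.normalizer (T : Set G) := by
    rcases hn with h | h
    · exact Or.inl ((Subgroup.normal_subgroupOf_iff_le_normalizer hT₁).1 h)
    · exact Or.inr ((Subgroup.normal_subgroupOf_iff_le_normalizer hT₂).1 h)
  obtain ⟨h1, h2⟩ := both_le_of_conj P₁ P₂ _ x hx hxP h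
  have htop : Subgroup.normalizer (T : Set G) = ⊤ := by
    rw [eq_top_iff, ← hgen]
    exact sup_le h1 h2
  exact core T (Subgroup.normalizer_eq_top_iff.1 htop) le_rfl

end Cfsg.Agent.Lib.Helper44.SimsFront
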