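import Mathlib
set_option autoImplicit false
namespace Cfsg.Agent.Lib.Helper44.SimsFront

theorem exists_conj {G : Type*} [Group G] [Finite G] (P₁ P₂ T : Subgroup G)
    (hT₁ : T ≤ P₁) (hT₂ : T ≤ P₂) (idx₁ : T.relIndex P₁ = 3) (idx₂ : T.relIndex P₂ = 3)
    (two : IsPGroup 2 ↥T)
    (g : G) (hg : P₂ = P₁.map (MulAut.conj g).toMonoidHom) :
    ∃ x : G, P₂ = P₁.map (MulAut.conj x).toMonoidHom ∧
      T.map (MulAut.conj x).toMonoidHom = T := by
  have : Fact (Nat.Prime 2) := ⟨Nat.prime_two⟩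
  have hfinj : Function.Injective (MulAut.conj g).toMonoidHom := (MulAut.conj g).injective
  have memP : ∀ y : G, y ∈ P₂ ↔ ∃ p ∈ P₁, g * p * g⁻¹ = y := by
    intro y; rw [hg]; rfl
  set T' : Subgroup G := T.map (MulAut.conj g).toMonoidHom with hT'
  have memT' : ∀ y : G, y ∈ T' ↔ ∃ t ∈ T, g * t * g⁻¹ = y := by
    intro y; rfl
  have hT'P : T' ≤ P₂ := by rw [hg]; exact Subgroup.map_mono hT₁
  have idx' : T'.relIndex P₂ = 3 := by
    rw [hg, hT', Subgroup.relIndex_map_map_of_injective _ _ hfinj, idx₁]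
  have two' : IsPGroup 2 ↥T' := two.map _
  -- the two Sylow subgroups of `P₂`
  have hS1 : IsPGroup 2 ↥(T.subgroupOf P₂) := two.comap_subtype
  have hS2 : IsPGroup 2 ↥(T'.subgroupOf P₂) := two'.comap_subtype
  have hi1 : ¬ 2 ∣ (T.subgroupOf P₂).index := by
    change ¬ 2 ∣ T.relIndex P₂; rw [idx₂]; norm_num
  have hi2 : ¬ 2 ∣ (T'.subgroupOf P₂).index := by
    change ¬ 2 ∣ T'.relIndex P₂; rw [idx']; norm_num
  obtain ⟨h, hh⟩ := MulAction.exists_smul_eq (↥P₂) (hS2.toSylow hi2) (hS1.toSylow hi1)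
  have hmem : ∀ y : G, y ∈ P₂ → (y ∈ T ↔ (h : G)⁻¹ * y * h ∈ T') := by
    intro y hy
    have h1 : (⟨y, hy⟩ : ↥P₂) ∈ (hS1.toSylow hi1 : Subgroup ↥P₂) ↔ y ∈ T := by
      rw [IsPGroup.toSylow_coe]; exact Subgroup.mem_subgroupOf
    rw [← h1, ← hh, Sylow.coe_subgroup_smul, Subgroup.mem_pointwise_smul_iff_inv_smul_mem,
      IsPGroup.toSylow_coe, Subgroup.mem_subgroupOf]
    simp [MulAut.smul_def]
  refine ⟨(h : G) * g, ?_, ?_⟩
  · ext y
    constructor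
    · intro hy
      have hy' : (h : G)⁻¹ * y * h ∈ P₂ := P₂.mul_mem (P₂.mul_mem (P₂.inv_mem h.2) hy) h.2
      obtain ⟨p, hp, hpe⟩ := (memP _).1 hy'
      refine ⟨p, hp, ?_⟩
      simp only [MulEquiv.coe_toMonoidHom, MulAut.conj_apply]
      have : y = (h : G) * ((h : G)⁻¹ * y * h) * (h : G)⁻¹ := by group
      rw [this, ← hpe]; group
    · rintro ⟨p, hp, rfl⟩
      have hgp : g * p * g⁻¹ ∈ P₂ := (memP _).2 ⟨p, hp, rfl⟩
      have := P₂.mul_mem (P₂.mul_mem h.2 hgp) (P₂.inv_mem h.2)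
      simp only [MulEquiv.coe_toMonoidHom, MulAut.conj_apply]
      have e : (h : G) * g * p * ((h : G) * g)⁻¹ = (h : G) * (g * p * g⁻¹) * (h : G)⁻¹ := by group
      rw [e]; exact this
  · ext y
    constructor
    · rintro ⟨t, ht, rfl⟩
      simp only [MulEquiv.coe_toMonoidHom, MulAut.conj_apply]
      have hgt : g * t * g⁻¹ ∈ T' := (memT' _).2 ⟨t, ht, rfl⟩
      have hgtP : g * t * g⁻¹ ∈ P₂ := hT'P hgt
      have hyP : (h : G) * (g * t * g⁻¹) * (h : G)⁻¹ ∈ P₂ :=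
        P₂.mul_mem (P₂.mul_mem h.2 hgtP) (P₂.inv_mem h.2)
      have e : (h : G) * g * t * ((h : G) * g)⁻¹ = (h : G) * (g * t * g⁻¹) * (h : G)⁻¹ := by group
      rw [e]
      refine (hmem _ hyP).2 ?_
      have e2 : (h : G)⁻¹ * ((h : G) * (g * t * g⁻¹) * (h : G)⁻¹) * h = g * t * g⁻¹ := by group
      rw [e2]; exact hgt
    · intro hy
      have hyP : y ∈ P₂ := hT₂ hy
      obtain ⟨t, ht, hte⟩ := (memT' _).1 ((hmem y hyP).1 hy)
      refine ⟨t, ht, ?_⟩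
      simp only [MulEquiv.coe_toMonoidHom, MulAut.conj_apply]
      have : y = (h : G) * ((h : G)⁻¹ * y * h) * (h : G)⁻¹ := by group
      rw [this, ← hte]; group

end Cfsg.Agent.Lib.Helper44.SimsFront
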