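import Mathlib
import Cfsg.Prelude.Def_Amalgam
import Cfsg.Agent.Lib.Helper44.SimsFrontA3
set_option autoImplicit false
namespace Cfsg.Agent.Lib.Helper44.SimsFront

/-- The normalizer of `T` normalizes `T ⊓ C(T)`. -/
theorem normalizer_le_normalizer_inf_centralizer {G : Type*} [Group G] (T : Subgroup G) :
    Subgroup.normalizer (T : Set G) ≤
      Subgroup.normalizer ((T ⊓ Subgroup.centralizer (T : Set G) : Subgroup G) : Set G) := by
  have key : ∀ x : G, x ∈ Subgroup.normalizer (T : Set G) → ∀ z : G,
      z ∈ T ⊓ Subgroup.centralizer (T : Set G) →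
      x * z * x⁻¹ ∈ T ⊓ Subgroup.centralizer (T : Set G) := by
    intro x hx z hz
    refine ⟨(Subgroup.mem_normalizer_iff.1 hx z).1 hz.1, Subgroup.mem_centralizer_iff.2 ?_⟩
    intro t ht
    have ht' : x⁻¹ * t * x ∈ T := by
      have := (Subgroup.mem_normalizer_iff.1 (Subgroup.inv_mem _ hx) t).1 ht
      simpa using this
    have hc := (Subgroup.mem_centralizer_iff.1 hz.2) _ ht'
    calc t * (x * z * x⁻¹) = x * ((x⁻¹ * t * x) * z) * x⁻¹ := by group
      _ = x * (z * (x⁻¹ * t * x)) * x⁻¹ := by rw [hc]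
      _ = x * z * x⁻¹ * t := by group
  intro x hx
  rw [Subgroup.mem_normalizer_iff]
  intro z
  refine ⟨key x hx z, fun h => ?_⟩
  have := key x⁻¹ (Subgroup.inv_mem _ hx) _ h
  simpa [mul_assoc] using this

/-- The normalizer of `H` normalizes `Ω₁(H)`. -/
theorem normalizer_le_normalizer_omegaOne {G : Type*} [Group G] (p : ℕ) (H : Subgroup G) :
    Subgroup.normalizer (H : Set G) ≤ Subgroup.normalizer (Cfsg.omegaOne p H : Set G) := by
  have key : ∀ x : G, x ∈ Subgroup.normalizer (H : Set G) → ∀ w : G,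
      w ∈ Cfsg.omegaOne p H → x * w * x⁻¹ ∈ Cfsg.omegaOne p H := by
    intro x hx w hw
    unfold Cfsg.omegaOne at hw ⊢
    induction hw using Subgroup.closure_induction with
    | mem w hw =>
      refine Subgroup.subset_closure ⟨(Subgroup.mem_normalizer_iff.1 hx w).1 hw.1, ?_⟩
      rw [conj_pow, hw.2]; simp
    | one => simp
    | mul a b _ _ iha ihb =>
      have : x * (a * b) * x⁻¹ = (x * a * x⁻¹) * (x * b * x⁻¹) := by group
      rw [this]; exact Subgroup.mul_mem _ iha ihb
    | inv a _ iha =>
      have : x * a⁻¹ * x⁻¹ = (x * a * x⁻¹)⁻¹ := by group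
      rw [this]; exact Subgroup.inv_mem _ iha
  intro x hx
  rw [Subgroup.mem_normalizer_iff]
  intro z
  refine ⟨key x hx z, fun h => ?_⟩
  have := key x⁻¹ (Subgroup.inv_mem _ hx) _ h
  simpa [mul_assoc] using this

/-- The normalizer of `W` normalizes `C(W)`. -/
theorem normalizer_le_normalizer_centralizer {G : Type*} [Group G] (W : Subgroup G) :
    Subgroup.normalizer (W : Set G) ≤
      Subgroup.normalizer ((Subgroup.centralizer (W : Set G) : Subgroup G) : Set G) := by
  have key : ∀ x : G, x ∈ Subgroup.normalizer (W : Set G) → ∀ c : G,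
      c ∈ Subgroup.centralizer (W : Set G) → x * c * x⁻¹ ∈ Subgroup.centralizer (W : Set G) := by
    intro x hx c hc
    rw [Subgroup.mem_centralizer_iff]
    intro t ht
    have ht' : x⁻¹ * t * x ∈ W := by
      have := (Subgroup.mem_normalizer_iff.1 (Subgroup.inv_mem _ hx) t).1 ht
      simpa using this
    have hc' := (Subgroup.mem_centralizer_iff.1 hc) _ ht'
    calc t * (x * c * x⁻¹) = x * ((x⁻¹ * t * x) * c) * x⁻¹ := by group
      _ = x * (c * (x⁻¹ * t * x)) * x⁻¹ := by rw [hc']
      _ = x * c * x⁻¹ * t := by group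
  intro x hx
  rw [Subgroup.mem_normalizer_iff]
  intro z
  refine ⟨key x hx z, fun h => ?_⟩
  have := key x⁻¹ (Subgroup.inv_mem _ hx) _ h
  simpa [mul_assoc] using this

theorem h5_auto {G : Type*} [Group G] [Finite G] (P₁ P₂ T : Subgroup G)
    (hT₁ : T ≤ P₁) (hT₂ : T ≤ P₂) (hgen : P₁ ⊔ P₂ = ⊤)
    (core : ∀ N : Subgroup G, N.Normal → N ≤ T → N = ⊥)
    (two : IsPGroup 2 ↥T) (hne : T ≠ ⊥)
    (x : G) (hxP : P₂ = P₁.map (MulAut.conj x).toMonoidHom)
    (hxT : T.map (MulAut.conj x).toMonoidHom = T) :
    ∀ P ∈ ({P₁, P₂} : Set (Subgroup G)),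
      ¬ P ≤ Subgroup.centralizer
        (Cfsg.omegaOne 2 (T ⊓ Subgroup.centralizer (T : Set G)) : Set G) := by
  set W : Subgroup G := Cfsg.omegaOne 2 (T ⊓ Subgroup.centralizer (T : Set G)) with hW
  have hWT : W ≤ T := by
    rw [hW]; unfold Cfsg.omegaOne
    rw [Subgroup.closure_le]
    intro z hz
    exact hz.1.1
  -- a central involution of `T` lies in `W`
  have hWne : W ≠ ⊥ := by
    have : Fact (Nat.Prime 2) := ⟨Nat.prime_two⟩
    have : Nontrivial ↥T := (Subgroup.nontrivial_iff_ne_bot T).2 hne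
    have : Nontrivial (Subgroup.center ↥T) := two.center_nontrivial
    have hZ : IsPGroup 2 (Subgroup.center ↥T) := two.to_subgroup _
    obtain ⟨n, hn⟩ := IsPGroup.iff_card.1 hZ
    have hn0 : n ≠ 0 := by
      rintro rfl
      have h1 : 1 < Nat.card (Subgroup.center ↥T) := Finite.one_lt_card
      rw [hn] at h1; simp at h1
    have h2 : 2 ∣ Nat.card (Subgroup.center ↥T) := by
      rw [hn]; exact dvd_pow_self 2 hn0
    obtain ⟨z, hz⟩ := exists_prime_orderOf_dvd_card' 2 h2
    intro hbot
    have hzW : ((z : ↥T) : G) ∈ W := by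
      rw [hW]; unfold Cfsg.omegaOne
      refine Subgroup.subset_closure ⟨⟨(z : ↥T).2, ?_⟩, ?_⟩
      · refine Subgroup.mem_centralizer_iff.2 ?_
        intro t ht
        have := (Subgroup.mem_center_iff.1 z.2) ⟨t, ht⟩
        exact congrArg Subtype.val this
      · have : z ^ 2 = 1 := by rw [← hz]; exact pow_orderOf_eq_one z
        have := congrArg (fun y : Subgroup.center ↥T => ((y : ↥T) : G)) this
        simpa using this
    rw [hbot, Subgroup.mem_bot] at hzW
    have hz1 : z = 1 := by
      apply Subtype.ext; apply Subtype.ext; simpa using hzW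
    rw [hz1, orderOf_one] at hz
    exact absurd hz (by norm_num)
  have hx : x ∈ Subgroup.normalizer
      ((Subgroup.centralizer (W : Set G) : Subgroup G) : Set G) :=
    normalizer_le_normalizer_centralizer W
      (normalizer_le_normalizer_omegaOne 2 _
        (normalizer_le_normalizer_inf_centralizer T (mem_normalizer_of_map_conj T x hxT)))
  have main : ¬ (P₁ ≤ Subgroup.centralizer (W : Set G) ∨ P₂ ≤ Subgroup.centralizer (W : Set G)) := by
    intro h
    -- both are in `C(W)`: need `x`-symmetry, but `x` itself need not centralize `W`; argue directly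
    have h12 : P₁ ≤ Subgroup.centralizer (W : Set G) ∧ P₂ ≤ Subgroup.centralizer (W : Set G) := by
      have hxN := Subgroup.mem_normalizer_iff.1 hx
      have hxN' := Subgroup.mem_normalizer_iff.1 (Subgroup.inv_mem _ hx)
      rcases h with h | h
      · refine ⟨h, ?_⟩
        intro y hy
        rw [hxP] at hy
        obtain ⟨p, hp, rfl⟩ := hy
        simp only [MulEquiv.coe_toMonoidHom, MulAut.conj_apply]
        exact (hxN p).1 (h hp)
      · refine ⟨?_, h⟩
        intro p hp
        have hy : x * p * x⁻¹ ∈ P₂ := by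
          rw [hxP]
          exact ⟨p, hp, by simp [MulAut.conj_apply]⟩
        have := (hxN' _).1 (h hy)
        simpa [mul_assoc] using this
    have htop : Subgroup.centralizer (W : Set G) = ⊤ := by
      rw [eq_top_iff, ← hgen]
      exact sup_le h12.1 h12.2
    have hWn : W.Normal := by
      refine ⟨fun n hn g => ?_⟩
      have hg : g ∈ Subgroup.centralizer (W : Set G) := by rw [htop]; trivial
      have := (Subgroup.mem_centralizer_iff.1 hg) n hn
      have e : g * n * g⁻¹ = n := by rw [← this]; group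
      rw [e]; exact hn
    exact hWne (core W hWn hWT)
  intro P hP
  rcases hP with rfl | hP
  · exact fun h => main (Or.inl h)
  · rw [Set.mem_singleton_iff] at hP
    subst hP
    exact fun h => main (Or.inr h)

end Cfsg.Agent.Lib.Helper44.SimsFront
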