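import Mathlib
import Cfsg.Prelude.Def_LieClassical
import Cfsg.Agent.Lib.Helper44.TwoRank

set_option autoImplicit false

namespace Cfsg.Agent.Lib.Helper44

section oddqf
variable (m : ℕ) (F : Type*) [Field F]

/-- the form `x₀² + Σ x_i y_i` as a `QuadraticForm` -/
noncomputable def oddQF : QuadraticForm F (Unit ⊕ (Fin m ⊕ Fin m) → F) :=
  QuadraticMap.proj (Sum.inl ()) (Sum.inl ()) +
    ∑ i : Fin m, QuadraticMap.proj (Sum.inr (Sum.inl i)) (Sum.inr (Sum.inr i))

theorem oddQF_coe : ⇑(oddQF m F) = Cfsg.quadFormOdd m F := by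
  funext v
  unfold oddQF Cfsg.quadFormOdd
  rw [add_apply, sum_apply]
  simp [sq]

theorem oddQF_polar (u v : Unit ⊕ (Fin m ⊕ Fin m) → F) :
    QuadraticMap.polar (⇑(oddQF m F)) u v = 2 * u (Sum.inl ()) * v (Sum.inl ()) +
      ∑ i : Fin m, (u (Sum.inr (Sum.inl i)) * v (Sum.inr (Sum.inr i)) +
        v (Sum.inr (Sum.inl i)) * u (Sum.inr (Sum.inr i))) := by
  rw [oddQF_coe]
  unfold QuadraticMap.polar Cfsg.quadFormOdd
  have : ∀ a b c d e f : F, (a + b) - (c + d) - (e + f) = (a - c - e) + (b - d - f) := by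
    intros; ring
  rw [this, ← Finset.sum_sub_distrib, ← Finset.sum_sub_distrib]
  congr 1
  · simp only [Pi.add_apply]; ring
  · apply Finset.sum_congr rfl
    intro i _
    simp only [Pi.add_apply]
    ring

theorem oddQF_nondeg (h2 : (2 : F) ≠ 0) : (QuadraticMap.polarBilin (oddQF m F)).Nondegenerate := by
  classical
  have hleft : ∀ x : Unit ⊕ (Fin m ⊕ Fin m) → F,
      (∀ y, QuadraticMap.polar (⇑(oddQF m F)) x y = 0) → x = 0 := by
    intro x hx
    funext j
    rcases j with ⟨⟩ | j | j
    · have h := hx (Pi.single (Sum.inl ()) 1)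
      rw [oddQF_polar] at h
      simp at h
      exact h.resolve_left h2
    · have h := hx (Pi.single (Sum.inr (Sum.inr j)) 1)
      rw [oddQF_polar, Finset.sum_eq_single j] at h
      · simpa using h
      · intro i _ hij
        simp [hij]
      · intro h'
        exact absurd (Finset.mem_univ j) h'
    · have h := hx (Pi.single (Sum.inr (Sum.inl j)) 1)
      rw [oddQF_polar, Finset.sum_eq_single j] at h
      · simpa using h
      · intro i _ hij
        simp [hij]
      · intro h'
        exact absurd (Finset.mem_univ j) h'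
  constructor
  · intro x hx
    exact hleft x hx
  · intro y hy
    apply hleft y
    intro x
    rw [QuadraticMap.polar_comm]
    exact hy x

end oddqf

end Cfsg.Agent.Lib.Helper44
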