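import Mathlib
import Cfsg.Agent.Lib.Helper44.EichlerOdd

set_option autoImplicit false
set_option linter.unusedSimpArgs false
set_option linter.unusedVariables false

/-!
# Maximality of the stabiliser of a totally singular subspace in `Ω(Q)` (abstract form)

`K` an overgroup in `Ω = KE Q` of the stabiliser of the totally singular subspace `W`.  The set
`RootPts Q K` of singular points whose whole root group `{E(p,w)}` lies in `K` is `K`-invariant and
contains `W`; as soon as it contains two non-perpendicular points it is everything, and `K = Ω`.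
-/

namespace Cfsg.Agent.Lib.Helper44

open Cfsg.Agent.Lib.Helper13 hiding isoGroup mem_isoGroup
open Cfsg.Agent.Lib.Helper36 Module

section tsmax
variable {F V : Type*} [Field F] [AddCommGroup V] [Module F V]

local notation "pol" => QuadraticMap.polar

/-- singular points whose whole root group lies in `K` -/
def RootPts (Q : QuadraticForm F V) (K : Subgroup ↥(isoGroup Q)) : Set V :=
  {p | p ≠ 0 ∧ ∃ hp : Q p = 0, ∀ (w : V) (hpw : pol (⇑Q) p w = 0), eichG Q p w hp hpw ∈ K}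

theorem rootPts_map (Q : QuadraticForm F V) (K : Subgroup ↥(isoGroup Q)) (k : ↥(isoGroup Q))
    (hk : k ∈ K) (p : V) (hp : p ∈ RootPts Q K) : (k : V ≃ₗ[F] V) p ∈ RootPts Q K := by
  obtain ⟨hp0, hQp, h⟩ := hp
  refine ⟨fun h0 => hp0 ((k : V ≃ₗ[F] V).map_eq_zero_iff.1 h0), by rw [isoG_Q, hQp], ?_⟩
  intro w hpw
  have hpw' : pol (⇑Q) p (((k⁻¹ : ↥(isoGroup Q)) : V ≃ₗ[F] V) w) = 0 := by
    rw [isoG_pol_inv, hpw]
  have : eichG Q ((k : V ≃ₗ[F] V) p) w (by rw [isoG_Q, hQp]) hpw =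
      k * eichG Q p (((k⁻¹ : ↥(isoGroup Q)) : V ≃ₗ[F] V) w) hQp hpw' * k⁻¹ := by
    apply isoGroup_ext
    intro z
    rw [isoG_mul_apply, isoG_mul_apply, eichG_apply, eichG_apply, conj_eich, isoG_inv_apply]
  rw [this]
  exact K.mul_mem (K.mul_mem hk (h _ hpw')) (K.inv_mem hk)

theorem rootPts_smul (Q : QuadraticForm F V) (K : Subgroup ↥(isoGroup Q)) (c : F) (hc : c ≠ 0)
    (p : V) (hp : p ∈ RootPts Q K) : c • p ∈ RootPts Q K := by
  obtain ⟨hp0, hQp, h⟩ := hp
  refine ⟨smul_ne_zero hc hp0, by rw [QuadraticMap.map_smul, hQp, smul_zero], ?_⟩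
  intro w hpw
  have hpw' : pol (⇑Q) p (c • w) = 0 := by
    rw [QuadraticMap.polar_smul_right, ← QuadraticMap.polar_smul_left, hpw]
  have : eichG Q (c • p) w (by rw [QuadraticMap.map_smul, hQp, smul_zero]) hpw =
      eichG Q p (c • w) hQp hpw' := by
    apply isoGroup_ext
    intro z
    rw [eichG_apply, eichG_apply, siegelLin_smul_left]
  rw [this]
  exact h _ hpw'

/-- the root group at `p` is transitive on the singular points not perpendicular to `p` -/
theorem rootPts_of_adj (Q : QuadraticForm F V) (K : Subgroup ↥(isoGroup Q)) (p z z' : V)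
    (hp : p ∈ RootPts Q K) (hz : Q z = 0) (hz' : z' ∈ RootPts Q K)
    (hpz : pol (⇑Q) p z ≠ 0) (hpz' : pol (⇑Q) p z' ≠ 0) : z ∈ RootPts Q K := by
  obtain ⟨hp0, hQp, h⟩ := hp
  have hQz' : Q z' = 0 := hz'.2.1
  have hs : Q ((pol (⇑Q) p z)⁻¹ • z) = 0 := by rw [QuadraticMap.map_smul, hz, smul_zero]
  have hs' : Q ((pol (⇑Q) p z')⁻¹ • z') = 0 := by rw [QuadraticMap.map_smul, hQz', smul_zero]
  have hps : pol (⇑Q) p ((pol (⇑Q) p z)⁻¹ • z) = 1 := by
    rw [QuadraticMap.polar_smul_right, smul_eq_mul, inv_mul_cancel₀ hpz]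
  have hps' : pol (⇑Q) p ((pol (⇑Q) p z')⁻¹ • z') = 1 := by
    rw [QuadraticMap.polar_smul_right, smul_eq_mul, inv_mul_cancel₀ hpz']
  have hmove := eich_trans_opp Q p ((pol (⇑Q) p z')⁻¹ • z') ((pol (⇑Q) p z)⁻¹ • z) hs' hs hps' hps
  have hperp : pol (⇑Q) p ((pol (⇑Q) p z')⁻¹ • z' - (pol (⇑Q) p z)⁻¹ • z) = 0 := by
    rw [QuadraticMap.polar_sub_right, hps', hps, sub_self]
  have hk := h _ hperp
  have h1 := rootPts_map Q K _ hk _ (rootPts_smul Q K (pol (⇑Q) p z')⁻¹ (inv_ne_zero hpz') z' hz')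
  rw [eichG_apply, hmove] at h1
  have h2 := rootPts_smul Q K (pol (⇑Q) p z) hpz _ h1
  rwa [smul_smul, mul_inv_cancel₀ hpz, one_smul] at h2

/-- two non-perpendicular root points force all singular points to be root points -/
theorem rootPts_all [FiniteDimensional F V] (Q : QuadraticForm F V)
    (hQ : (QuadraticMap.polarBilin Q).Nondegenerate) (K : Subgroup ↥(isoGroup Q)) (p p' : V)
    (hp : p ∈ RootPts Q K) (hp' : p' ∈ RootPts Q K) (hpp' : pol (⇑Q) p p' ≠ 0)
    (z : V) (hz0 : z ≠ 0) (hz : Q z = 0) : z ∈ RootPts Q K := by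
  by_cases h1 : pol (⇑Q) p z = 0
  · by_cases h2 : ∃ c : F, z = c • p
    · obtain ⟨c, rfl⟩ := h2
      exact rootPts_smul Q K c (by rintro rfl; exact hz0 (zero_smul _ _)) p hp
    · push Not at h2
      obtain ⟨y, hQy, hpy, hzy⟩ := exists_sing_dual2 Q hQ p z hp.1 h2 hp.2.1 h1
      have hy : y ∈ RootPts Q K :=
        rootPts_of_adj Q K p y p' hp hQy hp' (by rw [hpy]; exact one_ne_zero) hpp'
      exact rootPts_of_adj Q K y z p hy hz hp
        (by rw [QuadraticMap.polar_comm, hzy]; exact one_ne_zero)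
        (by rw [QuadraticMap.polar_comm, hpy]; exact one_ne_zero)
  · exact rootPts_of_adj Q K p z p' hp hz hp' h1 hpp'

theorem KE_le_of_rootPts (Q : QuadraticForm F V) (K : Subgroup ↥(isoGroup Q))
    (h : ∀ z, z ≠ 0 → Q z = 0 → z ∈ RootPts Q K) : KE Q ≤ K := by
  unfold KE
  rw [Subgroup.closure_le]
  rintro g ⟨p, w, hp, hpw, hg⟩
  by_cases hp0 : p = 0
  · have : g = 1 := by
      apply isoGroup_ext
      intro z
      rw [hg, hp0, siegelLin_apply, QuadraticMap.polar_zero_left, smul_zero, zero_smul, add_zero,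
        sub_zero]
      rfl
    rw [this]
    exact K.one_mem
  · obtain ⟨_, hQp, h'⟩ := h p hp0 hp
    have : g = eichG Q p w hQp hpw := isoGroup_ext (fun z => by rw [hg, eichG_apply])
    rw [this]
    exact h' w hpw

/-- the stabiliser of a subspace in the isometry group -/
def stabG (Q : QuadraticForm F V) (W : Submodule F V) : Subgroup ↥(isoGroup Q) where
  carrier := {g | ∀ v, v ∈ W ↔ (g : V ≃ₗ[F] V) v ∈ W}
  mul_mem' {a b} ha hb := by
    intro v
    rw [isoG_mul_apply]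
    exact (hb v).trans (ha _)
  one_mem' := by intro v; rfl
  inv_mem' {a} ha := by
    intro v
    have := ha (((a⁻¹ : ↥(isoGroup Q)) : V ≃ₗ[F] V) v)
    rw [isoG_inv_apply] at this
    exact this.symm

theorem mem_stabG {Q : QuadraticForm F V} {W : Submodule F V} {g : ↥(isoGroup Q)} :
    g ∈ stabG Q W ↔ ∀ v, v ∈ W ↔ (g : V ≃ₗ[F] V) v ∈ W := Iff.rfl

theorem mem_stabG_of_fix {Q : QuadraticForm F V} {W : Submodule F V} {g : ↥(isoGroup Q)}
    (h : ∀ v ∈ W, (g : V ≃ₗ[F] V) v = v) : g ∈ stabG Q W := by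
  intro v
  constructor
  · intro hv
    rw [h v hv]; exact hv
  · intro hv
    have := h _ hv
    have h2 := (g : V ≃ₗ[F] V).injective this
    rw [← h2]; exact hv

theorem pol_eq_zero_of_ts (Q : QuadraticForm F V) (W : Submodule F V) (hW : ∀ w ∈ W, Q w = 0)
    (u v : V) (hu : u ∈ W) (hv : v ∈ W) : pol (⇑Q) u v = 0 := by
  unfold QuadraticMap.polar
  rw [hW _ (W.add_mem hu hv), hW u hu, hW v hv]
  simp

/-- Eichler transformations centred in a totally singular `W` stabilise `W` -/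
theorem eichG_mem_stabG (Q : QuadraticForm F V) (W : Submodule F V) (hW : ∀ w ∈ W, Q w = 0)
    (p w : V) (hpW : p ∈ W) (hp : Q p = 0) (hpw : pol (⇑Q) p w = 0) :
    eichG Q p w hp hpw ∈ stabG Q W := by
  have key : ∀ (w' : V) (hpw' : pol (⇑Q) p w' = 0), ∀ v ∈ W,
      ((eichG Q p w' hp hpw' : ↥(isoGroup Q)) : V ≃ₗ[F] V) v ∈ W := by
    intro w' hpw' v hv
    rw [eichG_apply, siegelLin_apply, pol_eq_zero_of_ts Q W hW p v hpW hv, zero_smul, sub_zero]
    exact W.add_mem hv (W.smul_mem _ hpW)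
  have hneg : pol (⇑Q) p (-w) = 0 := by rw [QuadraticMap.polar_neg_right, hpw, neg_zero]
  have hinv : eichG Q p w hp hpw * eichG Q p (-w) hp hneg = 1 := by
    rw [← eichG_add]
    have : eichG Q p (w + -w) hp (by rw [add_neg_cancel, QuadraticMap.polar_zero_right]) =
        eichG Q p 0 hp (by rw [QuadraticMap.polar_zero_right]) := by
      congr 1
      exact add_neg_cancel w
    rw [this, eichG_zero]
  intro v
  constructor
  · exact key w hpw v
  · intro hv
    have h1 := key (-w) hneg _ hv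
    have h2 : ((eichG Q p (-w) hp hneg : ↥(isoGroup Q)) : V ≃ₗ[F] V)
        (((eichG Q p w hp hpw : ↥(isoGroup Q)) : V ≃ₗ[F] V) v) = v := by
      rw [← isoG_mul_apply]
      have : eichG Q p (-w) hp hneg * eichG Q p w hp hpw = 1 := by
        rw [eichG_comm]; exact hinv
      rw [this]; rfl
    rw [h2] at h1
    exact h1

/-- a singular partner inside `W^⊥` for a singular vector of `W^⊥` outside `W` -/
theorem exists_partner_in_perp [FiniteDimensional F V] (Q : QuadraticForm F V)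
    (hQ : (QuadraticMap.polarBilin Q).Nondegenerate) (W : Submodule F V) (z : V)
    (hz : Q z = 0) (hzW : ∀ u ∈ W, pol (⇑Q) u z = 0) (hz' : z ∉ W) :
    ∃ x : V, Q x = 0 ∧ (∀ u ∈ W, pol (⇑Q) u x = 0) ∧ pol (⇑Q) x z = 1 := by
  have hrefl : (QuadraticMap.polarBilin Q).IsRefl := by
    intro x y h
    rw [QuadraticMap.polarBilin_apply_apply] at h ⊢
    rw [QuadraticMap.polar_comm]; exact h
  have hoo := LinearMap.BilinForm.orthogonal_orthogonal hQ hrefl W
  have : ∃ x₀ ∈ LinearMap.BilinForm.orthogonal (QuadraticMap.polarBilin Q) W, pol (⇑Q) x₀ z ≠ 0 := by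
    by_contra hcon
    push Not at hcon
    apply hz'
    rw [← hoo, LinearMap.BilinForm.mem_orthogonal_iff]
    intro n hn
    rw [QuadraticMap.polarBilin_apply_apply]
    exact hcon n hn
  obtain ⟨x₀, hx₀, hx₀z⟩ := this
  rw [LinearMap.BilinForm.mem_orthogonal_iff] at hx₀
  obtain ⟨x₁, hx₁⟩ : ∃ x₁, x₁ = (pol (⇑Q) x₀ z)⁻¹ • x₀ := ⟨_, rfl⟩
  have hx₁z : pol (⇑Q) z x₁ = 1 := by
    rw [hx₁, QuadraticMap.polar_smul_right, smul_eq_mul, QuadraticMap.polar_comm (⇑Q) z x₀,
      inv_mul_cancel₀ hx₀z]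
  have hx₁W : ∀ u ∈ W, pol (⇑Q) u x₁ = 0 := by
    intro u hu
    have := hx₀ u hu
    rw [QuadraticMap.polarBilin_apply_apply] at this
    rw [hx₁, QuadraticMap.polar_smul_right, this, smul_zero]
  refine ⟨x₁ - Q x₁ • z, Q_sub_smul_one Q x₁ z hz hx₁z, ?_, ?_⟩
  · intro u hu
    rw [QuadraticMap.polar_sub_right, QuadraticMap.polar_smul_right, hx₁W u hu, hzW u hu]
    simp
  · rw [QuadraticMap.polar_sub_left, QuadraticMap.polar_smul_left, pol_self_of_sing Q z hz,
      QuadraticMap.polar_comm, hx₁z]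
    simp

/-- **Maximality** of the stabiliser of a totally singular subspace: overgroups. -/
theorem ts_stab_max [Finite F] [FiniteDimensional F V] (Q : QuadraticForm F V)
    (hQ : (QuadraticMap.polarBilin Q).Nondegenerate)
    (W : Submodule F V) (hW : ∀ w ∈ W, Q w = 0)
    (hex : ∀ x, Q x = 0 → (∀ u ∈ W, pol (⇑Q) u x = 0) → x ∉ W →
      ∃ w, (∀ u ∈ W, pol (⇑Q) u w = 0) ∧ pol (⇑Q) x w = 0 ∧ Q w ≠ 0)
    (K : Subgroup ↥(isoGroup Q)) (h1 : stabG Q W ⊓ KE Q ≤ K) (h2 : K ≤ KE Q) :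
    K = stabG Q W ⊓ KE Q ∨ K = KE Q := by
  by_cases hKH : K ≤ stabG Q W
  · left
    exact le_antisymm (le_inf hKH h2) h1
  right
  refine le_antisymm h2 ?_
  -- points of `W` are root points
  have hWroot : ∀ p ∈ W, p ≠ 0 → p ∈ RootPts Q K := by
    intro p hpW hp0
    refine ⟨hp0, hW p hpW, fun w hpw => h1 ⟨eichG_mem_stabG Q W hW p w hpW _ hpw, eichG_mem_KE _ _ _ _ _⟩⟩
  -- an element of `K` moving a vector of `W` out of `W`
  have hmove : ∃ k ∈ K, ∃ v ∈ W, (k : V ≃ₗ[F] V) v ∉ W := by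
    rw [SetLike.not_le_iff_exists] at hKH
    obtain ⟨g, hgK, hg⟩ := hKH
    rw [mem_stabG] at hg
    push Not at hg
    obtain ⟨v, hv⟩ := hg
    rcases hv with ⟨hv1, hv2⟩ | ⟨hv1, hv2⟩
    · exact ⟨g, hgK, v, hv1, hv2⟩
    · refine ⟨g⁻¹, K.inv_mem hgK, (g : V ≃ₗ[F] V) v, hv2, ?_⟩
      rw [isoG_inv_apply']
      exact hv1
  obtain ⟨k, hkK, v, hvW, hkv⟩ := hmove
  have hv0 : v ≠ 0 := by
    rintro rfl
    apply hkv
    rw [map_zero]; exact W.zero_mem
  obtain ⟨z', hz'def⟩ : ∃ z', z' = (k : V ≃ₗ[F] V) v := ⟨_, rfl⟩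
  rw [← hz'def] at hkv
  have hz'root : z' ∈ RootPts Q K := by
    rw [hz'def]; exact rootPts_map Q K k hkK v (hWroot v hvW hv0)
  have hQz' : Q z' = 0 := hz'root.2.1
  -- a pair of non-perpendicular root points
  have hpair : ∃ p p', p ∈ RootPts Q K ∧ p' ∈ RootPts Q K ∧ pol (⇑Q) p p' ≠ 0 := by
    by_cases hA : ∃ u ∈ W, pol (⇑Q) u z' ≠ 0
    · obtain ⟨u, huW, hu⟩ := hA
      have hu0 : u ≠ 0 := by
        rintro rfl
        exact hu (QuadraticMap.polar_zero_left _ _)
      exact ⟨u, z', hWroot u huW hu0, hz'root, hu⟩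
    · push Not at hA
      obtain ⟨x, hQx, hxW, hxz⟩ := exists_partner_in_perp Q hQ W z' hQz' hA hkv
      have hxnW : x ∉ W := by
        intro hx
        have := hA x hx
        rw [hxz] at this
        exact one_ne_zero this
      obtain ⟨w, hwW, hxw, hQw⟩ := hex x hQx hxW hxnW
      have hh : eichG Q x w hQx hxw ∈ K := by
        apply h1
        refine ⟨mem_stabG_of_fix ?_, eichG_mem_KE _ _ _ _ _⟩
        intro u hu
        rw [eichG_apply, siegelLin_apply, QuadraticMap.polar_comm (⇑Q) w u, hwW u hu,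
          QuadraticMap.polar_comm (⇑Q) x u, hxW u hu]
        simp
      refine ⟨z', _, hz'root, rootPts_map Q K _ hh z' hz'root, ?_⟩
      rw [eichG_apply, eich_move Q x w z' hQz' hxz]
      exact neg_ne_zero.2 hQw
  obtain ⟨p, p', hp, hp', hpp'⟩ := hpair
  exact KE_le_of_rootPts Q K (fun z hz0 hz => rootPts_all Q hQ K p p' hp hp' hpp' z hz0 hz)

end tsmax

end Cfsg.Agent.Lib.Helper44
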