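import Mathlib
import Cfsg.Prelude.Def_GeometricClasses
import Cfsg.Agent.Lib.Helper44.TSMax

set_option autoImplicit false
set_option linter.unusedSimpArgs false
set_option linter.unusedVariables false

/-!
# Maximality of the stabiliser of a totally singular subspace in `Ω(Q)`: final abstract form
-/

namespace Cfsg.Agent.Lib.Helper44

open Cfsg.Agent.Lib.Helper13 hiding isoGroup mem_isoGroup
open Cfsg.Agent.Lib.Helper36 Module

section general

/-- maximality transports along an injective homomorphism -/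
theorem isMaximalIn_map_of_injective {G G' : Type*} [Group G] [Group G'] (f : G →* G')
    (hf : Function.Injective f) {K H : Subgroup G} (h : Cfsg.Geo.IsMaximalIn K H) :
    Cfsg.Geo.IsMaximalIn (K.map f) (H.map f) := by
  obtain ⟨hlt, hM⟩ := h
  refine ⟨(Subgroup.map_lt_map_iff_of_injective hf).2 hlt, fun M h1 h2 => ?_⟩
  have hMr : M ≤ f.range := h2.trans (Subgroup.map_le_range f K)
  have e : (M.comap f).map f = M := Subgroup.map_comap_eq_self hMr
  have h1' : H ≤ M.comap f := Subgroup.map_le_iff_le_comap.1 h1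
  have h2' : M.comap f ≤ K := by
    intro x hx
    have : f x ∈ K.map f := h2 hx
    obtain ⟨y, hy, hyx⟩ := this
    rw [← hf hyx]; exact hy
  rcases hM (M.comap f) h1' h2' with h | h
  · left; rw [← e, h]
  · right; rw [← e, h]

end general

section tsmax
variable {F V : Type*} [Field F] [AddCommGroup V] [Module F V]

local notation "pol" => QuadraticMap.polar

theorem finrank_sup_span_of_not_mem [FiniteDimensional F V] (W : Submodule F V) (x : V)
    (hx : x ∉ W) : finrank F ↥(W ⊔ Submodule.span F {x}) = finrank F W + 1 := by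
  have hx0 : x ≠ 0 := by
    rintro rfl
    exact hx W.zero_mem
  have h := Submodule.finrank_sup_add_finrank_inf_eq W (Submodule.span F {x})
  have hdisj : W ⊓ Submodule.span F {x} = ⊥ :=
    disjoint_iff.1 ((Submodule.disjoint_span_singleton' hx0).2 hx)
  rw [hdisj, finrank_bot, add_zero, finrank_span_singleton hx0] at h
  exact h

/-- from the dimension condition: a nonsingular vector in `(W + x)^⊥` -/
theorem exists_nonsing_perp [FiniteDimensional F V] (Q : QuadraticForm F V)
    (hQ : (QuadraticMap.polarBilin Q).Nondegenerate) (W : Submodule F V)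
    (hW : ∀ w ∈ W, Q w = 0)
    (hdim : ∀ U : Submodule F V, W ≤ U → (∀ u ∈ U, Q u = 0) →
      finrank F U = finrank F W + 1 → 2 * finrank F U ≠ finrank F V)
    (x : V) (hQx : Q x = 0) (hxW : ∀ u ∈ W, pol (⇑Q) u x = 0) (hx : x ∉ W) :
    ∃ w, (∀ u ∈ W, pol (⇑Q) u w = 0) ∧ pol (⇑Q) x w = 0 ∧ Q w ≠ 0 := by
  by_contra hcon
  push Not at hcon
  have hrefl : (QuadraticMap.polarBilin Q).IsRefl := by
    intro x y h
    rw [QuadraticMap.polarBilin_apply_apply] at h ⊢
    rw [QuadraticMap.polar_comm]; exact h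
  obtain ⟨U, hUdef⟩ : ∃ U, U = W ⊔ Submodule.span F {x} := ⟨_, rfl⟩
  have hWU : W ≤ U := by rw [hUdef]; exact le_sup_left
  have hUts : ∀ u ∈ U, Q u = 0 := by
    intro u hu
    rw [hUdef] at hu
    obtain ⟨a, ha, b, hb, rfl⟩ := Submodule.mem_sup.1 hu
    obtain ⟨c, rfl⟩ := Submodule.mem_span_singleton.1 hb
    rw [Q_add', hW a ha, QuadraticMap.map_smul, hQx, QuadraticMap.polar_smul_right, hxW a ha]
    simp
  have hUdim : finrank F U = finrank F W + 1 := by
    rw [hUdef]; exact finrank_sup_span_of_not_mem W x hx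
  -- every vector of `U^⊥` is singular
  have hperp_sing : ∀ w ∈ LinearMap.BilinForm.orthogonal (QuadraticMap.polarBilin Q) U, Q w = 0 := by
    intro w hw
    rw [LinearMap.BilinForm.mem_orthogonal_iff] at hw
    apply hcon w
    · intro u hu
      have := hw u (hWU hu)
      rwa [QuadraticMap.polarBilin_apply_apply] at this
    · have := hw x (by rw [hUdef]; exact Submodule.mem_sup_right (Submodule.mem_span_singleton_self x))
      rwa [QuadraticMap.polarBilin_apply_apply] at this
  have h1 : LinearMap.BilinForm.orthogonal (QuadraticMap.polarBilin Q) U ≤ U := by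
    have hoo := LinearMap.BilinForm.orthogonal_orthogonal hQ hrefl U
    intro w hw
    rw [← hoo, LinearMap.BilinForm.mem_orthogonal_iff]
    intro n hn
    rw [QuadraticMap.polarBilin_apply_apply]
    exact pol_eq_zero_of_ts Q _ hperp_sing n w hn hw
  have h2 : U ≤ LinearMap.BilinForm.orthogonal (QuadraticMap.polarBilin Q) U := by
    intro w hw
    rw [LinearMap.BilinForm.mem_orthogonal_iff]
    intro n hn
    rw [QuadraticMap.polarBilin_apply_apply]
    exact pol_eq_zero_of_ts Q U hUts n w hn hw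
  have h3 := LinearMap.BilinForm.finrank_orthogonal hQ U
  rw [← le_antisymm h2 h1] at h3
  have h4 : finrank F U ≤ finrank F V := Submodule.finrank_le U
  exact hdim U hWU hUts hUdim (by omega)

/-- the stabiliser is a proper subgroup of `Ω` -/
theorem ts_stab_lt [Finite F] [FiniteDimensional F V] (Q : QuadraticForm F V)
    (hQ : (QuadraticMap.polarBilin Q).Nondegenerate) (h5 : 5 ≤ finrank F V)
    (W : Submodule F V) (hW0 : W ≠ ⊥) (hW : ∀ w ∈ W, Q w = 0) :
    stabG Q W ⊓ KE Q < KE Q := by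
  refine lt_of_le_of_ne inf_le_right ?_
  intro heq
  obtain ⟨p, hpW, hp0⟩ := Submodule.exists_mem_ne_zero_of_ne_bot hW0
  have hQp : Q p = 0 := hW p hpW
  obtain ⟨y, hQy, hpy⟩ := exists_hyp_partner Q hQ p hp0 hQp
  have hyW : y ∉ W := by
    intro hy
    rw [pol_eq_zero_of_ts Q W hW p y hpW hy] at hpy
    exact zero_ne_one hpy
  have hind : ∀ c : F, y ≠ c • p := by
    intro c hc
    rw [hc, QuadraticMap.polar_smul_right, pol_self_of_sing Q p hQp, smul_zero] at hpy
    exact zero_ne_one hpy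
  obtain ⟨k, hk, hkp⟩ := KE_trans_sing Q hQ h5 p y hp0 hQp hQy hind
  have : k ∈ stabG Q W ⊓ KE Q := by rw [heq]; exact hk
  have h1 := (mem_stabG.1 this.1 p).1 hpW
  rw [hkp] at h1
  exact hyW h1

/-- **Maximality of the stabiliser of a totally singular subspace** in `Ω(Q) = ⁅O(Q), O(Q)⁆`, as
subgroups of the group of all linear automorphisms. -/
theorem ts_isMaximalIn [Finite F] [FiniteDimensional F V] (Q : QuadraticForm F V)
    (hQ : (QuadraticMap.polarBilin Q).Nondegenerate) (h7 : 7 ≤ finrank F V)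
    (W : Submodule F V) (hW0 : W ≠ ⊥) (hW : ∀ w ∈ W, Q w = 0)
    (hdim : ∀ U : Submodule F V, W ≤ U → (∀ u ∈ U, Q u = 0) →
      finrank F U = finrank F W + 1 → 2 * finrank F U ≠ finrank F V)
    (S : Subgroup (V ≃ₗ[F] V)) (hS : ∀ g : V ≃ₗ[F] V, g ∈ S ↔ ∀ v, v ∈ W ↔ g v ∈ W) :
    Cfsg.Geo.IsMaximalIn ⁅isoGroup Q, isoGroup Q⁆ (S ⊓ ⁅isoGroup Q, isoGroup Q⁆) := by
  have hKE := commutator_eq_KE Q hQ h7
  have hΩ : ⁅isoGroup Q, isoGroup Q⁆ = (KE Q).map (isoGroup Q).subtype := by
    rw [← hKE, Subgroup.map_subtype_commutator]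
  have hH : S ⊓ ⁅isoGroup Q, isoGroup Q⁆ = (stabG Q W ⊓ KE Q).map (isoGroup Q).subtype := by
    rw [hΩ]
    ext g
    constructor
    · rintro ⟨hg1, k, hk, rfl⟩
      exact ⟨k, ⟨(hS _).1 hg1, hk⟩, rfl⟩
    · rintro ⟨k, ⟨hk1, hk2⟩, rfl⟩
      exact ⟨(hS _).2 hk1, k, hk2, rfl⟩
  rw [hH, hΩ]
  apply isMaximalIn_map_of_injective _ (Subgroup.subtype_injective _)
  refine ⟨ts_stab_lt Q hQ (by omega) W hW0 hW, fun M h1 h2 => ?_⟩
  exact ts_stab_max Q hQ W hW (exists_nonsing_perp Q hQ W hW hdim) M h1 h2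

end tsmax

end Cfsg.Agent.Lib.Helper44
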