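import Cfsg.Agent.Lib.Helper92.BPGAlg
import Cfsg.Agent.Lib.Helper40.BPConj

/-!
# PROJECT BP (helper92), module BP-[L2-BR5]: `Br_Q` maps `A^P` onto the `P`-fixed points of
`k[C_G(Q)]`; `Br_Q` on `R[C_G(Q)]` is reduction mod the maximal ideal
-/

set_option autoImplicit false

namespace Cfsg.Agent.Lib.Helper44.BP

open Cfsg.Agent.Lib.Helper92.BP Cfsg.Agent.Lib.Helper40.BP

variable {R : Type*} [CommRing R] [IsLocalRing R] {G : Type*} [Group G]

theorem coeff_br' (Q : Subgroup G) (a : MonoidAlgebra R G)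
    (z : Subgroup.centralizer (Q : Set G)) :
    (br R Q a).coeff z = IsLocalRing.residue R (a.coeff (z : G)) := by
  unfold br
  simp

/-- conjugation by an element normalising `Q` preserves `C_G(Q)` -/
theorem conj_mem_centralizer_iff {Q P : Subgroup G} (hQP : Q ≤ P)
    (hn : (Q.subgroupOf P).Normal) {u : G} (hu : u ∈ P) (x : G) :
    u * x * u⁻¹ ∈ Subgroup.centralizer (Q : Set G) ↔ x ∈ Subgroup.centralizer (Q : Set G) := by
  have key : ∀ v ∈ P, ∀ x ∈ Subgroup.centralizer (Q : Set G),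
      v * x * v⁻¹ ∈ Subgroup.centralizer (Q : Set G) := by
    intro v hv x hx
    rw [Subgroup.mem_centralizer_iff] at hx ⊢
    intro q hq
    have hq' : v⁻¹ * q * v ∈ Q := by
      have h1 := hn.conj_mem ⟨q, hQP hq⟩ (Subgroup.mem_subgroupOf.2 hq) ⟨v⁻¹, P.inv_mem hv⟩
      have h2 := Subgroup.mem_subgroupOf.1 h1
      simpa using h2
    have h3 := hx _ hq'
    calc q * (v * x * v⁻¹) = v * ((v⁻¹ * q * v) * x) * v⁻¹ := by group
      _ = v * (x * (v⁻¹ * q * v)) * v⁻¹ := by rw [h3]
      _ = v * x * v⁻¹ * q := by group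
  constructor
  · intro h
    have := key u⁻¹ (P.inv_mem hu) _ h
    simpa [mul_assoc] using this
  · exact key u hu x

theorem exists_br_eq [Finite G] {Q P : Subgroup G} (hQP : Q ≤ P)
    (hn : (Q.subgroupOf P).Normal)
    (y : MonoidAlgebra (IsLocalRing.ResidueField R) (Subgroup.centralizer (Q : Set G)))
    (hy : ∀ u ∈ P, ∀ z z' : Subgroup.centralizer (Q : Set G),
      (z' : G) = u * (z : G) * u⁻¹ → y.coeff z' = y.coeff z) :
    ∃ a : MonoidAlgebra R G, a ∈ fixedAlg R P ∧ br R Q a = y := by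
  classical
  set σ : IsLocalRing.ResidueField R → R := fun c =>
    if c = 0 then 0 else Function.surjInv (IsLocalRing.residue_surjective (R := R)) c with hσ
  have hσr : ∀ c, IsLocalRing.residue R (σ c) = c := by
    intro c
    by_cases hc : c = 0
    · simp [hσ, hc]
    · simp only [hσ, if_neg hc]
      exact Function.surjInv_eq _ c
  set f : G → R := fun g =>
    if h : g ∈ Subgroup.centralizer (Q : Set G) then σ (y.coeff ⟨g, h⟩) else 0 with hf
  refine ⟨MonoidAlgebra.ofCoeff (Finsupp.equivFunOnFinite.symm f), ?_, ?_⟩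
  · rw [mem_fixedAlg_iff_coeff]
    intro u hu x
    simp only [Finsupp.equivFunOnFinite_symm_apply_apply, hf]
    by_cases hx : x ∈ Subgroup.centralizer (Q : Set G)
    · have hx' : u * x * u⁻¹ ∈ Subgroup.centralizer (Q : Set G) :=
        (conj_mem_centralizer_iff hQP hn hu x).2 hx
      rw [dif_pos hx, dif_pos hx']
      congr 1
      exact hy u hu ⟨x, hx⟩ ⟨u * x * u⁻¹, hx'⟩ rfl
    · have hx' : u * x * u⁻¹ ∉ Subgroup.centralizer (Q : Set G) := fun h =>
        hx ((conj_mem_centralizer_iff hQP hn hu x).1 h)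
      rw [dif_neg hx, dif_neg hx']
  · ext z
    rw [coeff_br']
    simp only [Finsupp.equivFunOnFinite_symm_apply_apply, hf]
    rw [dif_pos z.2]
    exact hσr _

theorem br_mapDomain (Q : Subgroup G)
    (a : MonoidAlgebra R (Subgroup.centralizer (Q : Set G))) :
    br R Q (MonoidAlgebra.mapDomainRingHom R (Subgroup.centralizer (Q : Set G)).subtype a) =
      MonoidAlgebra.mapRingHom _ (IsLocalRing.residue R) a := by
  ext z
  rw [coeff_br']
  simp

end Cfsg.Agent.Lib.Helper44.BP
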