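import Cfsg.Agent.Lib.Helper91.F4Out.F4Defs
import Cfsg.Agent.Lib.Helper18.F4N

/-!
# PROJECT F4OUT (helper91), module F4OUT-[C-SYL]: `U¹` is a Sylow `2`-subgroup of `²F₄(q)`
-/

set_option autoImplicit false
set_option linter.unusedSectionVars false

namespace Cfsg.Agent.Lib.Helper44.F4Out

open Cfsg Cfsg.Lie Cfsg.Agent.Lib.Helper18 Cfsg.Agent.Lib.Helper18.F4T Cfsg.Agent.Lib.Helper91.TwOut
open Cfsg.Agent.Lib.Helper91.ReeF4 Cfsg.Agent.Lib.Helper91.SigAbs Cfsg.Agent.Lib.Helper91.ExcAut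
open Cfsg.Agent.Lib.Helper61.ReeF4 Cfsg.Agent.Lib.Helper91.F4Out

universe u

variable (K : Type u) [Field K] [Fintype K] [CharP K 2] (m : ℕ)

theorem card_UF4 (hK : Fintype.card K = 2 ^ (2 * m + 1)) :
    Nat.card ↥(UF4 K m) = (2 ^ (2 * m + 1)) ^ 12 := by
  have hq := hq_of_card hK
  have h := card_U1 K m hq
  rw [hK] at h
  rw [← h]
  apply Nat.card_congr
  exact
    { toFun := fun x => ⟨((x : ↥(GF4 K m)) : GL chevF4.Idx K),
        Subgroup.mem_inf.mpr ⟨(mem_UF4 K m x.1).mp x.2, x.1.2⟩⟩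
      invFun := fun y => ⟨⟨y.1, (Subgroup.mem_inf.mp y.2).2⟩,
        (mem_UF4 K m _).mpr (Subgroup.mem_inf.mp y.2).1⟩
      left_inv := fun x => rfl
      right_inv := fun y => rfl }

/-- **F4OUT-[C-SYL]** `U¹` is a Sylow `2`-subgroup of `²F₄(q)`. -/
theorem sylow_F4 (hK : Fintype.card K = 2 ^ (2 * m + 1)) :
    IsPGroup 2 ↥(UF4 K m) ∧ ¬ 2 ∣ (UF4 K m).index := by
  have hU := card_UF4 K m hK
  have hG := card_twistedF4 (K := K) (m := m) hK
  have : Fact (Nat.Prime 2) := ⟨Nat.prime_two⟩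
  constructor
  · apply IsPGroup.of_card (n := (2 * m + 1) * 12)
    rw [hU, ← pow_mul]
  · intro hdvd
    have hmul := Subgroup.card_mul_index (UF4 K m)
    rw [hU] at hmul
    set q := 2 ^ (2 * m + 1) with hqdef
    have hqpos : 0 < q ^ 12 := by positivity
    have hidx : (UF4 K m).index = (q - 1) * (q ^ 3 + 1) * (q ^ 4 - 1) * (q ^ 6 + 1) := by
      have : q ^ 12 * (UF4 K m).index = q ^ 12 * ((q - 1) * (q ^ 3 + 1) * (q ^ 4 - 1) * (q ^ 6 + 1)) := by
        rw [hmul]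
        show Nat.card ↥(twistedF4 K (2 ^ m)) = _
        rw [hG]
        ring
      exact Nat.eq_of_mul_eq_mul_left hqpos this
    rw [hidx] at hdvd
    have hpq : 2 ∣ q := dvd_pow_self 2 (by omega)
    have hne : ∀ k : ℕ, 0 < k → ¬ 2 ∣ q ^ k - 1 := by
      intro k hk hd
      have h1 : 2 ∣ q ^ k := dvd_pow hpq (by omega)
      have hge : 1 ≤ q ^ k := Nat.one_le_pow _ _ (by positivity)
      omega
    have hne' : ∀ k : ℕ, 0 < k → ¬ 2 ∣ q ^ k + 1 := by
      intro k hk hd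
      have h1 : 2 ∣ q ^ k := dvd_pow hpq (by omega)
      omega
    rcases (Nat.prime_two.dvd_mul).mp hdvd with h | h
    · rcases (Nat.prime_two.dvd_mul).mp h with h | h
      · rcases (Nat.prime_two.dvd_mul).mp h with h | h
        · have := hne 1 (by omega)
          rw [pow_one] at this
          exact this h
        · exact hne' 3 (by omega) h
      · exact hne 4 (by omega) h
    · exact hne' 6 (by omega) h

end Cfsg.Agent.Lib.Helper44.F4Out
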