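import Cfsg.Agent.Lib.Helper60.St3Defs

set_option autoImplicit false

/-!
# STEINBERG phase 3, module ST3-[WEQ] (helper44, for helper60)

A lift `e` of a monomial element `g` (acting on the root elements through `ρ`) conjugates the canonical lifts:
`e z_s(t) e⁻¹ = z_{ρ s}(c t)`.
-/

namespace Cfsg.Agent.Lib.Helper44.St3

open Cfsg.Lie Cfsg.Agent.Lib.Helper35.St Cfsg.Agent.Lib.Helper60.St3

universe u v w

variable {D : ChevalleyDatum} {K : Type u} [Field K] {Γ : Type v} [Group Γ] {E : Type w} [Group E]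

/-- The conjugate of a diagonal element by a monomial element is diagonal. -/
theorem isDiag_conj (M : Model D K Γ) {η : Γ} {χ : ℕ → K} (hη : IsDiag M η χ) {g : Γ} {ρ ρ' : ℕ → ℕ}
    (hg : IsMonoW M g ρ ρ') : IsDiag M (g * η * g⁻¹) (fun b => χ (ρ' b)) := by
  intro b hb
  obtain ⟨-, hρ'b, -, -⟩ := hg.1 b hb
  obtain ⟨hχ0, hχ⟩ := hη _ hρ'b
  refine ⟨hχ0, fun u => ?_⟩
  obtain ⟨c', hc', hx'⟩ := hg.2.2 b hb
  -- `g X_{ρ' b}(v) g⁻¹ = X_b(c'⁻¹ v)`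
  have hback : ∀ v : K, g * M.X (ρ' b) v * g⁻¹ = M.X b (c'⁻¹ * v) := by
    intro v
    have := hx' (c'⁻¹ * v)
    rw [mul_inv_cancel_left₀ hc'] at this
    rw [← this]
    group
  have e : g * η * g⁻¹ * M.X b u * (g * η * g⁻¹)⁻¹ =
      g * (η * (g⁻¹ * M.X b u * g) * η⁻¹) * g⁻¹ := by group
  rw [e, hx', hχ, hback]
  congr 1
  field_simp

theorem conj_section (M : Model D K Γ) (ψ : E →* Γ) (hψ : Function.Surjective ψ) (z : ℕ → K → E)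
    (hz : IsSection M ψ z)
    (hd : ∀ s, s < D.nroots → ∃ (g : Γ) (χ : ℕ → K), IsDiag M g χ ∧ χ s ≠ 1)
    (g : Γ) (ρ ρ' : ℕ → ℕ) (hg : IsMonoW M g ρ ρ') (e : E) (he : ψ e = g) (s : ℕ) (hs : s < D.nroots) :
    ∃ c : K, c ≠ 0 ∧ ∀ t : K, e * z s t * e⁻¹ = z (ρ s) (c * t) := by
  obtain ⟨η, χ, hη, hd1⟩ := hd s hs
  obtain ⟨c, hc, hx⟩ := hg.2.1 s hs
  obtain ⟨hρs, -, hρ'ρ, -⟩ := hg.1 s hs
  have hd0 : χ s - 1 ≠ 0 := sub_ne_zero.mpr hd1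
  refine ⟨c, hc, fun t => ?_⟩
  obtain ⟨η', hη'⟩ := hψ η
  obtain ⟨x', hx'⟩ := hψ (M.X s (t / (χ s - 1)))
  have h1 : η' * x' * η'⁻¹ * x'⁻¹ = z s t := by
    rw [hz.brk η χ hη s hs (t / (χ s - 1)) η' x' hη' hx', mul_div_cancel₀ _ hd0]
  have hdiag' := isDiag_conj M hη hg
  have h2 : ψ (e * η' * e⁻¹) = g * η * g⁻¹ := by
    rw [map_mul, map_mul, map_inv, he, hη']
  have h3 : ψ (e * x' * e⁻¹) = M.X (ρ s) (c * (t / (χ s - 1))) := by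
    rw [map_mul, map_mul, map_inv, he, hx', hx]
  have h4 := hz.brk (g * η * g⁻¹) (fun b => χ (ρ' b)) hdiag' (ρ s) hρs (c * (t / (χ s - 1)))
    (e * η' * e⁻¹) (e * x' * e⁻¹) h2 h3
  have e1 : e * z s t * e⁻¹ =
      (e * η' * e⁻¹) * (e * x' * e⁻¹) * (e * η' * e⁻¹)⁻¹ * (e * x' * e⁻¹)⁻¹ := by
    rw [← h1]
    group
  rw [e1, h4]
  congr 1
  show (χ (ρ' (ρ s)) - 1) * (c * (t / (χ s - 1))) = c * t
  rw [hρ'ρ]
  field_simp

end Cfsg.Agent.Lib.Helper44.St3
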