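import Cfsg.Agent.Lib.Helper60.St3Defs

set_option autoImplicit false

/-!
# STEINBERG phase 3, module ST3-[DIAG] (helper44, for helper60)

For a coweight `λ = Σ m_i p_i∨` and `v ≠ 0` the element `∏_i h̄_{p_i}(v) ^ (m i)` acts diagonally on the root
elements through `s ↦ v ^ ⟨s, λ⟩`.
-/

namespace Cfsg.Agent.Lib.Helper44.St3

open Cfsg.Lie Cfsg.Agent.Lib.Helper35.St Cfsg.Agent.Lib.Helper60.St3

universe u v w

variable {D : ChevalleyDatum} {K : Type u} [Field K] {Γ : Type v} [Group Γ] {E : Type w} [Group E]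

/-- If `g` scales `X_s` by `a ≠ 0`, then `g⁻¹` scales it by `a⁻¹`. -/
theorem scale_inv (M : Model D K Γ) {g : Γ} {s : ℕ} {a : K} (ha : a ≠ 0)
    (h : ∀ u : K, g * M.X s u * g⁻¹ = M.X s (a * u)) (u : K) :
    g⁻¹ * M.X s u * g⁻¹⁻¹ = M.X s (a⁻¹ * u) := by
  have := h (a⁻¹ * u)
  rw [mul_inv_cancel_left₀ ha] at this
  rw [← this]
  group

theorem scale_mul (M : Model D K Γ) {g g' : Γ} {s : ℕ} {a a' : K}
    (h : ∀ u : K, g * M.X s u * g⁻¹ = M.X s (a * u))
    (h' : ∀ u : K, g' * M.X s u * g'⁻¹ = M.X s (a' * u)) (u : K) :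
    (g * g') * M.X s u * (g * g')⁻¹ = M.X s (a * a' * u) := by
  have e : (g * g') * M.X s u * (g * g')⁻¹ = g * (g' * M.X s u * g'⁻¹) * g⁻¹ := by group
  rw [e, h', h, mul_assoc]

theorem scale_one (M : Model D K Γ) (s : ℕ) (u : K) :
    (1 : Γ) * M.X s u * (1 : Γ)⁻¹ = M.X s (1 * u) := by
  rw [one_mul, inv_one, mul_one, one_mul]

theorem scale_pow (M : Model D K Γ) {g : Γ} {s : ℕ} {a : K}
    (h : ∀ u : K, g * M.X s u * g⁻¹ = M.X s (a * u)) (n : ℕ) (u : K) :
    g ^ n * M.X s u * (g ^ n)⁻¹ = M.X s (a ^ n * u) := by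
  induction n generalizing u with
  | zero => rw [pow_zero, pow_zero]; exact scale_one M s u
  | succ n ih =>
    rw [pow_succ, pow_succ]
    exact scale_mul M (fun u => ih u) h u

theorem scale_zpow (M : Model D K Γ) {g : Γ} {s : ℕ} {a : K} (ha : a ≠ 0)
    (h : ∀ u : K, g * M.X s u * g⁻¹ = M.X s (a * u)) (n : ℤ) (u : K) :
    g ^ n * M.X s u * (g ^ n)⁻¹ = M.X s (a ^ n * u) := by
  cases n with
  | ofNat n =>
    rw [Int.ofNat_eq_natCast, zpow_natCast, zpow_natCast]
    exact scale_pow M h n u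
  | negSucc n =>
    have h1 : g ^ Int.negSucc n = (g⁻¹) ^ (n + 1) := by rw [zpow_negSucc, inv_pow]
    have h2 : a ^ Int.negSucc n = (a⁻¹) ^ (n + 1) := by rw [zpow_negSucc, inv_pow]
    rw [h1, h2]
    exact scale_pow M (fun u => scale_inv M ha h u) (n + 1) u

/-- The action of the product over a list of indices. -/
theorem scale_list (M : Model D K Γ) (hH : M.HAct) (m : ℕ → ℤ) (v : K) (hv : v ≠ 0) (s : ℕ)
    (hs : s < D.nroots) (l : List ℕ) (hl : ∀ i ∈ l, i < D.rank) (u : K) :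
    (l.map fun i => (M.hbar (D.simple i) v) ^ (m i)).prod * M.X s u *
      ((l.map fun i => (M.hbar (D.simple i) v) ^ (m i)).prod)⁻¹ =
      M.X s (v ^ ((l.map fun i => m i * D.cartan i s).sum) * u) := by
  induction l generalizing u with
  | nil =>
    rw [List.map_nil, List.prod_nil, List.map_nil, List.sum_nil, zpow_zero]
    exact scale_one M s u
  | cons i l ih =>
    have hi : i < D.rank := hl i List.mem_cons_self
    have ih' := ih (fun j hj => hl j (List.mem_cons_of_mem _ hj))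
    rw [List.map_cons, List.prod_cons, List.map_cons, List.sum_cons, zpow_add₀ hv]
    have h1 : ∀ u : K, (M.hbar (D.simple i) v) ^ (m i) * M.X s u * ((M.hbar (D.simple i) v) ^ (m i))⁻¹ =
        M.X s (v ^ (m i * D.cartan i s) * u) := by
      intro u
      have := scale_zpow M (zpow_ne_zero (D.cartan i s) hv) (fun u => hH i hi v hv s hs u) (m i) u
      rw [← zpow_mul, mul_comm (D.cartan i s) (m i)] at this
      exact this
    exact scale_mul M h1 ih' u

theorem exists_diag (M : Model D K Γ) (hH : M.HAct) (m : ℕ → ℤ) (v : K) (hv : v ≠ 0) :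
    ∃ g : Γ, IsDiag M g (fun s => v ^ pair D m s) := by
  refine ⟨((List.range D.rank).map fun i => (M.hbar (D.simple i) v) ^ (m i)).prod, fun s hs => ?_⟩
  refine ⟨zpow_ne_zero _ hv, fun u => ?_⟩
  exact scale_list M hH m v hv s hs (List.range D.rank) (fun i hi => List.mem_range.mp hi) u

end Cfsg.Agent.Lib.Helper44.St3
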