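import Cfsg.Agent.Lib.Helper35.StDefs2

set_option autoImplicit false

/-!
# STEINBERG phase 2, module P2-[SIGMA] (helper44, for helper35)

Basic calculus of `n̄_r(t)`, `h̄_r(t)`, `σ_i = n̄_{p_i}(1)` in a Steinberg model:
`(n̄_r t)⁻¹ = n̄_r (-t)`, `σ_i² ∈ H̄`, `M̄ ≤ H̄ ⊔ ⟨σ_i⟩`, and `ν σ_j ν⁻¹ σ_k⁻¹ ∈ H̄` when `ν` conjugates
`X_{±p_j}` to `X_{±p_k}` with inverse constants.
-/

namespace Cfsg.Agent.Lib.Helper44.St

open Cfsg.Lie Cfsg.Agent.Lib.Helper35.St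

universe u v

variable {D : ChevalleyDatum} {K : Type u} [Field K] {Γ : Type v} [Group Γ] (M : Model D K Γ)

theorem X_zero {r : ℕ} (hr : r < D.nroots) : M.X r 0 = 1 := by
  have h := M.add r hr 0 0
  rw [add_zero] at h
  exact mul_eq_left.mp h

theorem X_inv {r : ℕ} (hr : r < D.nroots) (t : K) : (M.X r t)⁻¹ = M.X r (-t) := by
  rw [inv_eq_iff_mul_eq_one, M.add r hr, add_neg_cancel, X_zero M hr]

theorem nbar_inv {r : ℕ} (hr : r < D.nroots) (hr' : D.neg r < D.nroots) (t : K) :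
    (M.nbar r t)⁻¹ = M.nbar r (-t) := by
  unfold Model.nbar
  rw [mul_inv_rev, mul_inv_rev, X_inv M hr, X_inv M hr', neg_neg, inv_neg, neg_neg, mul_assoc]

theorem simple_lt (tf : TF D) {i : ℕ} (hi : i < D.rank) : D.simple i < D.nroots :=
  tf.pos_lt _ (tf.simple_pos i hi)

theorem neg_simple_lt (tf : TF D) {i : ℕ} (hi : i < D.rank) : D.neg (D.simple i) < D.nroots :=
  tf.neg_lt _ (simple_lt tf hi)

theorem hbar_mem {i : ℕ} (hi : i < D.rank) {t : K} (ht : t ≠ 0) : M.hbar (D.simple i) t ∈ M.Hbar :=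
  Subgroup.subset_closure ⟨i, t, hi, ht, rfl⟩

/-- `σ_i⁻¹ = n̄_{p_i}(-1)`. -/
theorem sigma_inv (tf : TF D) {i : ℕ} (hi : i < D.rank) : (M.sigma i)⁻¹ = M.nbar (D.simple i) (-1) :=
  nbar_inv M (simple_lt tf hi) (neg_simple_lt tf hi) 1

/-- `n̄_p(t) = h̄_p(t) σ`. -/
theorem nbar_eq_hbar_mul_sigma (tf : TF D) {i : ℕ} (hi : i < D.rank) (t : K) :
    M.nbar (D.simple i) t = M.hbar (D.simple i) t * M.sigma i := by
  have h := sigma_inv M tf hi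
  unfold Model.hbar
  rw [← h, inv_mul_cancel_right]

/-- `n̄_p(t) σ⁻¹ = h̄_p(t)`. -/
theorem nbar_mul_sigma_inv (tf : TF D) {i : ℕ} (hi : i < D.rank) (t : K) :
    M.nbar (D.simple i) t * (M.sigma i)⁻¹ = M.hbar (D.simple i) t := by
  rw [sigma_inv M tf hi]
  rfl

theorem sigma_sq_mem (tf : TF D) (i : ℕ) (hi : i < D.rank) : M.sigma i * M.sigma i ∈ M.Hbar := by
  have h1 : (M.hbar (D.simple i) (-1))⁻¹ = M.sigma i * M.sigma i := by
    unfold Model.hbar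
    rw [← sigma_inv M tf hi, mul_inv_rev, inv_inv]
  rw [← h1]
  exact inv_mem (hbar_mem M hi (neg_ne_zero.mpr one_ne_zero))

theorem Mbar_le (tf : TF D) :
    M.Mbar ≤ M.Hbar ⊔ Subgroup.closure {g : Γ | ∃ i, i < D.rank ∧ g = M.sigma i} := by
  unfold Model.Mbar
  rw [Subgroup.closure_le]
  rintro g ⟨i, t, hi, ht, rfl⟩
  rw [nbar_eq_hbar_mul_sigma M tf hi t]
  exact mul_mem (Subgroup.mem_sup_left (hbar_mem M hi ht))
    (Subgroup.mem_sup_right (Subgroup.subset_closure ⟨i, hi, rfl⟩))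

theorem conj_sigma (tf : TF D) (ν : Γ) (j k : ℕ) (_hj : j < D.rank) (hk : k < D.rank) (c : K) (hc : c ≠ 0)
    (h1 : ∀ u : K, ν * M.X (D.simple j) u * ν⁻¹ = M.X (D.simple k) (c * u))
    (h2 : ∀ u : K, ν * M.X (D.neg (D.simple j)) u * ν⁻¹ = M.X (D.neg (D.simple k)) (c⁻¹ * u)) :
    ν * M.sigma j * ν⁻¹ * (M.sigma k)⁻¹ ∈ M.Hbar := by
  have h3 : ν * M.sigma j * ν⁻¹ = M.nbar (D.simple k) c := by
    have e : ν * M.sigma j * ν⁻¹ = (ν * M.X (D.simple j) 1 * ν⁻¹) *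
        (ν * M.X (D.neg (D.simple j)) (-1⁻¹) * ν⁻¹) * (ν * M.X (D.simple j) 1 * ν⁻¹) := by
      unfold Model.sigma Model.nbar
      group
    rw [e, h1, h2]
    unfold Model.nbar
    rw [mul_one, inv_one, mul_neg, mul_one]
  rw [h3, nbar_mul_sigma_inv M tf hk]
  exact hbar_mem M hk hc

end Cfsg.Agent.Lib.Helper44.St
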