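import Cfsg.Agent.Lib.Helper60.St3Defs
import Cfsg.Agent.Lib.Helper53.CentralLift
import Cfsg.Agent.Lib.Helper44.StSigma
import Cfsg.Agent.Lib.Helper44.St3Diag

set_option autoImplicit false

/-!
# STEINBERG phase 3, module ST3-[Z] (helper44, for helper60)

The canonical lifts `z_s(t) = [η̃_s, x̃_s(t/(d-1))]` of the root elements of a Steinberg model to a central
extension form a section in the sense of `IsSection`.
-/

namespace Cfsg.Agent.Lib.Helper44.St3

open Cfsg.Lie Cfsg.Agent.Lib.Helper35.St Cfsg.Agent.Lib.Helper60.St3 Cfsg.Agent.Lib.Helper53.CLift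

universe u v w

variable {D : ChevalleyDatum} {K : Type u} [Field K] {Γ : Type v} [Group Γ] {E : Type w} [Group E]

/-- The commutator of a diagonal element with a root element. -/
theorem cm_diag (M : Model D K Γ) {g : Γ} {χ : ℕ → K} (hg : IsDiag M g χ) {s : ℕ}
    (hs : s < D.nroots) (a : K) : cm g (M.X s a) = M.X s ((χ s - 1) * a) := by
  unfold cm
  rw [(hg s hs).2, Cfsg.Agent.Lib.Helper44.St.X_inv M hs, M.add s hs]
  congr 1
  ring

/-- The commutator of two diagonal elements is central. -/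
theorem diag_comm_mem_center (M : Model D K Γ) (hgen : M.Gen) {g g' : Γ} {χ χ' : ℕ → K}
    (hg : IsDiag M g χ) (hg' : IsDiag M g' χ') : g'⁻¹ * g * g' * g⁻¹ ∈ Subgroup.center Γ := by
  have hfix : ∀ b, b < D.nroots → ∀ u : K,
      (g'⁻¹ * g * g' * g⁻¹) * M.X b u = M.X b u * (g'⁻¹ * g * g' * g⁻¹) := by
    intro b hb u
    obtain ⟨h0, h⟩ := hg b hb
    obtain ⟨h0', h'⟩ := hg' b hb
    have h1 := scale_inv M h0 h
    have h3 := scale_mul M h' h1
    have h4 := scale_mul M h h3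
    have h5 := scale_mul M (scale_inv M h0' h') h4 u
    have e : (χ' b)⁻¹ * (χ b * (χ' b * (χ b)⁻¹)) * u = u := by field_simp
    rw [e] at h5
    have e2 : g'⁻¹ * g * g' * g⁻¹ = g'⁻¹ * (g * (g' * g⁻¹)) := by group
    rw [e2]
    calc g'⁻¹ * (g * (g' * g⁻¹)) * M.X b u
        = (g'⁻¹ * (g * (g' * g⁻¹)) * M.X b u * (g'⁻¹ * (g * (g' * g⁻¹)))⁻¹) *
          (g'⁻¹ * (g * (g' * g⁻¹))) := by group
      _ = M.X b u * (g'⁻¹ * (g * (g' * g⁻¹))) := by rw [h5]
  have hall : ∀ h ∈ Subgroup.closure {x : Γ | ∃ (r : ℕ) (t : K), r < D.nroots ∧ x = M.X r t},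
      h * (g'⁻¹ * g * g' * g⁻¹) = (g'⁻¹ * g * g' * g⁻¹) * h := by
    intro h hh
    induction hh using Subgroup.closure_induction with
    | mem x hx =>
      obtain ⟨r, t, hr, rfl⟩ := hx
      exact (hfix r hr t).symm
    | one => rw [one_mul, mul_one]
    | mul x y _ _ hx hy => rw [mul_assoc, hy, ← mul_assoc, hx, mul_assoc]
    | inv x _ hx =>
      calc x⁻¹ * (g'⁻¹ * g * g' * g⁻¹) = x⁻¹ * ((g'⁻¹ * g * g' * g⁻¹) * x) * x⁻¹ := by group
        _ = x⁻¹ * (x * (g'⁻¹ * g * g' * g⁻¹)) * x⁻¹ := by rw [hx]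
        _ = (g'⁻¹ * g * g' * g⁻¹) * x⁻¹ := by group
  rw [Subgroup.mem_center_iff]
  intro h
  have hg : M.Gen := hgen
  unfold Model.Gen at hg
  exact hall h (hg ▸ Subgroup.mem_top h)

/-- A central factor does not change the commutator. -/
theorem cm_mul_central {a c y : E} (hc : c ∈ Subgroup.center E) : cm (a * c) y = cm a y := by
  have h := Subgroup.mem_center_iff.mp hc y
  unfold cm
  calc a * c * y * (a * c)⁻¹ * y⁻¹ = a * (c * y) * c⁻¹ * a⁻¹ * y⁻¹ := by group
    _ = a * (y * c) * c⁻¹ * a⁻¹ * y⁻¹ := by rw [h]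
    _ = a * y * a⁻¹ * y⁻¹ := by group

theorem exists_section (M : Model D K Γ) (ψ : E →* Γ) (hψ : Function.Surjective ψ)
    (hc : ψ.ker ≤ Subgroup.center E) (hgen : M.Gen)
    (hcent : ∀ e : E, ψ e ∈ Subgroup.center Γ → e ∈ Subgroup.center E) (hsc : SelfComm M ψ)
    (hd : ∀ s, s < D.nroots → ∃ (g : Γ) (χ : ℕ → K), IsDiag M g χ ∧ χ s ≠ 1) :
    ∃ z : ℕ → K → E, IsSection M ψ z := by
  classical
  choose! gs χs hgs using hd
  choose lft hlft using hψ
  have hd0 : ∀ s, s < D.nroots → χs s s - 1 ≠ 0 := fun s hs => sub_ne_zero.mpr (hgs s hs).2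
  -- the canonical lifts
  refine ⟨fun s t => cm (lft (gs s)) (lft (M.X s (t / (χs s s - 1)))), ?_⟩
  have hlift : ∀ s, s < D.nroots → ∀ t : K,
      ψ (cm (lft (gs s)) (lft (M.X s (t / (χs s s - 1))))) = M.X s t := by
    intro s hs t
    rw [map_cm, hlft, hlft, cm_diag M (hgs s hs).1 hs, mul_div_cancel₀ _ (hd0 s hs)]
  -- the commutator of `η̃_s` with any lift of `X_s(a)`
  have hz_of : ∀ s, s < D.nroots → ∀ (a : K) (y : E), ψ y = M.X s a →
      cm (lft (gs s)) y = cm (lft (gs s)) (lft (M.X s ((χs s s - 1) * a / (χs s s - 1)))) := by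
    intro s hs a y hy
    apply cm_eq_of_map_eq ψ hc rfl
    rw [hy, hlft, mul_div_cancel_left₀ _ (hd0 s hs)]
  have hadd : ∀ s, s < D.nroots → ∀ t u : K,
      cm (lft (gs s)) (lft (M.X s (t / (χs s s - 1)))) * cm (lft (gs s)) (lft (M.X s (u / (χs s s - 1))))
        = cm (lft (gs s)) (lft (M.X s ((t + u) / (χs s s - 1)))) := by
    intro s hs t u
    have h1 : cm (lft (gs s)) (lft (M.X s ((t + u) / (χs s s - 1)))) =
        cm (lft (gs s)) (lft (M.X s (t / (χs s s - 1))) * lft (M.X s (u / (χs s s - 1)))) := by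
      apply cm_eq_of_map_eq ψ hc rfl
      rw [hlft, map_mul, hlft, hlft, M.add s hs, add_div]
    have h2 : lft (M.X s (t / (χs s s - 1))) * cm (lft (gs s)) (lft (M.X s (u / (χs s s - 1)))) =
        cm (lft (gs s)) (lft (M.X s (u / (χs s s - 1)))) * lft (M.X s (t / (χs s s - 1))) :=
      hsc s hs (t / (χs s s - 1)) u _ _ (hlft _) (hlift s hs u)
    rw [h1, cm_mul_right, h2, mul_inv_cancel_right]
  have hzero : ∀ s, s < D.nroots →
      cm (lft (gs s)) (lft (M.X s ((0 : K) / (χs s s - 1)))) = 1 := by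
    intro s hs
    have := hadd s hs 0 0
    rw [add_zero] at this
    exact mul_eq_left.mp this
  have hneg : ∀ s, s < D.nroots → ∀ t : K,
      (cm (lft (gs s)) (lft (M.X s (t / (χs s s - 1)))))⁻¹ =
        cm (lft (gs s)) (lft (M.X s ((-t) / (χs s s - 1)))) := by
    intro s hs t
    apply inv_eq_of_mul_eq_one_right
    rw [hadd s hs t (-t), add_neg_cancel, hzero s hs]
  refine ⟨hlift, hadd, ?_⟩
  intro g χ hg s hs t e x he hx
  -- (1) conjugation of the canonical lifts by a lift of a diagonal element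
  have hconj : ∀ t' : K, e * cm (lft (gs s)) (lft (M.X s (t' / (χs s s - 1)))) * e⁻¹ =
      cm (lft (gs s)) (lft (M.X s ((χ s * t') / (χs s s - 1)))) := by
    intro t'
    rw [conj_cm]
    have hζ : (lft (gs s))⁻¹ * e * lft (gs s) * e⁻¹ ∈ Subgroup.center E := by
      apply hcent
      rw [map_mul, map_mul, map_mul, map_inv, map_inv, he, hlft]
      exact diag_comm_mem_center M hgen hg (hgs s hs).1
    have e1 : e * lft (gs s) * e⁻¹ = lft (gs s) * ((lft (gs s))⁻¹ * e * lft (gs s) * e⁻¹) := by group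
    rw [e1, cm_mul_central hζ]
    have hy : ψ (e * lft (M.X s (t' / (χs s s - 1))) * e⁻¹) = M.X s (χ s * (t' / (χs s s - 1))) := by
      rw [map_mul, map_mul, map_inv, he, hlft, (hg s hs).2]
    rw [hz_of s hs _ _ hy]
    congr 3
    field_simp
  -- (2)
  have h1 : e * x * e⁻¹ * x⁻¹ = cm e (cm (lft (gs s)) (lft (M.X s (t / (χs s s - 1))))) := by
    show cm e x = _
    apply cm_eq_of_map_eq ψ hc rfl
    rw [hx, hlift s hs t]
  rw [h1]
  have e3 : χ s * t + -t = (χ s - 1) * t := by ring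
  show cm e (cm (lft (gs s)) (lft (M.X s (t / (χs s s - 1))))) =
    cm (lft (gs s)) (lft (M.X s ((χ s - 1) * t / (χs s s - 1))))
  rw [← e3, ← hadd s hs, ← hneg s hs t, ← hconj t]
  rfl

end Cfsg.Agent.Lib.Helper44.St3
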