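import Cfsg.Agent.Lib.Helper91.TwOut.Defs
import Cfsg.Agent.S0309
import Cfsg.Agent.S0310

set_option autoImplicit false

/-!
# TWOUT-[A-IDX] (helper44, for helper91): `|P_i : B| ≤ |X_i| + 1` in a split (B,N)-pair.

The cosets of `B` in `P_i = B ∪ B s B` are `B` and `x s B`, `x ∈ X_i`.
-/

namespace Cfsg.Agent.Lib.Helper44.TwOut

open Cfsg Cfsg.Agent.Lib.Helper91.TwOut

variable {Γ : Type*} [Group Γ] {ι : Type*} {p : ℕ}

theorem s_mem_S (S : SplitBN Γ ι p) (i : ι) : S.s i ∈ S.P.S := by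
  rw [S.S_eq]
  exact ⟨i, rfl⟩

theorem s_mem_N (S : SplitBN Γ ι p) (i : ι) : S.s i ∈ S.P.N := S.P.subset (s_mem_S S i)

theorem s_sq_mem_H (S : SplitBN Γ ι p) (i : ι) : S.s i * S.s i ∈ S.P.B ⊓ S.P.N :=
  Subgroup.mem_inf.mpr ⟨S.P.sq_mem _ (s_mem_S S i), mul_mem (s_mem_N S i) (s_mem_N S i)⟩

/-- Every power of `s` lies in `B` or in `s B`. -/
theorem zpow_s_cases (S : SplitBN Γ ι p) (i : ι) (k : ℤ) :
    S.s i ^ k ∈ S.P.B ∨ (S.s i)⁻¹ * S.s i ^ k ∈ S.P.B := by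
  have h2 : S.s i ^ (2 : ℤ) ∈ S.P.B := by
    rw [zpow_two]
    exact S.P.sq_mem _ (s_mem_S S i)
  rcases Int.even_or_odd' k with ⟨m, rfl | rfl⟩
  · left
    rw [zpow_mul]
    exact zpow_mem h2 m
  · right
    have : (S.s i)⁻¹ * S.s i ^ (2 * m + 1) = (S.s i ^ (2 : ℤ)) ^ m := by
      rw [← zpow_mul, zpow_add_one]
      group
    rw [this]
    exact zpow_mem h2 m

/-- The cosets of `B` in `P_i` are `B` and `x s B`, `x ∈ X_i`. -/
theorem parabolic_coset_cases (S : SplitBN Γ ι p) (i : ι) (g : Γ)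
    (hg : g ∈ S.P.parabolic {S.s i}) :
    g ∈ S.P.B ∨ ∃ x ∈ S.X i, (x * S.s i)⁻¹ * g ∈ S.P.B := by
  have hJ : ({S.s i} : Set Γ) ⊆ S.P.S := Set.singleton_subset_iff.mpr (s_mem_S S i)
  obtain ⟨n, hn, hgn⟩ := (Cfsg.Agent.S0310.result S.P hJ g).mp hg
  obtain ⟨b, hb, b', hb', rfl⟩ := DoubleCoset.mem_doubleCoset.mp hgn
  obtain ⟨k, rfl⟩ := Subgroup.mem_closure_singleton.mp hn
  have hsN := s_mem_N S i
  rcases zpow_s_cases S i k with hk | hk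
  · left
    exact mul_mem (mul_mem hb hk) hb'
  · right
    -- `g = b s c b'` with `c = s⁻¹ s^k ∈ B`
    obtain ⟨u, hu, h, hh, rfl⟩ := S.B_eq b hb
    obtain ⟨u₀, hu₀, n', hn', u', hu', hform⟩ := S.form ((S.s i)⁻¹ * u⁻¹)
    have hu'U : u' ∈ S.U := S.Um_le n' hu'
    have h1 : (S.s i)⁻¹ * u⁻¹ ∈ DoubleCoset.doubleCoset (S.s i)⁻¹ (S.P.B : Set Γ) S.P.B :=
      DoubleCoset.mem_doubleCoset.mpr ⟨1, one_mem _, u⁻¹, inv_mem (S.U_le hu), by rw [one_mul]⟩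
    have h2 : (S.s i)⁻¹ * u⁻¹ ∈ DoubleCoset.doubleCoset n' (S.P.B : Set Γ) S.P.B :=
      DoubleCoset.mem_doubleCoset.mpr ⟨u₀, S.U_le hu₀, u', S.U_le hu'U, hform⟩
    have h3 : DoubleCoset.doubleCoset (S.s i)⁻¹ (S.P.B : Set Γ) S.P.B =
        DoubleCoset.doubleCoset n' (S.P.B : Set Γ) S.P.B :=
      (DoubleCoset.doubleCoset_eq_of_mem h1).symm.trans (DoubleCoset.doubleCoset_eq_of_mem h2)
    have hdB : S.s i * n' ∈ S.P.B := by
      have := (Cfsg.Agent.S0309.result S.P (inv_mem hsN) hn').mp h3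
      rwa [inv_inv] at this
    have hdH : S.s i * n' ∈ S.P.B ⊓ S.P.N := Subgroup.mem_inf.mpr ⟨hdB, mul_mem hsN hn'⟩
    -- `n' = s * ((s s)⁻¹ * (s n'))`
    have hd'H : (S.s i * S.s i)⁻¹ * (S.s i * n') ∈ S.P.B ⊓ S.P.N :=
      mul_mem (inv_mem (s_sq_mem_H S i)) hdH
    have hn'eq : n' = S.s i * ((S.s i * S.s i)⁻¹ * (S.s i * n')) := by group
    have hUm : S.Um n' = S.X i := by
      rw [hn'eq, S.Um_diag _ _ hd'H, S.Um_s]
    have hu'X : u' ∈ S.X i := hUm ▸ hu'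
    refine ⟨u'⁻¹, inv_mem hu'X, ?_⟩
    -- `u s = u'⁻¹ n'⁻¹ u₀⁻¹`
    have hus : u * S.s i = u'⁻¹ * n'⁻¹ * u₀⁻¹ := by
      have : u * S.s i = ((S.s i)⁻¹ * u⁻¹)⁻¹ := by group
      rw [this, hform]
      group
    have e : (u'⁻¹ * S.s i)⁻¹ * (u * h * S.s i ^ k * b') =
        ((S.s i)⁻¹ * (S.s i * n')⁻¹ * (S.s i)⁻¹⁻¹) * u₀⁻¹ * ((S.s i)⁻¹ * h * (S.s i)⁻¹⁻¹) *
          ((S.s i)⁻¹ * S.s i ^ k) * b' := by
      have e1 : (u'⁻¹ * S.s i)⁻¹ * (u * h * S.s i ^ k * b') =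
          (u'⁻¹ * S.s i)⁻¹ * (u * S.s i) * ((S.s i)⁻¹ * h * S.s i) * ((S.s i)⁻¹ * S.s i ^ k) * b' := by
        group
      rw [e1, hus]
      group
    rw [e]
    refine mul_mem (mul_mem (mul_mem (mul_mem ?_ (inv_mem (S.U_le hu₀))) ?_) hk) hb'
    · exact S.P.conj_mem _ (inv_mem hsN) _ (inv_mem hdH)
    · exact S.P.conj_mem _ (inv_mem hsN) _ hh

/-- [A-IDX] `|P_i : B| ≤ |X_i| + 1`. -/
theorem relIndex_le [Finite Γ] (S : SplitBN Γ ι p) (i : ι) :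
    S.P.B.relIndex (S.P.parabolic {S.s i}) ≤ p ^ S.e i + 1 := by
  classical
  have hBle : S.P.B ≤ S.P.parabolic {S.s i} := le_sup_left
  have hsPi : S.s i ∈ S.P.parabolic {S.s i} :=
    Subgroup.mem_sup_right (Subgroup.subset_closure (Set.mem_singleton _))
  have hXPi : ∀ x ∈ S.X i, x * S.s i ∈ S.P.parabolic {S.s i} := by
    intro x hx
    have hxU : x ∈ S.U := S.Um_le (S.s i) (by rw [S.Um_s]; exact hx)
    exact mul_mem (hBle (S.U_le hxU)) hsPi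
  let f : Option ↥(S.X i) →
      ↥(S.P.parabolic {S.s i}) ⧸ S.P.B.subgroupOf (S.P.parabolic {S.s i}) := fun o =>
    match o with
    | none => QuotientGroup.mk 1
    | some x => QuotientGroup.mk ⟨x.1 * S.s i, hXPi x.1 x.2⟩
  have hf : Function.Surjective f := by
    intro q
    obtain ⟨g, rfl⟩ := QuotientGroup.mk_surjective q
    rcases parabolic_coset_cases S i g.1 g.2 with hB | ⟨x, hx, hxg⟩
    · refine ⟨none, ?_⟩
      show (QuotientGroup.mk 1 : _ ⧸ S.P.B.subgroupOf (S.P.parabolic {S.s i})) = QuotientGroup.mk g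
      rw [QuotientGroup.eq, Subgroup.mem_subgroupOf]
      simpa using hB
    · refine ⟨some ⟨x, hx⟩, ?_⟩
      show (QuotientGroup.mk ⟨x * S.s i, hXPi x hx⟩ :
        _ ⧸ S.P.B.subgroupOf (S.P.parabolic {S.s i})) = QuotientGroup.mk g
      rw [QuotientGroup.eq, Subgroup.mem_subgroupOf]
      simpa using hxg
  calc S.P.B.relIndex (S.P.parabolic {S.s i})
      = Nat.card (↥(S.P.parabolic {S.s i}) ⧸ S.P.B.subgroupOf (S.P.parabolic {S.s i})) := rfl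
    _ ≤ Nat.card (Option ↥(S.X i)) := Nat.card_le_card_of_surjective f hf
    _ = p ^ S.e i + 1 := by rw [Finite.card_option, S.card_X]

end Cfsg.Agent.Lib.Helper44.TwOut
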