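import Cfsg.Agent.Lib.Helper91.TwOut.Defs
import Cfsg.Agent.S0309

set_option autoImplicit false

/-!
# TWOUT-[A-OPPN] (helper44, for helper91): in a split (B,N)-pair, a conjugate `n U n⁻¹`, `n ∈ N`,
meeting `U` trivially is `V`.  (Includes a local copy of [A-PSUB]: `p`-subgroups of `B` lie in `U`.)
-/

namespace Cfsg.Agent.Lib.Helper44.TwOut

open Cfsg Cfsg.Agent.Lib.Helper91.TwOut

variable {Γ : Type*} [Group Γ] {ι : Type*} {p : ℕ}

theorem mem_map_conj (W : Subgroup Γ) (g x : Γ) :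
    x ∈ W.map (MulAut.conj g).toMonoidHom ↔ g⁻¹ * x * g ∈ W := by
  constructor
  · rintro ⟨w, hw, rfl⟩
    have e : g⁻¹ * ((MulAut.conj g).toMonoidHom w) * g = w := by
      show g⁻¹ * (g * w * g⁻¹) * g = w
      group
    rw [e]
    exact hw
  · intro h
    refine ⟨g⁻¹ * x * g, h, ?_⟩
    show g * (g⁻¹ * x * g) * g⁻¹ = x
    group

theorem conj_mem_map_conj {W : Subgroup Γ} (g : Γ) {w : Γ} (hw : w ∈ W) :
    g * w * g⁻¹ ∈ W.map (MulAut.conj g).toMonoidHom :=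
  ⟨w, hw, rfl⟩

/-- `V = n₀ U n₀⁻¹`. -/
theorem V_eq_map (S : SplitBN Γ ι p) : S.V = S.U.map (MulAut.conj S.n₀).toMonoidHom := by
  ext g
  rw [mem_map_conj, S.V_eq]

/-- `U = n₀ V n₀⁻¹`. -/
theorem U_eq_map (S : SplitBN Γ ι p) : S.U = S.V.map (MulAut.conj S.n₀).toMonoidHom := by
  ext g
  rw [mem_map_conj, S.U_eq]

theorem card_map_conj [Finite Γ] (W : Subgroup Γ) (g : Γ) :
    Nat.card ↥(W.map (MulAut.conj g).toMonoidHom) = Nat.card ↥W :=
  Subgroup.card_map_of_injective (MulAut.conj g).injective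

theorem card_V [Finite Γ] (S : SplitBN Γ ι p) : Nat.card ↥S.V = Nat.card ↥S.U := by
  rw [V_eq_map S, card_map_conj]

/-- `B ≤ N_Γ(U)`. -/
theorem B_le_normalizer_U (S : SplitBN Γ ι p) : S.P.B ≤ Subgroup.normalizer (S.U : Set Γ) := by
  intro b hb
  rw [Subgroup.mem_normalizer_iff]
  intro u
  constructor
  · exact S.U_norm b hb u
  · intro h
    have := S.U_norm b⁻¹ (inv_mem hb) _ h
    have e : b⁻¹ * (b * u * b⁻¹) * b⁻¹⁻¹ = u := by group
    rwa [e] at this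

/-- [A-PSUB] (local copy): the `p`-subgroups of `B` lie in `U`. -/
theorem pSubgroup_le_U [Finite Γ] [Fact p.Prime] (S : SplitBN Γ ι p) (R : Subgroup Γ)
    (hR : IsPGroup p ↥R) (hRB : R ≤ S.P.B) : R ≤ S.U := by
  have h1 : IsPGroup p ↥(R ⊔ S.U) :=
    hR.to_sup_of_normal_right' S.pU (hRB.trans (B_le_normalizer_U S))
  have h2 := (S.pU.toSylow S.idxU).is_maximal' h1 (by
    show S.U ≤ R ⊔ S.U
    exact le_sup_right)
  have h3 : R ⊔ S.U = S.U := h2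
  exact sup_eq_right.mp h3

/-- [A-OPPN] a conjugate of `U` by an element of `N` meeting `U` trivially is `V`. -/
theorem map_conj_eq_V [Finite Γ] [Fact p.Prime] (S : SplitBN Γ ι p) (n : Γ) (hn : n ∈ S.P.N)
    (h : S.U ⊓ S.U.map (MulAut.conj n).toMonoidHom = ⊥) :
    S.U.map (MulAut.conj n).toMonoidHom = S.V := by
  have hle : S.U.map (MulAut.conj n).toMonoidHom ≤ S.V := by
    rintro _ ⟨x, hx, rfl⟩
    show n * x * n⁻¹ ∈ S.V
    obtain ⟨u₀, hu₀, n', hn', u', hu', hform⟩ := S.form (n * x)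
    have hxB : x ∈ S.P.B := S.U_le hx
    have hu'U : u' ∈ S.U := S.Um_le n' hu'
    -- the double cosets of `n` and `n'` agree
    have h1 : n * x ∈ DoubleCoset.doubleCoset n (S.P.B : Set Γ) S.P.B :=
      DoubleCoset.mem_doubleCoset.mpr ⟨1, one_mem _, x, hxB, by rw [one_mul]⟩
    have h2 : n * x ∈ DoubleCoset.doubleCoset n' (S.P.B : Set Γ) S.P.B :=
      DoubleCoset.mem_doubleCoset.mpr ⟨u₀, S.U_le hu₀, u', S.U_le hu'U, hform⟩
    have h3 : DoubleCoset.doubleCoset n (S.P.B : Set Γ) S.P.B =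
        DoubleCoset.doubleCoset n' (S.P.B : Set Γ) S.P.B :=
      (DoubleCoset.doubleCoset_eq_of_mem h1).symm.trans (DoubleCoset.doubleCoset_eq_of_mem h2)
    have hdB : n⁻¹ * n' ∈ S.P.B := (Cfsg.Agent.S0309.result S.P hn hn').mp h3
    have hdH : n⁻¹ * n' ∈ S.P.B ⊓ S.P.N := Subgroup.mem_inf.mpr ⟨hdB, mul_mem (inv_mem hn) hn'⟩
    have hn'eq : n' = n * (n⁻¹ * n') := by group
    have hUm : S.Um n' = S.Um n := by
      rw [hn'eq]
      exact S.Um_diag n _ hdH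
    have hu'n : u' ∈ S.Um n := hUm ▸ hu'
    -- `z = n (x u'⁻¹) n⁻¹ = u₀ (n d n⁻¹) ∈ B`
    have hz : n * (x * u'⁻¹) * n⁻¹ = u₀ * (n * (n⁻¹ * n') * n⁻¹) := by
      have : n * x = u₀ * n' * u' := hform
      calc n * (x * u'⁻¹) * n⁻¹ = (n * x) * u'⁻¹ * n⁻¹ := by group
        _ = (u₀ * n' * u') * u'⁻¹ * n⁻¹ := by rw [this]
        _ = u₀ * (n * (n⁻¹ * n') * n⁻¹) := by group
    have hzB : n * (x * u'⁻¹) * n⁻¹ ∈ S.P.B := by
      rw [hz]
      exact mul_mem (S.U_le hu₀) (S.P.conj_mem n hn _ hdH)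
    have hzU' : n * (x * u'⁻¹) * n⁻¹ ∈ S.U.map (MulAut.conj n).toMonoidHom :=
      conj_mem_map_conj n (mul_mem hx (inv_mem hu'U))
    have hpg : IsPGroup p ↥(S.U.map (MulAut.conj n).toMonoidHom ⊓ S.P.B) :=
      (S.pU.map (MulAut.conj n).toMonoidHom).to_le inf_le_left
    have hzU : n * (x * u'⁻¹) * n⁻¹ ∈ S.U :=
      pSubgroup_le_U S _ hpg inf_le_right (Subgroup.mem_inf.mpr ⟨hzU', hzB⟩)
    have hz1 : n * (x * u'⁻¹) * n⁻¹ = 1 := by
      have : n * (x * u'⁻¹) * n⁻¹ ∈ S.U ⊓ S.U.map (MulAut.conj n).toMonoidHom :=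
        Subgroup.mem_inf.mpr ⟨hzU, hzU'⟩
      rw [h] at this
      exact Subgroup.mem_bot.mp this
    have hxu : x = u' := by
      have : x * u'⁻¹ = 1 := by
        have e : x * u'⁻¹ = n⁻¹ * (n * (x * u'⁻¹) * n⁻¹) * n := by group
        rw [e, hz1]
        group
      exact mul_inv_eq_one.mp this
    rw [hxu]
    exact S.Um_conj n u' hu'n
  refine Subgroup.eq_of_le_of_card_ge hle ?_
  rw [card_map_conj, card_V]

end Cfsg.Agent.Lib.Helper44.TwOut
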