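import Cfsg.Agent.Lib.Helper91.TwOut.Defs
import Cfsg.Agent.Lib.Helper44.TwOutOppN
import Cfsg.Agent.Lib.Helper44.TwOutIdx

set_option autoImplicit false

/-!
# TWOUT-[A-VPAR] (helper44, for helper91): `V ⊓ P_i = Y_i` in a split (B,N)-pair.
-/

namespace Cfsg.Agent.Lib.Helper44.TwOut

open Cfsg Cfsg.Agent.Lib.Helper91.TwOut

variable {Γ : Type*} [Group Γ] {ι : Type*} {p : ℕ}

/-- `Y_i = s X_i s⁻¹`. -/
theorem Y_eq_map (S : SplitBN Γ ι p) (i : ι) :
    S.Y i = (S.X i).map (MulAut.conj (S.s i)).toMonoidHom := by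
  ext g
  rw [mem_map_conj, S.Y_eq]

theorem card_Y [Finite Γ] (S : SplitBN Γ ι p) (i : ι) : Nat.card ↥(S.Y i) = p ^ S.e i := by
  rw [Y_eq_map S i, card_map_conj, S.card_X]

theorem X_le_U (S : SplitBN Γ ι p) (i : ι) : S.X i ≤ S.U := by
  rw [← S.Um_s]
  exact S.Um_le _

theorem Y_le_V (S : SplitBN Γ ι p) (i : ι) : S.Y i ≤ S.V := by
  intro g hg
  have hx : (S.s i)⁻¹ * g * S.s i ∈ S.Um (S.s i) := by
    rw [S.Um_s]
    exact (S.Y_eq i g).mp hg
  have := S.Um_conj (S.s i) _ hx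
  have e : S.s i * ((S.s i)⁻¹ * g * S.s i) * (S.s i)⁻¹ = g := by group
  rwa [e] at this

theorem Y_le_parabolic (S : SplitBN Γ ι p) (i : ι) : S.Y i ≤ S.P.parabolic {S.s i} := by
  intro g hg
  have hx : (S.s i)⁻¹ * g * S.s i ∈ S.X i := (S.Y_eq i g).mp hg
  have hBle : S.P.B ≤ S.P.parabolic {S.s i} := le_sup_left
  have hsPi : S.s i ∈ S.P.parabolic {S.s i} :=
    Subgroup.mem_sup_right (Subgroup.subset_closure (Set.mem_singleton _))
  have e : g = S.s i * ((S.s i)⁻¹ * g * S.s i) * (S.s i)⁻¹ := by group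
  rw [e]
  exact mul_mem (mul_mem hsPi (hBle (S.U_le (X_le_U S i hx)))) (inv_mem hsPi)

/-- [A-VPAR] `V ∩ P_i = Y_i`. -/
theorem V_inf_parabolic [Finite Γ] [Fact p.Prime] (S : SplitBN Γ ι p) (i : ι) :
    S.V ⊓ S.P.parabolic {S.s i} = S.Y i := by
  have hp : p.Prime := Fact.out
  have hle : S.Y i ≤ S.V ⊓ S.P.parabolic {S.s i} := le_inf (Y_le_V S i) (Y_le_parabolic S i)
  -- the order of `Q = V ⊓ P_i` is at most `p ^ e + 1`
  have hQB : S.P.B ⊓ (S.V ⊓ S.P.parabolic {S.s i}) = ⊥ := by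
    rw [eq_bot_iff]
    intro g hg
    obtain ⟨hgB, hgQ⟩ := Subgroup.mem_inf.mp hg
    have : g ∈ S.V ⊓ S.P.B := Subgroup.mem_inf.mpr ⟨(Subgroup.mem_inf.mp hgQ).1, hgB⟩
    rwa [S.V_inf_B] at this
  have hcardQ : Nat.card ↥(S.V ⊓ S.P.parabolic {S.s i}) ≤ p ^ S.e i + 1 := by
    have h1 : Nat.card ↥(S.V ⊓ S.P.parabolic {S.s i}) =
        S.P.B.relIndex (S.V ⊓ S.P.parabolic {S.s i}) := by
      rw [← Subgroup.inf_relIndex_right, hQB, Subgroup.relIndex_bot_left]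
    rw [h1]
    refine le_trans (Subgroup.relIndex_le_of_le_right inf_le_right ?_) (relIndex_le S i)
    exact Subgroup.index_ne_zero_of_finite
  -- `Q` is a `p`-group
  have hpV : IsPGroup p ↥S.V := by
    rw [V_eq_map S]
    exact S.pU.map _
  have hpQ : IsPGroup p ↥(S.V ⊓ S.P.parabolic {S.s i}) := hpV.to_le inf_le_left
  obtain ⟨k, hk⟩ := hpQ.exists_card_eq
  have hdvd : p ^ S.e i ∣ p ^ k := by
    rw [← hk, ← card_Y S i]
    exact Subgroup.card_dvd_of_le hle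
  have hek : S.e i ≤ k := (Nat.pow_dvd_pow_iff_le_right hp.one_lt).mp hdvd
  have hke : k ≤ S.e i := by
    by_contra hlt
    have hlt' : S.e i + 1 ≤ k := by omega
    have h1 : p ^ (S.e i + 1) ≤ p ^ k := Nat.pow_le_pow_right hp.pos hlt'
    have h2 : 2 ≤ p ^ S.e i := by
      calc 2 ≤ p := hp.two_le
        _ = p ^ 1 := (pow_one p).symm
        _ ≤ p ^ S.e i := Nat.pow_le_pow_right hp.pos (S.e_pos i)
    have h3 : 2 * p ^ S.e i ≤ p ^ (S.e i + 1) := by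
      rw [pow_succ, mul_comm]
      exact Nat.mul_le_mul_left _ hp.two_le
    rw [hk] at hcardQ
    omega
  have hkeq : k = S.e i := le_antisymm hke hek
  symm
  refine Subgroup.eq_of_le_of_card_ge hle ?_
  rw [hk, hkeq, card_Y]

end Cfsg.Agent.Lib.Helper44.TwOut
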