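import Cfsg.Agent.Lib.Helper92.BPGAlg
import Cfsg.Agent.Lib.Helper40.BPConj
import Cfsg.Agent.Lib.Helper44.BPBr5
import Cfsg.Agent.Lib.Helper9.BPTr2

/-!
# PROJECT BP (helper92), module BP-[L2-BR4]: the kernel of `Br_Q` on `A^Q`
-/

set_option autoImplicit false

namespace Cfsg.Agent.Lib.Helper44.BP

open Cfsg.Agent.Lib.Helper92.BP Cfsg.Agent.Lib.Helper40.BP

section orbit

variable {R : Type*} [CommRing R] {G : Type*} [Group G]

/-- (part of [L2-TR1]) the relative trace of an `S`-fixed element is `Q`-fixed -/
theorem relTr_mem_fixedAlg' [Finite G] {S Q : Subgroup G}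
    {a : MonoidAlgebra R G} (ha : a ∈ fixedAlg R S) : relTr R S Q a ∈ fixedAlg R Q := by
  classical
  have : Fintype (Q ⧸ S.subgroupOf Q) := Fintype.ofFinite _
  rw [mem_fixedAlg_iff]
  intro q hq
  have h1 : relTr R S Q a = ∑ x : Q ⧸ S.subgroupOf Q, conj R (q * ((Quotient.out x : Q) : G)) a := by
    refine Cfsg.Agent.Lib.Helper9.BP.relTr_eq_sum_of_reps' ha
      (fun x : Q ⧸ S.subgroupOf Q => q * ((Quotient.out x : Q) : G))
      (fun x => Q.mul_mem hq (Quotient.out x : Q).2) ?_
    intro q' hq'
    obtain ⟨x, hx, hux⟩ := Cfsg.Agent.Lib.Helper9.BP.out_reps_existsUnique S Q (q⁻¹ * q')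
      (Q.mul_mem (Q.inv_mem hq) hq')
    refine ⟨x, ?_, ?_⟩
    · show (q * ((Quotient.out x : Q) : G))⁻¹ * q' ∈ S
      rw [mul_inv_rev, mul_assoc]
      exact hx
    · intro x' hx'
      apply hux
      show ((Quotient.out x' : Q) : G)⁻¹ * (q⁻¹ * q') ∈ S
      have : (q * ((Quotient.out x' : Q) : G))⁻¹ * q' ∈ S := hx'
      rw [mul_inv_rev, mul_assoc] at this
      exact this
  have h2 : relTr R S Q a = ∑ x : Q ⧸ S.subgroupOf Q, conj R ((Quotient.out x : Q) : G) a :=
    Cfsg.Agent.Lib.Helper9.BP.relTr_eq_sum S Q a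
  conv_lhs => rw [h2]
  rw [conj_sum, h1]
  refine Finset.sum_congr rfl fun x _ => ?_
  rw [conj_conj]

/-- the centraliser of `g` in `Q` -/
def centIn (Q : Subgroup G) (g : G) : Subgroup G := Q ⊓ Subgroup.centralizer {g}

theorem centIn_le (Q : Subgroup G) (g : G) : centIn Q g ≤ Q := inf_le_left

theorem mem_centIn {Q : Subgroup G} {g s : G} :
    s ∈ centIn Q g ↔ s ∈ Q ∧ g * s = s * g := by
  unfold centIn
  rw [Subgroup.mem_inf, Subgroup.mem_centralizer_iff]
  simp

theorem centIn_lt {Q : Subgroup G} {g : G} (hg : g ∉ Subgroup.centralizer (Q : Set G)) :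
    centIn Q g < Q := by
  refine lt_of_le_of_ne inf_le_left ?_
  intro h
  apply hg
  rw [Subgroup.mem_centralizer_iff]
  intro q hq
  have hq' : q ∈ centIn Q g := by rw [h]; exact hq
  exact ((mem_centIn.1 hq').2).symm

theorem of_mem_fixedAlg_centIn (Q : Subgroup G) (g : G) :
    MonoidAlgebra.of R G g ∈ fixedAlg R (centIn Q g) := by
  apply of_mem_fixedAlg
  rw [Subgroup.mem_centralizer_iff]
  intro s hs
  exact ((mem_centIn.1 hs).2).symm

open Classical in
/-- the coefficients of the orbit sum `Tr_{C_Q(g)}^Q(g)` -/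
theorem coeff_relTr_of [Finite G] (S Q : Subgroup G) (g h : G) :
    (relTr R S Q (MonoidAlgebra.of R G g)).coeff h =
      ∑ᶠ t : Q ⧸ S.subgroupOf Q,
        if ((Quotient.out t : Q) : G) * g * ((Quotient.out t : Q) : G)⁻¹ = h then (1 : R) else 0 := by
  classical
  have : Fintype (Q ⧸ S.subgroupOf Q) := Fintype.ofFinite _
  unfold relTr
  rw [finsum_eq_sum_of_fintype, finsum_eq_sum_of_fintype, MonoidAlgebra.coeff_sum,
    Finsupp.finsetSum_apply]
  refine Finset.sum_congr rfl fun t _ => ?_
  rw [conj_of, MonoidAlgebra.of_apply, MonoidAlgebra.coeff_single, Finsupp.single_apply]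

theorem coeff_orbitSum_self [Finite G] (Q : Subgroup G) (g : G) :
    (relTr R (centIn Q g) Q (MonoidAlgebra.of R G g)).coeff g = 1 := by
  classical
  have : Fintype (Q ⧸ (centIn Q g).subgroupOf Q) := Fintype.ofFinite _
  rw [coeff_relTr_of, finsum_eq_sum_of_fintype]
  rw [Finset.sum_eq_single ((1 : Q) : Q ⧸ (centIn Q g).subgroupOf Q)]
  · rw [if_pos]
    have h1 : ((Quotient.out ((1 : Q) : Q ⧸ (centIn Q g).subgroupOf Q) : Q)) ∈
        (centIn Q g).subgroupOf Q := by
      have := QuotientGroup.out_eq' ((1 : Q) : Q ⧸ (centIn Q g).subgroupOf Q)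
      rw [QuotientGroup.eq] at this
      simpa using this
    have h2 := (mem_centIn.1 (Subgroup.mem_subgroupOf.1 h1)).2
    rw [← h2, mul_inv_cancel_right]
  · intro t _ ht
    rw [if_neg]
    intro h
    apply ht
    have h1 : (Quotient.out t : Q) ∈ (centIn Q g).subgroupOf Q := by
      rw [Subgroup.mem_subgroupOf, mem_centIn]
      refine ⟨(Quotient.out t : Q).2, ?_⟩
      have h' := congrArg (fun z => z * ((Quotient.out t : Q) : G)) h
      simp only [inv_mul_cancel_right] at h'
      exact h'.symm
    rw [← QuotientGroup.out_eq' t, QuotientGroup.eq]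
    simpa using h1
  · intro h
    exact absurd (Finset.mem_univ _) h

theorem exists_of_coeff_orbitSum_ne_zero [Finite G] (S Q : Subgroup G) (g h : G)
    (hh : (relTr R S Q (MonoidAlgebra.of R G g)).coeff h ≠ 0) :
    ∃ t ∈ Q, h = t * g * t⁻¹ := by
  classical
  by_contra hcon
  push Not at hcon
  apply hh
  rw [coeff_relTr_of]
  apply finsum_eq_zero_of_forall_eq_zero
  intro t
  rw [if_neg]
  intro e
  exact hcon _ (Quotient.out t : Q).2 e.symm

end orbit

section main

variable {R : Type*} [CommRing R] [IsLocalRing R] {G : Type*} [Group G]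

theorem mem_of_support_card [Finite G] (Q : Subgroup G) :
    ∀ n : ℕ, ∀ (a : MonoidAlgebra R G) (ha : a ∈ fixedAlg R Q), a.coeff.support.card ≤ n →
      (∀ z ∈ Subgroup.centralizer (Q : Set G), a.coeff z ∈ IsLocalRing.maximalIdeal R) →
      (⟨a, ha⟩ : fixedAlg R Q) ∈ (⨆ S ∈ {S : Subgroup G | S < Q}, trIdeal R S Q) ⊔
        Ideal.span {y : fixedAlg R Q | ∃ r ∈ IsLocalRing.maximalIdeal R, ∃ y' : fixedAlg R Q,
          y = r • y'} := by
  classical
  intro n
  induction n with
  | zero =>
    intro a ha hcard _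
    have h0 : a = 0 := by
      have : a.coeff.support = ∅ := Finset.card_eq_zero.1 (Nat.le_zero.1 hcard)
      rw [Finsupp.support_eq_empty] at this
      exact MonoidAlgebra.coeff_eq_zero.1 this
    subst h0
    exact Submodule.zero_mem _
  | succ n ih =>
    intro a ha hcard hC
    by_cases h0 : a = 0
    · subst h0
      exact Submodule.zero_mem _
    have hne : a.coeff.support.Nonempty := by
      rw [Finsupp.support_nonempty_iff]
      intro h
      exact h0 (MonoidAlgebra.coeff_eq_zero.1 h)
    obtain ⟨g, hg⟩ := hne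
    set r : R := a.coeff g with hr
    by_cases hgC : g ∈ Subgroup.centralizer (Q : Set G)
    · -- a central orbit
      have hy' : MonoidAlgebra.of R G g ∈ fixedAlg R Q := of_mem_fixedAlg Q hgC
      have ha' : a - r • MonoidAlgebra.of R G g ∈ fixedAlg R Q :=
        Subalgebra.sub_mem _ ha (Subalgebra.smul_mem _ hy' r)
      have hcoeff : ∀ h : G, (a - r • MonoidAlgebra.of R G g).coeff h =
          a.coeff h - if g = h then r else 0 := by
        intro h
        rw [MonoidAlgebra.coeff_sub, MonoidAlgebra.coeff_smul, MonoidAlgebra.of_apply,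
          MonoidAlgebra.coeff_single, Finsupp.sub_apply, Finsupp.smul_apply, Finsupp.single_apply]
        simp
      have hsupp : (a - r • MonoidAlgebra.of R G g).coeff.support ⊆ a.coeff.support.erase g := by
        intro h hh
        rw [Finsupp.mem_support_iff, hcoeff] at hh
        rw [Finset.mem_erase, Finsupp.mem_support_iff]
        constructor
        · rintro rfl
          apply hh
          rw [if_pos rfl, hr, sub_self]
        · intro h1
          apply hh
          by_cases hgh : g = h
          · subst hgh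
            rw [if_pos rfl, hr, sub_self]
          · rw [if_neg hgh, h1, sub_zero]
      have hcard' : (a - r • MonoidAlgebra.of R G g).coeff.support.card ≤ n := by
        have h1 := Finset.card_le_card hsupp
        rw [Finset.card_erase_of_mem hg] at h1
        omega
      have hC' : ∀ z ∈ Subgroup.centralizer (Q : Set G),
          (a - r • MonoidAlgebra.of R G g).coeff z ∈ IsLocalRing.maximalIdeal R := by
        intro z hz
        rw [hcoeff]
        apply Ideal.sub_mem _ (hC z hz)
        split_ifs
        · exact hC g hgC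
        · exact Ideal.zero_mem _
      have hsplit : (⟨a, ha⟩ : fixedAlg R Q) =
          ⟨a - r • MonoidAlgebra.of R G g, ha'⟩ + r • (⟨MonoidAlgebra.of R G g, hy'⟩ : fixedAlg R Q) := by
        apply Subtype.ext
        simp
      rw [hsplit]
      refine Submodule.add_mem _ (ih _ ha' hcard' hC') ?_
      apply Submodule.mem_sup_right
      exact Ideal.subset_span ⟨r, hC g hgC, ⟨MonoidAlgebra.of R G g, hy'⟩, rfl⟩
    · -- a non-central orbit
      set O : MonoidAlgebra R G := relTr R (centIn Q g) Q (MonoidAlgebra.of R G g) with hO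
      have hOQ : O ∈ fixedAlg R Q :=
        relTr_mem_fixedAlg' (of_mem_fixedAlg_centIn Q g)
      have ha' : a - r • O ∈ fixedAlg R Q :=
        Subalgebra.sub_mem _ ha (Subalgebra.smul_mem _ hOQ r)
      have hcoeff : ∀ h : G, (a - r • O).coeff h = a.coeff h - r * O.coeff h := by
        intro h
        rw [MonoidAlgebra.coeff_sub, MonoidAlgebra.coeff_smul, Finsupp.sub_apply, Finsupp.smul_apply,
          smul_eq_mul]
      have hOg : O.coeff g = 1 := coeff_orbitSum_self Q g
      have hinv : ∀ h : G, O.coeff h ≠ 0 → a.coeff h = r := by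
        intro h hh
        obtain ⟨t, ht, rfl⟩ := exists_of_coeff_orbitSum_ne_zero _ Q g h hh
        exact ((mem_fixedAlg_iff_coeff Q a).1 ha) t ht g
      have hsupp : (a - r • O).coeff.support ⊆ a.coeff.support.erase g := by
        intro h hh
        rw [Finsupp.mem_support_iff, hcoeff] at hh
        rw [Finset.mem_erase, Finsupp.mem_support_iff]
        constructor
        · rintro rfl
          apply hh
          rw [hOg, mul_one, hr, sub_self]
        · intro h1
          apply hh
          by_cases hOh : O.coeff h = 0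
          · rw [hOh, mul_zero, h1, sub_zero]
          · have := hinv h hOh
            rw [h1] at this
            rw [h1, ← this, zero_mul, sub_zero]
      have hcard' : (a - r • O).coeff.support.card ≤ n := by
        have h1 := Finset.card_le_card hsupp
        rw [Finset.card_erase_of_mem hg] at h1
        omega
      have hC' : ∀ z ∈ Subgroup.centralizer (Q : Set G),
          (a - r • O).coeff z ∈ IsLocalRing.maximalIdeal R := by
        intro z hz
        rw [hcoeff]
        have hOz : O.coeff z = 0 := by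
          by_contra hne
          obtain ⟨t, ht, e⟩ := exists_of_coeff_orbitSum_ne_zero _ Q g z hne
          apply hgC
          have h1 : t * z = z * t := (Subgroup.mem_centralizer_iff.1 hz) t ht
          have h2 : g = z := by
            have : g = t⁻¹ * z * t := by rw [e]; group
            rw [this, mul_assoc, ← h1, inv_mul_cancel_left]
          rw [h2]
          exact hz
        rw [hOz, mul_zero, sub_zero]
        exact hC z hz
      have hsplit : (⟨a, ha⟩ : fixedAlg R Q) =
          ⟨a - r • O, ha'⟩ + r • (⟨O, hOQ⟩ : fixedAlg R Q) := by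
        apply Subtype.ext
        simp
      rw [hsplit]
      refine Submodule.add_mem _ (ih _ ha' hcard' hC') ?_
      apply Submodule.mem_sup_left
      have h1 : (⟨O, hOQ⟩ : fixedAlg R Q) ∈ trIdeal R (centIn Q g) Q :=
        Ideal.subset_span ⟨MonoidAlgebra.of R G g, of_mem_fixedAlg_centIn Q g, rfl⟩
      have h2 : r • (⟨O, hOQ⟩ : fixedAlg R Q) ∈ trIdeal R (centIn Q g) Q :=
        Submodule.smul_of_tower_mem _ r h1
      exact (le_iSup₂ (f := fun (S : Subgroup G) (_ : S ∈ {S : Subgroup G | S < Q}) =>
        trIdeal R S Q) (centIn Q g) (centIn_lt hgC)) h2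

theorem mem_sup_of_br_eq_zero [Finite G] {p : ℕ} [Fact p.Prime]
    [CharP (IsLocalRing.ResidueField R) p] {Q : Subgroup G} (_hQ : IsPGroup p Q)
    (x : fixedAlg R Q) (hx : br R Q (x : MonoidAlgebra R G) = 0) :
    x ∈ (⨆ S ∈ {S : Subgroup G | S < Q}, trIdeal R S Q) ⊔
      Ideal.span {y : fixedAlg R Q | ∃ r ∈ IsLocalRing.maximalIdeal R, ∃ y' : fixedAlg R Q,
        y = r • y'} := by
  have key := mem_of_support_card (R := R) Q _ (x : MonoidAlgebra R G) x.2 le_rfl ?_
  · exact key
  · intro z hz
    have h1 : (br R Q (x : MonoidAlgebra R G)).coeff ⟨z, hz⟩ = 0 := by rw [hx]; rfl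
    rw [coeff_br'] at h1
    exact (IsLocalRing.residue_eq_zero_iff _).1 h1

end main

end Cfsg.Agent.Lib.Helper44.BP
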