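import Mathlib
import Cfsg.Agent.Lib.Helper47.SlmdFixRep

/-!
# SLMD-[N-TRED] (helper44): `tPair ρ = ttSL2 (yRep ρ)`, `hR ρ = fixUS (yRep ρ)`.
-/

set_option autoImplicit false
set_option linter.unusedSectionVars false
set_option linter.unusedVariables false

namespace Cfsg.Agent.Lib.Helper32.SLMD

open Matrix Cfsg.Agent.Lib.Helper41 Cfsg.Agent.Lib.Helper39 Module
open scoped LinearAlgebra.Projectivization

variable {F : Type*} [Field F] [Fintype F] [DecidableEq F] {k : ℕ}

section gg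

variable {V : Type*} [AddCommGroup V] [Module ℂ V] [FiniteDimensional ℂ V]

namespace TRed

theorem a1El_eq_qEl (b : Fin k → F) : (a1El b : GG F k) = qEl 0 b := by
  unfold qEl; rw [x12_zero, one_mul]

theorem a1El_zero : (a1El (0 : Fin k → F) : GG F k) = 1 := (a1Hom (F := F) (k := k)).map_one

theorem x12_eq_qEl (s : F) : (x12 s : GG F k) = qEl s 0 := by
  unfold qEl; rw [a1El_zero, mul_one]

/-- the two descriptions of `C_V(Q A₂)` agree -/
theorem sub_eq (ρ : Representation ℂ (GG F k) V) :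
    eigenSub ρ (q2Hom : _ →* GG F k) 1 ⊓ eigenSub ρ ((iota : _ →* GG F k).comp uSHom) 1 =
      eigenSub ρ (qHom : _ →* GG F k) 1 ⊓ eigenSub ρ (a2Hom : _ →* GG F k) 1 := by
  ext v
  simp only [Submodule.mem_inf, mem_eigenSub, MonoidHom.one_apply, Units.val_one, one_smul]
  constructor
  · rintro ⟨h1, h2⟩
    refine ⟨fun x => ?_, fun b => ?_⟩
    · rw [qHom_apply, qEl, map_mul, Module.End.mul_apply]
      have ha : ρ (a1El x.toAdd.2 : GG F k) v = v := h1 (Multiplicative.ofAdd (rowM x.toAdd.2 0))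
      rw [ha]
      exact h2 (Multiplicative.ofAdd x.toAdd.1)
    · exact h1 (Multiplicative.ofAdd (rowM 0 b.toAdd))
  · rintro ⟨h1, h2⟩
    refine ⟨fun M => ?_, fun s => ?_⟩
    · rw [q2Hom_apply, ← rowM_eta M.toAdd, ← a1El_mul_a2El, map_mul, Module.End.mul_apply]
      have hb : ρ (a2El (M.toAdd 1) : GG F k) v = v := h2 (Multiplicative.ofAdd (M.toAdd 1))
      rw [hb, a1El_eq_qEl]
      exact h1 (Multiplicative.ofAdd ((0 : F), M.toAdd 0))
    · have : ((iota : _ →* GG F k).comp uSHom) s = qEl s.toAdd 0 := by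
        rw [MonoidHom.comp_apply, uSHom_apply, ← x12_eq_qEl]; rfl
      rw [this]
      exact h1 (Multiplicative.ofAdd (s.toAdd, (0 : Fin k → F)))

theorem conj_formula (s s' : F) (a a' : Fin k → F) :
    (wE : GG F k) * qEl s a * wE⁻¹ * qEl s' a' =
      iota (lowerU (-s) * upperU s') * uQ2 (rowM (a' - s' • a) a) := by
  have h1 : (wE : GG F k) * qEl s a * wE⁻¹ = x21 (-s) * a2El a := by
    unfold qEl
    rw [← wE_conj_x12, ← wE_conj_a1El]; group
  have h2 := x12_conj_uQ2 (-s') (0 : Fin k → F) a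
  rw [x12_neg, inv_inv, zero_add] at h2
  have h3 : (a2El a : GG F k) * x12 s' = x12 s' * uQ2 (rowM ((-s') • a) a) := by
    rw [← h2]; unfold a2El; group
  have h4 : rowM ((-s') • a) a + rowM a' 0 = rowM (a' - s' • a) a := by
    rw [← rowM_add]
    congr 1
    · rw [neg_smul]; abel
    · rw [add_zero]
  rw [h1, map_mul]
  show x21 (-s) * a2El a * (x12 s' * a1El a') = x21 (-s) * x12 s' * uQ2 _
  rw [mul_assoc (x21 (-s)), ← mul_assoc (a2El a), h3, a1El, mul_assoc (x12 s'), ← uQ2_add, h4,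
    mul_assoc]

/-- the bijection `(a, a') ↦ [a' - s' a; a]` -/
def rowEquiv (s' : F) :
    (Fin k → F) × (Fin k → F) ≃ Multiplicative (Matrix (Fin 2) (Fin k) F) where
  toFun p := Multiplicative.ofAdd (rowM (p.2 - s' • p.1) p.1)
  invFun M := (M.toAdd 1, M.toAdd 0 + s' • M.toAdd 1)
  left_inv p := by
    apply Prod.ext
    · rfl
    · show rowM (p.2 - s' • p.1) p.1 0 + s' • rowM (p.2 - s' • p.1) p.1 1 = p.2
      funext j
      simp [rowM]
  right_inv M := by
    show Multiplicative.ofAdd (rowM (M.toAdd 0 + s' • M.toAdd 1 - s' • M.toAdd 1) (M.toAdd 1)) = M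
    rw [add_sub_cancel_right, rowM_eta]; rfl

theorem card_mat : (Fintype.card (Multiplicative (Matrix (Fin 2) (Fin k) F)) : ℂ) =
    ((Fintype.card F : ℂ) ^ k) ^ 2 := by
  rw [Fintype.card_congr (rowEquiv (F := F) (k := k) 0).symm, Fintype.card_prod, Fintype.card_fun,
    Fintype.card_fin]
  push_cast; ring

theorem inner_sum (ρ : Representation ℂ (GG F k) V)
    (A : Matrix.SpecialLinearGroup (Fin 2) F) (s' : F) :
    ∑ a : Fin k → F, ∑ a' : Fin k → F,
      ρ.character ((iota A : GG F k) * uQ2 (rowM (a' - s' • a) a)) =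
      ((Fintype.card F : ℂ) ^ k) ^ 2 * (yRep ρ).character A := by
  have h := fixRep_character ρ (q2Hom : _ →* GG F k) (iota : _ →* GG F k) iota_normalizes_q2Hom A
  rw [card_mat] at h
  rw [show (yRep ρ) = fixRep ρ q2Hom iota iota_normalizes_q2Hom from rfl, h,
    ← Fintype.sum_prod_type (f := fun p : (Fin k → F) × (Fin k → F) =>
      ρ.character ((iota A : GG F k) * uQ2 (rowM (p.2 - s' • p.1) p.1)))]
  exact Fintype.sum_equiv (rowEquiv s') _ _ (fun p => rfl)

end TRed

open TRed in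
/-- [N-TRED] -/
theorem tPair_eq (ρ : Representation ℂ (GG F k) V) : tPair ρ = ttSL2 (yRep ρ) := by
  have hq0 : (Fintype.card F : ℂ) ≠ 0 := by exact_mod_cast Fintype.card_ne_zero
  have htotal : ∑ x : Multiplicative (F × (Fin k → F)), ∑ y : Multiplicative (F × (Fin k → F)),
      ρ.character (wE * qHom x * wE⁻¹ * qHom y) =
      ((Fintype.card F : ℂ) ^ k) ^ 2 *
        ∑ a : F, ∑ b : F, (yRep ρ).character (lowerU b * upperU a) := by
    have e1 : ∀ g : Multiplicative (F × (Fin k → F)) → ℂ,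
        ∑ x : Multiplicative (F × (Fin k → F)), g x =
          ∑ s : F, ∑ a : Fin k → F, g (Multiplicative.ofAdd (s, a)) := by
      intro g
      rw [← Fintype.sum_prod_type (f := fun p : F × (Fin k → F) => g (Multiplicative.ofAdd p))]
      exact Fintype.sum_equiv Multiplicative.toAdd _ _ (fun x => rfl)
    rw [e1]
    simp_rw [e1 (fun y => ρ.character (wE * qHom _ * wE⁻¹ * qHom y))]
    simp only [qHom_apply, toAdd_ofAdd, conj_formula]
    -- Σ_s Σ_a Σ_s' Σ_a' → Σ_s Σ_s' Σ_a Σ_a'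
    have : ∀ s : F, ∑ a : Fin k → F, ∑ s' : F, ∑ a' : Fin k → F,
        ρ.character ((iota (lowerU (-s) * upperU s') : GG F k) * uQ2 (rowM (a' - s' • a) a)) =
        ∑ s' : F, ((Fintype.card F : ℂ) ^ k) ^ 2 *
          (yRep ρ).character (lowerU (-s) * upperU s') := by
      intro s
      rw [Finset.sum_comm]
      exact Finset.sum_congr rfl (fun s' _ => inner_sum ρ _ s')
    simp_rw [this]
    rw [Finset.sum_comm]
    simp_rw [← Finset.mul_sum]
    congr 1
    refine Finset.sum_congr rfl (fun a _ => ?_)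
    exact Fintype.sum_equiv (Equiv.neg F) _ _ (fun s => rfl)
  unfold tPair ttSL2
  rw [htotal]
  have hk0 : (Fintype.card F : ℂ) ^ k ≠ 0 := pow_ne_zero _ hq0
  have h2 : ((Fintype.card F : ℂ) ^ (k + 1)) ^ 2 =
      ((Fintype.card F : ℂ) ^ k) ^ 2 * (Fintype.card F : ℂ) ^ 2 := by ring
  rw [h2]
  field_simp

open TRed in
/-- [N-TRED] -/
theorem hR_eq (ρ : Representation ℂ (GG F k) V) : hR ρ = fixUS (yRep ρ) := by
  unfold hR fixUS fixUSSub yRep
  rw [fixRep_eigen_finrank, sub_eq]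

end gg

end Cfsg.Agent.Lib.Helper32.SLMD
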