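import Mathlib
import Cfsg.Agent.Lib.Helper35.StDefs2
import Cfsg.Agent.Lib.Helper44.StSigma

set_option autoImplicit false

/-!
# STEINBERG phase 2, module P2-[COX], abstract part (helper44, for helper35)

`{m ∈ M̄ : π m ∈ H} = H̄`, given the homomorphism `φ : N →* W` of S1039 as data: `M̄ / H̄` is a quotient of
the Coxeter group `W` (via `CoxeterSystem.lift`), and `φ ∘ π` descends to a left inverse.
-/

namespace Cfsg.Agent.Lib.Helper44.St

open Cfsg.Lie Cfsg.Agent.Lib.Helper35.St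

universe u v

variable {D : ChevalleyDatum} {K : Type u} [Field K] {Γ : Type v} [Group Γ] (M : Model D K Γ)

/-- The matrix of `π (n̄_r(t))` is `n_r(t)`. -/
theorem π_nbar {r : ℕ} (hr : r < D.nroots) (hr' : D.neg r < D.nroots) (t : K) :
    ((M.π (M.nbar r t) : GL D.Idx K) : Matrix D.Idx D.Idx K) = D.nMat K r t := by
  unfold Model.nbar ChevalleyDatum.nMat ChevalleyDatum.wordMat ChevalleyDatum.nWord
  simp only [map_mul, Units.val_mul, M.hπ r hr, M.hπ _ hr', List.map_cons, List.map_nil,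
    List.prod_cons, List.prod_nil, mul_one, mul_assoc]

/-- The matrix of `π (h̄_r(t))` is `h_r(t)`. -/
theorem π_hbar {r : ℕ} (hr : r < D.nroots) (hr' : D.neg r < D.nroots) (t : K) :
    ((M.π (M.hbar r t) : GL D.Idx K) : Matrix D.Idx D.Idx K) = D.hMat K r t := by
  unfold Model.hbar ChevalleyDatum.hMat ChevalleyDatum.hWord ChevalleyDatum.wordMat
  rw [map_mul, Units.val_mul, π_nbar M hr hr', π_nbar M hr hr', List.map_append, List.prod_append]
  rfl

theorem π_Hbar_le (tf : TF D) : M.Hbar ≤ (D.diagonalSubgroup K).comap M.π := by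
  unfold Model.Hbar
  rw [Subgroup.closure_le]
  rintro g ⟨i, t, hi, ht, rfl⟩
  exact Subgroup.subset_closure
    ⟨D.simple i, t, simple_lt tf hi, ht, π_hbar M (simple_lt tf hi) (neg_simple_lt tf hi) t⟩

theorem π_sigma_mem (tf : TF D) {i : ℕ} (hi : i < D.rank) :
    M.π (M.sigma i) ∈ D.monomialSubgroup K :=
  Subgroup.mem_sup_right (Subgroup.subset_closure
    ⟨D.simple i, simple_lt tf hi, π_nbar M (simple_lt tf hi) (neg_simple_lt tf hi) 1⟩)

theorem π_Mbar_le (tf : TF D) : M.Mbar ≤ (D.monomialSubgroup K).comap M.π := by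
  unfold Model.Mbar
  rw [Subgroup.closure_le]
  rintro g ⟨i, t, hi, ht, rfl⟩
  rw [nbar_eq_hbar_mul_sigma M tf hi t]
  show M.π (M.hbar (D.simple i) t * M.sigma i) ∈ D.monomialSubgroup K
  rw [map_mul]
  exact mul_mem (Subgroup.mem_sup_left (π_Hbar_le M tf (hbar_mem M hi ht))) (π_sigma_mem M tf hi)

theorem Hbar_le_Mbar : M.Hbar ≤ M.Mbar := by
  unfold Model.Hbar
  rw [Subgroup.closure_le]
  rintro g ⟨i, t, hi, ht, rfl⟩
  exact mul_mem (Subgroup.subset_closure ⟨i, t, hi, ht, rfl⟩)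
    (Subgroup.subset_closure ⟨i, -1, hi, neg_ne_zero.mpr one_ne_zero, rfl⟩)

theorem mem_Hbar_of_π_mem_of {n : ℕ} (CM : CoxeterMatrix (Fin n)) (hn : n = D.rank) (tf : TF D)
    (hHN : M.HNorm)
    (hle : M.Mbar ≤ M.Hbar ⊔ Subgroup.closure {g : Γ | ∃ i, i < D.rank ∧ g = M.sigma i})
    (hbraid : ∀ i j : Fin n, (M.sigma i.val * M.sigma j.val) ^ (CM.M i j) ∈ M.Hbar)
    (φ : ↥(D.monomialSubgroup K) →* CM.Group)
    (hker : φ.ker = (D.diagonalSubgroup K).subgroupOf (D.monomialSubgroup K))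
    (hsimple : ∀ (i : Fin n) (g : ↥(D.monomialSubgroup K)),
      ((g : GL D.Idx K) : Matrix D.Idx D.Idx K) = D.nMat K (D.simple i) 1 → φ g = CM.simple i)
    (m : Γ) (hm : m ∈ M.Mbar) (hπ : M.π m ∈ D.diagonalSubgroup K) : m ∈ M.Hbar := by
  classical
  have hlt : ∀ i : Fin n, i.val < D.rank := fun i => by have := i.2; omega
  have hnormal : (M.Hbar.subgroupOf M.Mbar).Normal := by
    refine ⟨fun h hh g => ?_⟩
    rw [Subgroup.mem_subgroupOf] at hh ⊢
    have := hHN g g.2 h hh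
    simpa using this
  have hσ : ∀ i : Fin n, M.sigma i.val ∈ M.Mbar :=
    fun i => Subgroup.subset_closure ⟨i.val, 1, hlt i, one_ne_zero, rfl⟩
  have hlift : CM.IsLiftable
      (fun i : Fin n => (QuotientGroup.mk' (M.Hbar.subgroupOf M.Mbar)) ⟨M.sigma i.val, hσ i⟩) := by
    intro i j
    show ((QuotientGroup.mk' (M.Hbar.subgroupOf M.Mbar)) ⟨M.sigma i.val, hσ i⟩ *
      (QuotientGroup.mk' (M.Hbar.subgroupOf M.Mbar)) ⟨M.sigma j.val, hσ j⟩) ^ CM.M i j = 1
    rw [← map_mul, ← map_pow, QuotientGroup.mk'_apply, QuotientGroup.eq_one_iff,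
      Subgroup.mem_subgroupOf]
    simpa using hbraid i j
  have hf : ∀ i, CM.toCoxeterSystem.lift ⟨_, hlift⟩ (CM.simple i) =
      (QuotientGroup.mk' (M.Hbar.subgroupOf M.Mbar)) ⟨M.sigma i.val, hσ i⟩ :=
    fun i => CM.toCoxeterSystem.lift_apply_simple hlift i
  -- the map back
  have hψ : M.Hbar.subgroupOf M.Mbar ≤
      (φ.comp ((M.π.comp M.Mbar.subtype).codRestrict (D.monomialSubgroup K)
        (fun x => π_Mbar_le M tf x.2))).ker := by
    intro x hx
    rw [Subgroup.mem_subgroupOf] at hx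
    rw [MonoidHom.mem_ker, MonoidHom.comp_apply, ← MonoidHom.mem_ker, hker, Subgroup.mem_subgroupOf]
    exact π_Hbar_le M tf hx
  have hgf : ∀ w, QuotientGroup.lift (M.Hbar.subgroupOf M.Mbar) _ hψ
      (CM.toCoxeterSystem.lift ⟨_, hlift⟩ w) = w := by
    have : (QuotientGroup.lift (M.Hbar.subgroupOf M.Mbar) _ hψ).comp
        (CM.toCoxeterSystem.lift ⟨_, hlift⟩) = MonoidHom.id _ := by
      apply CM.toCoxeterSystem.ext_simple
      intro i
      rw [MonoidHom.comp_apply, CM.toCoxeterSystem_simple, hf i, QuotientGroup.mk'_apply,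
        QuotientGroup.lift_mk, MonoidHom.comp_apply, MonoidHom.id_apply]
      exact hsimple i _ (π_nbar M (simple_lt tf (hlt i)) (neg_simple_lt tf (hlt i)) 1)
    intro w
    exact DFunLike.congr_fun this w
  -- surjectivity of the lift
  have hsurj : ∀ x : ↥M.Mbar, (QuotientGroup.mk' (M.Hbar.subgroupOf M.Mbar)) x ∈
      (CM.toCoxeterSystem.lift ⟨_, hlift⟩).range := by
    have h1 : M.Mbar ≤ (((CM.toCoxeterSystem.lift ⟨_, hlift⟩).range.comap
        (QuotientGroup.mk' (M.Hbar.subgroupOf M.Mbar))).map M.Mbar.subtype) := by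
      refine hle.trans (sup_le ?_ ?_)
      · intro x hx
        have hxM : x ∈ M.Mbar := Hbar_le_Mbar M hx
        have h1 : (QuotientGroup.mk' (M.Hbar.subgroupOf M.Mbar)) ⟨x, hxM⟩ = 1 := by
          rw [QuotientGroup.mk'_apply, QuotientGroup.eq_one_iff]
          exact Subgroup.mem_subgroupOf.mpr hx
        refine ⟨⟨x, hxM⟩, Subgroup.mem_comap.mpr ?_, rfl⟩
        rw [h1]
        exact one_mem _
      · rw [Subgroup.closure_le]
        rintro x ⟨i, hi, rfl⟩
        have hi' : i < n := by omega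
        refine ⟨⟨M.sigma i, hσ ⟨i, hi'⟩⟩, ?_, rfl⟩
        exact ⟨CM.simple ⟨i, hi'⟩, hf ⟨i, hi'⟩⟩
    intro x
    obtain ⟨y, hy, hyx⟩ := h1 x.2
    have hxy : y = x := Subtype.ext hyx
    subst hxy
    exact hy
  -- conclusion
  obtain ⟨w, hw⟩ := hsurj ⟨m, hm⟩
  have hg1 : QuotientGroup.lift (M.Hbar.subgroupOf M.Mbar) _ hψ
      ((QuotientGroup.mk' (M.Hbar.subgroupOf M.Mbar)) ⟨m, hm⟩) = 1 := by
    rw [QuotientGroup.mk'_apply, QuotientGroup.lift_mk, MonoidHom.comp_apply, ← MonoidHom.mem_ker,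
      hker, Subgroup.mem_subgroupOf]
    exact hπ
  have hw1 : w = 1 := by rw [← hgf w, hw, hg1]
  rw [hw1, map_one] at hw
  have h2 := (QuotientGroup.eq_one_iff _).mp hw.symm
  exact Subgroup.mem_subgroupOf.mp h2

end Cfsg.Agent.Lib.Helper44.St
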