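import Cfsg.Agent.Lib.Helper35.StDefs2
import Cfsg.Agent.Lib.Helper44.StSigma

set_option autoImplicit false

/-!
# STEINBERG phase 2, module P2-[HNORM] (helper44, for helper35)

`H̄` is normalised by `M̄`, given that `h̄_p(t)` acts on `X_s` by `t ^ A(p, s)` (`HAct`) and that
`A(j, -s) = - A(j, s)`.
-/

namespace Cfsg.Agent.Lib.Helper44.St

open Cfsg.Lie Cfsg.Agent.Lib.Helper35.St

universe u v

variable {D : ChevalleyDatum} {K : Type u} [Field K] {Γ : Type v} [Group Γ] (M : Model D K Γ)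

/-- `h⁻¹ X_s(u) h = X_s(χ⁻¹ u)` for `h = h̄_{p_j}(t)`, `χ = t ^ A(j, s)`. -/
theorem hbar_inv_conj_X (hH : M.HAct) {j : ℕ} (hj : j < D.rank) {t : K} (ht : t ≠ 0) {s : ℕ}
    (hs : s < D.nroots) (u : K) :
    (M.hbar (D.simple j) t)⁻¹ * M.X s u * M.hbar (D.simple j) t
      = M.X s ((t ^ (D.cartan j s))⁻¹ * u) := by
  have h := hH j hj t ht s hs ((t ^ (D.cartan j s))⁻¹ * u)
  rw [mul_inv_cancel_left₀ (zpow_ne_zero _ ht)] at h
  rw [← h]
  group

/-- `h⁻¹ n̄_p(y) h = n̄_p(χ⁻¹ y)` for `h = h̄_{p_j}(t)`, `p = p_i`, `χ = t ^ A(j, p)`. -/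
theorem hbar_inv_conj_nbar (tf : TF D) (hH : M.HAct)
    (hcn : ∀ j, j < D.rank → ∀ s, s < D.nroots → D.cartan j (D.neg s) = - D.cartan j s)
    {i j : ℕ} (hi : i < D.rank) (hj : j < D.rank) {t : K} (ht : t ≠ 0) (y : K) :
    (M.hbar (D.simple j) t)⁻¹ * M.nbar (D.simple i) y * M.hbar (D.simple j) t
      = M.nbar (D.simple i) ((t ^ (D.cartan j (D.simple i)))⁻¹ * y) := by
  have hp := simple_lt tf hi
  have hp' := neg_simple_lt tf hi
  have e : (M.hbar (D.simple j) t)⁻¹ * M.nbar (D.simple i) y * M.hbar (D.simple j) t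
      = ((M.hbar (D.simple j) t)⁻¹ * M.X (D.simple i) y * M.hbar (D.simple j) t) *
        ((M.hbar (D.simple j) t)⁻¹ * M.X (D.neg (D.simple i)) (-y⁻¹) * M.hbar (D.simple j) t) *
        ((M.hbar (D.simple j) t)⁻¹ * M.X (D.simple i) y * M.hbar (D.simple j) t) := by
    unfold Model.nbar
    group
  rw [e, hbar_inv_conj_X M hH hj ht hp, hbar_inv_conj_X M hH hj ht hp', hcn j hj _ hp]
  unfold Model.nbar
  rw [zpow_neg, inv_inv, mul_inv, inv_inv, mul_neg]

/-- Conjugation by `n` maps `H̄` into itself as soon as it does so on the generators. -/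
theorem conj_mem_Hbar_of_gen (n : Γ)
    (hgen : ∀ i t, i < D.rank → t ≠ 0 → n * M.hbar (D.simple i) t * n⁻¹ ∈ M.Hbar) :
    ∀ h ∈ M.Hbar, n * h * n⁻¹ ∈ M.Hbar := by
  intro h hh
  unfold Model.Hbar at hh
  induction hh using Subgroup.closure_induction with
  | mem x hx =>
    obtain ⟨i, t, hi, ht, rfl⟩ := hx
    exact hgen i t hi ht
  | one =>
    rw [mul_one, mul_inv_cancel]
    exact one_mem _
  | mul x y _ _ hx hy =>
    have e : n * (x * y) * n⁻¹ = (n * x * n⁻¹) * (n * y * n⁻¹) := by group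
    rw [e]
    exact mul_mem hx hy
  | inv x _ hx =>
    have e : n * x⁻¹ * n⁻¹ = (n * x * n⁻¹)⁻¹ := by group
    rw [e]
    exact inv_mem hx

/-- `σ_i` normalises `H̄`. -/
theorem sigma_conj_mem (tf : TF D) (hH : M.HAct)
    (hcn : ∀ j, j < D.rank → ∀ s, s < D.nroots → D.cartan j (D.neg s) = - D.cartan j s)
    {i : ℕ} (hi : i < D.rank) : ∀ h ∈ M.Hbar, M.sigma i * h * (M.sigma i)⁻¹ ∈ M.Hbar := by
  apply conj_mem_Hbar_of_gen
  intro j t hj ht
  have hχ : (t ^ (D.cartan j (D.simple i)))⁻¹ * 1 ≠ 0 :=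
    mul_ne_zero (inv_ne_zero (zpow_ne_zero _ ht)) one_ne_zero
  have e : M.sigma i * M.hbar (D.simple j) t * (M.sigma i)⁻¹
      = M.hbar (D.simple j) t *
        (((M.hbar (D.simple j) t)⁻¹ * M.sigma i * M.hbar (D.simple j) t) * (M.sigma i)⁻¹) := by
    group
  rw [e]
  refine mul_mem (hbar_mem M hj ht) ?_
  unfold Model.sigma
  rw [hbar_inv_conj_nbar M tf hH hcn hi hj ht 1]
  have := nbar_mul_sigma_inv M tf hi ((t ^ (D.cartan j (D.simple i)))⁻¹ * 1)
  unfold Model.sigma at this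
  rw [this]
  exact hbar_mem M hi hχ

/-- `σ_i⁻¹` normalises `H̄`. -/
theorem sigma_inv_conj_mem (tf : TF D) (hH : M.HAct)
    (hcn : ∀ j, j < D.rank → ∀ s, s < D.nroots → D.cartan j (D.neg s) = - D.cartan j s)
    {i : ℕ} (hi : i < D.rank) : ∀ h ∈ M.Hbar, (M.sigma i)⁻¹ * h * M.sigma i ∈ M.Hbar := by
  have key : ∀ h ∈ M.Hbar, (M.sigma i)⁻¹ * h * ((M.sigma i)⁻¹)⁻¹ ∈ M.Hbar := by
    apply conj_mem_Hbar_of_gen
    intro j t hj ht
    have hχ : (t ^ (D.cartan j (D.simple i)))⁻¹ * (-1) ≠ 0 :=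
      mul_ne_zero (inv_ne_zero (zpow_ne_zero _ ht)) (neg_ne_zero.mpr one_ne_zero)
    have e : (M.sigma i)⁻¹ * M.hbar (D.simple j) t * ((M.sigma i)⁻¹)⁻¹
        = M.hbar (D.simple j) t *
          (((M.hbar (D.simple j) t)⁻¹ * (M.sigma i)⁻¹ * M.hbar (D.simple j) t) * M.sigma i) := by
      group
    rw [e]
    refine mul_mem (hbar_mem M hj ht) ?_
    rw [sigma_inv M tf hi, hbar_inv_conj_nbar M tf hH hcn hi hj ht (-1),
      nbar_eq_hbar_mul_sigma M tf hi, mul_assoc]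
    exact mul_mem (hbar_mem M hi hχ) (sigma_sq_mem M tf i hi)
  intro h hh
  have := key h hh
  rwa [inv_inv] at this

theorem hNorm (tf : TF D) (hH : M.HAct)
    (hcn : ∀ j, j < D.rank → ∀ s, s < D.nroots → D.cartan j (D.neg s) = - D.cartan j s) : M.HNorm := by
  -- the stronger two-sided statement, by closure induction
  have key : ∀ m ∈ M.Mbar, ∀ h ∈ M.Hbar, m * h * m⁻¹ ∈ M.Hbar ∧ m⁻¹ * h * m ∈ M.Hbar := by
    intro m hm
    unfold Model.Mbar at hm
    induction hm using Subgroup.closure_induction with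
    | mem x hx =>
      obtain ⟨i, t, hi, ht, rfl⟩ := hx
      intro h hh
      rw [nbar_eq_hbar_mul_sigma M tf hi t]
      have hb := hbar_mem M hi ht
      constructor
      · have e : M.hbar (D.simple i) t * M.sigma i * h * (M.hbar (D.simple i) t * M.sigma i)⁻¹
            = M.hbar (D.simple i) t * (M.sigma i * h * (M.sigma i)⁻¹) * (M.hbar (D.simple i) t)⁻¹ := by
          group
        rw [e]
        exact mul_mem (mul_mem hb (sigma_conj_mem M tf hH hcn hi h hh)) (inv_mem hb)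
      · have e : (M.hbar (D.simple i) t * M.sigma i)⁻¹ * h * (M.hbar (D.simple i) t * M.sigma i)
            = (M.sigma i)⁻¹ * ((M.hbar (D.simple i) t)⁻¹ * h * M.hbar (D.simple i) t) * M.sigma i := by
          group
        rw [e]
        exact sigma_inv_conj_mem M tf hH hcn hi _ (mul_mem (mul_mem (inv_mem hb) hh) hb)
    | one =>
      intro h hh
      simpa using hh
    | mul x y _ _ hx hy =>
      intro h hh
      constructor
      · have e : x * y * h * (x * y)⁻¹ = x * (y * h * y⁻¹) * x⁻¹ := by group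
        rw [e]
        exact (hx _ (hy h hh).1).1
      · have e : (x * y)⁻¹ * h * (x * y) = y⁻¹ * (x⁻¹ * h * x) * y := by group
        rw [e]
        exact (hy _ (hx h hh).2).2
    | inv x _ hx =>
      intro h hh
      rw [inv_inv]
      exact ⟨(hx h hh).2, (hx h hh).1⟩
  intro m hm h hh
  exact (key m hm h hh).1

end Cfsg.Agent.Lib.Helper44.St
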