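/-
helper44: S3777 (Vaughan-Lee, helper35's project, board #4359) module [VL-X]:
a nontrivial `G`-invariant homomorphism `G' → Z_p` killing `L'`, when `L' ≠ G'`.
-/
import Mathlib
import Cfsg.Agent.Lib.Helper76.VLHoms

set_option autoImplicit false

open Subgroup
open scoped commutatorElement

namespace Cfsg.Agent.Lib.Helper44.VL

/-- a proper subgroup of a finite `p`-group lies in a subgroup of index `p` -/
theorem exists_index_prime_of_ne_top {P : Type*} [Group P] [Finite P] {p : ℕ} [Fact p.Prime]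
    (hP : IsPGroup p P) (H : Subgroup P) (hH : H ≠ ⊤) :
    ∃ M : Subgroup P, M.index = p ∧ H ≤ M := by
  have hp : p.Prime := Fact.out
  obtain ⟨N, hN⟩ := (IsPGroup.iff_card).mp hP
  have hK : IsPGroup p H := hP.to_subgroup _
  obtain ⟨n, hn⟩ := (IsPGroup.iff_card).mp hK
  have hlt : n < N := by
    have hdvd : Nat.card H ∣ Nat.card P := Subgroup.card_subgroup_dvd_card _
    rw [hn, hN] at hdvd
    have hle : n ≤ N := (Nat.pow_dvd_pow_iff_le_right hp.one_lt).mp hdvd
    rcases hle.lt_or_eq with h | h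
    · exact h
    · exfalso
      apply hH
      apply (Subgroup.card_eq_iff_eq_top H).mp
      rw [hn, hN, h]
  obtain ⟨L, hLcard, hLle⟩ := Sylow.exists_subgroup_card_pow_prime_le p
    (n := n) (m := N - 1) (by rw [hN]; exact pow_dvd_pow p (Nat.sub_le N 1)) H hn (by omega)
  refine ⟨L, ?_, hLle⟩
  have hmul : Nat.card L * L.index = Nat.card P := Subgroup.card_mul_index L
  rw [hLcard, hN] at hmul
  have hN1 : N = (N - 1) + 1 := by omega
  have hpow : p ^ N = p ^ (N - 1) * p := by
    conv_lhs => rw [hN1]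
    exact pow_succ p (N - 1)
  rw [hpow] at hmul
  exact Nat.eq_of_mul_eq_mul_left (pow_pos hp.pos _) hmul

/-- in a nilpotent group, `G' ≤ L' [G', G]` forces `G' ≤ L'` (for `L'` normal) -/
theorem commutator_le_of_le_sup {G : Type*} [Group G] [Group.IsNilpotent G] (L' : Subgroup G)
    [L'.Normal] (hle : commutator G ≤ L' ⊔ ⁅commutator G, ⊤⁆) : commutator G ≤ L' := by
  obtain ⟨n, hn⟩ := Subgroup.nilpotent_iff_lowerCentralSeries.mp (inferInstance : Group.IsNilpotent G)
  have key : ∀ k, commutator G ≤ L' ⊔ (⊤ : Subgroup G).lowerCentralSeries (k + 1) := by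
    intro k
    induction k with
    | zero =>
      rw [zero_add, Subgroup.top_lowerCentralSeries_one]
      exact le_sup_right
    | succ k ih =>
      have h1 : ⁅commutator G, (⊤ : Subgroup G)⁆ ≤ L' ⊔ (⊤ : Subgroup G).lowerCentralSeries (k + 1 + 1) := by
        refine le_trans (Subgroup.commutator_mono ih le_rfl) ?_
        rw [Subgroup.commutator_le]
        intro x hx g _
        obtain ⟨a, ha, b, hb, rfl⟩ := Subgroup.mem_sup_of_normal_right.mp hx
        have e : ⁅a * b, g⁆ = (a * ⁅b, g⁆ * a⁻¹) * ⁅a, g⁆ := by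
          simp only [commutatorElement_def]; group
        rw [e, sup_comm]
        apply Subgroup.mul_mem_sup
        · have : ⁅b, g⁆ ∈ (⊤ : Subgroup G).lowerCentralSeries (k + 1 + 1) :=
            Subgroup.commutator_mem_commutator hb (Subgroup.mem_top g)
          exact (inferInstance : ((⊤ : Subgroup G).lowerCentralSeries (k + 1 + 1)).Normal).conj_mem _ this a
        · rw [commutatorElement_def]
          have h2 : g * a⁻¹ * g⁻¹ ∈ L' :=
            (inferInstance : L'.Normal).conj_mem _ (L'.inv_mem ha) g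
          have h3 : a * g * a⁻¹ * g⁻¹ = a * (g * a⁻¹ * g⁻¹) := by group
          rw [h3]
          exact L'.mul_mem ha h2
      exact le_trans hle (sup_le le_sup_left h1)
  have h2 := key n
  have hbot : (⊤ : Subgroup G).lowerCentralSeries (n + 1) = ⊥ := by
    apply le_bot_iff.mp
    rw [← hn]
    exact Subgroup.lowerCentralSeries_antitone _ (Nat.le_succ n)
  rw [hbot, sup_bot_eq] at h2
  exact h2

/-- MODULE [VL-X] -/
theorem exists_invariant_hom {G : Type*} [Group G] [Finite G] {p : ℕ} [Fact p.Prime]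
    (hG : IsPGroup p G) (L : Subgroup G) (hLn : L.Normal) (hne : ⁅L, L⁆ ≠ commutator G) :
    ∃ χ : ↥(commutator G) →* Multiplicative (ZMod p),
      (∀ (x : G) (c : ↥(commutator G)),
        χ ⟨x * c * x⁻¹, (inferInstance : (commutator G).Normal).conj_mem c c.2 x⟩ = χ c) ∧
      χ ≠ 1 ∧ ∀ c : ↥(commutator G), (c : G) ∈ ⁅L, L⁆ → χ c = 1 := by
  have hp : p.Prime := Fact.out
  have := hLn
  have : Group.IsNilpotent G := hG.isNilpotent
  have hL'le : ⁅L, L⁆ ≤ commutator G := by
    rw [commutator_def]; exact Subgroup.commutator_mono le_top le_top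
  have hNne : ¬ commutator G ≤ ⁅L, L⁆ ⊔ ⁅commutator G, (⊤ : Subgroup G)⁆ := by
    intro hle
    exact hne (le_antisymm hL'le (commutator_le_of_le_sup ⁅L, L⁆ hle))
  have hN' : (⁅L, L⁆ ⊔ ⁅commutator G, (⊤ : Subgroup G)⁆).subgroupOf (commutator G) ≠ ⊤ := by
    rw [Ne, Subgroup.subgroupOf_eq_top]; exact hNne
  have hP : IsPGroup p ↥(commutator G) := hG.to_subgroup _
  obtain ⟨M, hMidx, hNM⟩ := exists_index_prime_of_ne_top hP _ hN'
  have hMne : M ≠ ⊤ := by
    intro h
    rw [h, Subgroup.index_top] at hMidx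
    exact hp.one_lt.ne hMidx
  obtain ⟨g, hg⟩ : ∃ g, g ∉ M := by
    by_contra hcon
    push Not at hcon
    exact hMne ((Subgroup.eq_top_iff' M).mpr hcon)
  obtain ⟨φ, hker, hφg⟩ :=
    Cfsg.Agent.Lib.Helper76.VL.exists_hom_of_index_prime hP M hMidx g hg
  refine ⟨φ, ?_, ?_, ?_⟩
  · intro x c
    have hmem : (⟨x * c * x⁻¹, (inferInstance : (commutator G).Normal).conj_mem c c.2 x⟩ :
        ↥(commutator G)) * c⁻¹ ∈ M := by
      apply hNM
      rw [Subgroup.mem_subgroupOf]
      have h1 : ⁅x, (c : G)⁆ ∈ ⁅commutator G, (⊤ : Subgroup G)⁆ := by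
        rw [Subgroup.commutator_comm]
        exact Subgroup.commutator_mem_commutator (Subgroup.mem_top x) c.2
      rw [commutatorElement_def] at h1
      exact le_sup_right (a := ⁅L, L⁆) h1
    rw [← hker, MonoidHom.mem_ker, map_mul, map_inv, mul_inv_eq_one] at hmem
    exact hmem
  · intro h1
    rw [h1] at hφg
    exact Cfsg.Agent.Lib.Helper76.VL.ofAdd_one_ne_one hφg.symm
  · intro c hc
    have h1 : c ∈ M := hNM (by
      rw [Subgroup.mem_subgroupOf]
      exact le_sup_left (b := ⁅commutator G, (⊤ : Subgroup G)⁆) hc)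
    rw [← hker] at h1
    exact h1

end Cfsg.Agent.Lib.Helper44.VL
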