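import Mathlib
import Cfsg.Agent.Lib.Helper36.LocalBalance.Decomp

set_option autoImplicit false

/-!
# Matrix lemmas for the centraliser computations in the local-balance criterion

* `scalar_eq_one_of_unipotent` : `h X = c (Y h)` with `X, Y` of `r`-power order in characteristic `r`
  forces `c = 1`;
* `cent_matrix_quad` : a pair `(g, τ)` with `g τ(A_t) = A_t g` for a quadratic unipotent family
  `A_t = 1 + t N₁ + t² N₂` over a subfield: `τ` fixes the subfield and `g` commutes with `N₁`.
-/

namespace Cfsg.Agent.Lib.Helper44.LB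

open Matrix

variable {ι : Type*} [Fintype ι] [DecidableEq ι] {F₀ F : Type*} [Field F₀] [Field F]

theorem mul_pow_of_semicomm (h X Y : Matrix ι ι F) (c : F) (hc : h * X = c • (Y * h)) (m : ℕ) :
    h * X ^ m = c ^ m • (Y ^ m * h) := by
  induction m with
  | zero => simp
  | succ m ih =>
    rw [pow_succ, ← Matrix.mul_assoc, ih, Matrix.smul_mul, Matrix.mul_assoc, hc, Matrix.mul_smul,
      smul_smul, ← Matrix.mul_assoc, ← pow_succ, ← pow_succ]

/-- exactness for unipotent elements -/
theorem scalar_eq_one_of_unipotent (r : ℕ) [Fact r.Prime] [CharP F r] [Nonempty ι] (h : GL ι F)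
    (X Y : Matrix ι ι F) (c : F) (hc : (h : Matrix ι ι F) * X = c • (Y * (h : Matrix ι ι F)))
    (k : ℕ) (hX : X ^ (r ^ k) = 1) (hY : Y ^ (r ^ k) = 1) : c = 1 := by
  have h1 := mul_pow_of_semicomm (h : Matrix ι ι F) X Y c hc (r ^ k)
  rw [hX, hY, Matrix.mul_one, Matrix.one_mul] at h1
  have h2 : c ^ (r ^ k) = 1 := by
    have h3 : (1 : Matrix ι ι F) = c ^ (r ^ k) • (1 : Matrix ι ι F) := by
      have := congrArg (fun M : Matrix ι ι F => M * ((h⁻¹ : GL ι F) : Matrix ι ι F)) h1
      simp only [Matrix.smul_mul] at this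
      rwa [← Units.val_mul, mul_inv_cancel, Units.val_one] at this
    obtain ⟨i⟩ := ‹Nonempty ι›
    have h4 := congrFun (congrFun h3 i) i
    rw [Matrix.smul_apply, Matrix.one_apply_eq, smul_eq_mul, mul_one] at h4
    exact h4.symm
  have h5 : (iterateFrobenius F r k) c = (iterateFrobenius F r k) 1 := by
    rw [iterateFrobenius_def, iterateFrobenius_def, h2, one_pow]
  exact (iterateFrobenius_inj F r k) h5

theorem map_pow_eq_one {R S : Type*} [Semiring R] [Semiring S] (f : R →+* S) (A : Matrix ι ι R)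
    (m : ℕ) (hA : A ^ m = 1) : (A.map f) ^ m = 1 := by
  have h1 : (A.map f) ^ m = (A ^ m).map f := by
    have := map_pow f.mapMatrix A m
    rw [RingHom.mapMatrix_apply, RingHom.mapMatrix_apply] at this
    exact this.symm
  rw [h1, hA]
  have := map_one (f.mapMatrix (m := ι))
  rwa [RingHom.mapMatrix_apply] at this

omit [Fintype ι] in
theorem map_add_smul_sq (f : F₀ →+* F) (t : F₀) (N₁ N₂ : Matrix ι ι F₀) :
    (1 + t • N₁ + t ^ 2 • N₂).map f = 1 + f t • N₁.map f + f t ^ 2 • N₂.map f := by
  ext a b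
  simp only [Matrix.map_apply, Matrix.add_apply, Matrix.smul_apply, smul_eq_mul, map_add, map_mul,
    map_pow]
  congr 2
  by_cases hab : a = b
  · subst hab; simp
  · simp [Matrix.one_apply_ne hab]

/-- the centraliser computation for a quadratic unipotent family -/
theorem cent_matrix_quad (j : F₀ →+* F) (τ : F ≃+* F) (g : GL ι F) (h2 : (2 : F) ≠ 0)
    (N₁ N₂ : Matrix ι ι F₀)
    (hcomm : ∀ t : F₀, (g : Matrix ι ι F) * (((1 + t • N₁ + t ^ 2 • N₂).map j).map τ) =
      (1 + t • N₁ + t ^ 2 • N₂).map j * (g : Matrix ι ι F))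
    (hind : ∀ c : F, N₁.map j ≠ c • N₂.map j) :
    (∀ t : F₀, τ (j t) = j t) ∧
      (g : Matrix ι ι F) * N₁.map j = N₁.map j * (g : Matrix ι ι F) := by
  set G : Matrix ι ι F := (g : Matrix ι ι F) with hG
  set A : Matrix ι ι F := G * (N₁.map j).map τ with hA
  set C : Matrix ι ι F := G * (N₂.map j).map τ with hC
  set B : Matrix ι ι F := N₁.map j * G with hB
  set D : Matrix ι ι F := N₂.map j * G with hD
  have key : ∀ t : F₀, τ (j t) • A + τ (j t) ^ 2 • C = j t • B + j t ^ 2 • D := by
    intro t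
    have h1 := hcomm t
    rw [map_add_smul_sq j] at h1
    have h0 := map_add_smul_sq (τ : F →+* F) (j t) (N₁.map j) (N₂.map j)
    rw [show ((1 + j t • N₁.map ⇑j + j t ^ 2 • N₂.map ⇑j).map ⇑τ) =
      (1 + (τ : F →+* F) (j t) • (N₁.map ⇑j).map ⇑(τ : F →+* F) +
        (τ : F →+* F) (j t) ^ 2 • (N₂.map ⇑j).map ⇑(τ : F →+* F)) from h0] at h1
    simp only [Matrix.mul_add, Matrix.add_mul, Matrix.mul_one, Matrix.one_mul, Matrix.mul_smul,
      Matrix.smul_mul] at h1
    have h3 : G + (τ (j t) • A + τ (j t) ^ 2 • C) = G + (j t • B + j t ^ 2 • D) := by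
      rw [← add_assoc, ← add_assoc]
      exact h1
    exact add_left_cancel h3
  have k1 : A + C = B + D := by
    have := key 1
    simpa using this
  have k2 : -A + C = -B + D := by
    have := key (-1)
    simpa using this
  have hAB : A = B := by
    have h3 : (2 : F) • A = (2 : F) • B := by
      have : A + C - (-A + C) = B + D - (-B + D) := by rw [k1, k2]
      rw [two_smul, two_smul]
      have e1 : A + C - (-A + C) = A + A := by abel
      have e2 : B + D - (-B + D) = B + B := by abel
      rw [e1, e2] at this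
      exact this
    have := congrArg (fun M : Matrix ι ι F => (2 : F)⁻¹ • M) h3
    simpa [smul_smul, inv_mul_cancel₀ h2] using this
  have hCD : C = D := by
    rw [hAB] at k1
    exact add_left_cancel k1
  have hGinv : ∀ M N : Matrix ι ι F, M * G = N * G → M = N := by
    intro M N hMN
    have := congrArg (fun X : Matrix ι ι F => X * ((g⁻¹ : GL ι F) : Matrix ι ι F)) hMN
    simp only [Matrix.mul_assoc] at this
    rwa [hG, ← Units.val_mul, mul_inv_cancel, Units.val_one, Matrix.mul_one, Matrix.mul_one] at this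
  have hτ : ∀ t : F₀, τ (j t) = j t := by
    intro t
    by_contra hne
    have h3 := key t
    rw [hAB, hCD] at h3
    -- (a - b) B + (a^2 - b^2) D = 0
    have h4 : (τ (j t) - j t) • (B + (τ (j t) + j t) • D) = 0 := by
      rw [smul_add, smul_smul, sub_smul]
      have e : (τ (j t) - j t) * (τ (j t) + j t) = τ (j t) ^ 2 - j t ^ 2 := by ring
      rw [e, sub_smul]
      have : τ (j t) • B + τ (j t) ^ 2 • D - (j t • B + j t ^ 2 • D) = 0 := by
        rw [h3, sub_self]
      rw [← this]
      abel
    have h5 : τ (j t) - j t ≠ 0 := sub_ne_zero.mpr hne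
    have h6 : B + (τ (j t) + j t) • D = 0 := by
      have := congrArg (fun M : Matrix ι ι F => (τ (j t) - j t)⁻¹ • M) h4
      beta_reduce at this
      rwa [smul_smul, inv_mul_cancel₀ h5, one_smul, smul_zero] at this
    apply hind (-(τ (j t) + j t))
    apply hGinv
    rw [Matrix.smul_mul, ← hB, ← hD, neg_smul]
    exact eq_neg_of_add_eq_zero_left h6
  refine ⟨hτ, ?_⟩
  have h7 : (N₁.map j).map τ = N₁.map j := by
    ext a b
    rw [Matrix.map_apply, Matrix.map_apply]
    exact hτ _
  rw [hA, h7] at hAB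
  exact hAB

end Cfsg.Agent.Lib.Helper44.LB
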