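import Mathlib
import Cfsg.Agent.Lib.Helper44.Eichler
import Cfsg.Agent.Lib.Helper44.Witt

set_option autoImplicit false
set_option linter.unusedSimpArgs false
set_option linter.unusedVariables false
set_option linter.unusedSectionVars false

/-!
# The linear parts of Eichler transformations and their commutant

`n1 Q p w z = f(w,z) p - f(p,z) w`, `n2 Q p w z = -Q(w) f(p,z) p`, so that
`E(p, t w) = 1 + t n1 + t² n2`.  A linear map commuting with `n1 p w`, `n1 p' w` for a hyperbolic
pair `p, p'` and all `w ⊥ p, p'` is a scalar (given one non-singular `w₀ ⊥ p, p'`).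
-/

namespace Cfsg.Agent.Lib.Helper44.LB

open Cfsg.Agent.Lib.Helper13 hiding isoGroup mem_isoGroup
open Cfsg.Agent.Lib.Helper36 Cfsg.Agent.Lib.Helper44 Module

variable {F V : Type*} [Field F] [AddCommGroup V] [Module F V]

local notation "pol" => QuadraticMap.polar

/-- the linear part of the Eichler transformation -/
noncomputable def n1 (Q : QuadraticForm F V) (p w : V) : V →ₗ[F] V :=
  (QuadraticMap.polarBilin Q w).smulRight p - (QuadraticMap.polarBilin Q p).smulRight w

/-- the quadratic part of the Eichler transformation -/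
noncomputable def n2 (Q : QuadraticForm F V) (p w : V) : V →ₗ[F] V :=
  (-(Q w)) • (QuadraticMap.polarBilin Q p).smulRight p

theorem n1_apply (Q : QuadraticForm F V) (p w z : V) :
    n1 Q p w z = pol (⇑Q) w z • p - pol (⇑Q) p z • w := by
  simp [n1, LinearMap.smulRight_apply]

theorem n2_apply (Q : QuadraticForm F V) (p w z : V) :
    n2 Q p w z = (-(Q w) * pol (⇑Q) p z) • p := by
  simp [n2, LinearMap.smulRight_apply, mul_smul]

theorem siegelLin_smul_eq (Q : QuadraticForm F V) (p w : V) (t : F) :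
    siegelLin Q p (t • w) = LinearMap.id + t • n1 Q p w + t ^ 2 • n2 Q p w := by
  apply LinearMap.ext
  intro z
  rw [siegelLin_apply, LinearMap.add_apply, LinearMap.add_apply, LinearMap.smul_apply,
    LinearMap.smul_apply, n1_apply, n2_apply, LinearMap.id_apply, QuadraticMap.map_smul,
    QuadraticMap.polar_smul_left]
  simp only [smul_eq_mul]
  match_scalars <;> ring

/-- **the commutant**: a linear map commuting with the linear parts of the Eichler
transformations of a hyperbolic pair is a scalar -/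
theorem scalar_of_commute_n1 (Q : QuadraticForm F V) (p p' w₀ : V) (hp : Q p = 0) (hp' : Q p' = 0)
    (hpp' : pol (⇑Q) p p' = 1) (hw₀ : pol (⇑Q) p w₀ = 0) (hw₀' : pol (⇑Q) p' w₀ = 0)
    (hw₀Q : pol (⇑Q) w₀ w₀ ≠ 0) (M : V →ₗ[F] V)
    (hM : ∀ w : V, pol (⇑Q) p w = 0 → pol (⇑Q) p' w = 0 →
      (∀ z, M (n1 Q p w z) = n1 Q p w (M z)) ∧ (∀ z, M (n1 Q p' w z) = n1 Q p' w (M z))) :
    ∃ c : F, ∀ z, M z = c • z := by
  have hp'p : pol (⇑Q) p' p = 1 := by rw [QuadraticMap.polar_comm]; exact hpp'
  have hppz : pol (⇑Q) p p = 0 := by rw [polar_self', hp, mul_zero]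
  have hp'p'z : pol (⇑Q) p' p' = 0 := by rw [polar_self', hp', mul_zero]
  set c : F := pol (⇑Q) p (M p') with hc
  set c' : F := pol (⇑Q) p' (M p) with hc'
  -- (1) and (2)
  have e1 : ∀ w, pol (⇑Q) p w = 0 → pol (⇑Q) p' w = 0 →
      M w = c • w - pol (⇑Q) w (M p') • p := by
    intro w hw hw'
    have h1 := (hM w hw hw').1 p'
    rw [n1_apply, n1_apply, hpp', QuadraticMap.polar_comm (⇑Q) w p', hw', zero_smul, one_smul,
      zero_sub, map_neg] at h1
    rw [← neg_eq_iff_eq_neg.mpr h1.symm]
    abel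
  have e2 : ∀ w, pol (⇑Q) p w = 0 → pol (⇑Q) p' w = 0 →
      M w = c' • w - pol (⇑Q) w (M p) • p' := by
    intro w hw hw'
    have h1 := (hM w hw hw').2 p
    rw [n1_apply, n1_apply, hp'p, QuadraticMap.polar_comm (⇑Q) w p, hw, zero_smul, one_smul,
      zero_sub, map_neg] at h1
    rw [← neg_eq_iff_eq_neg.mpr h1.symm]
    abel
  have key : ∀ w, pol (⇑Q) p w = 0 → pol (⇑Q) p' w = 0 →
      pol (⇑Q) w (M p') = 0 ∧ pol (⇑Q) w (M p) = 0 ∧ (c - c') • w = 0 := by
    intro w hw hw'
    have h3 : (c - c') • w - pol (⇑Q) w (M p') • p + pol (⇑Q) w (M p) • p' = 0 := by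
      have := (e1 w hw hw').symm.trans (e2 w hw hw')
      rw [sub_smul]
      rw [← sub_eq_zero] at this
      rw [← this]
      abel
    have h4 := congrArg (fun x => pol (⇑Q) p' x) h3
    have h5 := congrArg (fun x => pol (⇑Q) p x) h3
    simp only [QuadraticMap.polar_add_right, QuadraticMap.polar_sub_right,
      QuadraticMap.polar_smul_right, hw, hw', hp'p, hpp', hppz, hp'p'z, smul_eq_mul, mul_zero,
      mul_one, QuadraticMap.polar_zero_right, zero_sub, sub_zero, add_zero, zero_add,
      neg_eq_zero] at h4 h5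
    refine ⟨h4, h5, ?_⟩
    rw [h4, h5, zero_smul, zero_smul, sub_zero, add_zero] at h3
    exact h3
  have hw₀0 : w₀ ≠ 0 := by
    rintro rfl
    apply hw₀Q
    rw [QuadraticMap.polar_zero_left]
  have hcc' : c = c' := by
    have := (key w₀ hw₀ hw₀').2.2
    rcases smul_eq_zero.mp this with h | h
    · exact sub_eq_zero.mp h
    · exact absurd h hw₀0
  have hMw : ∀ w, pol (⇑Q) p w = 0 → pol (⇑Q) p' w = 0 → M w = c • w := by
    intro w hw hw'
    rw [e1 w hw hw', (key w hw hw').1, zero_smul, sub_zero]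
  -- (3)
  have hMp : M p = c • p := by
    have h1 := (hM w₀ hw₀ hw₀').1 w₀
    rw [n1_apply, hw₀, zero_smul, sub_zero, map_smul, hMw w₀ hw₀ hw₀', map_smul, n1_apply, hw₀,
      zero_smul, sub_zero, smul_comm] at h1
    have := congrArg (fun x => (pol (⇑Q) w₀ w₀)⁻¹ • x) h1
    beta_reduce at this
    rwa [smul_smul, smul_smul, inv_mul_cancel₀ hw₀Q, one_smul, one_smul] at this
  have hMp' : M p' = c • p' := by
    have h1 := (hM w₀ hw₀ hw₀').2 w₀
    rw [n1_apply, hw₀', zero_smul, sub_zero, map_smul, hMw w₀ hw₀ hw₀', map_smul, n1_apply, hw₀',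
      zero_smul, sub_zero, smul_comm] at h1
    have := congrArg (fun x => (pol (⇑Q) w₀ w₀)⁻¹ • x) h1
    beta_reduce at this
    rwa [smul_smul, smul_smul, inv_mul_cancel₀ hw₀Q, one_smul, one_smul] at this
  refine ⟨c, fun z => ?_⟩
  set w : V := z - pol (⇑Q) p' z • p - pol (⇑Q) p z • p' with hw
  have hw1 : pol (⇑Q) p w = 0 := by
    rw [hw, QuadraticMap.polar_sub_right, QuadraticMap.polar_sub_right,
      QuadraticMap.polar_smul_right, QuadraticMap.polar_smul_right, hppz, hpp']
    simp
  have hw2 : pol (⇑Q) p' w = 0 := by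
    rw [hw, QuadraticMap.polar_sub_right, QuadraticMap.polar_sub_right,
      QuadraticMap.polar_smul_right, QuadraticMap.polar_smul_right, hp'p, hp'p'z]
    simp
  have hz : z = w + pol (⇑Q) p' z • p + pol (⇑Q) p z • p' := by rw [hw]; abel
  rw [hz, map_add, map_add, map_smul, map_smul, hMw w hw1 hw2, hMp, hMp']
  simp only [smul_add, smul_smul, mul_comm]

/-- existence of a non-singular vector orthogonal to a hyperbolic pair (dimension at least 3) -/
theorem exists_nonsing_perp [FiniteDimensional F V] (Q : QuadraticForm F V)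
    (hQ : (QuadraticMap.polarBilin Q).Nondegenerate) (h20 : (2 : F) ≠ 0)
    (h3 : 3 ≤ finrank F V) (p p' : V)
    (hp : Q p = 0) (hp' : Q p' = 0) (hpp' : pol (⇑Q) p p' = 1) :
    ∃ w₀ : V, pol (⇑Q) p w₀ = 0 ∧ pol (⇑Q) p' w₀ = 0 ∧ pol (⇑Q) w₀ w₀ ≠ 0 := by
  have hp'p : pol (⇑Q) p' p = 1 := by rw [QuadraticMap.polar_comm]; exact hpp'
  have hppz : pol (⇑Q) p p = 0 := by rw [polar_self', hp, mul_zero]
  have hp'p'z : pol (⇑Q) p' p' = 0 := by rw [polar_self', hp', mul_zero]
  set φ : V →ₗ[F] F × F :=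
    (QuadraticMap.polarBilin Q p).prod (QuadraticMap.polarBilin Q p') with hφ
  have hker : 1 ≤ finrank F (LinearMap.ker φ) := by
    have h1 := LinearMap.finrank_range_add_finrank_ker φ
    have h2 : finrank F (LinearMap.range φ) ≤ 2 := by
      have := Submodule.finrank_le (LinearMap.range φ)
      rw [Module.finrank_prod, Module.finrank_self] at this
      exact this
    omega
  have hnt : Nontrivial (LinearMap.ker φ) := Module.finrank_pos_iff.mp hker
  obtain ⟨w1, hw1⟩ := exists_ne (0 : LinearMap.ker φ)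
  have hmemW : ∀ w : V, w ∈ LinearMap.ker φ ↔ pol (⇑Q) p w = 0 ∧ pol (⇑Q) p' w = 0 := by
    intro w
    rw [LinearMap.mem_ker, hφ, LinearMap.prod_apply]
    exact Prod.mk_eq_zero
  by_contra hcon
  push Not at hcon
  -- all vectors of `W` are isotropic for the polar form
  have hall : ∀ w ∈ LinearMap.ker φ, pol (⇑Q) w w = 0 := by
    intro w hw
    exact hcon w ((hmemW w).mp hw).1 ((hmemW w).mp hw).2
  have h2 : ∀ w ∈ LinearMap.ker φ, ∀ w' ∈ LinearMap.ker φ, pol (⇑Q) w w' = 0 := by
    intro w hw w' hw'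
    have h3 := hall (w + w') (Submodule.add_mem _ hw hw')
    rw [QuadraticMap.polar_add_left, QuadraticMap.polar_add_right, QuadraticMap.polar_add_right,
      hall w hw, hall w' hw', QuadraticMap.polar_comm (⇑Q) w' w] at h3
    have h4 : (2 : F) * pol (⇑Q) w w' = 0 := by linear_combination h3
    rcases mul_eq_zero.mp h4 with h | h
    · exact absurd h h20
    · exact h
  apply hw1
  apply Subtype.ext
  have hw1W := (hmemW (w1 : V)).mp w1.2
  have hrad : ∀ z : V, pol (⇑Q) (w1 : V) z = 0 := by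
    intro z
    set w : V := z - pol (⇑Q) p' z • p - pol (⇑Q) p z • p' with hw
    have hwW : w ∈ LinearMap.ker φ := by
      rw [hmemW]
      constructor
      · rw [hw, QuadraticMap.polar_sub_right, QuadraticMap.polar_sub_right,
          QuadraticMap.polar_smul_right, QuadraticMap.polar_smul_right, hppz, hpp']
        simp
      · rw [hw, QuadraticMap.polar_sub_right, QuadraticMap.polar_sub_right,
          QuadraticMap.polar_smul_right, QuadraticMap.polar_smul_right, hp'p, hp'p'z]
        simp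
    have hz : z = w + pol (⇑Q) p' z • p + pol (⇑Q) p z • p' := by rw [hw]; abel
    rw [hz, QuadraticMap.polar_add_right, QuadraticMap.polar_add_right,
      QuadraticMap.polar_smul_right, QuadraticMap.polar_smul_right, h2 _ w1.2 _ hwW,
      QuadraticMap.polar_comm (⇑Q) (w1 : V) p, QuadraticMap.polar_comm (⇑Q) (w1 : V) p',
      hw1W.1, hw1W.2]
    simp
  have := hQ.1 (w1 : V) (fun z => hrad z)
  exact this

end Cfsg.Agent.Lib.Helper44.LB
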