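import Mathlib
import Cfsg.Agent.Lib.Helper44.LBOrth
import Cfsg.Agent.Lib.Helper44.LBMat
import Cfsg.Agent.Lib.Helper13.SpinorIndex
import Cfsg.Agent.Lib.Helper36.POmegaAut

set_option autoImplicit false
set_option linter.unusedSimpArgs false
set_option linter.unusedVariables false
set_option linter.unusedSectionVars false

/-!
# Eichler transformations lie in `Ω(Q)` (odd characteristic, any dimension ≥ 2), matrix form
-/

namespace Cfsg.Agent.Lib.Helper44.LB

open Cfsg.Agent.Lib.Helper13 hiding isoGroup mem_isoGroup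
open Cfsg.Agent.Lib.Helper36 Cfsg.Agent.Lib.Helper44 Module Matrix

section abs
variable {F V : Type*} [Field F] [AddCommGroup V] [Module F V]

local notation "pol" => QuadraticMap.polar

theorem mul_self_eq_one_target (x : Multiplicative (ZMod 2) × ℤˣ) : x * x = 1 := by
  apply Prod.ext
  · have h : ∀ a : Multiplicative (ZMod 2), a * a = 1 := by decide
    exact h x.1
  · show x.2 * x.2 = 1
    exact Int.units_mul_self _

/-- squares of isometries lie in the commutator subgroup (odd characteristic) -/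
theorem sq_mem_commutator [Fintype F] [DecidableEq F] [FiniteDimensional F V] (Q : QuadraticForm F V)
    (hQ : (QuadraticMap.polarBilin Q).Nondegenerate) (h2 : (2 : F) ≠ 0)
    (hdim : 2 ≤ finrank F V) (g : ↥(Cfsg.Agent.Lib.Helper13.isoGroup Q)) :
    g * g ∈ commutator ↥(Cfsg.Agent.Lib.Helper13.isoGroup Q) := by
  have hF : (∀ a b : F, ∃ x : F, x ≠ a ∧ x ≠ b) ∨ Module.finrank F V ≠ 4 :=
    Or.inl (exists_ne_ne_of_two_ne_zero h2)
  have h := (commutator_isoGroup_eq_ker Q hQ h2 hdim hF).2.1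
  rw [h, MonoidHom.mem_ker, map_mul]
  exact mul_self_eq_one_target _

/-- Eichler transformations lie in the commutator subgroup of the isometry group -/
theorem eichG_mem_commutator [Fintype F] [DecidableEq F] [FiniteDimensional F V] (Q : QuadraticForm F V)
    (hQ : (QuadraticMap.polarBilin Q).Nondegenerate) (h2 : (2 : F) ≠ 0)
    (hdim : 2 ≤ finrank F V) (p w : V) (hp : Q p = 0) (hpw : pol (⇑Q) p w = 0) :
    eichG Q p w hp hpw ∈ commutator ↥(isoGroup Q) := by
  have hw : pol (⇑Q) p ((2 : F)⁻¹ • w) = 0 := by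
    rw [QuadraticMap.polar_smul_right, hpw, smul_zero]
  have h1 := eichG_add Q p ((2 : F)⁻¹ • w) ((2 : F)⁻¹ • w) hp hw hw
  have h3 : (2 : F)⁻¹ • w + (2 : F)⁻¹ • w = w := by
    rw [← add_smul, ← two_mul, mul_inv_cancel₀ h2, one_smul]
  have h4 : eichG Q p w hp hpw = eichG Q p ((2 : F)⁻¹ • w) hp hw * eichG Q p ((2 : F)⁻¹ • w) hp hw := by
    rw [← h1]
    apply isoGroup_ext
    intro z
    rw [eichG_apply, eichG_apply, h3]
  rw [h4]
  exact sq_mem_commutator Q hQ h2 hdim _

theorem eichG_pow (Q : QuadraticForm F V) (p w : V) (hp : Q p = 0) (hpw : pol (⇑Q) p w = 0)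
    (m : ℕ) : ∀ z, ((eichG Q p w hp hpw ^ m : ↥(isoGroup Q)) : V ≃ₗ[F] V) z =
      siegelLin Q p ((m : F) • w) z := by
  induction m with
  | zero =>
    intro z
    rw [pow_zero, Nat.cast_zero, zero_smul, siegelLin_zero Q p z hp]
    rfl
  | succ m ih =>
    intro z
    have hmw : pol (⇑Q) p ((m : F) • w) = 0 := by
      rw [QuadraticMap.polar_smul_right, hpw, smul_zero]
    rw [pow_succ, isoG_mul_apply, ih, eichG_apply, Nat.cast_succ, add_smul, one_smul,
      siegel_add Q p _ _ hp hmw hpw]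

end abs

section mat
variable {ι : Type} [Fintype ι] [DecidableEq ι] {F : Type*} [Field F]

local notation "pol" => QuadraticMap.polar

/-- the Eichler transformation as an element of `GL` -/
noncomputable def eichGL (Q : QuadraticForm F (ι → F)) (p w : ι → F) (hp : Q p = 0)
    (hpw : pol (⇑Q) p w = 0) : GL ι F :=
  (((isometryGroupEquiv Q).symm (eichG Q p w hp hpw) : ↥(Cfsg.isometryGroup F (⇑Q))) : GL ι F)

theorem eichGL_mulVec (Q : QuadraticForm F (ι → F)) (p w : ι → F) (hp : Q p = 0)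
    (hpw : pol (⇑Q) p w = 0) (z : ι → F) :
    (eichGL Q p w hp hpw : Matrix ι ι F) *ᵥ z = siegelLin Q p w z := by
  unfold eichGL
  rw [← isometryGroupEquiv_apply, MulEquiv.apply_symm_apply, eichG_apply]

theorem eichGL_coe (Q : QuadraticForm F (ι → F)) (p w : ι → F) (hp : Q p = 0)
    (hpw : pol (⇑Q) p w = 0) :
    (eichGL Q p w hp hpw : Matrix ι ι F) = LinearMap.toMatrix' (siegelLin Q p w) := by
  apply Matrix.toLin'.injective
  apply LinearMap.ext
  intro z
  rw [Matrix.toLin'_apply, eichGL_mulVec, Matrix.toLin'_toMatrix']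

theorem eichGL_mem_OmegaGL [Fintype F] [DecidableEq F] (Q : QuadraticForm F (ι → F))
    (hQ : (QuadraticMap.polarBilin Q).Nondegenerate) (h2 : (2 : F) ≠ 0)
    (hdim : 2 ≤ Fintype.card ι) (p w : ι → F) (hp : Q p = 0) (hpw : pol (⇑Q) p w = 0) :
    eichGL Q p w hp hpw ∈ OmegaGL (⇑Q) := by
  have hdim' : 2 ≤ finrank F (ι → F) := by
    rw [Module.finrank_fintype_fun_eq_card]; exact hdim
  refine ⟨(isometryGroupEquiv Q).symm (eichG Q p w hp hpw), ?_, rfl⟩
  show (isometryGroupEquiv Q).symm (eichG Q p w hp hpw) ∈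
    commutator ↥(Cfsg.isometryGroup F (⇑Q))
  rw [mem_commutator_iff_equiv (isometryGroupEquiv Q), MulEquiv.apply_symm_apply]
  exact eichG_mem_commutator Q hQ h2 hdim' p w hp hpw

/-- the family `t ↦ E(p, t w)` in matrix form -/
theorem eichGL_smul_coe (Q : QuadraticForm F (ι → F)) (p w : ι → F) (hp : Q p = 0)
    (hpw : pol (⇑Q) p w = 0) (t : F) (hpw' : pol (⇑Q) p (t • w) = 0) :
    (eichGL Q p (t • w) hp hpw' : Matrix ι ι F) =
      1 + t • LinearMap.toMatrix' (n1 Q p w) + t ^ 2 • LinearMap.toMatrix' (n2 Q p w) := by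
  rw [eichGL_coe, siegelLin_smul_eq, map_add, map_add, map_smul, map_smul, LinearMap.toMatrix'_id]

/-- Eichler matrices are unipotent of exponent the characteristic -/
theorem eichGL_pow_char (r : ℕ) [CharP F r] (Q : QuadraticForm F (ι → F)) (p w : ι → F)
    (hp : Q p = 0) (hpw : pol (⇑Q) p w = 0) :
    (eichGL Q p w hp hpw : Matrix ι ι F) ^ r = 1 := by
  have h1 : eichG Q p w hp hpw ^ r = 1 := by
    apply isoGroup_ext
    intro z
    rw [eichG_pow, CharP.cast_eq_zero, zero_smul, siegelLin_zero Q p z hp]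
    rfl
  have h2 : (eichGL Q p w hp hpw) ^ r = 1 := by
    unfold eichGL
    rw [← Subgroup.coe_pow, ← map_pow, h1, map_one]
    rfl
  have := congrArg (fun g : GL ι F => (g : Matrix ι ι F)) h2
  simpa using this

end mat

end Cfsg.Agent.Lib.Helper44.LB
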