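import Mathlib
import Cfsg.Agent.Lib.Helper44.LBOrth2

set_option autoImplicit false
set_option linter.unusedSimpArgs false
set_option linter.unusedVariables false
set_option linter.unusedSectionVars false

/-!
# The centraliser computation for `Ω(Q₀)` inside `GL_n` over an extension field

If `(h, τ)` (`h ∈ GL_n(F)`, `τ ∈ Aut F`) satisfies `h τ(A) h⁻¹ ∈ Fˣ A` for every `A ∈ Ω(Q₀)`
(`Q₀` a non-degenerate quadratic form over the finite subfield `F₀` of odd characteristic, in
dimension at least three), then `τ` fixes `F₀` and `h` is a scalar.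
-/

namespace Cfsg.Agent.Lib.Helper44.LB

open Cfsg.Agent.Lib.Helper13 hiding isoGroup mem_isoGroup
open Cfsg.Agent.Lib.Helper36 Cfsg.Agent.Lib.Helper36.LocalBalance Cfsg.Agent.Lib.Helper44 Module Matrix

variable {ι : Type} [Fintype ι] [DecidableEq ι] {F₀ F : Type*} [Field F₀] [Field F]

local notation "pol" => QuadraticMap.polar

theorem map_map_eq_of_fix (j : F₀ →+* F) (τ : F ≃+* F) (hτ : ∀ t : F₀, τ (j t) = j t)
    (X : Matrix ι ι F₀) : (X.map j).map τ = X.map j := by
  ext a b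
  rw [Matrix.map_apply, Matrix.map_apply]
  exact hτ _

theorem comm_of_comm_pm (h N₁ N₂ : Matrix ι ι F) (h2 : (2 : F) ≠ 0)
    (hp : h * (1 + N₁ + N₂) = (1 + N₁ + N₂) * h) (hm : h * (1 - N₁ + N₂) = (1 - N₁ + N₂) * h) :
    h * N₁ = N₁ * h := by
  have h3 : (2 : F) • (h * N₁) = (2 : F) • (N₁ * h) := by
    have e1 : h * (1 + N₁ + N₂) - h * (1 - N₁ + N₂) = (2 : F) • (h * N₁) := by
      rw [← Matrix.mul_sub, two_smul, ← Matrix.mul_add]
      congr 1
      abel
    have e2 : (1 + N₁ + N₂) * h - (1 - N₁ + N₂) * h = (2 : F) • (N₁ * h) := by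
      rw [← Matrix.sub_mul, two_smul, ← Matrix.add_mul]
      congr 1
      abel
    rw [← e1, ← e2, hp, hm]
  have := congrArg (fun M : Matrix ι ι F => (2 : F)⁻¹ • M) h3
  beta_reduce at this
  rwa [smul_smul, smul_smul, inv_mul_cancel₀ h2, one_smul, one_smul] at this

/-- **the centraliser computation for `Ω(Q₀)`** -/
theorem cent_orth [Fintype F₀] [DecidableEq F₀] (Q₀ : QuadraticForm F₀ (ι → F₀))
    (hQ₀ : (QuadraticMap.polarBilin Q₀).Nondegenerate) (h2₀ : (2 : F₀) ≠ 0)
    (hdim : 3 ≤ Fintype.card ι) (j : F₀ →+* F) (τ : F ≃+* F) (h : GL ι F)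
    (H : ∀ A : GL ι F₀, A ∈ OmegaGL (⇑Q₀) → ∃ c : F,
      (h : Matrix ι ι F) * ((A : Matrix ι ι F₀).map j).map τ =
        c • ((A : Matrix ι ι F₀).map j * (h : Matrix ι ι F))) :
    (∀ t : F₀, τ (j t) = j t) ∧ ∃ c : F, (h : Matrix ι ι F) = c • (1 : Matrix ι ι F) := by
  have hne : Nonempty ι := by
    rw [← Fintype.card_pos_iff]; omega
  obtain ⟨r, hr⟩ := CharP.exists F₀
  have hrp : r.Prime := CharP.char_is_prime F₀ r
  have : Fact r.Prime := ⟨hrp⟩
  have hrF : CharP F r := (RingHom.charP_iff j j.injective r).mp hr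
  have h2 : (2 : F) ≠ 0 := by
    intro h0
    apply h2₀
    apply j.injective
    rw [map_ofNat, h0, map_zero]
  have hdim' : 3 ≤ finrank F₀ (ι → F₀) := by
    rw [Module.finrank_fintype_fun_eq_card]; exact hdim
  -- exact commutation with Eichler matrices
  have H' : ∀ (p w : ι → F₀) (hp : Q₀ p = 0) (hpw : pol (⇑Q₀) p w = 0),
      (h : Matrix ι ι F) * ((eichGL Q₀ p w hp hpw : Matrix ι ι F₀).map j).map τ =
        (eichGL Q₀ p w hp hpw : Matrix ι ι F₀).map j * (h : Matrix ι ι F) := by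
    intro p w hp hpw
    obtain ⟨c, hc⟩ := H _ (eichGL_mem_OmegaGL Q₀ hQ₀ h2₀ (by omega) p w hp hpw)
    have hpow := eichGL_pow_char r Q₀ p w hp hpw
    have hY : ((eichGL Q₀ p w hp hpw : Matrix ι ι F₀).map j) ^ (r ^ 1) = 1 := by
      rw [pow_one]
      exact map_pow_eq_one j _ r hpow
    have hX : (((eichGL Q₀ p w hp hpw : Matrix ι ι F₀).map j).map τ) ^ (r ^ 1) = 1 := by
      rw [pow_one]
      rw [pow_one] at hY
      exact map_pow_eq_one (τ : F →+* F) _ r hY
    have hc1 := scalar_eq_one_of_unipotent r h _ _ c hc 1 hX hY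
    rw [hc, hc1, one_smul]
  -- a hyperbolic pair and a non-singular vector in its orthogonal
  obtain ⟨p, hp0, hp⟩ := exists_isotropic Q₀ hdim'
  obtain ⟨p', hp', hpp'⟩ := exists_hyp_partner Q₀ hQ₀ p hp0 hp
  obtain ⟨w₀, hw₀, hw₀', hw₀Q⟩ := exists_nonsing_perp Q₀ hQ₀ h2₀ hdim' p p' hp hp' hpp'
  -- `τ` fixes `F₀`
  have hτ : ∀ t : F₀, τ (j t) = j t := by
    refine (cent_matrix_quad j τ h h2 (LinearMap.toMatrix' (n1 Q₀ p w₀))
      (LinearMap.toMatrix' (n2 Q₀ p w₀)) ?_ ?_).1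
    · intro t
      have hpw' : pol (⇑Q₀) p (t • w₀) = 0 := by
        rw [QuadraticMap.polar_smul_right, hw₀, smul_zero]
      have := H' p (t • w₀) hp hpw'
      rw [eichGL_smul_coe Q₀ p w₀ hp hw₀ t hpw'] at this
      exact this
    · intro c hc
      have h3 := congrArg (fun M : Matrix ι ι F => M *ᵥ ((j : F₀ → F) ∘ w₀)) hc
      beta_reduce at h3
      have e1 : ((LinearMap.toMatrix' (n1 Q₀ p w₀)).map j) *ᵥ ((j : F₀ → F) ∘ w₀) =
          (j : F₀ → F) ∘ (pol (⇑Q₀) w₀ w₀ • p) := by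
        ext a
        rw [← RingHom.map_mulVec, ← Matrix.toLin'_apply, Matrix.toLin'_toMatrix', n1_apply, hw₀,
          zero_smul, sub_zero]
        rfl
      have e2 : ((LinearMap.toMatrix' (n2 Q₀ p w₀)).map j) *ᵥ ((j : F₀ → F) ∘ w₀) = 0 := by
        ext a
        rw [← RingHom.map_mulVec, ← Matrix.toLin'_apply, Matrix.toLin'_toMatrix', n2_apply, hw₀,
          mul_zero, zero_smul]
        simp
      rw [Matrix.smul_mulVec, e1, e2, smul_zero] at h3
      apply hp0
      ext a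
      have h4 := congrFun h3 a
      simp only [Function.comp_apply, Pi.smul_apply, smul_eq_mul, Pi.zero_apply, map_mul] at h4
      have h5 : j (p a) = 0 := by
        rcases mul_eq_zero.mp h4 with h6 | h6
        · exact absurd ((map_eq_zero j).mp h6) hw₀Q
        · exact h6
      exact (map_eq_zero j).mp h5
  refine ⟨hτ, ?_⟩
  -- `h` commutes with the linear parts
  have hN : ∀ (q w : ι → F₀) (hq : Q₀ q = 0) (hqw : pol (⇑Q₀) q w = 0),
      (h : Matrix ι ι F) * (LinearMap.toMatrix' (n1 Q₀ q w)).map j =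
        (LinearMap.toMatrix' (n1 Q₀ q w)).map j * (h : Matrix ι ι F) := by
    intro q w hq hqw
    have hq1 : pol (⇑Q₀) q ((1 : F₀) • w) = 0 := by rw [one_smul]; exact hqw
    have hqm : pol (⇑Q₀) q ((-1 : F₀) • w) = 0 := by
      rw [QuadraticMap.polar_smul_right, hqw, smul_zero]
    have e1 := H' q ((1 : F₀) • w) hq hq1
    have e2 := H' q ((-1 : F₀) • w) hq hqm
    rw [map_map_eq_of_fix j τ hτ, eichGL_smul_coe Q₀ q w hq hqw, map_add_smul_sq] at e1 e2
    simp only [map_one, map_neg, one_smul, one_pow, neg_smul, even_two, Even.neg_pow] at e1 e2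
    rw [← sub_eq_add_neg] at e2
    exact comm_of_comm_pm _ _ _ h2 e1 e2
  apply scalar_of_commutes_subfield j
    {N | ∃ w : ι → F₀, pol (⇑Q₀) p w = 0 ∧ pol (⇑Q₀) p' w = 0 ∧
      (N = LinearMap.toMatrix' (n1 Q₀ p w) ∨ N = LinearMap.toMatrix' (n1 Q₀ p' w))}
  · intro M hM
    obtain ⟨c, hc⟩ := scalar_of_commute_n1 Q₀ p p' w₀ hp hp' hpp' hw₀ hw₀' hw₀Q (Matrix.toLin' M)
      (by
        intro w hw hw'
        constructor
        · intro z
          have h1 := hM _ ⟨w, hw, hw', Or.inl rfl⟩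
          have h3 := congrArg (fun X : Matrix ι ι F₀ => X *ᵥ z) h1
          beta_reduce at h3
          rw [← Matrix.mulVec_mulVec, ← Matrix.mulVec_mulVec, ← Matrix.toLin'_apply
            (LinearMap.toMatrix' (n1 Q₀ p w)), Matrix.toLin'_toMatrix', ← Matrix.toLin'_apply
            (LinearMap.toMatrix' (n1 Q₀ p w)), Matrix.toLin'_toMatrix'] at h3
          rw [Matrix.toLin'_apply, Matrix.toLin'_apply]
          exact h3
        · intro z
          have h1 := hM _ ⟨w, hw, hw', Or.inr rfl⟩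
          have h3 := congrArg (fun X : Matrix ι ι F₀ => X *ᵥ z) h1
          beta_reduce at h3
          rw [← Matrix.mulVec_mulVec, ← Matrix.mulVec_mulVec, ← Matrix.toLin'_apply
            (LinearMap.toMatrix' (n1 Q₀ p' w)), Matrix.toLin'_toMatrix', ← Matrix.toLin'_apply
            (LinearMap.toMatrix' (n1 Q₀ p' w)), Matrix.toLin'_toMatrix'] at h3
          rw [Matrix.toLin'_apply, Matrix.toLin'_apply]
          exact h3)
    refine ⟨c, ?_⟩
    apply Matrix.toLin'.injective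
    apply LinearMap.ext
    intro z
    rw [hc z, Matrix.toLin'_apply, Matrix.smul_mulVec, Matrix.one_mulVec]
  · rintro R ⟨w, hw, hw', hR | hR⟩
    · rw [hR]
      exact hN p w hp hw
    · rw [hR]
      exact hN p' w hp' hw'

end Cfsg.Agent.Lib.Helper44.LB
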