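/-
helper44: TRI8 module [EPS] (helper36's triality project, board #4461):
conjugation by octonion conjugation is an element of `PGO⁺₈` inverting every triality automorphism.
-/
import Mathlib
import Cfsg.Agent.Lib.Helper36.Tri.TauOut
import Cfsg.Agent.Lib.Helper36.Tri.OutPlusTwo

set_option autoImplicit false
set_option linter.unusedSectionVars false

namespace Cfsg.Agent.Lib.Helper44.TriEps

open Cfsg.Agent.Lib.Helper13 hiding isoGroup mem_isoGroup
open Cfsg.Agent.Lib.Helper36 Cfsg.Agent.Lib.Helper44 Cfsg.Agent.Lib.Helper36.AutO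
  Cfsg.Agent.Lib.Helper36.Tri Module

variable {F : Type*} [Field F]

/-- `ε (A, B, C) = (Â, Ĉ, B̂)` on triples -/
def epsM : (GLO F × GLO F × GLO F) ≃* (GLO F × GLO F × GLO F) where
  toFun t := (hatM t.1, hatM t.2.2, hatM t.2.1)
  invFun t := (hatM t.1, hatM t.2.2, hatM t.2.1)
  left_inv t := by
    simp only [hatM_hatM]
  right_inv t := by
    simp only [hatM_hatM]
  map_mul' t t' := by
    simp only [Prod.fst_mul, Prod.snd_mul, map_mul, Prod.mk_mul_mk]

theorem epsM_apply (t : GLO F × GLO F × GLO F) :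
    epsM t = (hatM t.1, hatM t.2.2, hatM t.2.1) := rfl

theorem epsM_mem {t : GLO F × GLO F × GLO F} (ht : t ∈ RT F) : epsM t ∈ RT F := by
  obtain ⟨h1, h2, h3, h4⟩ := ht
  rw [epsM_apply, mem_RT]
  simp only [hatM_eq_hatE]
  exact ⟨isIso_hatE h1, isIso_hatE h3, isIso_hatE h2, isRel_hat h4⟩

theorem epsM_epsM (t : GLO F × GLO F × GLO F) : epsM (epsM t) = t := by
  simp only [epsM_apply, hatM_hatM]

theorem map_epsM_RT : (RT F).map (epsM : _ ≃* _).toMonoidHom = RT F := by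
  apply le_antisymm
  · rintro _ ⟨t, ht, rfl⟩
    exact epsM_mem ht
  · intro t ht
    exact ⟨epsM t, epsM_mem ht, epsM_epsM t⟩

theorem epsM_mem' {t : GLO F × GLO F × GLO F} (ht : t ∈ RT' F) : epsM t ∈ RT' F := by
  have h : (RT' F).map (epsM : _ ≃* _).toMonoidHom = RT' F := by
    unfold RT'
    rw [Subgroup.map_commutator, map_epsM_RT]
  rw [← h]
  exact ⟨t, ht, rfl⟩

theorem theta_eps_theta (t : GLO F × GLO F × GLO F) : thetaM (epsM (thetaM t)) = epsM t := by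
  simp only [thetaM_apply, epsM_apply, hatM_hatM]

/-- the restriction of `ε` to `RT'` -/
def epsR (t : ↥(RT' F)) : ↥(RT' F) := ⟨epsM t.1, epsM_mem' t.2⟩

theorem epsR_coe (t : ↥(RT' F)) :
    ((epsR t : ↥(RT' F)) : GLO F × GLO F × GLO F) = epsM (t : GLO F × GLO F × GLO F) := rfl

section fin
variable [Fintype F]

theorem thetaR_epsR_thetaR (t : ↥(RT' F)) : thetaR (epsR (thetaR t)) = epsR t :=
  Subtype.ext (theta_eps_theta t.1)

/-- octonion conjugation as an invertible matrix -/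
noncomputable def gK (F : Type*) [Field F] : GL (Fin 4 ⊕ Fin 4) F :=
  (glLinEquiv (Fin 4 ⊕ Fin 4) F).symm (conjE : GLO F)

theorem glLinEquiv_gK : glLinEquiv (Fin 4 ⊕ Fin 4) F (gK F) = (conjE : GLO F) := by
  unfold gK
  rw [MulEquiv.apply_symm_apply]

theorem gK_mulVec (v : OV F) :
    ((gK F : GL (Fin 4 ⊕ Fin 4) F) : Matrix (Fin 4 ⊕ Fin 4) (Fin 4 ⊕ Fin 4) F).mulVec v =
      oconj v := by
  rw [← glLinEquiv_apply, glLinEquiv_gK]
  rfl

theorem gK_mem : gK F ∈ Cfsg.Geo.quadSimilarityGroup (⇑(QO F)) := by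
  refine ⟨1, fun v => ?_⟩
  rw [gK_mulVec, Units.val_one, one_mul]
  exact onorm_oconj v

/-- the automorphism of `PΩ⁺₈(F)` induced by octonion conjugation -/
noncomputable def gammaK (F : Type*) [Field F] [Fintype F] :
    MulAut (Cfsg.POmega F (⇑(QO F))) :=
  simAut (⇑(QO F)) ⟨gK F, gK_mem⟩

theorem gammaK_mem : gammaK F ∈ Cfsg.pgoAut F (⇑(QO F)) := by
  rw [pgoAut_eq]
  exact ⟨_, rfl⟩

/-- the matrix of an element of the model is its image under `ρ` -/
theorem glLinEquiv_coe_eq_rho (s : ↥(Cfsg.Omega F (⇑(QO F)))) :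
    glLinEquiv (Fin 4 ⊕ Fin 4) F ((s : ↥(Cfsg.isometryGroup F (⇑(QO F)))) : GL (Fin 4 ⊕ Fin 4) F) =
      (MO F).ρ s := by
  apply LinearEquiv.ext
  intro v
  rw [omegaModel_apply, glLinEquiv_apply]

theorem gammaK_psi (t : ↥(RT' F)) : gammaK F (psi (MO F) t) = psi (MO F) (epsR t) := by
  unfold gammaK
  apply simAut_mk (⇑(QO F)) ⟨gK F, gK_mem⟩ (lift1 (MO F) t) (lift1 (MO F) (epsR t))
  apply (glLinEquiv (Fin 4 ⊕ Fin 4) F).injective
  rw [map_mul, map_mul, map_inv, glLinEquiv_coe_eq_rho, glLinEquiv_coe_eq_rho, rho_lift1,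
    rho_lift1, epsR_coe, epsM_apply, glLinEquiv_gK]
  rfl

/-- MODULE [EPS] -/
theorem exists_gamma_mat :
    ∃ γ : MulAut (Cfsg.POmega F (⇑(QO F))), γ ∈ Cfsg.pgoAut F (⇑(QO F)) ∧
    ∀ τ : MulAut (Cfsg.POmega F (⇑(QO F))),
      (∀ t : ↥(RT' F), τ (psi (MO F) t) = psi (MO F) (thetaR t)) → γ * τ * γ⁻¹ = τ⁻¹ := by
  refine ⟨gammaK F, gammaK_mem, fun τ hτ => ?_⟩
  have key : τ * gammaK F * τ = gammaK F := by
    apply MulEquiv.ext
    intro y
    obtain ⟨t, rfl⟩ := psi_surjective (MO F) y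
    rw [MulAut.mul_apply, MulAut.mul_apply, hτ, gammaK_psi, hτ, thetaR_epsR_thetaR, gammaK_psi]
  calc gammaK F * τ * (gammaK F)⁻¹ = τ⁻¹ * (τ * gammaK F * τ) * (gammaK F)⁻¹ := by group
    _ = τ⁻¹ := by rw [key]; group

end fin

end Cfsg.Agent.Lib.Helper44.TriEps
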