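import Mathlib
import Cfsg.Agent.Lib.Helper36.LocalBalance.Abs2
import Cfsg.Agent.Lib.Helper43.PSLnGraphField

set_option autoImplicit false
set_option linter.unusedSimpArgs false
set_option linter.unusedVariables false
set_option linter.unusedSectionVars false

/-!
# A generic local-balance theorem for involutory graph-type automorphisms of `PSL_n(F)`

Data: a group `G₀` with an injective homomorphism `φ : G₀ → GL_n(F)` into matrices of determinant
one whose classes are fixed by `x`, normalised by the fixed points of `x`, with `G₀ / Z(G₀)`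
without non-trivial normal subgroups of odd order, and with trivial "semilinear centraliser".
Conclusion: `O_{2'}(C_A(x)) = 1`.
-/

namespace Cfsg.Agent.Lib.Helper44.LB

open scoped MatrixGroups Matrix
open Matrix Cfsg.Agent.Lib.Helper43 Cfsg.Agent.Lib.Helper36.LocalBalance

variable {n : ℕ} {F : Type*} [Field F]

/-- the first isomorphism theorem for the `no normal p'-subgroup` property -/
theorem noNormal_range {G₀ K' : Type*} [Group G₀] [Group K'] (ψ : G₀ →* K')
    (hker : ψ.ker = Subgroup.center G₀) (p : ℕ)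
    (hP : ∀ M : Subgroup (G₀ ⧸ Subgroup.center G₀), M.Normal → (Nat.card ↥M).Coprime p → M = ⊥) :
    ∀ M : Subgroup ↥ψ.range, M.Normal → (Nat.card ↥M).Coprime p → M = ⊥ := by
  have e : ↥ψ.range ≃* G₀ ⧸ Subgroup.center G₀ :=
    (QuotientGroup.quotientKerEquivRange ψ).symm.trans (QuotientGroup.quotientMulEquivOfEq hker)
  exact noNormal_of_equiv e p hP

/-- commuting with an inner-diagonal automorphism, for `pslDiag h * pslField τ` -/
theorem comm_pslDiag_iff (hn : 2 ≤ n) (h s : GL (Fin n) F) (τ : RingAut F) :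
    ((pslDiag h : MulAut (Matrix.ProjectiveSpecialLinearGroup (Fin n) F)) * pslField τ) *
        pslDiag s = pslDiag s * (pslDiag h * pslField τ) ↔
      ∃ c : Fˣ, h * Matrix.GeneralLinearGroup.map (τ : F →+* F) s =
        Matrix.GeneralLinearGroup.scalar (Fin n) c * (s * h) := by
  have e1 : ((pslDiag h : MulAut (Matrix.ProjectiveSpecialLinearGroup (Fin n) F)) * pslField τ) *
      pslDiag s = pslDiag (h * Matrix.GeneralLinearGroup.map (τ : F →+* F) s) * pslField τ := by
    rw [mul_assoc, pslField_mul_pslDiag, ← mul_assoc, ← map_mul]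
  have e2 : (pslDiag s : MulAut (Matrix.ProjectiveSpecialLinearGroup (Fin n) F)) *
      (pslDiag h * pslField τ) = pslDiag (s * h) * pslField τ := by
    rw [← mul_assoc, ← map_mul]
  rw [e1, e2, mul_left_inj]
  exact pslDiag_eq_iff hn _ _

/-- every automorphism is `pslDiag h * pslField τ * x ^ k` (`k ≤ 1`) when `x` has a non-trivial
graph part -/
theorem exists_field_form (hn : 3 ≤ n) (hstd : AllStdAut n F)
    (x a : MulAut (Matrix.ProjectiveSpecialLinearGroup (Fin n) F))
    (hx : (stdPart hn hstd x).2 = Multiplicative.ofAdd (1 : ZMod 2)) :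
    ∃ (k : ℕ) (h : GL (Fin n) F) (τ : RingAut F),
      a = pslDiag h * pslField τ * x ^ k := by
  rcases zmod2_mul_cases (stdPart hn hstd a).2 with h1 | h1
  · obtain ⟨h, hh⟩ := isStdAut_stdPart hn hstd a
    refine ⟨0, h, (stdPart hn hstd a).1, ?_⟩
    rw [h1, map_one, mul_one] at hh
    rw [pow_zero, mul_one]
    exact hh
  · have h2 : (stdPart hn hstd (a * x⁻¹)).2 = 1 := by
      rw [map_mul, map_inv, Prod.snd_mul, Prod.snd_inv, h1, hx, mul_inv_cancel]
    obtain ⟨h, hh⟩ := isStdAut_stdPart hn hstd (a * x⁻¹)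
    refine ⟨1, h, (stdPart hn hstd (a * x⁻¹)).1, ?_⟩
    rw [h2, map_one, mul_one] at hh
    rw [pow_one, ← hh, inv_mul_cancel_right]

/-- **generic theorem** -/
theorem lb_graph_generic [Finite F] (hn : 3 ≤ n) (hstd : AllStdAut n F)
    (hZ : Subgroup.center (Matrix.ProjectiveSpecialLinearGroup (Fin n) F) = ⊥)
    (x : MulAut (Matrix.ProjectiveSpecialLinearGroup (Fin n) F)) (hxx : x ^ 2 = 1)
    (hx : (stdPart hn hstd x).2 = Multiplicative.ofAdd (1 : ZMod 2))
    {G₀ : Type*} [Group G₀] (φ : G₀ →* GL (Fin n) F) (hφ : Function.Injective φ)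
    (d1 : ∀ g, Matrix.GeneralLinearGroup.det (φ g) = 1)
    (d2 : ∀ g, (pslDiag (φ g) : MulAut (Matrix.ProjectiveSpecialLinearGroup (Fin n) F)) ∈
      Subgroup.centralizer {x})
    (d3 : ∀ k : GL (Fin n) F,
      (pslDiag k : MulAut (Matrix.ProjectiveSpecialLinearGroup (Fin n) F)) ∈
        Subgroup.centralizer {x} →
      ∀ g, ∃ (g' : G₀) (c : Fˣ), k * φ g * k⁻¹ = Matrix.GeneralLinearGroup.scalar (Fin n) c * φ g')
    (d4 : ∀ M : Subgroup (G₀ ⧸ Subgroup.center G₀), M.Normal → (Nat.card ↥M).Coprime 2 → M = ⊥)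
    (d5 : ∀ (h : GL (Fin n) F) (τ : RingAut F),
      (∀ g, ∃ c : Fˣ, h * Matrix.GeneralLinearGroup.map (τ : F →+* F) (φ g) =
        Matrix.GeneralLinearGroup.scalar (Fin n) c * (φ g * h)) →
      τ = 1 ∧ ∃ c : Fˣ, h = Matrix.GeneralLinearGroup.scalar (Fin n) c)
    (A : Subgroup (MulAut (Matrix.ProjectiveSpecialLinearGroup (Fin n) F)))
    (hinn : Cfsg.Inn (Matrix.ProjectiveSpecialLinearGroup (Fin n) F) ≤ A) :
    Cfsg.pPrimeCore 2 ↥(A ⊓ Subgroup.centralizer {x}) = ⊥ := by
  have : Fact (Nat.Prime 2) := ⟨Nat.prime_two⟩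
  have hfinK : Finite (Matrix.ProjectiveSpecialLinearGroup (Fin n) F) := by
    have : Finite (Matrix.SpecialLinearGroup (Fin n) F) :=
      Finite.of_injective (fun s : Matrix.SpecialLinearGroup (Fin n) F =>
        (s : Matrix (Fin n) (Fin n) F)) Subtype.val_injective
    exact inferInstance
  set ψ : G₀ →* MulAut (Matrix.ProjectiveSpecialLinearGroup (Fin n) F) := pslDiag.comp φ with hψ
  -- the kernel of `ψ`
  have hker : ψ.ker = Subgroup.center G₀ := by
    ext g
    rw [MonoidHom.mem_ker, hψ, MonoidHom.comp_apply, ← MonoidHom.mem_ker, ker_pslDiag (by omega),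
      Matrix.GeneralLinearGroup.center_eq_range_scalar, Subgroup.mem_center_iff]
    constructor
    · rintro ⟨c, hc⟩ g'
      apply hφ
      rw [map_mul, map_mul, ← hc]
      have hcen : Matrix.GeneralLinearGroup.scalar (Fin n) c ∈ Subgroup.center (GL (Fin n) F) := by
        rw [Matrix.GeneralLinearGroup.center_eq_range_scalar]
        exact ⟨c, rfl⟩
      exact Subgroup.mem_center_iff.mp hcen (φ g')
    · intro hg
      obtain ⟨-, c, hc⟩ := d5 (φ g) 1 (by
        intro g'
        refine ⟨1, ?_⟩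
        rw [map_one, one_mul]
        have h1 : Matrix.GeneralLinearGroup.map ((1 : RingAut F) : F →+* F) (φ g') = φ g' := by
          apply Units.ext
          ext a b
          rfl
        rw [h1, ← map_mul, ← map_mul, hg g'])
      exact ⟨c, hc.symm⟩
  have hEP := noNormal_range ψ hker 2 d4
  -- `E ≤ Inn ⊓ C(x)`
  have hEI : ψ.range ≤ Cfsg.Inn (Matrix.ProjectiveSpecialLinearGroup (Fin n) F) ⊓
      Subgroup.centralizer {x} := by
    rintro _ ⟨g, rfl⟩
    refine ⟨?_, d2 g⟩
    show ψ g ∈ Cfsg.Inn (Matrix.ProjectiveSpecialLinearGroup (Fin n) F)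
    rw [mem_inn_iff]
    have hdet : ((φ g : GL (Fin n) F) : Matrix (Fin n) (Fin n) F).det = 1 := by
      have := congrArg Units.val (d1 g)
      rwa [Matrix.GeneralLinearGroup.val_det_apply] at this
    refine ⟨⟨((φ g : GL (Fin n) F) : Matrix (Fin n) (Fin n) F), hdet⟩, ?_⟩
    show pslDiag (φ g) = _
    congr 1
    apply Units.ext
    rfl
  -- normalised
  have hEn : ∀ b ∈ Cfsg.Inn (Matrix.ProjectiveSpecialLinearGroup (Fin n) F) ⊓
      Subgroup.centralizer {x}, ∀ e ∈ ψ.range, b * e * b⁻¹ ∈ ψ.range := by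
    rintro b ⟨hb1, hb2⟩ _ ⟨g, rfl⟩
    obtain ⟨s, rfl⟩ := (mem_inn_iff b).mp hb1
    obtain ⟨g', c, hc⟩ := d3 _ hb2 g
    refine ⟨g', ?_⟩
    show pslDiag (φ g') = pslDiag _ * pslDiag (φ g) * (pslDiag _)⁻¹
    rw [← map_inv, ← map_mul, ← map_mul, hc, map_mul, pslDiag_scalar, one_mul]
  -- centraliser
  have hEc : ∀ a : MulAut (Matrix.ProjectiveSpecialLinearGroup (Fin n) F),
      (∀ e ∈ ψ.range, a * e = e * a) → a ∈ Subgroup.zpowers x := by
    intro a ha
    obtain ⟨k, h, τ, rfl⟩ := exists_field_form hn hstd x a hx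
    have hxe : ∀ e ∈ ψ.range, x ^ k * e = e * x ^ k := by
      intro e he
      have h1 : e ∈ Subgroup.centralizer {x} := (hEI he).2
      rw [Subgroup.mem_centralizer_singleton_iff] at h1
      have : Commute x e := h1.symm
      exact (this.pow_left k).eq
    have ha' : ∀ g, ((pslDiag h : MulAut (Matrix.ProjectiveSpecialLinearGroup (Fin n) F)) *
        pslField τ) * pslDiag (φ g) = pslDiag (φ g) * (pslDiag h * pslField τ) := by
      intro g
      have h1 := ha _ ⟨g, rfl⟩
      have h2 := hxe _ ⟨g, rfl⟩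
      have h3 : ψ g = pslDiag (φ g) := rfl
      rw [h3] at h1 h2
      rw [mul_assoc, h2, ← mul_assoc, ← mul_assoc] at h1
      exact mul_right_cancel h1
    obtain ⟨hτ, c, hc⟩ := d5 h τ (fun g => (comm_pslDiag_iff (by omega) h (φ g) τ).mp (ha' g))
    rw [hτ, hc, map_one, pslDiag_scalar, one_mul, one_mul]
    exact Subgroup.pow_mem _ (Subgroup.mem_zpowers x) k
  exact core_eq_bot_of_noNormal A x 2 hinn hxx ψ.range hEI hEP hEn hEc

end Cfsg.Agent.Lib.Helper44.LB
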