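import Mathlib
import Cfsg.Agent.Lib.Helper44.LBOrth3

set_option autoImplicit false
set_option linter.unusedSimpArgs false
set_option linter.unusedVariables false
set_option linter.unusedSectionVars false

/-!
# The semilinear commutant of `Ω(Q₁) × Ω(Q₂)` inside `GL(V₁ ⊕ V₂)`
-/

namespace Cfsg.Agent.Lib.Helper44.LB

open Matrix Cfsg.Agent.Lib.Helper36

section one

variable {ι : Type} [Fintype ι] [DecidableEq ι] {F : Type*} [Field F]

/-- one block: `a τ(A) = A a` for all `A ∈ Ω(Q)` forces `a` scalar, and `τ = 1` if `dim ≥ 3` -/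
theorem scalar_block [Fintype F] [DecidableEq F] (h2 : (2 : F) ≠ 0) (Q : QuadraticForm F (ι → F))
    (hQ : (QuadraticMap.polarBilin Q).Nondegenerate) (hodd : Odd (Fintype.card ι))
    (a : Matrix ι ι F) (ha : IsUnit a.det) (τ : F ≃+* F)
    (Hc : ∀ A : GL ι F, A ∈ OmegaGL (⇑Q) → a * (A : Matrix ι ι F).map τ = (A : Matrix ι ι F) * a) :
    (3 ≤ Fintype.card ι → τ = RingEquiv.refl F) ∧ ∃ c : F, a = c • (1 : Matrix ι ι F) := by
  by_cases h3 : 3 ≤ Fintype.card ι
  · set u : GL ι F := ((Matrix.isUnit_iff_isUnit_det a).mpr ha).unit with hu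
    have hua : (u : Matrix ι ι F) = a := IsUnit.unit_spec _
    have H' : ∀ A : GL ι F, A ∈ OmegaGL (⇑Q) → ∃ c : F,
        (u : Matrix ι ι F) * ((A : Matrix ι ι F).map (RingHom.id F)).map τ =
          c • ((A : Matrix ι ι F).map (RingHom.id F) * (u : Matrix ι ι F)) := by
      intro A hA
      refine ⟨1, ?_⟩
      have hid : (A : Matrix ι ι F).map (RingHom.id F) = (A : Matrix ι ι F) := by
        ext i j
        rfl
      rw [hid, hua, one_smul]
      exact Hc A hA
    obtain ⟨hτ, c, hc⟩ := cent_orth Q hQ h2 h3 (RingHom.id F) τ u H'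
    refine ⟨fun _ => ?_, c, ?_⟩
    · apply RingEquiv.ext
      intro t
      exact hτ t
    · rw [← hua, hc]
  · refine ⟨fun h => absurd h h3, ?_⟩
    -- the index type has one element
    have h1 : Fintype.card ι = 1 := by
      obtain ⟨k, hk⟩ := hodd
      omega
    obtain ⟨i₀, hi₀⟩ := Fintype.card_eq_one_iff.mp h1
    refine ⟨a i₀ i₀, ?_⟩
    ext i j
    rw [hi₀ i, hi₀ j, Matrix.smul_apply, Matrix.one_apply_eq, smul_eq_mul, mul_one]

/-- `Ω(Q)` contains a non-scalar element in dimension at least three -/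
theorem exists_nonscalar_Omega [Fintype F] [DecidableEq F] (h2 : (2 : F) ≠ 0)
    (Q : QuadraticForm F (ι → F)) (hQ : (QuadraticMap.polarBilin Q).Nondegenerate)
    (h3 : 3 ≤ Fintype.card ι) :
    ∃ A : GL ι F, A ∈ OmegaGL (⇑Q) ∧ ∀ c : F, (A : Matrix ι ι F) ≠ c • (1 : Matrix ι ι F) := by
  by_contra hcon
  push Not at hcon
  -- two distinct indices
  have h1 : 1 < Fintype.card ι := by omega
  obtain ⟨i, j, hij⟩ := Fintype.exists_pair_of_one_lt_card h1
  set M : Matrix ι ι F := Matrix.transvection i j 1 with hM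
  have hMdet : M.det = 1 := by
    rw [hM]
    exact Matrix.det_transvection_of_ne i j hij 1
  set u : GL ι F := ((Matrix.isUnit_iff_isUnit_det M).mpr (by rw [hMdet]; exact isUnit_one)).unit
    with hu
  have hua : (u : Matrix ι ι F) = M := IsUnit.unit_spec _
  have H' : ∀ A : GL ι F, A ∈ OmegaGL (⇑Q) → ∃ c : F,
      (u : Matrix ι ι F) * ((A : Matrix ι ι F).map (RingHom.id F)).map (RingEquiv.refl F) =
        c • ((A : Matrix ι ι F).map (RingHom.id F) * (u : Matrix ι ι F)) := by
    intro A hA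
    obtain ⟨c, hc⟩ := hcon A hA
    refine ⟨1, ?_⟩
    have hid : ((A : Matrix ι ι F).map (RingHom.id F)).map (RingEquiv.refl F) =
        (A : Matrix ι ι F) := by
      ext i j
      rfl
    have hid' : (A : Matrix ι ι F).map (RingHom.id F) = (A : Matrix ι ι F) := by
      ext i j
      rfl
    rw [hid, hid', one_smul, hc, Matrix.mul_smul, Matrix.smul_mul, Matrix.mul_one, Matrix.one_mul]
  obtain ⟨-, c, hc⟩ := cent_orth Q hQ h2 h3 (RingHom.id F) (RingEquiv.refl F) u H'
  rw [hua, hM] at hc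
  have h4 := congrFun (congrFun hc i) j
  rw [Matrix.transvection, Matrix.add_apply, Matrix.one_apply_ne hij, Matrix.single_apply_same,
    zero_add, Matrix.smul_apply, Matrix.one_apply_ne hij, smul_zero] at h4
  exact one_ne_zero h4

end one

variable {ι₁ ι₂ : Type} [Fintype ι₁] [DecidableEq ι₁] [Fintype ι₂] [DecidableEq ι₂]
  {F : Type*} [Field F]

/-- **[G-A3]** the semilinear commutant of `Ω(Q₁) × Ω(Q₂)` -/
theorem block_cent [Fintype F] [DecidableEq F] (h2 : (2 : F) ≠ 0)
    (Q₁ : QuadraticForm F (ι₁ → F)) (Q₂ : QuadraticForm F (ι₂ → F))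
    (hQ₁ : (QuadraticMap.polarBilin Q₁).Nondegenerate)
    (hQ₂ : (QuadraticMap.polarBilin Q₂).Nondegenerate)
    (hc₁ : Odd (Fintype.card ι₁)) (hc₂ : Odd (Fintype.card ι₂))
    (h3 : 3 ≤ Fintype.card ι₁ ∨ 3 ≤ Fintype.card ι₂)
    (h : Matrix (ι₁ ⊕ ι₂) (ι₁ ⊕ ι₂) F) (hdet : IsUnit h.det) (τ : F ≃+* F)
    (ht : ∃ c : F, h * Matrix.fromBlocks (-1 : Matrix ι₁ ι₁ F) 0 0 (1 : Matrix ι₂ ι₂ F) =
      c • (Matrix.fromBlocks (-1 : Matrix ι₁ ι₁ F) 0 0 (1 : Matrix ι₂ ι₂ F) * h))
    (H : ∀ A₁ : GL ι₁ F, A₁ ∈ Cfsg.Agent.Lib.Helper36.OmegaGL (⇑Q₁) →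
      ∀ A₂ : GL ι₂ F, A₂ ∈ Cfsg.Agent.Lib.Helper36.OmegaGL (⇑Q₂) → ∃ c : F,
        h * (Matrix.fromBlocks (A₁ : Matrix ι₁ ι₁ F) 0 0 (A₂ : Matrix ι₂ ι₂ F)).map τ =
          c • (Matrix.fromBlocks (A₁ : Matrix ι₁ ι₁ F) 0 0 (A₂ : Matrix ι₂ ι₂ F) * h)) :
    τ = RingEquiv.refl F ∧ ∃ c₁ c₂ : F,
      h = Matrix.fromBlocks (c₁ • (1 : Matrix ι₁ ι₁ F)) 0 0 (c₂ • (1 : Matrix ι₂ ι₂ F)) := by
  classical
  obtain ⟨c, hc⟩ := ht
  have hne₁ : Nonempty ι₁ := by
    rw [← Fintype.card_pos_iff]
    obtain ⟨k, hk⟩ := hc₁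
    omega
  have hne₂ : Nonempty ι₂ := by
    rw [← Fintype.card_pos_iff]
    obtain ⟨k, hk⟩ := hc₂
    omega
  set a := h.toBlocks₁₁ with ha
  set b := h.toBlocks₁₂ with hb
  set c' := h.toBlocks₂₁ with hc'
  set d := h.toBlocks₂₂ with hd
  have hh : h = Matrix.fromBlocks a b c' d := (Matrix.fromBlocks_toBlocks h).symm
  have hh0 : h ≠ 0 := by
    intro h0
    rw [h0, Matrix.det_zero] at hdet
    exact not_isUnit_zero hdet
  rw [hh, Matrix.fromBlocks_multiply, Matrix.fromBlocks_multiply, Matrix.fromBlocks_smul] at hc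
  simp only [Matrix.mul_neg, Matrix.mul_one, Matrix.mul_zero, Matrix.neg_mul, Matrix.one_mul,
    Matrix.zero_mul, add_zero, zero_add] at hc
  obtain ⟨e11, e12, e21, e22⟩ := Matrix.fromBlocks_inj.mp hc
  -- consequences
  have hA : c ≠ 1 → a = 0 ∧ d = 0 := by
    intro hc1
    have hsub : (1 - c) ≠ 0 := sub_ne_zero.mpr (Ne.symm hc1)
    constructor
    · have h1 : (1 - c) • a = 0 := by
        rw [sub_smul, one_smul, sub_eq_zero]
        have := congrArg (fun M => -M) e11
        simpa using this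
      rcases smul_eq_zero.mp h1 with h | h
      · exact absurd h hsub
      · exact h
    · have h1 : (1 - c) • d = 0 := by
        rw [sub_smul, one_smul, sub_eq_zero]
        exact e22
      rcases smul_eq_zero.mp h1 with h | h
      · exact absurd h hsub
      · exact h
  have hB : c ≠ -1 → b = 0 ∧ c' = 0 := by
    intro hc1
    have hsub : (1 + c) ≠ 0 := by
      intro h0
      apply hc1
      linear_combination h0
    constructor
    · have h1 : (1 + c) • b = 0 := by
        have h5 : c • b = -b := by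
          have := congrArg (fun M => -M) e12
          simpa [smul_neg] using this.symm
        rw [add_smul, one_smul, h5, add_neg_cancel]
      rcases smul_eq_zero.mp h1 with h | h
      · exact absurd h hsub
      · exact h
    · have h1 : (1 + c) • c' = 0 := by
        rw [add_smul, one_smul, ← e21, add_neg_cancel]
      rcases smul_eq_zero.mp h1 with h | h
      · exact absurd h hsub
      · exact h
  have h1m : (1 : F) ≠ -1 := by
    intro h0
    apply h2
    linear_combination h0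
  by_cases hc1 : c = 1
  · -- block diagonal
    obtain ⟨hb0, hc0⟩ := hB (by rw [hc1]; exact h1m)
    rw [hb0, hc0] at hh
    have hdet' : IsUnit (a.det * d.det) := by
      rw [← Matrix.det_fromBlocks_zero₂₁, ← hh]
      exact hdet
    have hda : IsUnit a.det := isUnit_of_mul_isUnit_left hdet'
    have hdd : IsUnit d.det := isUnit_of_mul_isUnit_right hdet'
    have hd0 : d ≠ 0 := by
      intro h0
      rw [h0, Matrix.det_zero] at hdd
      exact not_isUnit_zero hdd
    have ha0 : a ≠ 0 := by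
      intro h0
      rw [h0, Matrix.det_zero] at hda
      exact not_isUnit_zero hda
    have Ha : ∀ A : GL ι₁ F, A ∈ OmegaGL (⇑Q₁) →
        a * (A : Matrix ι₁ ι₁ F).map τ = (A : Matrix ι₁ ι₁ F) * a := by
      intro A hA₁
      obtain ⟨κ, hκ⟩ := H A hA₁ 1 (Subgroup.one_mem _)
      rw [hh, Matrix.fromBlocks_map, Matrix.fromBlocks_multiply, Matrix.fromBlocks_multiply,
        Matrix.fromBlocks_smul] at hκ
      simp only [Units.val_one, Matrix.map_zero _ (map_zero τ),
        Matrix.map_one _ (map_zero τ) (map_one τ), Matrix.mul_one, Matrix.mul_zero,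
        Matrix.one_mul, Matrix.zero_mul, add_zero, zero_add] at hκ
      obtain ⟨f11, -, -, f22⟩ := Matrix.fromBlocks_inj.mp hκ
      have hκ1 : κ = 1 := by
        have h1 : (1 - κ) • d = 0 := by
          rw [sub_smul, one_smul, sub_eq_zero]
          exact f22
        rcases smul_eq_zero.mp h1 with h | h
        · linear_combination -h
        · exact absurd h hd0
      rw [f11, hκ1, one_smul]
    have Hd : ∀ A : GL ι₂ F, A ∈ OmegaGL (⇑Q₂) →
        d * (A : Matrix ι₂ ι₂ F).map τ = (A : Matrix ι₂ ι₂ F) * d := by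
      intro A hA₂
      obtain ⟨κ, hκ⟩ := H 1 (Subgroup.one_mem _) A hA₂
      rw [hh, Matrix.fromBlocks_map, Matrix.fromBlocks_multiply, Matrix.fromBlocks_multiply,
        Matrix.fromBlocks_smul] at hκ
      simp only [Units.val_one, Matrix.map_zero _ (map_zero τ),
        Matrix.map_one _ (map_zero τ) (map_one τ), Matrix.mul_one, Matrix.mul_zero,
        Matrix.one_mul, Matrix.zero_mul, add_zero, zero_add] at hκ
      obtain ⟨f11, -, -, f22⟩ := Matrix.fromBlocks_inj.mp hκ
      have hκ1 : κ = 1 := by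
        have h1 : (1 - κ) • a = 0 := by
          rw [sub_smul, one_smul, sub_eq_zero]
          exact f11
        rcases smul_eq_zero.mp h1 with h | h
        · linear_combination -h
        · exact absurd h ha0
      rw [f22, hκ1, one_smul]
    obtain ⟨hτ₁, c₁, hc₁'⟩ := scalar_block h2 Q₁ hQ₁ hc₁ a hda τ Ha
    obtain ⟨hτ₂, c₂, hc₂'⟩ := scalar_block h2 Q₂ hQ₂ hc₂ d hdd τ Hd
    refine ⟨?_, c₁, c₂, ?_⟩
    · rcases h3 with h3 | h3
      · exact hτ₁ h3
      · exact hτ₂ h3
    · rw [hh, hc₁', hc₂']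
  · -- anti-diagonal: impossible
    exfalso
    obtain ⟨ha0, hd0⟩ := hA hc1
    by_cases hcm : c = -1
    · rw [ha0, hd0] at hh
      -- right inverses of the off-diagonal blocks
      have hinv : h * h⁻¹ = 1 := Matrix.mul_nonsing_inv h hdet
      set p := (h⁻¹).toBlocks₁₁
      set q := (h⁻¹).toBlocks₁₂ with hq
      set r := (h⁻¹).toBlocks₂₁ with hr
      set s := (h⁻¹).toBlocks₂₂
      have hhi : h⁻¹ = Matrix.fromBlocks p q r s := (Matrix.fromBlocks_toBlocks h⁻¹).symm
      have hinv' : Matrix.fromBlocks (0 : Matrix ι₁ ι₁ F) b c' 0 * Matrix.fromBlocks p q r s =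
          1 := by
        rw [← hhi, ← hh]
        exact hinv
      rw [Matrix.fromBlocks_multiply, ← Matrix.fromBlocks_one] at hinv'
      simp only [Matrix.zero_mul, zero_add, add_zero] at hinv'
      obtain ⟨hbr, -, -, hcq⟩ := Matrix.fromBlocks_inj.mp hinv'
      rcases h3 with h3 | h3
      · obtain ⟨A, hA₁, hAns⟩ := exists_nonscalar_Omega h2 Q₁ hQ₁ h3
        obtain ⟨κ, hκ⟩ := H A hA₁ 1 (Subgroup.one_mem _)
        rw [hh, Matrix.fromBlocks_map, Matrix.fromBlocks_multiply, Matrix.fromBlocks_multiply,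
          Matrix.fromBlocks_smul] at hκ
        simp only [Units.val_one, Matrix.map_zero _ (map_zero τ),
          Matrix.map_one _ (map_zero τ) (map_one τ), Matrix.mul_one, Matrix.mul_zero,
          Matrix.one_mul, Matrix.zero_mul, add_zero, zero_add] at hκ
        obtain ⟨-, f12, -, -⟩ := Matrix.fromBlocks_inj.mp hκ
        -- `b = κ • (A * b)`
        have h5 : (1 : Matrix ι₁ ι₁ F) = κ • (A : Matrix ι₁ ι₁ F) := by
          have := congrArg (fun M => M * r) f12
          beta_reduce at this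
          rw [hbr, Matrix.smul_mul, Matrix.mul_assoc, hbr, Matrix.mul_one] at this
          exact this
        have hκ0 : κ ≠ 0 := by
          intro h0
          rw [h0, zero_smul] at h5
          exact one_ne_zero h5
        apply hAns κ⁻¹
        rw [h5, smul_smul, inv_mul_cancel₀ hκ0, one_smul]
      · obtain ⟨A, hA₂, hAns⟩ := exists_nonscalar_Omega h2 Q₂ hQ₂ h3
        obtain ⟨κ, hκ⟩ := H 1 (Subgroup.one_mem _) A hA₂
        rw [hh, Matrix.fromBlocks_map, Matrix.fromBlocks_multiply, Matrix.fromBlocks_multiply,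
          Matrix.fromBlocks_smul] at hκ
        simp only [Units.val_one, Matrix.map_zero _ (map_zero τ),
          Matrix.map_one _ (map_zero τ) (map_one τ), Matrix.mul_one, Matrix.mul_zero,
          Matrix.one_mul, Matrix.zero_mul, add_zero, zero_add] at hκ
        obtain ⟨-, -, f21, -⟩ := Matrix.fromBlocks_inj.mp hκ
        have h5 : (1 : Matrix ι₂ ι₂ F) = κ • (A : Matrix ι₂ ι₂ F) := by
          have := congrArg (fun M => M * q) f21
          beta_reduce at this
          rw [hcq, Matrix.smul_mul, Matrix.mul_assoc, hcq, Matrix.mul_one] at this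
          exact this
        have hκ0 : κ ≠ 0 := by
          intro h0
          rw [h0, zero_smul] at h5
          exact one_ne_zero h5
        apply hAns κ⁻¹
        rw [h5, smul_smul, inv_mul_cancel₀ hκ0, one_smul]
    · obtain ⟨hb0, hc0⟩ := hB hcm
      apply hh0
      rw [hh, ha0, hd0, hb0, hc0, Matrix.fromBlocks_zero]

end Cfsg.Agent.Lib.Helper44.LB
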