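import Mathlib
import Cfsg.Agent.Lib.Helper43.PSLGraphCent

set_option autoImplicit false

/-!
# Graph automorphisms `pslDiag g * pslInvT` of `PSL_n(F)`

Conjugation by `pslDiag h` replaces `g` by `h g hᵀ`; the square is `pslDiag (g g⁻ᵀ)`; the
centraliser in `Inndiag` is the projective similarity group of the bilinear form with Gram
matrix `g`.
-/

namespace Cfsg.Agent.Lib.Helper44.GraphInv

open scoped MatrixGroups Matrix
open Matrix Cfsg.Agent.Lib.Helper43

variable {n : ℕ} {F : Type*} [Field F]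

/-- the graph automorphism `pslDiag g * pslInvT` -/
noncomputable def gr (g : GL (Fin n) F) :
    MulAut (Matrix.ProjectiveSpecialLinearGroup (Fin n) F) :=
  pslDiag g * pslInvT

theorem exists_gr_of_graph (x : MulAut (Matrix.ProjectiveSpecialLinearGroup (Fin n) F))
    (hx : Cfsg.IsGraphAutClassPSL x) : 3 ≤ n ∧ ∃ g : GL (Fin n) F, x = gr g := by
  obtain ⟨hn, δ, γ, hδ, hγ, rfl⟩ := hx
  obtain ⟨g, rfl⟩ := (isInnerDiagonalAutPSL_iff δ).mp hδ
  rw [(isInverseTransposeAutPSL_iff γ).mp hγ]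
  exact ⟨hn, g, rfl⟩

theorem isGraph_gr (hn : 3 ≤ n) (g : GL (Fin n) F) : Cfsg.IsGraphAutClassPSL (gr g) :=
  ⟨hn, pslDiag g, pslInvT, (isInnerDiagonalAutPSL_iff _).mpr ⟨g, rfl⟩,
    (isInverseTransposeAutPSL_iff _).mpr rfl, rfl⟩

theorem gr_conj (h g : GL (Fin n) F) :
    (pslDiag h : MulAut (Matrix.ProjectiveSpecialLinearGroup (Fin n) F)) * gr g *
        (pslDiag h)⁻¹ = gr (h * g * (glInvT h)⁻¹) := by
  unfold gr
  rw [← map_inv, mul_assoc, mul_assoc, pslInvT_mul_pslDiag, map_inv, ← mul_assoc, ← mul_assoc,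
    ← map_mul, ← map_mul]

theorem gr_mul_self (g : GL (Fin n) F) :
    gr g * gr g = pslDiag (g * glInvT g) := by
  unfold gr
  rw [mul_assoc, ← mul_assoc pslInvT, pslInvT_mul_pslDiag, mul_assoc, pslInvT_mul_self, mul_one,
    ← map_mul]

theorem gr_eq_iff (hn : 2 ≤ n) (a b : GL (Fin n) F) :
    gr a = gr b ↔ ∃ c : Fˣ, a = Matrix.GeneralLinearGroup.scalar (Fin n) c * b := by
  unfold gr
  rw [mul_left_inj]
  exact pslDiag_eq_iff hn a b

theorem glInvT_glInvT (k : GL (Fin n) F) : glInvT (glInvT k) = k := by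
  apply Units.ext
  rw [glInvT_coe, glInvT_inv_coe, Matrix.transpose_transpose]

theorem coe_inv_mul_coe (g : GL (Fin n) F) :
    ((g⁻¹ : GL (Fin n) F) : Matrix (Fin n) (Fin n) F) * (g : Matrix (Fin n) (Fin n) F) = 1 := by
  rw [← Units.val_mul, inv_mul_cancel, Units.val_one]

theorem coe_mul_coe_inv (g : GL (Fin n) F) :
    (g : Matrix (Fin n) (Fin n) F) * ((g⁻¹ : GL (Fin n) F) : Matrix (Fin n) (Fin n) F) = 1 := by
  rw [← Units.val_mul, mul_inv_cancel, Units.val_one]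

/-- an involutory graph automorphism comes from a symmetric or an antisymmetric matrix -/
theorem transpose_eq_of_gr_mul_self (hn : 2 ≤ n) (g : GL (Fin n) F) (h : gr g * gr g = 1) :
    (g : Matrix (Fin n) (Fin n) F)ᵀ = g ∨ (g : Matrix (Fin n) (Fin n) F)ᵀ = -g := by
  rw [gr_mul_self, ← map_one pslDiag, pslDiag_eq_iff hn] at h
  obtain ⟨c, hc⟩ := h
  rw [mul_one] at hc
  have h1 : (g : Matrix (Fin n) (Fin n) F) *
      ((g⁻¹ : GL (Fin n) F) : Matrix (Fin n) (Fin n) F)ᵀ = (c : F) • 1 := by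
    have := congrArg (fun x : GL (Fin n) F => (x : Matrix (Fin n) (Fin n) F)) hc
    beta_reduce at this
    rw [Units.val_mul, glInvT_coe, scalar_coe] at this
    exact this
  have h2 : (g : Matrix (Fin n) (Fin n) F) = (c : F) • (g : Matrix (Fin n) (Fin n) F)ᵀ := by
    have h3 := congrArg (· * (g : Matrix (Fin n) (Fin n) F)ᵀ) h1
    beta_reduce at h3
    rw [Matrix.mul_assoc, ← Matrix.transpose_mul, coe_mul_coe_inv, Matrix.transpose_one,
      Matrix.mul_one, Matrix.smul_mul, Matrix.one_mul] at h3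
    exact h3
  have h3 : (g : Matrix (Fin n) (Fin n) F)ᵀ = (c : F) • (g : Matrix (Fin n) (Fin n) F) := by
    conv_lhs => rw [h2]
    rw [Matrix.transpose_smul, Matrix.transpose_transpose]
  have h4 : ((c : F) * c) • (1 : Matrix (Fin n) (Fin n) F) = 1 := by
    have h5 : (g : Matrix (Fin n) (Fin n) F) = ((c : F) * c) • (g : Matrix (Fin n) (Fin n) F) := by
      conv_lhs => rw [h2, h3]
      rw [smul_smul]
    have h6 := congrArg (· * ((g⁻¹ : GL (Fin n) F) : Matrix (Fin n) (Fin n) F)) h5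
    beta_reduce at h6
    rw [Matrix.smul_mul, coe_mul_coe_inv] at h6
    exact h6.symm
  have h5 : (c : F) * c = 1 := by
    have h6 := congrFun (congrFun h4 ⟨0, by omega⟩) ⟨0, by omega⟩
    rw [Matrix.smul_apply, Matrix.one_apply_eq, smul_eq_mul, mul_one] at h6
    exact h6
  have h6 : ((c : F) - 1) * ((c : F) + 1) = 0 := by linear_combination h5
  rcases mul_eq_zero.mp h6 with h7 | h7
  · left
    rw [h3, sub_eq_zero.mp h7, one_smul]
  · right
    rw [h3, eq_neg_of_add_eq_zero_left h7, neg_smul, one_smul]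

/-- the centraliser condition in matrix form -/
theorem pslDiag_mem_centralizer_gr_iff (hn : 2 ≤ n) (k g : GL (Fin n) F) :
    (pslDiag k : MulAut (Matrix.ProjectiveSpecialLinearGroup (Fin n) F)) ∈
        Subgroup.centralizer {gr g} ↔
      ∃ c : Fˣ, (k : Matrix (Fin n) (Fin n) F) * (g : Matrix (Fin n) (Fin n) F) *
        (k : Matrix (Fin n) (Fin n) F)ᵀ = (c : F) • (g : Matrix (Fin n) (Fin n) F) := by
  rw [Subgroup.mem_centralizer_singleton_iff, ← mul_inv_eq_iff_eq_mul, gr_conj, gr_eq_iff hn]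
  constructor
  · rintro ⟨c, hc⟩
    refine ⟨c, ?_⟩
    have := congrArg (fun x : GL (Fin n) F => (x : Matrix (Fin n) (Fin n) F)) hc
    beta_reduce at this
    rw [Units.val_mul, Units.val_mul, glInvT_inv_coe, Units.val_mul, scalar_coe,
      Matrix.smul_mul, Matrix.one_mul] at this
    exact this
  · rintro ⟨c, hc⟩
    refine ⟨c, Units.ext ?_⟩
    rw [Units.val_mul, Units.val_mul, glInvT_inv_coe, hc, Units.val_mul, scalar_coe,
      Matrix.smul_mul, Matrix.one_mul]

/-- conjugacy of graph automorphisms under `Inndiag`, from a matrix congruence up to a scalar -/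
theorem isConjUnder_gr (hn : 2 ≤ n) (g g' h : GL (Fin n) F) (c : Fˣ)
    (hh : (h : Matrix (Fin n) (Fin n) F) * (g : Matrix (Fin n) (Fin n) F) *
      (h : Matrix (Fin n) (Fin n) F)ᵀ = (c : F) • (g' : Matrix (Fin n) (Fin n) F)) :
    Cfsg.IsConjUnder (Cfsg.inndiagPSL n F) (gr g) (gr g') := by
  refine ⟨pslDiag h, pslDiag_mem_inndiagPSL h, ?_⟩
  rw [gr_conj, gr_eq_iff hn]
  refine ⟨c⁻¹, Units.ext ?_⟩
  rw [Units.val_mul, Units.val_mul, Units.val_mul, glInvT_inv_coe, hh, scalar_coe,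
    Matrix.smul_mul, Matrix.one_mul, smul_smul, Units.val_inv_eq_inv_val,
    inv_mul_cancel₀ c.ne_zero, one_smul]

/-- conjugacy of graph automorphisms under `Inndiag` gives a matrix congruence up to a scalar -/
theorem exists_of_isConjUnder_gr (hn : 2 ≤ n) (g g' : GL (Fin n) F)
    (hc : Cfsg.IsConjUnder (Cfsg.inndiagPSL n F) (gr g) (gr g')) :
    ∃ (h : GL (Fin n) F) (c : Fˣ), (h : Matrix (Fin n) (Fin n) F) *
      (g : Matrix (Fin n) (Fin n) F) * (h : Matrix (Fin n) (Fin n) F)ᵀ =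
        (c : F) • (g' : Matrix (Fin n) (Fin n) F) := by
  obtain ⟨a, ha, hag⟩ := hc
  rw [inndiagPSL_eq_range] at ha
  obtain ⟨h, rfl⟩ := ha
  rw [gr_conj, gr_eq_iff hn] at hag
  obtain ⟨c, hc⟩ := hag
  refine ⟨h, c⁻¹, ?_⟩
  have := congrArg (fun x : GL (Fin n) F => (x : Matrix (Fin n) (Fin n) F)) hc
  beta_reduce at this
  rw [Units.val_mul, Units.val_mul, Units.val_mul, glInvT_inv_coe, scalar_coe,
    Matrix.smul_mul, Matrix.one_mul] at this
  rw [this, smul_smul, Units.val_inv_eq_inv_val, inv_mul_cancel₀ c.ne_zero, one_smul]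

/-! ### the bilinear form with a given Gram matrix -/

/-- the bilinear form with Gram matrix `M` -/
def bf (M : Matrix (Fin n) (Fin n) F) (u v : Fin n → F) : F := u ⬝ᵥ (M *ᵥ v)

theorem bf_mulVec (M A : Matrix (Fin n) (Fin n) F) (u v : Fin n → F) :
    bf M (A *ᵥ u) (A *ᵥ v) = bf (Aᵀ * M * A) u v := by
  unfold bf
  rw [← Matrix.mulVec_mulVec, ← Matrix.mulVec_mulVec, Matrix.dotProduct_mulVec u Aᵀ,
    Matrix.vecMul_transpose]

theorem bf_smul (M : Matrix (Fin n) (Fin n) F) (c : F) (u v : Fin n → F) :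
    bf (c • M) u v = c * bf M u v := by
  unfold bf
  rw [Matrix.smul_mulVec, dotProduct_smul, smul_eq_mul]

theorem bf_single (M : Matrix (Fin n) (Fin n) F) (i j : Fin n) :
    bf M (Pi.single i 1) (Pi.single j 1) = M i j := by
  unfold bf
  rw [Matrix.mulVec_single_one, single_one_dotProduct]
  rfl

theorem bf_ext {M N : Matrix (Fin n) (Fin n) F} (h : ∀ u v, bf M u v = bf N u v) : M = N := by
  ext i j
  rw [← bf_single M, ← bf_single N, h]

theorem mem_sim_bf_iff (M : Matrix (Fin n) (Fin n) F) (h : GL (Fin n) F) :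
    h ∈ Cfsg.Geo.similarityGroup (bf M) ↔
      ∃ c : Fˣ, (h : Matrix (Fin n) (Fin n) F)ᵀ * M * (h : Matrix (Fin n) (Fin n) F) =
        (c : F) • M := by
  constructor
  · rintro ⟨c, hc⟩
    refine ⟨c, bf_ext fun u v => ?_⟩
    rw [← bf_mulVec, hc, bf_smul]
  · rintro ⟨c, hc⟩
    refine ⟨c, fun u v => ?_⟩
    rw [bf_mulVec, hc, bf_smul]

theorem glInvT_mem_scalars_iff (h : GL (Fin n) F) :
    glInvT h ∈ Cfsg.Geo.scalars (Fin n) F ↔ h ∈ Cfsg.Geo.scalars (Fin n) F := by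
  have key : ∀ k : GL (Fin n) F, k ∈ Cfsg.Geo.scalars (Fin n) F →
      glInvT k ∈ Cfsg.Geo.scalars (Fin n) F := by
    intro k hk
    have hk' := (Cfsg.Geo.scalars (Fin n) F).inv_mem hk
    rw [Cfsg.Geo.mem_scalars_iff] at hk' ⊢
    obtain ⟨c, hc⟩ := hk'
    refine ⟨c, ?_⟩
    rw [glInvT_coe, hc, Matrix.transpose_smul, Matrix.transpose_one]
  constructor
  · intro hh
    have := key _ hh
    rwa [glInvT_glInvT] at this
  · exact key h

/-- the homomorphism from the similarity group of `bf g` to the centraliser of `gr g` -/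
noncomputable def simToCent (hn : 2 ≤ n) (g : GL (Fin n) F) :
    ↥(Cfsg.Geo.similarityGroup (bf (g : Matrix (Fin n) (Fin n) F))) →*
      ↥(Cfsg.inndiagPSL n F ⊓ Subgroup.centralizer {gr g}) where
  toFun h := ⟨pslDiag (glInvT h.1), Subgroup.mem_inf.mpr ⟨pslDiag_mem_inndiagPSL _, by
    rw [pslDiag_mem_centralizer_gr_iff hn]
    have h1 := (Cfsg.Geo.similarityGroup (bf (g : Matrix (Fin n) (Fin n) F))).inv_mem h.2
    rw [mem_sim_bf_iff] at h1
    obtain ⟨c, hc⟩ := h1
    refine ⟨c, ?_⟩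
    rw [glInvT_coe, Matrix.transpose_transpose]
    exact hc⟩⟩
  map_one' := Subtype.ext (by
    show pslDiag (glInvT ((1 : ↥(Cfsg.Geo.similarityGroup (bf (g : Matrix (Fin n) (Fin n) F)))) :
      GL (Fin n) F)) = 1
    rw [Subgroup.coe_one, map_one, map_one])
  map_mul' a b := Subtype.ext (by
    show pslDiag (glInvT ((a * b : ↥(Cfsg.Geo.similarityGroup
      (bf (g : Matrix (Fin n) (Fin n) F)))) : GL (Fin n) F)) =
      pslDiag (glInvT a.1) * pslDiag (glInvT b.1)
    rw [Subgroup.coe_mul, map_mul, map_mul])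

theorem simToCent_coe (hn : 2 ≤ n) (g : GL (Fin n) F)
    (h : ↥(Cfsg.Geo.similarityGroup (bf (g : Matrix (Fin n) (Fin n) F)))) :
    ((simToCent hn g h : ↥(Cfsg.inndiagPSL n F ⊓ Subgroup.centralizer {gr g})) :
      MulAut (Matrix.ProjectiveSpecialLinearGroup (Fin n) F)) = pslDiag (glInvT h.1) := rfl

theorem ker_simToCent (hn : 2 ≤ n) (g : GL (Fin n) F) :
    (simToCent hn g).ker = (Cfsg.Geo.scalars (Fin n) F).subgroupOf
      (Cfsg.Geo.similarityGroup (bf (g : Matrix (Fin n) (Fin n) F))) := by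
  ext h
  rw [MonoidHom.mem_ker, Subgroup.mem_subgroupOf, Subtype.ext_iff, simToCent_coe]
  have h1 : (pslDiag (glInvT h.1) : MulAut (Matrix.ProjectiveSpecialLinearGroup (Fin n) F)) = 1 ↔
      glInvT h.1 ∈ (pslDiag : GL (Fin n) F →*
        MulAut (Matrix.ProjectiveSpecialLinearGroup (Fin n) F)).ker := by
    rw [MonoidHom.mem_ker]
  show (pslDiag (glInvT h.1) : MulAut (Matrix.ProjectiveSpecialLinearGroup (Fin n) F)) = 1 ↔ _
  rw [h1, ker_pslDiag hn, Matrix.GeneralLinearGroup.center_eq_range_scalar]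
  exact glInvT_mem_scalars_iff h.1

theorem simToCent_surjective (hn : 2 ≤ n) (g : GL (Fin n) F) :
    Function.Surjective (simToCent hn g) := by
  rintro ⟨β, hβ⟩
  obtain ⟨hβ1, hβ2⟩ := Subgroup.mem_inf.mp hβ
  rw [inndiagPSL_eq_range] at hβ1
  obtain ⟨k, rfl⟩ := hβ1
  have h1 : (pslDiag k⁻¹ : MulAut (Matrix.ProjectiveSpecialLinearGroup (Fin n) F)) ∈
      Subgroup.centralizer {gr g} := by
    rw [map_inv]
    exact (Subgroup.centralizer {gr g}).inv_mem hβ2
  rw [pslDiag_mem_centralizer_gr_iff hn] at h1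
  obtain ⟨c, hc⟩ := h1
  have hmem : glInvT k ∈ Cfsg.Geo.similarityGroup (bf (g : Matrix (Fin n) (Fin n) F)) := by
    rw [mem_sim_bf_iff]
    refine ⟨c, ?_⟩
    rw [glInvT_coe, Matrix.transpose_transpose]
    exact hc
  refine ⟨⟨glInvT k, hmem⟩, Subtype.ext ?_⟩
  rw [simToCent_coe]
  show pslDiag (glInvT (glInvT k)) = pslDiag k
  rw [glInvT_glInvT]

/-- `C_{Inndiag}(gr g) ≅` the projective similarity group of the bilinear form with Gram matrix `g` -/
theorem centralizer_gr_equiv (hn : 2 ≤ n) (g : GL (Fin n) F) :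
    Nonempty (↥(Cfsg.inndiagPSL n F ⊓ Subgroup.centralizer {gr g}) ≃*
      Cfsg.projQuot (Cfsg.Geo.similarityGroup (bf (g : Matrix (Fin n) (Fin n) F)))) :=
  ⟨((QuotientGroup.quotientMulEquivOfEq (ker_simToCent hn g).symm).trans
    (QuotientGroup.quotientKerEquivOfSurjective _ (simToCent_surjective hn g))).symm⟩

end Cfsg.Agent.Lib.Helper44.GraphInv
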