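import Mathlib
import Cfsg.Agent.Lib.Helper44.GraphInv1
import Cfsg.Agent.Lib.Helper44.MinusQF
import Cfsg.Agent.Lib.Helper13.SympSplit
import Cfsg.Agent.S2623
import Cfsg.Agent.S2617

set_option autoImplicit false
set_option linter.unusedSectionVars false

/-!
# Graph automorphisms of `PSL_n(F)` and forms: transport lemmas

* congruence of projective similarity groups of two-argument forms along a change of coordinates;
* the similarity group of the polar form of a quadratic form is the similarity group of the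
  quadratic form (characteristic not two);
* the graph automorphism attached to the Gram matrix of a nondegenerate quadratic form, its
  centraliser, conjugacy from isometries, non-conjugacy from discriminants.
-/

namespace Cfsg.Agent.Lib.Helper44.GraphInv

open scoped MatrixGroups Matrix
open Matrix Cfsg.Agent.Lib.Helper43 Cfsg.Agent.Lib.Helper44

section congr

variable {ι₁ ι₂ : Type} [Fintype ι₁] [DecidableEq ι₁] [Fintype ι₂] [DecidableEq ι₂]
  {K : Type*} [Field K]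

theorem glConjRect_mem_sim (f₁ : (ι₁ → K) → (ι₁ → K) → K) (f₂ : (ι₂ → K) → (ι₂ → K) → K)
    (A : Matrix ι₁ ι₂ K) (B : Matrix ι₂ ι₁ K) (hAB : A * B = 1)
    (hBA : B * A = 1) (hf : ∀ u v, f₁ (A *ᵥ u) (A *ᵥ v) = f₂ u v) (g : GL ι₂ K) :
    glConjRect A B hAB hBA g ∈ Cfsg.Geo.similarityGroup f₁ ↔
      g ∈ Cfsg.Geo.similarityGroup f₂ := by
  constructor
  · rintro ⟨c, hc⟩
    refine ⟨c, fun u v => ?_⟩
    have e1 : ∀ w, (A * (g : Matrix ι₂ ι₂ K) * B) *ᵥ (A *ᵥ w) =
        A *ᵥ ((g : Matrix ι₂ ι₂ K) *ᵥ w) := by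
      intro w
      rw [Matrix.mulVec_mulVec, Matrix.mul_assoc, hBA, Matrix.mul_one, ← Matrix.mulVec_mulVec]
    have h1 := hc (A *ᵥ u) (A *ᵥ v)
    rw [glConjRect_coe, e1, e1, hf, hf] at h1
    exact h1
  · rintro ⟨c, hc⟩
    refine ⟨c, fun u v => ?_⟩
    have e2 : ∀ w, (A * (g : Matrix ι₂ ι₂ K) * B) *ᵥ w =
        A *ᵥ ((g : Matrix ι₂ ι₂ K) *ᵥ (B *ᵥ w)) := by
      intro w
      rw [Matrix.mulVec_mulVec, Matrix.mulVec_mulVec]
    have e3 : ∀ w, A *ᵥ (B *ᵥ w) = w := by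
      intro w
      rw [Matrix.mulVec_mulVec, hAB, Matrix.one_mulVec]
    rw [glConjRect_coe, e2, e2, hf, hc, ← hf, e3, e3]

/-- equivalent two-argument forms have isomorphic projective similarity groups -/
theorem projQuot_sim_congr (f₁ : (ι₁ → K) → (ι₁ → K) → K) (f₂ : (ι₂ → K) → (ι₂ → K) → K)
    (A : Matrix ι₁ ι₂ K) (B : Matrix ι₂ ι₁ K) (hAB : A * B = 1)
    (hBA : B * A = 1) (hf : ∀ u v, f₁ (A *ᵥ u) (A *ᵥ v) = f₂ u v) :
    Nonempty (Cfsg.projQuot (Cfsg.Geo.similarityGroup f₂) ≃*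
      Cfsg.projQuot (Cfsg.Geo.similarityGroup f₁)) := by
  let f₀ : ↥(Cfsg.Geo.similarityGroup f₂) →* ↥(Cfsg.Geo.similarityGroup f₁) :=
    { toFun := fun g => ⟨glConjRect A B hAB hBA g.1,
        (glConjRect_mem_sim f₁ f₂ A B hAB hBA hf g.1).mpr g.2⟩
      map_one' := by
        apply Subtype.ext
        show glConjRect A B hAB hBA (1 : GL ι₂ K) = 1
        rw [map_one]
      map_mul' := fun g h => by
        apply Subtype.ext
        show glConjRect A B hAB hBA (g.1 * h.1) = _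
        rw [map_mul]
        rfl }
  let f : ↥(Cfsg.Geo.similarityGroup f₂) →* Cfsg.projQuot (Cfsg.Geo.similarityGroup f₁) :=
    (QuotientGroup.mk' _).comp f₀
  have hsurj : Function.Surjective f := by
    intro x
    obtain ⟨h, rfl⟩ := QuotientGroup.mk_surjective x
    have hmem : glConjRect B A hBA hAB h.1 ∈ Cfsg.Geo.similarityGroup f₂ := by
      rw [← glConjRect_mem_sim f₁ f₂ A B hAB hBA hf, glConjRect_glConjRect]
      exact h.2
    refine ⟨⟨glConjRect B A hBA hAB h.1, hmem⟩, ?_⟩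
    show QuotientGroup.mk (f₀ ⟨glConjRect B A hBA hAB h.1, hmem⟩) = QuotientGroup.mk h
    congr 1
    apply Subtype.ext
    exact glConjRect_glConjRect A B hAB hBA h.1
  have hker : f.ker = (Cfsg.Geo.scalars ι₂ K).subgroupOf (Cfsg.Geo.similarityGroup f₂) := by
    ext g
    rw [MonoidHom.mem_ker, Subgroup.mem_subgroupOf]
    show (QuotientGroup.mk (f₀ g) : Cfsg.projQuot (Cfsg.Geo.similarityGroup f₁)) = 1 ↔ _
    rw [QuotientGroup.eq_one_iff, Subgroup.mem_subgroupOf]
    exact glConjRect_mem_scalars A B hAB hBA g.1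
  exact ⟨(QuotientGroup.quotientMulEquivOfEq hker.symm).trans
    (QuotientGroup.quotientKerEquivOfSurjective f hsurj)⟩

/-- the similarities of the polar form are the similarities of the quadratic form -/
theorem sim_polar_eq_quadSim (h2 : (2 : K) ≠ 0) (Q : QuadraticForm K (ι₁ → K)) :
    Cfsg.Geo.similarityGroup (QuadraticMap.polar ⇑Q) = Cfsg.Geo.quadSimilarityGroup ⇑Q := by
  ext h
  constructor
  · rintro ⟨c, hc⟩
    refine ⟨c, fun v => ?_⟩
    have h1 := hc v v
    rw [QuadraticMap.polar_self, QuadraticMap.polar_self, two_smul, two_smul] at h1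
    apply mul_left_cancel₀ h2
    linear_combination h1
  · rintro ⟨c, hc⟩
    refine ⟨c, fun u v => ?_⟩
    unfold QuadraticMap.polar
    rw [← Matrix.mulVec_add, hc, hc, hc]
    ring

/-! ### reindexing matrices -/

/-- the matrix of `w ↦ w ∘ e.symm` -/
def reA (e : ι₂ ≃ ι₁) : Matrix ι₁ ι₂ K := (1 : Matrix ι₂ ι₂ K).submatrix e.symm (Equiv.refl ι₂)

/-- the matrix of `u ↦ u ∘ e` -/
def reB (e : ι₂ ≃ ι₁) : Matrix ι₂ ι₁ K := (1 : Matrix ι₂ ι₂ K).submatrix (Equiv.refl ι₂) e.symm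

theorem reA_mulVec (e : ι₂ ≃ ι₁) (w : ι₂ → K) : (reA e : Matrix ι₁ ι₂ K) *ᵥ w = w ∘ e.symm := by
  unfold reA
  rw [Matrix.submatrix_mulVec_equiv, Matrix.one_mulVec]
  rfl

theorem reB_mulVec (e : ι₂ ≃ ι₁) (u : ι₁ → K) : (reB e : Matrix ι₂ ι₁ K) *ᵥ u = u ∘ e := by
  unfold reB
  rw [Matrix.submatrix_mulVec_equiv, Matrix.one_mulVec]
  rfl

theorem reA_mul_reB (e : ι₂ ≃ ι₁) :
    (reA e : Matrix ι₁ ι₂ K) * (reB e : Matrix ι₂ ι₁ K) = 1 := by
  unfold reA reB
  rw [Matrix.submatrix_mul_equiv, Matrix.one_mul, Matrix.submatrix_one_equiv]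

theorem reB_mul_reA (e : ι₂ ≃ ι₁) :
    (reB e : Matrix ι₂ ι₁ K) * (reA e : Matrix ι₁ ι₂ K) = 1 := by
  unfold reA reB
  rw [Matrix.submatrix_mul_equiv, Matrix.one_mul]
  rfl

end congr

section gram

variable {n : ℕ} {F : Type*} [Field F]

theorem bf_eq_toBilin' (M : Matrix (Fin n) (Fin n) F) (u v : Fin n → F) :
    bf M u v = Matrix.toBilin' M u v := by
  rw [Matrix.toBilin'_apply']
  rfl

theorem bf_transpose (M : Matrix (Fin n) (Fin n) F) (u v : Fin n → F) :
    bf M u v = bf Mᵀ v u := by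
  unfold bf
  rw [Matrix.dotProduct_mulVec, ← Matrix.mulVec_transpose, dotProduct_comm]

theorem bf_gramStd (Q : QuadraticForm F (Fin n → F)) (u v : Fin n → F) :
    bf (gramStd ⇑Q) u v = QuadraticMap.polar ⇑Q u v := by
  have h1 : Matrix.toBilin' (gramStd ⇑Q) = QuadraticMap.polarBilin Q := by
    rw [← toMatrix_basisFun_polarBilin Q, LinearMap.BilinForm.toMatrix_basisFun,
      Matrix.toBilin'_toMatrix']
  have h2 := congrArg (fun B : LinearMap.BilinForm F (Fin n → F) => B u v) h1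
  beta_reduce at h2
  rw [QuadraticMap.polarBilin_apply_apply] at h2
  rw [bf_eq_toBilin', h2]

/-- the Gram matrix of a nondegenerate quadratic form, as an element of `GL` -/
noncomputable def glGram (Q : QuadraticForm F (Fin n → F))
    (hQ : (QuadraticMap.polarBilin Q).Nondegenerate) : GL (Fin n) F :=
  Matrix.GeneralLinearGroup.mkOfDetNeZero (gramStd ⇑Q)
    ((nondeg_iff_gramStd_det_ne_zero Q).mp hQ)

theorem glGram_coe (Q : QuadraticForm F (Fin n → F))
    (hQ : (QuadraticMap.polarBilin Q).Nondegenerate) :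
    ((glGram Q hQ : GL (Fin n) F) : Matrix (Fin n) (Fin n) F) = gramStd ⇑Q := rfl

/-- `C_{Inndiag}(gr (Gram Q)) ≅ PGO(Q)` in characteristic not two -/
theorem centralizer_glGram_equiv (hn : 2 ≤ n) (h2 : (2 : F) ≠ 0) (Q : QuadraticForm F (Fin n → F))
    (hQ : (QuadraticMap.polarBilin Q).Nondegenerate) :
    Nonempty (↥(Cfsg.inndiagPSL n F ⊓ Subgroup.centralizer {gr (glGram Q hQ)}) ≃*
      Cfsg.projQuot (Cfsg.Geo.quadSimilarityGroup ⇑Q)) := by
  obtain ⟨e⟩ := centralizer_gr_equiv hn (glGram Q hQ)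
  have h1 : bf ((glGram Q hQ : GL (Fin n) F) : Matrix (Fin n) (Fin n) F) =
      QuadraticMap.polar ⇑Q := by
    funext u v
    rw [glGram_coe, bf_gramStd]
  rw [h1, sim_polar_eq_quadSim h2] at e
  exact ⟨e⟩

/-- the matrix in `GL` of a linear automorphism of `Fin n → F` -/
noncomputable def glOfEquiv (L : (Fin n → F) ≃ₗ[F] (Fin n → F)) : GL (Fin n) F :=
  ⟨LinearMap.toMatrix' (L : (Fin n → F) →ₗ[F] (Fin n → F)),
    LinearMap.toMatrix' (L.symm : (Fin n → F) →ₗ[F] (Fin n → F)), by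
      rw [← LinearMap.toMatrix'_comp]
      simp, by
      rw [← LinearMap.toMatrix'_comp]
      simp⟩

theorem glOfEquiv_mulVec (L : (Fin n → F) ≃ₗ[F] (Fin n → F)) (v : Fin n → F) :
    ((glOfEquiv L : GL (Fin n) F) : Matrix (Fin n) (Fin n) F) *ᵥ v = L v :=
  LinearMap.toMatrix'_mulVec _ _

theorem congr_of_map (M N : Matrix (Fin n) (Fin n) F) (L : (Fin n → F) ≃ₗ[F] (Fin n → F)) (c : F)
    (h : ∀ u v, bf M (L u) (L v) = c * bf N u v) :
    ((glOfEquiv L : GL (Fin n) F) : Matrix (Fin n) (Fin n) F)ᵀ * M *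
      ((glOfEquiv L : GL (Fin n) F) : Matrix (Fin n) (Fin n) F) = c • N := by
  apply bf_ext
  intro u v
  rw [← bf_mulVec, glOfEquiv_mulVec, glOfEquiv_mulVec, h, bf_smul]

/-- a similitude between the forms with Gram matrices `g'` and `g` makes `gr g` and `gr g'`
conjugate under `Inndiag` -/
theorem isConjUnder_gr_of_map (hn : 2 ≤ n) (g g' : GL (Fin n) F)
    (L : (Fin n → F) ≃ₗ[F] (Fin n → F)) (c : Fˣ)
    (h : ∀ u v, bf (g : Matrix (Fin n) (Fin n) F) (L u) (L v) =
      (c : F) * bf (g' : Matrix (Fin n) (Fin n) F) u v) :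
    Cfsg.IsConjUnder (Cfsg.inndiagPSL n F) (gr g) (gr g') := by
  refine isConjUnder_gr hn g g' (glInvT (glOfEquiv L))⁻¹ c ?_
  rw [glInvT_inv_coe, Matrix.transpose_transpose]
  exact congr_of_map _ _ L c h

/-- isometric quadratic forms give conjugate graph automorphisms -/
theorem isConjUnder_glGram_of_isometry (hn : 2 ≤ n) (Q Q' : QuadraticForm F (Fin n → F))
    (hQ : (QuadraticMap.polarBilin Q).Nondegenerate)
    (hQ' : (QuadraticMap.polarBilin Q').Nondegenerate)
    (L : (Fin n → F) ≃ₗ[F] (Fin n → F)) (hL : ∀ v, Q' (L v) = Q v) :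
    Cfsg.IsConjUnder (Cfsg.inndiagPSL n F) (gr (glGram Q' hQ')) (gr (glGram Q hQ)) := by
  refine isConjUnder_gr_of_map hn _ _ L 1 ?_
  intro u v
  rw [glGram_coe, glGram_coe, bf_gramStd, bf_gramStd, Units.val_one, one_mul]
  exact Cfsg.Agent.S2623.polar_isometry Q Q' (L : (Fin n → F) →ₗ[F] (Fin n → F)) hL u v

/-- graph automorphisms of forms with discriminants in different square classes are not
conjugate (even dimension) -/
theorem not_isConjUnder_of_disc (hn : 2 ≤ n) (he : Even n) (g g' : GL (Fin n) F)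
    (hns : ¬ IsSquare ((g : Matrix (Fin n) (Fin n) F).det * (g' : Matrix (Fin n) (Fin n) F).det)) :
    ¬ Cfsg.IsConjUnder (Cfsg.inndiagPSL n F) (gr g) (gr g') := by
  intro hc
  obtain ⟨h, c, hh⟩ := exists_of_isConjUnder_gr hn g g' hc
  apply hns
  have h1 := congrArg Matrix.det hh
  rw [Matrix.det_mul, Matrix.det_mul, Matrix.det_transpose, Matrix.det_smul,
    Fintype.card_fin] at h1
  obtain ⟨k, hk⟩ := he
  have hdh : (h : Matrix (Fin n) (Fin n) F).det ≠ 0 := by
    have := (Matrix.isUnit_iff_isUnit_det _).mp h.isUnit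
    exact this.ne_zero
  refine ⟨(c : F) ^ k * (g' : Matrix (Fin n) (Fin n) F).det /
    (h : Matrix (Fin n) (Fin n) F).det, ?_⟩
  have hcn : (c : F) ^ n = (c : F) ^ k * (c : F) ^ k := by rw [hk, pow_add]
  rw [hcn] at h1
  field_simp
  linear_combination (g' : Matrix (Fin n) (Fin n) F).det * h1

/-- the graph automorphism of an antisymmetric matrix is not conjugate to that of a symmetric
one (characteristic not two) -/
theorem not_isConjUnder_alt_symm (hn : 2 ≤ n) (h2 : (2 : F) ≠ 0) (g g' : GL (Fin n) F)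
    (hg : (g : Matrix (Fin n) (Fin n) F)ᵀ = -(g : Matrix (Fin n) (Fin n) F))
    (hg' : (g' : Matrix (Fin n) (Fin n) F)ᵀ = (g' : Matrix (Fin n) (Fin n) F)) :
    ¬ Cfsg.IsConjUnder (Cfsg.inndiagPSL n F) (gr g) (gr g') := by
  intro hc
  obtain ⟨h, c, hh⟩ := exists_of_isConjUnder_gr hn g g' hc
  have h1 := congrArg Matrix.transpose hh
  rw [Matrix.transpose_mul, Matrix.transpose_mul, Matrix.transpose_transpose, hg,
    Matrix.transpose_smul, hg', Matrix.neg_mul, Matrix.mul_neg, ← Matrix.mul_assoc, hh] at h1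
  have h3 : ((2 : F) * (c : F)) • (g' : Matrix (Fin n) (Fin n) F) = 0 := by
    rw [mul_smul, two_smul]
    nth_rewrite 1 [← h1]
    rw [neg_add_cancel]
  have h4 : (g' : Matrix (Fin n) (Fin n) F) = 0 := by
    rcases smul_eq_zero.mp h3 with h5 | h5
    · exact absurd h5 (mul_ne_zero h2 c.ne_zero)
    · exact h5
  have h5 : (g' : Matrix (Fin n) (Fin n) F) *
      ((g'⁻¹ : GL (Fin n) F) : Matrix (Fin n) (Fin n) F) = 1 := coe_mul_coe_inv g'
  rw [h4, Matrix.zero_mul] at h5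
  have h6 := congrFun (congrFun h5 ⟨0, by omega⟩) ⟨0, by omega⟩
  rw [Matrix.zero_apply, Matrix.one_apply_eq] at h6
  exact zero_ne_one h6

/-! ### the quadratic form of a symmetric matrix -/

/-- the quadratic form `v ↦ 2⁻¹ (v ⬝ g v)` -/
noncomputable def symQ (M : Matrix (Fin n) (Fin n) F) : QuadraticForm F (Fin n → F) :=
  (2⁻¹ : F) • Matrix.toQuadraticForm' M

theorem polar_symQ (h2 : (2 : F) ≠ 0) (M : Matrix (Fin n) (Fin n) F) (hM : Mᵀ = M)
    (u v : Fin n → F) : QuadraticMap.polar ⇑(symQ M) u v = bf M u v := by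
  unfold symQ
  show QuadraticMap.polar ((2⁻¹ : F) • ⇑(Matrix.toQuadraticForm' M)) u v = _
  rw [QuadraticMap.polar_smul]
  unfold Matrix.toQuadraticForm'
  rw [LinearMap.BilinMap.polar_toQuadraticMap, smul_eq_mul]
  have h3 : (Matrix.toLinearMap₂' F M) u v = bf M u v := by
    rw [Matrix.toLinearMap₂'_apply']
    rfl
  have h4 : (Matrix.toLinearMap₂' F M) v u = bf M u v := by
    rw [Matrix.toLinearMap₂'_apply', bf_transpose, hM]
    rfl
  rw [h3, h4, ← two_mul, ← mul_assoc, inv_mul_cancel₀ h2, one_mul]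

theorem gramStd_symQ (h2 : (2 : F) ≠ 0) (M : Matrix (Fin n) (Fin n) F) (hM : Mᵀ = M) :
    gramStd ⇑(symQ M) = M := by
  ext i j
  rw [gramStd_apply, polar_symQ h2 M hM, bf_single]

theorem symQ_nondeg (h2 : (2 : F) ≠ 0) (g : GL (Fin n) F)
    (hg : (g : Matrix (Fin n) (Fin n) F)ᵀ = (g : Matrix (Fin n) (Fin n) F)) :
    (QuadraticMap.polarBilin (symQ (g : Matrix (Fin n) (Fin n) F))).Nondegenerate := by
  rw [nondeg_iff_gramStd_det_ne_zero, gramStd_symQ h2 _ hg]
  exact ((Matrix.isUnit_iff_isUnit_det _).mp g.isUnit).ne_zero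

theorem glGram_symQ (h2 : (2 : F) ≠ 0) (g : GL (Fin n) F)
    (hg : (g : Matrix (Fin n) (Fin n) F)ᵀ = (g : Matrix (Fin n) (Fin n) F)) :
    glGram (symQ (g : Matrix (Fin n) (Fin n) F)) (symQ_nondeg h2 g hg) = g := by
  apply Units.ext
  rw [glGram_coe, gramStd_symQ h2 _ hg]

end gram

end Cfsg.Agent.Lib.Helper44.GraphInv
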