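import Mathlib
import Cfsg.Agent.Lib.Helper44.GraphInv2

set_option autoImplicit false
set_option linter.unusedSectionVars false

/-!
# Involutory graph automorphisms of `PSL_n(F)`: standard representatives

Reindexed standard forms on `Fin n → F`, the alternating representative and its centraliser
`PGSp`, the two classes of nondegenerate quadratic forms over a finite field of odd order.
-/

namespace Cfsg.Agent.Lib.Helper44.GraphInv

open scoped MatrixGroups Matrix
open Matrix Cfsg.Agent.Lib.Helper43 Cfsg.Agent.Lib.Helper44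

section basic

variable {n : ℕ} {F : Type*} [Field F]

theorem gr_ne_one (hn : 3 ≤ n) (g : GL (Fin n) F) : gr g ≠ 1 := by
  have h := pslDiag_mul_pslField_mul_pslInvT_ne_one hn g (1 : RingAut F)
  rw [map_one, mul_one] at h
  exact h

/-- `gr g` squares to one when `gᵀ = c g` with `c² = 1` -/
theorem gr_mul_self_eq_one (hn : 2 ≤ n) (g : GL (Fin n) F) (c : Fˣ) (hc : (c : F) * c = 1)
    (hg : (g : Matrix (Fin n) (Fin n) F)ᵀ = (c : F) • (g : Matrix (Fin n) (Fin n) F)) :
    gr g * gr g = 1 := by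
  rw [gr_mul_self, map_mul]
  have h1 : (pslDiag (glInvT g) : MulAut (Matrix.ProjectiveSpecialLinearGroup (Fin n) F)) =
      pslDiag g⁻¹ := by
    rw [pslDiag_eq_iff hn]
    refine ⟨c, Units.ext ?_⟩
    rw [Units.val_mul, glInvT_coe, scalar_coe, Matrix.smul_mul, Matrix.one_mul]
    have h2 : ((g⁻¹ : GL (Fin n) F) : Matrix (Fin n) (Fin n) F)ᵀ *
        (g : Matrix (Fin n) (Fin n) F)ᵀ = 1 := by
      rw [← Matrix.transpose_mul, coe_mul_coe_inv, Matrix.transpose_one]
    rw [hg, Matrix.mul_smul] at h2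
    have h3 : ((g⁻¹ : GL (Fin n) F) : Matrix (Fin n) (Fin n) F)ᵀ *
        (g : Matrix (Fin n) (Fin n) F) = (c : F) • 1 := by
      have h4 := congrArg (fun M : Matrix (Fin n) (Fin n) F => (c : F) • M) h2
      beta_reduce at h4
      rw [smul_smul, hc, one_smul] at h4
      exact h4
    have h5 := congrArg (· * ((g⁻¹ : GL (Fin n) F) : Matrix (Fin n) (Fin n) F)) h3
    beta_reduce at h5
    rw [Matrix.mul_assoc, coe_mul_coe_inv, Matrix.mul_one, Matrix.smul_mul, Matrix.one_mul] at h5
    exact h5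
  rw [h1, map_inv, mul_inv_cancel]

theorem gr_mul_self_eq_one_of_symm (hn : 2 ≤ n) (g : GL (Fin n) F)
    (hg : (g : Matrix (Fin n) (Fin n) F)ᵀ = (g : Matrix (Fin n) (Fin n) F)) :
    gr g * gr g = 1 := by
  refine gr_mul_self_eq_one hn g 1 (by simp) ?_
  rw [Units.val_one, one_smul, hg]

theorem gr_mul_self_eq_one_of_alt (hn : 2 ≤ n) (g : GL (Fin n) F)
    (hg : (g : Matrix (Fin n) (Fin n) F)ᵀ = -(g : Matrix (Fin n) (Fin n) F)) :
    gr g * gr g = 1 := by
  refine gr_mul_self_eq_one hn g (-1) (by simp) ?_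
  rw [Units.val_neg, Units.val_one, neg_one_smul, hg]

theorem orderOf_gr_eq_two (hn : 3 ≤ n) (g : GL (Fin n) F) (h : gr g * gr g = 1) :
    orderOf (gr g) = 2 := by
  have : Fact (Nat.Prime 2) := ⟨Nat.prime_two⟩
  apply orderOf_eq_prime
  · rw [pow_two, h]
  · exact gr_ne_one hn g

theorem gramStd_transpose (Q : QuadraticForm F (Fin n → F)) : (gramStd ⇑Q)ᵀ = gramStd ⇑Q := by
  ext i j
  rw [Matrix.transpose_apply, gramStd_apply, gramStd_apply, QuadraticMap.polar_comm]

end basic

section reindex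

variable {n : ℕ} {F : Type*} [Field F] {κ : Type} [Fintype κ] [DecidableEq κ]

/-- a quadratic form on `κ → F` read on `Fin n → F` along `e : κ ≃ Fin n` -/
noncomputable def reQ (e : κ ≃ Fin n) (Q : QuadraticForm F (κ → F)) : QuadraticForm F (Fin n → F) :=
  Q.comp ((LinearEquiv.funCongrLeft F F e : (Fin n → F) ≃ₗ[F] (κ → F)) :
    (Fin n → F) →ₗ[F] (κ → F))

theorem reQ_apply (e : κ ≃ Fin n) (Q : QuadraticForm F (κ → F)) (v : Fin n → F) :
    reQ e Q v = Q (v ∘ e) := rfl

theorem polar_reQ (e : κ ≃ Fin n) (Q : QuadraticForm F (κ → F)) (u v : Fin n → F) :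
    QuadraticMap.polar ⇑(reQ e Q) u v = QuadraticMap.polar ⇑Q (u ∘ e) (v ∘ e) := by
  unfold QuadraticMap.polar
  rw [reQ_apply, reQ_apply, reQ_apply]
  rfl

theorem reQ_nondeg (e : κ ≃ Fin n) (Q : QuadraticForm F (κ → F))
    (hQ : (QuadraticMap.polarBilin Q).Nondegenerate) :
    (QuadraticMap.polarBilin (reQ e Q)).Nondegenerate := by
  have hleft : ∀ x : Fin n → F,
      (∀ y, QuadraticMap.polar ⇑(reQ e Q) x y = 0) → x = 0 := by
    intro x hx
    have h1 : x ∘ e = 0 := by
      apply hQ.1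
      intro w
      have h2 := hx (w ∘ e.symm)
      rw [polar_reQ] at h2
      have h3 : (w ∘ e.symm) ∘ e = w := by
        funext i
        simp
      rw [h3] at h2
      rw [QuadraticMap.polarBilin_apply_apply]
      exact h2
    funext i
    have h4 := congrFun h1 (e.symm i)
    simpa using h4
  constructor
  · intro x hx
    exact hleft x hx
  · intro y hy
    apply hleft y
    intro x
    rw [QuadraticMap.polar_comm]
    exact hy x

/-- the projective similarity group of the reindexed form -/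
theorem pgo_reQ_equiv (e : κ ≃ Fin n) (Q : QuadraticForm F (κ → F)) :
    Nonempty (Cfsg.projQuot (Cfsg.Geo.quadSimilarityGroup ⇑(reQ e Q)) ≃*
      Cfsg.projQuot (Cfsg.Geo.quadSimilarityGroup ⇑Q)) := by
  obtain ⟨e₂⟩ := projQuot_quadSim_congr (⇑(reQ e Q)) (⇑Q) (reA e) (reB e) (reA_mul_reB e)
    (reB_mul_reA e) (by
      intro v
      rw [reA_mulVec, reQ_apply]
      congr 1
      funext i
      simp)
  exact ⟨e₂.symm⟩

end reindex

section alt

variable {n m : ℕ} {F : Type*} [Field F]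

/-- the reindexed standard alternating matrix -/
noncomputable def altGL (e : Fin m ⊕ Fin m ≃ Fin n) : GL (Fin n) F :=
  Matrix.GeneralLinearGroup.mkOfDetNeZero ((Matrix.J (Fin m) F).submatrix e.symm e.symm) (by
    rw [Matrix.det_submatrix_equiv_self]
    exact (Matrix.isUnit_det_J (Fin m) F).ne_zero)

theorem altGL_coe (e : Fin m ⊕ Fin m ≃ Fin n) :
    ((altGL e : GL (Fin n) F) : Matrix (Fin n) (Fin n) F) =
      (Matrix.J (Fin m) F).submatrix e.symm e.symm := rfl

theorem altGL_transpose (e : Fin m ⊕ Fin m ≃ Fin n) :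
    ((altGL e : GL (Fin n) F) : Matrix (Fin n) (Fin n) F)ᵀ =
      -((altGL e : GL (Fin n) F) : Matrix (Fin n) (Fin n) F) := by
  rw [altGL_coe, Matrix.transpose_submatrix, Matrix.J_transpose, Matrix.submatrix_neg]
  rfl

theorem bf_altGL (e : Fin m ⊕ Fin m ≃ Fin n) (u v : Fin n → F) :
    bf ((altGL e : GL (Fin n) F) : Matrix (Fin n) (Fin n) F) u v =
      Cfsg.sympForm m F (u ∘ e) (v ∘ e) := by
  unfold bf Cfsg.sympForm
  rw [altGL_coe, Matrix.submatrix_mulVec_equiv, dotProduct_comp_equiv_symm]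
  rfl

/-- `C_{Inndiag}(gr (altGL e)) ≅ PGSp_{2m}(F)` -/
theorem centralizer_altGL_equiv (hn : 2 ≤ n) (e : Fin m ⊕ Fin m ≃ Fin n) :
    Nonempty (↥(Cfsg.inndiagPSL n F ⊓ Subgroup.centralizer {gr (altGL (F := F) e)}) ≃*
      Cfsg.PGSp m F) := by
  obtain ⟨e₁⟩ := centralizer_gr_equiv hn (altGL (F := F) e)
  obtain ⟨e₂⟩ := projQuot_sim_congr
    (bf ((altGL e : GL (Fin n) F) : Matrix (Fin n) (Fin n) F)) (Cfsg.sympForm m F)
    (reA e) (reB e) (reA_mul_reB e) (reB_mul_reA e) (by
      intro u v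
      rw [reA_mulVec, reA_mulVec, bf_altGL]
      congr 1 <;>
      · funext i
        simp)
  exact ⟨e₁.trans e₂.symm⟩

/-- every graph automorphism of an antisymmetric matrix is conjugate to the standard one -/
theorem isConjUnder_altGL (hn : 2 ≤ n) (hnm : n = 2 * m) (h2 : (2 : F) ≠ 0)
    (e : Fin m ⊕ Fin m ≃ Fin n) (g : GL (Fin n) F)
    (hg : (g : Matrix (Fin n) (Fin n) F)ᵀ = -(g : Matrix (Fin n) (Fin n) F)) :
    Cfsg.IsConjUnder (Cfsg.inndiagPSL n F) (gr g) (gr (altGL e)) := by
  have hA : (Matrix.toBilin' (g : Matrix (Fin n) (Fin n) F)).IsAlt := by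
    intro v
    rw [← bf_eq_toBilin']
    have h1 := bf_transpose (g : Matrix (Fin n) (Fin n) F) v v
    rw [hg] at h1
    have h3 : bf (-(g : Matrix (Fin n) (Fin n) F)) v v =
        -bf (g : Matrix (Fin n) (Fin n) F) v v := by
      have := bf_smul (g : Matrix (Fin n) (Fin n) F) (-1) v v
      rw [neg_one_smul, neg_one_mul] at this
      exact this
    rw [h3] at h1
    have h4 : (2 : F) * bf (g : Matrix (Fin n) (Fin n) F) v v = 0 := by linear_combination h1
    rcases mul_eq_zero.mp h4 with h5 | h5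
    · exact absurd h5 h2
    · exact h5
  have hnd : ∀ u : Fin n → F, (∀ v, Matrix.toBilin' (g : Matrix (Fin n) (Fin n) F) u v = 0) →
      u = 0 := by
    intro u hu
    have h1 : u ᵥ* (g : Matrix (Fin n) (Fin n) F) = 0 := by
      funext j
      have h2 := hu (Pi.single j 1)
      rw [Matrix.toBilin'_apply', Matrix.dotProduct_mulVec, dotProduct_single_one] at h2
      exact h2
    have h3 : (u ᵥ* (g : Matrix (Fin n) (Fin n) F)) ᵥ*
        ((g⁻¹ : GL (Fin n) F) : Matrix (Fin n) (Fin n) F) = u := by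
      rw [Matrix.vecMul_vecMul, coe_mul_coe_inv, Matrix.vecMul_one]
    rw [h1, Matrix.zero_vecMul] at h3
    exact h3.symm
  have hfin : Module.finrank F (Fin n → F) = 2 * m := by
    rw [Module.finrank_fin_fun, hnm]
  obtain ⟨ι, hι⟩ := Cfsg.Agent.Lib.Helper13.exists_symp_coords
    (Matrix.toBilin' (g : Matrix (Fin n) (Fin n) F)) hA hnd m hfin
  refine isConjUnder_gr_of_map hn g (altGL e)
    ((LinearEquiv.funCongrLeft F F e : (Fin n → F) ≃ₗ[F] (Fin m ⊕ Fin m → F)).trans ι) 1 ?_
  intro u v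
  rw [Units.val_one, one_mul, bf_altGL, bf_eq_toBilin']
  exact hι (u ∘ e) (v ∘ e)

end alt

section finite

variable {n : ℕ} {F : Type*} [Field F] [Fintype F]

/-- over a finite field of odd order there are at most two isometry classes of nondegenerate
quadratic forms in each dimension -/
theorem two_classes (h2 : (2 : F) ≠ 0) (Qp Qm Q : QuadraticForm F (Fin n → F))
    (hp : (QuadraticMap.polarBilin Qp).Nondegenerate)
    (hm : (QuadraticMap.polarBilin Qm).Nondegenerate)
    (hQ : (QuadraticMap.polarBilin Q).Nondegenerate)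
    (hns : ¬ IsSquare ((gramStd ⇑Qp).det * (gramStd ⇑Qm).det)) :
    (∃ L : (Fin n → F) ≃ₗ[F] (Fin n → F), ∀ v, Qp (L v) = Q v) ∨
      (∃ L : (Fin n → F) ≃ₗ[F] (Fin n → F), ∀ v, Qm (L v) = Q v) := by
  classical
  have hchar : ringChar F ≠ 2 := by
    intro h
    apply h2
    have : ((2 : ℕ) : F) = 0 := by
      rw [← h]
      exact ringChar.Nat.cast_ringChar
    exact_mod_cast this
  have dp := (nondeg_iff_gramStd_det_ne_zero Qp).mp hp
  have dm := (nondeg_iff_gramStd_det_ne_zero Qm).mp hm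
  have dQ := (nondeg_iff_gramStd_det_ne_zero Q).mp hQ
  by_cases hs : IsSquare ((gramStd ⇑Q).det * (gramStd ⇑Qp).det)
  · left
    exact (Cfsg.Agent.S2623.result h2 Q Qp hQ hp).mpr hs
  · right
    apply (Cfsg.Agent.S2623.result h2 Q Qm hQ hm).mpr
    show IsSquare ((gramStd ⇑Q).det * (gramStd ⇑Qm).det)
    have h1 : quadraticChar F ((gramStd ⇑Q).det * (gramStd ⇑Qp).det) = -1 :=
      (quadraticChar_neg_one_iff_not_isSquare).mpr hs
    have h3 : quadraticChar F ((gramStd ⇑Qp).det * (gramStd ⇑Qm).det) = -1 :=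
      (quadraticChar_neg_one_iff_not_isSquare).mpr hns
    rw [map_mul] at h1 h3
    have h4 : quadraticChar F (gramStd ⇑Qp).det * quadraticChar F (gramStd ⇑Qp).det = 1 := by
      rw [← pow_two]
      exact quadraticChar_sq_one dp
    rw [← quadraticChar_one_iff_isSquare (mul_ne_zero dQ dm), map_mul]
    have : quadraticChar F (gramStd ⇑Q).det * quadraticChar F (gramStd ⇑Qm).det =
        (quadraticChar F (gramStd ⇑Q).det * quadraticChar F (gramStd ⇑Qp).det) *
          (quadraticChar F (gramStd ⇑Qp).det * quadraticChar F (gramStd ⇑Qm).det) *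
          (quadraticChar F (gramStd ⇑Qp).det * quadraticChar F (gramStd ⇑Qp).det) := by
      rw [h4]
      have h5 : (quadraticChar F (gramStd ⇑Q).det * quadraticChar F (gramStd ⇑Qp).det) *
          (quadraticChar F (gramStd ⇑Qp).det * quadraticChar F (gramStd ⇑Qm).det) =
          quadraticChar F (gramStd ⇑Q).det * quadraticChar F (gramStd ⇑Qm).det *
            (quadraticChar F (gramStd ⇑Qp).det * quadraticChar F (gramStd ⇑Qp).det) := by ring
      rw [h5, h4]
      ring
    rw [this, h1, h3, h4]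
    norm_num

/-- a monic quadratic `t² + t + ζ` without roots -/
theorem exists_no_root : ∃ ζ : F, ∀ t : F, t ^ 2 + t + ζ ≠ 0 := by
  classical
  have hni : ¬ Function.Injective (fun t : F => t ^ 2 + t) := by
    intro hinj
    have h1 : (0 : F) = -1 := hinj (by ring)
    have h2 : (1 : F) = 0 := by linear_combination h1
    exact one_ne_zero h2
  have hns : ¬ Function.Surjective (fun t : F => t ^ 2 + t) := fun hs =>
    hni (Finite.injective_iff_surjective.mpr hs)
  obtain ⟨b, hb⟩ := not_forall.mp hns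
  refine ⟨-b, fun t ht => hb ⟨t, ?_⟩⟩
  show t ^ 2 + t = b
  linear_combination ht

end finite

end Cfsg.Agent.Lib.Helper44.GraphInv
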