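import Mathlib
import Cfsg.Agent.Lib.Helper44.GraphInv3
import Cfsg.Agent.Lib.Helper44.OddQF

set_option autoImplicit false
set_option linter.unusedSectionVars false

/-!
# Involutory graph automorphisms of `PSL_n(F)`, `n` odd, `|F|` odd

All of them are conjugate under `Inndiag` to the graph automorphism of the (reindexed) standard
form `x₀² + Σ xᵢ yᵢ`, whose centraliser is `PGO`.
-/

namespace Cfsg.Agent.Lib.Helper44.GraphInv

open scoped MatrixGroups Matrix
open Matrix Cfsg.Agent.Lib.Helper43 Cfsg.Agent.Lib.Helper44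

section oddchar

variable {n : ℕ} {F : Type*} [Field F]

/-- in odd dimension an invertible matrix is not antisymmetric (characteristic not two) -/
theorem not_alt_of_odd (hn : Odd n) (h2 : (2 : F) ≠ 0) (g : GL (Fin n) F)
    (hg : (g : Matrix (Fin n) (Fin n) F)ᵀ = -(g : Matrix (Fin n) (Fin n) F)) : False := by
  have h1 := congrArg Matrix.det hg
  rw [Matrix.det_transpose, Matrix.det_neg, Fintype.card_fin, hn.neg_one_pow] at h1
  have h3 : (2 : F) * (g : Matrix (Fin n) (Fin n) F).det = 0 := by linear_combination h1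
  rcases mul_eq_zero.mp h3 with h4 | h4
  · exact h2 h4
  · exact ((Matrix.isUnit_iff_isUnit_det _).mp g.isUnit).ne_zero h4

theorem gramStd_smul (c : F) (Q : QuadraticForm F (Fin n → F)) :
    gramStd ⇑(c • Q) = c • gramStd ⇑Q := by
  ext i j
  rw [Matrix.smul_apply, gramStd_apply, gramStd_apply]
  show QuadraticMap.polar (c • ⇑Q) _ _ = _
  rw [QuadraticMap.polar_smul]

theorem smul_nondeg (c : F) (hc : c ≠ 0) (Q : QuadraticForm F (Fin n → F))
    (hQ : (QuadraticMap.polarBilin Q).Nondegenerate) :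
    (QuadraticMap.polarBilin (c • Q)).Nondegenerate := by
  rw [nondeg_iff_gramStd_det_ne_zero, gramStd_smul, Matrix.det_smul]
  exact mul_ne_zero (pow_ne_zero _ hc) ((nondeg_iff_gramStd_det_ne_zero Q).mp hQ)

/-- in odd dimension over a finite field of odd order, every graph automorphism of a symmetric
matrix is conjugate to the one of a fixed nondegenerate quadratic form -/
theorem isConjUnder_glGram_of_odd [Fintype F] (hn2 : 2 ≤ n) (hn : Odd n) (h2 : (2 : F) ≠ 0)
    (Q₀ : QuadraticForm F (Fin n → F)) (h₀ : (QuadraticMap.polarBilin Q₀).Nondegenerate)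
    (g : GL (Fin n) F)
    (hg : (g : Matrix (Fin n) (Fin n) F)ᵀ = (g : Matrix (Fin n) (Fin n) F)) :
    Cfsg.IsConjUnder (Cfsg.inndiagPSL n F) (gr (glGram Q₀ h₀)) (gr g) := by
  classical
  have hchar : ringChar F ≠ 2 := by
    intro h
    apply h2
    have : ((2 : ℕ) : F) = 0 := by
      rw [← h]
      exact ringChar.Nat.cast_ringChar
    exact_mod_cast this
  obtain ⟨ν, hν⟩ := FiniteField.exists_nonsquare hchar
  have hν0 : ν ≠ 0 := by
    rintro rfl
    exact hν ⟨0, by simp⟩
  have d₀ := (nondeg_iff_gramStd_det_ne_zero Q₀).mp h₀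
  have h₁ := smul_nondeg ν hν0 Q₀ h₀
  have hns : ¬ IsSquare ((gramStd ⇑Q₀).det * (gramStd ⇑(ν • Q₀)).det) := by
    rw [gramStd_smul, Matrix.det_smul, Fintype.card_fin]
    rintro ⟨s, hs⟩
    obtain ⟨k, hk⟩ := hn
    apply hν
    refine ⟨s / ((gramStd ⇑Q₀).det * ν ^ k), ?_⟩
    have hνk : ν ^ k ≠ 0 := pow_ne_zero _ hν0
    field_simp
    have : ν ^ n = ν * ν ^ k * ν ^ k := by
      rw [hk]
      ring
    rw [this] at hs
    linear_combination hs
  have hQ := symQ_nondeg h2 g hg
  have hgg := glGram_symQ h2 g hg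
  rcases two_classes h2 Q₀ (ν • Q₀) _ h₀ h₁ hQ hns with ⟨L, hL⟩ | ⟨L, hL⟩
  · have := isConjUnder_glGram_of_isometry hn2 _ Q₀ hQ h₀ L hL
    rw [hgg] at this
    exact this
  · refine isConjUnder_gr_of_map hn2 _ g L (Units.mk0 ν hν0)⁻¹ ?_
    intro u v
    have h3 := Cfsg.Agent.S2623.polar_isometry _ (ν • Q₀)
      (L : (Fin n → F) →ₗ[F] (Fin n → F)) hL u v
    rw [polar_symQ h2 _ hg] at h3
    have h4 : QuadraticMap.polar ⇑(ν • Q₀) (L u) (L v) =
        ν * QuadraticMap.polar ⇑Q₀ (L u) (L v) := by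
      show QuadraticMap.polar (ν • ⇑Q₀) _ _ = _
      rw [QuadraticMap.polar_smul, smul_eq_mul]
    rw [glGram_coe, bf_gramStd, Units.val_inv_eq_inv_val, Units.val_mk0, ← h3]
    show QuadraticMap.polar ⇑Q₀ (L u) (L v) = ν⁻¹ * QuadraticMap.polar ⇑(ν • Q₀) (L u) (L v)
    rw [h4, ← mul_assoc, inv_mul_cancel₀ hν0, one_mul]

end oddchar

end Cfsg.Agent.Lib.Helper44.GraphInv
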