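import Mathlib
import Cfsg.Agent.Lib.Helper44.GraphInv4
import Cfsg.Agent.Lib.Helper44.Transport
import Cfsg.Agent.Lib.Helper44.POmegaSimple
import Cfsg.Agent.Lib.Helper44.OddQF
import Cfsg.Agent.Lib.Helper36.LocalBalance.Abs2
import Cfsg.Agent.Lib.Helper36.POmegaAut
import Cfsg.Agent.S2617
import Cfsg.Agent.S2623

set_option autoImplicit false
set_option linter.unusedSimpArgs false
set_option linter.unusedVariables false
set_option linter.unusedSectionVars false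

/-!
# Transport of `PΩ(Q)` along similarities, and the standard forms in small dimension
-/

namespace Cfsg.Agent.Lib.Helper44.LB

open scoped MatrixGroups Matrix
open Matrix Cfsg.Agent.Lib.Helper36 Cfsg.Agent.Lib.Helper36.LocalBalance
  Cfsg.Agent.Lib.Helper44 Cfsg.Agent.Lib.Helper44.GraphInv

section transport

variable {ι ι' : Type} [Fintype ι] [DecidableEq ι] [Fintype ι'] [DecidableEq ι']
  {F : Type*} [Field F]

theorem isometryGroup_smul (Q : (ι → F) → F) (c : F) (hc : c ≠ 0) :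
    Cfsg.isometryGroup F (fun v => c * Q v) = Cfsg.isometryGroup F Q := by
  ext g
  rw [mem_isometryGroup_iff', mem_isometryGroup_iff']
  constructor
  · intro h v
    exact mul_left_cancel₀ hc (h v)
  · intro h v
    show c * Q _ = c * Q v
    rw [h v]

/-- isomorphic isometry groups have isomorphic `PΩ` -/
theorem pomega_equiv_of_iso (Q : (ι → F) → F) (Q' : (ι' → F) → F)
    (e : ↥(Cfsg.isometryGroup F Q) ≃* ↥(Cfsg.isometryGroup F Q')) :
    Nonempty (Cfsg.POmega F Q ≃* Cfsg.POmega F Q') :=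
  ⟨quotCenterCongr (commutatorCongr e)⟩

/-- a similarity `Q' (T v) = c Q v` induces `PΩ(Q) ≃ PΩ(Q')` -/
theorem pomega_equiv_of_sim (Q : (ι → F) → F) (Q' : (ι' → F) → F)
    (T : (ι → F) ≃ₗ[F] (ι' → F)) (c : F) (hc : c ≠ 0) (hT : ∀ v, Q' (T v) = c * Q v) :
    Nonempty (Cfsg.POmega F Q ≃* Cfsg.POmega F Q') := by
  have e₁ : ↥(Cfsg.isometryGroup F Q) ≃* ↥(Cfsg.isometryGroup F (fun v => c * Q v)) :=
    MulEquiv.subgroupCongr (isometryGroup_smul Q c hc).symm
  have e₂ := conjIso T (fun v => c * Q v) Q' hT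
  exact pomega_equiv_of_iso Q Q' (e₁.trans e₂)

/-- `Ω` as a subgroup of `GL` modulo its centre is `PΩ` -/
theorem omegaGL_quot_equiv (Q : (ι → F) → F) :
    Nonempty (↥(OmegaGL Q) ⧸ Subgroup.center ↥(OmegaGL Q) ≃* Cfsg.POmega F Q) := by
  have e : ↥(Cfsg.Omega F Q) ≃* ↥(OmegaGL Q) :=
    (Cfsg.Omega F Q).equivMapOfInjective (Cfsg.isometryGroup F Q).subtype
      (Subgroup.subtype_injective _)
  exact ⟨quotCenterCongr e.symm⟩

/-- transport of the `no normal 2'-subgroup` property -/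
theorem noNormal_OmegaGL_of_sim (Q : (ι → F) → F) (Q' : (ι' → F) → F)
    (T : (ι → F) ≃ₗ[F] (ι' → F)) (c : F) (hc : c ≠ 0) (hT : ∀ v, Q' (T v) = c * Q v)
    (p : ℕ)
    (h : ∀ M : Subgroup (Cfsg.POmega F Q'), M.Normal → (Nat.card ↥M).Coprime p → M = ⊥) :
    ∀ M : Subgroup (↥(OmegaGL Q) ⧸ Subgroup.center ↥(OmegaGL Q)), M.Normal →
      (Nat.card ↥M).Coprime p → M = ⊥ := by
  obtain ⟨e₁⟩ := omegaGL_quot_equiv Q
  obtain ⟨e₂⟩ := pomega_equiv_of_sim Q Q' T c hc hT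
  exact noNormal_of_equiv (e₁.trans e₂) p h

end transport

section classify

variable {n : ℕ} {F : Type*} [Field F]

/-- the minus form `Σ xᵢyᵢ + z₁² + z₁z₂ + ζ z₂²` is nondegenerate in odd characteristic -/
theorem minus_nondeg' (h2 : (2 : F) ≠ 0) (k : ℕ) (ζ : F)
    (hζ : ∀ t : F, t ^ 2 + t + ζ ≠ 0) :
    (QuadraticMap.polarBilin (minusQF k F 1 ζ)).Nondegenerate := by
  rw [nondeg_iff_gramStd_det_ne_zero, gramStd_minusQF_det]
  have h1 := (nondeg_iff_gramStd_det_ne_zero (hypQF k F)).mp hypQF_nondeg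
  apply mul_ne_zero h1
  intro h3
  apply hζ (-(2⁻¹ : F))
  have h4 : (2 : F) * 2⁻¹ = 1 := mul_inv_cancel₀ h2
  have h5 : (4 : F) * ζ = 1 := by linear_combination h3
  have h6 : ζ = 2⁻¹ * 2⁻¹ := by
    have : (4 : F) * (2⁻¹ * 2⁻¹) = 1 := by linear_combination (2 * 2⁻¹ + 1) * h4
    have h4ne : (4 : F) ≠ 0 := by
      have : (4 : F) = 2 * 2 := by norm_num
      rw [this]
      exact mul_ne_zero h2 h2
    exact mul_left_cancel₀ h4ne (h5.trans this.symm)
  rw [h6]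
  linear_combination (2⁻¹ : F) * h4

/-- odd dimension: every nondegenerate form is similar to the standard one -/
theorem exists_std_odd [Fintype F] (h2 : (2 : F) ≠ 0) {m : ℕ} (hnm : n = 2 * m + 1)
    (Q : QuadraticForm F (Fin n → F)) (hQ : (QuadraticMap.polarBilin Q).Nondegenerate) :
    ∃ (T : (Fin n → F) ≃ₗ[F] (Unit ⊕ (Fin m ⊕ Fin m) → F)) (c : F), c ≠ 0 ∧
      ∀ v, Cfsg.quadFormOdd m F (T v) = c * Q v := by
  classical
  have hchar : ringChar F ≠ 2 := by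
    intro h
    apply h2
    have : ((2 : ℕ) : F) = 0 := by
      rw [← h]
      exact ringChar.Nat.cast_ringChar
    exact_mod_cast this
  obtain ⟨ν, hν⟩ := FiniteField.exists_nonsquare hchar
  have hν0 : ν ≠ 0 := by
    rintro rfl
    exact hν ⟨0, by simp⟩
  have e : Unit ⊕ (Fin m ⊕ Fin m) ≃ Fin n :=
    (Equiv.sumCongr (Fintype.equivFin Unit) finSumFinEquiv).trans
      (finSumFinEquiv.trans (finCongr (by
        have : Fintype.card Unit = 1 := Fintype.card_unit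
        omega)))
  set Q₀ : QuadraticForm F (Fin n → F) := reQ e (oddQF m F) with hQ₀
  have h₀ : (QuadraticMap.polarBilin Q₀).Nondegenerate := reQ_nondeg e _ (oddQF_nondeg m F h2)
  have hn : Odd n := ⟨m, hnm⟩
  have h₁ := smul_nondeg ν hν0 Q₀ h₀
  have hns : ¬ IsSquare ((gramStd ⇑Q₀).det * (gramStd ⇑(ν • Q₀)).det) := by
    rw [gramStd_smul, Matrix.det_smul, Fintype.card_fin]
    rintro ⟨s, hs⟩
    obtain ⟨k, hk⟩ := hn
    apply hν
    refine ⟨s / ((gramStd ⇑Q₀).det * ν ^ k), ?_⟩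
    have hνk : ν ^ k ≠ 0 := pow_ne_zero _ hν0
    have d₀ := (nondeg_iff_gramStd_det_ne_zero Q₀).mp h₀
    field_simp
    have : ν ^ n = ν * ν ^ k * ν ^ k := by
      rw [hk]
      ring
    rw [this] at hs
    linear_combination hs
  have key : ∀ (c : F), c ≠ 0 → (∃ L : (Fin n → F) ≃ₗ[F] (Fin n → F), ∀ v, c * Q₀ (L v) = Q v) →
      ∃ (T : (Fin n → F) ≃ₗ[F] (Unit ⊕ (Fin m ⊕ Fin m) → F)) (c : F), c ≠ 0 ∧
        ∀ v, Cfsg.quadFormOdd m F (T v) = c * Q v := by
    rintro c hc ⟨L, hL⟩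
    refine ⟨L.trans (LinearEquiv.funCongrLeft F F e), c⁻¹, inv_ne_zero hc, ?_⟩
    intro v
    rw [← hL v, ← mul_assoc, inv_mul_cancel₀ hc, one_mul, hQ₀, reQ_apply, oddQF_coe]
    rfl
  rcases two_classes h2 Q₀ (ν • Q₀) Q h₀ h₁ hQ hns with ⟨L, hL⟩ | ⟨L, hL⟩
  · exact key 1 one_ne_zero ⟨L, fun v => by rw [one_mul]; exact hL v⟩
  · exact key ν hν0 ⟨L, fun v => hL v⟩

/-- even dimension: every nondegenerate form is isometric to the plus or the minus form -/
theorem exists_std_even [Fintype F] (h2 : (2 : F) ≠ 0) {m : ℕ} (hm : 1 ≤ m) (hnm : n = 2 * m)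
    (Q : QuadraticForm F (Fin n → F)) (hQ : (QuadraticMap.polarBilin Q).Nondegenerate) :
    (∃ T : (Fin n → F) ≃ₗ[F] (Fin m ⊕ Fin m → F), ∀ v, Cfsg.quadFormPlus m F (T v) = Q v) ∨
    (∃ (a b : F), (∀ z₁ z₂ : F, z₁ ^ 2 + a * z₁ * z₂ + b * z₂ ^ 2 = 0 → z₁ = 0 ∧ z₂ = 0) ∧
      ∃ T : (Fin n → F) ≃ₗ[F] ((Fin (m - 1) ⊕ Fin (m - 1)) ⊕ Fin 2 → F),
        ∀ v, Cfsg.quadFormMinus (m - 1) F a b (T v) = Q v) := by
  classical
  obtain ⟨ζ, hζ⟩ := exists_no_root (F := F)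
  have e : Fin m ⊕ Fin m ≃ Fin n := finSumFinEquiv.trans (finCongr (by omega))
  have e' : (Fin (m - 1) ⊕ Fin (m - 1)) ⊕ Fin 2 ≃ Fin n :=
    (Equiv.sumCongr finSumFinEquiv (Equiv.refl _)).trans
      (finSumFinEquiv.trans (finCongr (by omega)))
  set Qp : QuadraticForm F (Fin n → F) := reQ e (hypQF m F) with hQp
  set Qm : QuadraticForm F (Fin n → F) := reQ e' (minusQF (m - 1) F 1 ζ) with hQm
  have hp : (QuadraticMap.polarBilin Qp).Nondegenerate := reQ_nondeg e _ hypQF_nondeg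
  have hmn : (QuadraticMap.polarBilin Qm).Nondegenerate :=
    reQ_nondeg e' _ (minus_nondeg' h2 (m - 1) ζ hζ)
  have hns : ¬ IsSquare ((gramStd ⇑Qp).det * (gramStd ⇑Qm).det) := by
    intro hs
    obtain ⟨L, hL⟩ := (Cfsg.Agent.S2623.result h2 Qp Qm hp hmn).mpr hs
    refine Cfsg.Agent.S2617.result hm ζ hζ
      ((LinearEquiv.funCongrLeft F F e).symm.trans
        (L.trans (LinearEquiv.funCongrLeft F F e'))) ?_
    intro v
    have h1 := hL ((LinearEquiv.funCongrLeft F F e).symm v)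
    rw [hQp, hQm, reQ_apply, reQ_apply] at h1
    have h3 : ((LinearEquiv.funCongrLeft F F e).symm v) ∘ e = v :=
      (LinearEquiv.funCongrLeft F F e).apply_symm_apply v
    rw [h3, minusQF_coe, hypQF_apply] at h1
    exact h1
  rcases two_classes h2 Qp Qm Q hp hmn hQ hns with ⟨L, hL⟩ | ⟨L, hL⟩
  · left
    refine ⟨L.trans (LinearEquiv.funCongrLeft F F e), fun v => ?_⟩
    rw [← hL v, hQp, reQ_apply, hypQF_apply]
    rfl
  · right
    refine ⟨1, ζ, ?_, L.trans (LinearEquiv.funCongrLeft F F e'), fun v => ?_⟩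
    · intro z₁ z₂ hz
      by_cases hz2 : z₂ = 0
      · subst hz2
        refine ⟨?_, rfl⟩
        have : z₁ ^ 2 = 0 := by linear_combination hz
        exact pow_eq_zero_iff (two_ne_zero) |>.mp this
      · exfalso
        apply hζ (z₁ / z₂)
        field_simp
        linear_combination hz
    · rw [← hL v, hQm, reQ_apply, minusQF_coe]
      rfl

end classify

end Cfsg.Agent.Lib.Helper44.LB
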