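import Mathlib
import Cfsg.Agent.Lib.Helper44.LBSmall
import Cfsg.Agent.Lib.Helper44.POmegaOrder
import Cfsg.Agent.Lib.Helper36.LocalBalance.SmallOmega
import Cfsg.Agent.Lib.Helper43.OmegaEven

set_option autoImplicit false
set_option linter.unusedSimpArgs false
set_option linter.unusedVariables false
set_option linter.unusedSectionVars false

/-!
# `PΩ(Q)` has no non-trivial normal subgroup of odd order (`dim ≥ 3`, `q` odd)
-/

namespace Cfsg.Agent.Lib.Helper44.LB

open scoped MatrixGroups Matrix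
open Matrix Cfsg.Agent.Lib.Helper36 Cfsg.Agent.Lib.Helper36.LocalBalance
  Cfsg.Agent.Lib.Helper44 Cfsg.Agent.Lib.Helper44.GraphInv Cfsg.Agent.Lib.Helper43

variable {n : ℕ} {F : Type*} [Field F]

theorem odd_card_of_two_ne_zero [Fintype F] (h2 : (2 : F) ≠ 0) : Odd (Fintype.card F) := by
  have hchar : ringChar F ≠ 2 := by
    intro h
    apply h2
    have : ((2 : ℕ) : F) = 0 := by
      rw [← h]
      exact ringChar.Nat.cast_ringChar
    exact_mod_cast this
  exact Nat.odd_iff.mpr (FiniteField.odd_card_of_char_ne_two hchar)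

/-- **(L-O)**: `Ω(Q)/Z` has no non-trivial normal subgroup of odd order -/
theorem noNormal_OmegaGL [Fintype F] [DecidableEq F] (h2 : (2 : F) ≠ 0) (hn : 3 ≤ n)
    (Q : QuadraticForm F (Fin n → F)) (hQ : (QuadraticMap.polarBilin Q).Nondegenerate) :
    ∀ M : Subgroup (↥(OmegaGL ⇑Q) ⧸ Subgroup.center ↥(OmegaGL ⇑Q)), M.Normal →
      (Nat.card ↥M).Coprime 2 → M = ⊥ := by
  have : Fact (Nat.Prime 2) := ⟨Nat.prime_two⟩
  have hodd := odd_card_of_two_ne_zero h2
  by_cases h7 : 7 ≤ n
  · -- simple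
    have hs : IsSimpleGroup (Cfsg.POmega F (⇑Q)) :=
      POmega_simple Q hQ (by rw [Fintype.card_fin]; exact h7)
    have hev : 2 ∣ Nat.card (Cfsg.POmega F (⇑Q)) :=
      two_dvd_card_POmega h2 (by rw [Fintype.card_fin]; exact hn) Q hQ
    obtain ⟨e₁⟩ := omegaGL_quot_equiv (⇑Q)
    exact noNormal_of_equiv e₁ 2 (fun M hM hc => noNormal_of_simple 2 hev M hM hc)
  · have hcases : n = 3 ∨ n = 4 ∨ n = 5 ∨ n = 6 := by omega
    rcases hcases with rfl | rfl | rfl | rfl
    · obtain ⟨T, c, hc, hT⟩ := exists_std_odd h2 (m := 1) (by norm_num) Q hQ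
      refine noNormal_OmegaGL_of_sim (⇑Q) _ T c hc hT 2 ?_
      have hev : 2 ∣ Nat.card (Cfsg.POmega F (Cfsg.quadFormOdd 1 F)) := by
        have := two_dvd_card_POmega h2 (by simp) (oddQF 1 F) (oddQF_nondeg 1 F h2)
        rwa [oddQF_coe] at this
      exact fun M hM hc => noNormal_std_odd_one hodd hev M hM hc
    · rcases exists_std_even h2 (m := 2) (by norm_num) (by norm_num) Q hQ with
        ⟨T, hT⟩ | ⟨a, b, hab, T, hT⟩
      · refine noNormal_OmegaGL_of_sim (⇑Q) _ T 1 one_ne_zero
          (fun v => by rw [one_mul]; exact hT v) 2 ?_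
        have hev : 2 ∣ Nat.card (Cfsg.POmega F (Cfsg.quadFormPlus 2 F)) :=
          two_dvd_card_POmega h2 (by simp) (hypQF 2 F) hypQF_nondeg
        exact fun M hM hc => noNormal_std_plus_two hodd hev M hM hc
      · refine noNormal_OmegaGL_of_sim (⇑Q) _ T 1 one_ne_zero
          (fun v => by rw [one_mul]; exact hT v) 2 ?_
        have hev : 2 ∣ Nat.card (Cfsg.POmega F (Cfsg.quadFormMinus 1 F a b)) := by
          have := two_dvd_card_POmega h2 (by simp) (minusQF 1 F a b)
            (minusQF_nondeg_of_aniso 1 a b hab)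
          rwa [minusQF_coe] at this
        exact fun M hM hc => noNormal_std_minus_one hodd a b hab hev M hM hc
    · obtain ⟨T, c, hc, hT⟩ := exists_std_odd h2 (m := 2) (by norm_num) Q hQ
      refine noNormal_OmegaGL_of_sim (⇑Q) _ T c hc hT 2 ?_
      have hev : 2 ∣ Nat.card (Cfsg.POmega F (Cfsg.quadFormOdd 2 F)) := by
        have := two_dvd_card_POmega h2 (by simp) (oddQF 2 F) (oddQF_nondeg 2 F h2)
        rwa [oddQF_coe] at this
      exact fun M hM hc => noNormal_std_odd_two hodd hev M hM hc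
    · rcases exists_std_even h2 (m := 3) (by norm_num) (by norm_num) Q hQ with
        ⟨T, hT⟩ | ⟨a, b, hab, T, hT⟩
      · refine noNormal_OmegaGL_of_sim (⇑Q) _ T 1 one_ne_zero
          (fun v => by rw [one_mul]; exact hT v) 2 ?_
        have hev : 2 ∣ Nat.card (Cfsg.POmega F (Cfsg.quadFormPlus 3 F)) :=
          two_dvd_card_POmega h2 (by simp) (hypQF 3 F) hypQF_nondeg
        exact fun M hM hc => noNormal_std_plus_three hev M hM hc
      · refine noNormal_OmegaGL_of_sim (⇑Q) _ T 1 one_ne_zero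
          (fun v => by rw [one_mul]; exact hT v) 2 ?_
        have hev : 2 ∣ Nat.card (Cfsg.POmega F (Cfsg.quadFormMinus 2 F a b)) := by
          have := two_dvd_card_POmega h2 (by simp) (minusQF 2 F a b)
            (minusQF_nondeg_of_aniso 2 a b hab)
          rwa [minusQF_coe] at this
        exact fun M hM hc => noNormal_std_minus_two a b hab hev M hM hc

end Cfsg.Agent.Lib.Helper44.LB
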