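import Mathlib
import Cfsg.Agent.Lib.Helper94.SPMD.Defs

/-!
# Project SPMD (helper94), module SPMD-[Q-PRIM]: every additive character of a finite field is a shift
of a primitive one
-/

set_option autoImplicit false
set_option linter.unusedSectionVars false

namespace Cfsg.Agent.Lib.Helper94.SPMD

open Matrix Module

section Q
variable {F : Type*} [Field F] [Fintype F] {n : ℕ}

/-- **[Q-PRIM]** every additive character of a finite field is a shift of a primitive one -/
theorem exists_mulShift_eq (ψ : AddChar F ℂ) (hψ : ψ.IsPrimitive) (θ' : AddChar F ℂ) :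
    ∃ a : F, ∀ c, θ' c = ψ (a * c) := by
  classical
  have hinj : Function.Injective ψ.mulShift := AddChar.to_mulShift_inj_of_isPrimitive hψ
  have hbij : Function.Bijective ψ.mulShift := by
    rw [Fintype.bijective_iff_injective_and_card]
    exact ⟨hinj, AddChar.card_eq.symm⟩
  obtain ⟨a, ha⟩ := hbij.2 θ'
  exact ⟨a, fun c => by rw [← ha, AddChar.mulShift_apply]⟩

/-- **[Q-PRIM]** -/
theorem mulShift_inj (ψ : AddChar F ℂ) (hψ : ψ.IsPrimitive) (a b : F)
    (h : ∀ c, ψ (a * c) = ψ (b * c)) : a = b := by
  apply AddChar.to_mulShift_inj_of_isPrimitive hψ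
  ext c
  rw [AddChar.mulShift_apply, AddChar.mulShift_apply]
  exact h c

end Q

end Cfsg.Agent.Lib.Helper94.SPMD
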