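import Mathlib
import Cfsg.Agent.Lib.Helper94.SPMD.Defs
import Cfsg.Agent.Lib.Helper44.SpmdQPrim

/-!
# Project SPMD (helper94), modules SPMD-[Q-EQV], SPMD-[Q-POL]
-/

set_option autoImplicit false
set_option linter.unusedSectionVars false

namespace Cfsg.Agent.Lib.Helper94.SPMD

open Matrix Module

namespace H44

section ids
variable {F : Type*} [Field F] {n : ℕ}

theorem congrS_symm_rk1 (A : GL (Fin n) F) (c : F) (x : Fin n → F) :
    (congrS A).symm (rk1 c x) = rk1 c (((A⁻¹ : GL (Fin n) F) : Matrix (Fin n) (Fin n) F) *ᵥ x) := by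
  rw [AddEquiv.symm_apply_eq, congrS_rk1, Matrix.mulVec_mulVec, ← Units.val_mul, mul_inv_cancel,
    Units.val_one, Matrix.one_mulVec]

theorem rk2_single_apply (c : F) (p : Fin n × Fin n) (a b : Fin n) :
    ((rk2 c (Pi.single p.1 (1 : F)) (Pi.single p.2 (1 : F)) : ↥(symAdd n F)) :
        Matrix (Fin n) (Fin n) F) a b =
      c * ((if a = p.1 then 1 else 0) * (if b = p.2 then 1 else 0) +
        (if a = p.2 then 1 else 0) * (if b = p.1 then 1 else 0)) := by
  rw [rk2_coe]
  simp only [Matrix.smul_apply, Matrix.add_apply, Matrix.vecMulVec_apply, Pi.single_apply, smul_eq_mul]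

/-- an alternating matrix is the sum of its rank-two pieces -/
theorem alt_decomp (S : ↥(symAdd n F)) (hS : S ∈ altAdd n F) :
    S = ∑ p ∈ (Finset.univ : Finset (Fin n × Fin n)).filter (fun p => p.1 < p.2),
      rk2 ((S : Matrix (Fin n) (Fin n) F) p.1 p.2) (Pi.single p.1 (1 : F)) (Pi.single p.2 (1 : F)) := by
  apply Subtype.ext
  rw [AddSubgroup.val_finsetSum]
  ext a b
  rw [Matrix.sum_apply]
  simp only [rk2_single_apply]
  have hsym : ∀ i j, (S : Matrix (Fin n) (Fin n) F) i j = (S : Matrix (Fin n) (Fin n) F) j i := by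
    intro i j
    have := congrFun (congrFun (symAdd_transpose S) j) i
    rw [Matrix.transpose_apply] at this
    exact this
  rcases lt_trichotomy a b with hab | hab | hab
  · rw [Finset.sum_eq_single (a, b)]
    · simp [hab.ne, hab.ne']
    · intro p hp hne
      rw [Finset.mem_filter] at hp
      have h1 : ¬ (a = p.1 ∧ b = p.2) := fun h => hne (Prod.ext h.1.symm h.2.symm)
      have h2 : ¬ (a = p.2 ∧ b = p.1) := fun h => by
        have := hp.2
        rw [← h.1, ← h.2] at this
        exact absurd this (not_lt.2 hab.le)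
      by_cases ha1 : a = p.1 <;> by_cases hb2 : b = p.2 <;> by_cases ha2 : a = p.2 <;>
        by_cases hb1 : b = p.1 <;> simp_all
    · intro h
      exact (h (Finset.mem_filter.2 ⟨Finset.mem_univ _, hab⟩)).elim
  · subst hab
    rw [(mem_altAdd S).1 hS a]
    symm
    apply Finset.sum_eq_zero
    intro p hp
    rw [Finset.mem_filter] at hp
    have h1 : ¬ (a = p.1 ∧ a = p.2) := fun h => by
      have := hp.2
      rw [← h.1, ← h.2] at this
      exact lt_irrefl _ this
    by_cases ha1 : a = p.1 <;> by_cases ha2 : a = p.2 <;> simp_all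
  · rw [Finset.sum_eq_single (b, a)]
    · simp [hab.ne, hab.ne', hsym a b]
    · intro p hp hne
      rw [Finset.mem_filter] at hp
      have h1 : ¬ (a = p.2 ∧ b = p.1) := fun h => hne (Prod.ext h.2.symm h.1.symm)
      have h2 : ¬ (a = p.1 ∧ b = p.2) := fun h => by
        have := hp.2
        rw [← h.1, ← h.2] at this
        exact absurd this (not_lt.2 hab.le)
      by_cases ha1 : a = p.1 <;> by_cases hb2 : b = p.2 <;> by_cases ha2 : a = p.2 <;>
        by_cases hb1 : b = p.1 <;> simp_all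
    · intro h
      exact (h (Finset.mem_filter.2 ⟨Finset.mem_univ _, hab⟩)).elim

end ids

end H44

section Q
variable {F : Type*} [Field F] [Fintype F] {n : ℕ}

open H44 in
/-- **[Q-EQV]** equivariance -/
theorem quadForm_equivariant (ψ : AddChar F ℂ) (hψ : ψ.IsPrimitive) (θ : AddChar ↥(symAdd n F) ℂ)
    (A : GL (Fin n) F) (Q Q' : QuadraticForm F (Fin n → F))
    (hQ : ∀ c x, θ (rk1 c x) = ψ (c * Q x))
    (hQ' : ∀ c x, actT A θ (rk1 c x) = ψ (c * Q' x)) : Q' = actQ A Q := by
  ext x
  rw [actQ_apply]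
  apply mulShift_inj ψ hψ
  intro c
  rw [mul_comm, ← hQ', actT_apply, congrS_symm_rk1, hQ, mul_comm]

open H44 in
/-- **[Q-POL]** a character non-trivial on the alternating matrices has a non-zero polar form -/
theorem polar_ne_zero (ψ : AddChar F ℂ) (θ : AddChar ↥(symAdd n F) ℂ)
    (Q : QuadraticForm F (Fin n → F))
    (hB : ∀ c x y, θ (rk2 c x y) = ψ (c * QuadraticMap.polar Q x y))
    (hθ : ∃ S ∈ altAdd n F, θ S ≠ 1) : ∃ x y, QuadraticMap.polar Q x y ≠ 0 := by
  by_contra hcon
  push Not at hcon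
  obtain ⟨S, hS, hθS⟩ := hθ
  apply hθS
  have h1 : ∀ c x y, θ (rk2 c x y) = 1 := by
    intro c x y
    rw [hB, hcon, mul_zero, AddChar.map_zero_eq_one]
  rw [alt_decomp S hS]
  refine Finset.sum_induction _ (fun T => θ T = 1) ?_ (AddChar.map_zero_eq_one θ) ?_
  · intro a b ha hb
    show θ (a + b) = 1
    rw [AddChar.map_add_eq_mul, ha, hb, mul_one]
  · intro p _
    exact h1 _ _ _

end Q

end Cfsg.Agent.Lib.Helper94.SPMD
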