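import Mathlib
import Cfsg.Agent.Lib.Helper94.SPMD.Defs
import Cfsg.Agent.Lib.Helper44.SpmdQPrim

/-!
# Project SPMD (helper94), module SPMD-[Q-FORM]: the quadratic form of an additive character of the
symmetric matrices
-/

set_option autoImplicit false
set_option linter.unusedSectionVars false

namespace Cfsg.Agent.Lib.Helper94.SPMD

open Matrix Module

namespace H44

section ids
variable {F : Type*} [Field F] {n : ℕ}

theorem rk1_add_coeff (c c' : F) (x : Fin n → F) : rk1 (c + c') x = rk1 c x + rk1 c' x := by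
  apply Subtype.ext
  rw [AddSubgroup.coe_add, rk1_coe, rk1_coe, rk1_coe, add_smul]

theorem rk1_zero_coeff (x : Fin n → F) : rk1 (0 : F) x = 0 := by
  apply Subtype.ext
  rw [rk1_coe, zero_smul]
  rfl

theorem rk2_add_coeff (c c' : F) (x y : Fin n → F) : rk2 (c + c') x y = rk2 c x y + rk2 c' x y := by
  apply Subtype.ext
  rw [AddSubgroup.coe_add, rk2_coe, rk2_coe, rk2_coe, add_smul]

theorem rk2_zero_coeff (x y : Fin n → F) : rk2 (0 : F) x y = 0 := by
  apply Subtype.ext
  rw [rk2_coe, zero_smul]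
  rfl

theorem rk1_smul_vec (c l : F) (x : Fin n → F) : rk1 c (l • x) = rk1 (c * (l * l)) x := by
  apply Subtype.ext
  rw [rk1_coe, rk1_coe]
  ext i j
  simp only [Matrix.smul_apply, Matrix.vecMulVec_apply, Pi.smul_apply, smul_eq_mul]
  ring

theorem rk1_add_vec (c : F) (x y : Fin n → F) :
    rk1 c (x + y) = rk1 c x + rk1 c y + rk2 c x y := by
  apply Subtype.ext
  rw [AddSubgroup.coe_add, AddSubgroup.coe_add, rk1_coe, rk1_coe, rk1_coe, rk2_coe]
  ext i j
  simp only [Matrix.smul_apply, Matrix.add_apply, Matrix.vecMulVec_apply, Pi.add_apply, smul_eq_mul]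
  ring

theorem rk2_add_left (c : F) (x x' y : Fin n → F) :
    rk2 c (x + x') y = rk2 c x y + rk2 c x' y := by
  apply Subtype.ext
  rw [AddSubgroup.coe_add, rk2_coe, rk2_coe, rk2_coe]
  ext i j
  simp only [Matrix.smul_apply, Matrix.add_apply, Matrix.vecMulVec_apply, Pi.add_apply, smul_eq_mul]
  ring

theorem rk2_smul_left (c l : F) (x y : Fin n → F) : rk2 c (l • x) y = rk2 (c * l) x y := by
  apply Subtype.ext
  rw [rk2_coe, rk2_coe]
  ext i j
  simp only [Matrix.smul_apply, Matrix.add_apply, Matrix.vecMulVec_apply, Pi.smul_apply, smul_eq_mul]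
  ring

theorem rk2_comm (c : F) (x y : Fin n → F) : rk2 c x y = rk2 c y x := by
  apply Subtype.ext
  rw [rk2_coe, rk2_coe, add_comm]

/-- the additive character `c ↦ θ (rk1 c x)` -/
noncomputable def char1 (θ : AddChar ↥(symAdd n F) ℂ) (x : Fin n → F) : AddChar F ℂ where
  toFun c := θ (rk1 c x)
  map_zero_eq_one' := by rw [rk1_zero_coeff, AddChar.map_zero_eq_one]
  map_add_eq_mul' c c' := by rw [rk1_add_coeff, AddChar.map_add_eq_mul]

/-- the additive character `c ↦ θ (rk2 c x y)` -/
noncomputable def char2 (θ : AddChar ↥(symAdd n F) ℂ) (x y : Fin n → F) : AddChar F ℂ where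
  toFun c := θ (rk2 c x y)
  map_zero_eq_one' := by rw [rk2_zero_coeff, AddChar.map_zero_eq_one]
  map_add_eq_mul' c c' := by rw [rk2_add_coeff, AddChar.map_add_eq_mul]

end ids

end H44

section Q
variable {F : Type*} [Field F] [Fintype F] {n : ℕ}

open H44 in
/-- **[Q-FORM]** the quadratic form of an additive character of the symmetric matrices -/
theorem exists_quadForm (ψ : AddChar F ℂ) (hψ : ψ.IsPrimitive) (θ : AddChar ↥(symAdd n F) ℂ) :
    ∃ Q : QuadraticForm F (Fin n → F), (∀ c x, θ (rk1 c x) = ψ (c * Q x)) ∧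
      (∀ c x y, θ (rk2 c x y) = ψ (c * QuadraticMap.polar Q x y)) := by
  classical
  -- the values
  have hq : ∀ x : Fin n → F, ∃ a : F, ∀ c, θ (rk1 c x) = ψ (a * c) := fun x =>
    exists_mulShift_eq ψ hψ (char1 θ x)
  have hb : ∀ x y : Fin n → F, ∃ a : F, ∀ c, θ (rk2 c x y) = ψ (a * c) := fun x y =>
    exists_mulShift_eq ψ hψ (char2 θ x y)
  choose q hq using hq
  choose b hb using hb
  have hinj : ∀ a a' : F, (∀ c, ψ (a * c) = ψ (a' * c)) → a = a' := mulShift_inj ψ hψ
  -- identities
  have q_smul : ∀ (l : F) (x : Fin n → F), q (l • x) = (l * l) • q x := by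
    intro l x
    apply hinj
    intro c
    rw [← hq, rk1_smul_vec, hq, smul_eq_mul]
    congr 1
    ring
  have b_add_left : ∀ x x' y, b (x + x') y = b x y + b x' y := by
    intro x x' y
    apply hinj
    intro c
    rw [← hb, rk2_add_left, AddChar.map_add_eq_mul, hb, hb, add_mul, AddChar.map_add_eq_mul]
  have b_smul_left : ∀ (l : F) x y, b (l • x) y = l • b x y := by
    intro l x y
    apply hinj
    intro c
    rw [← hb, rk2_smul_left, hb, smul_eq_mul]
    congr 1
    ring
  have b_comm : ∀ x y, b x y = b y x := by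
    intro x y
    apply hinj
    intro c
    rw [← hb, rk2_comm, hb]
  have q_add : ∀ x y, q (x + y) = q x + q y + b x y := by
    intro x y
    apply hinj
    intro c
    rw [← hq, rk1_add_vec, AddChar.map_add_eq_mul, AddChar.map_add_eq_mul, hq, hq, hb, add_mul, add_mul,
      AddChar.map_add_eq_mul, AddChar.map_add_eq_mul]
  let B : LinearMap.BilinMap F (Fin n → F) F :=
    LinearMap.mk₂ F b b_add_left b_smul_left
      (fun x y y' => by rw [b_comm x (y + y'), b_add_left, b_comm y x, b_comm y' x])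
      (fun l x y => by rw [b_comm x (l • y), b_smul_left, b_comm y x])
  let Q : QuadraticForm F (Fin n → F) :=
    { toFun := q
      toFun_smul := q_smul
      exists_companion' := ⟨B, fun x y => q_add x y⟩ }
  have hQ : ∀ x, Q x = q x := fun _ => rfl
  refine ⟨Q, ?_, ?_⟩
  · intro c x
    rw [hq, hQ, mul_comm]
  · intro c x y
    have hpol : QuadraticMap.polar Q x y = b x y := by
      unfold QuadraticMap.polar
      rw [hQ, hQ, hQ, q_add]
      ring
    rw [hb, hpol, mul_comm]

end Q

end Cfsg.Agent.Lib.Helper94.SPMD
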