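import Mathlib
import Cfsg.Agent.Lib.Helper40.LieBound

/-!
# S2363 module [EXC-B] (helper44): the order bounds for `E₆(q)`, `E₇(q)`, `²E₆(q)`
-/

set_option autoImplicit false

namespace Cfsg.Agent.Lib.Helper44.LieBoundExcB

open Cfsg.Agent.Lib.Helper40.LieBound

theorem not_dvd_mul' {p a b : ℕ} (hp : p.Prime) (ha : ¬ p ∣ a) (hb : ¬ p ∣ b) : ¬ p ∣ a * b := by
  intro h
  rcases (Nat.Prime.dvd_mul hp).mp h with h | h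
  · exact ha h
  · exact hb h

theorem two_le_pow {p f : ℕ} (hp : p.Prime) (hf : 1 ≤ f) : 2 ≤ p ^ f :=
  calc 2 ≤ p := hp.two_le
    _ = p ^ 1 := (pow_one p).symm
    _ ≤ p ^ f := Nat.pow_le_pow_right hp.pos hf

theorem lt_gcd_mul {d M B : ℕ} (hd : 0 < d) (h : M < B) : M < d * B :=
  lt_of_lt_of_le h (Nat.le_mul_of_pos_left B hd)

theorem e6_bound {p f q g : ℕ} (hp : p.Prime) (hf : 1 ≤ f) (hq : q = p ^ f)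
    (hg : Nat.gcd 3 (q - 1) * g = q ^ 36 * (q ^ 2 - 1) * (q ^ 5 - 1) * (q ^ 6 - 1) * (q ^ 8 - 1) *
      (q ^ 9 - 1) * (q ^ 12 - 1)) :
    g < p ^ (3 * g.factorization p) ∧ g ^ 3 < p ^ (8 * g.factorization p) := by
  subst hq
  have hq1 : 1 ≤ p ^ f := Nat.one_le_pow _ _ hp.pos
  have hd : ¬ p ∣ Nat.gcd 3 (p ^ f - 1) := not_dvd_gcd_sub_one hp hf 3
  have hd0 : 0 < Nat.gcd 3 (p ^ f - 1) := Nat.pos_of_ne_zero (fun h => hd (h ▸ dvd_zero p))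
  have hM : ¬ p ∣ ((p ^ f) ^ 2 - 1) * ((p ^ f) ^ 5 - 1) * ((p ^ f) ^ 6 - 1) * ((p ^ f) ^ 8 - 1) *
      ((p ^ f) ^ 9 - 1) * ((p ^ f) ^ 12 - 1) := by
    repeat' apply not_dvd_mul' hp
    all_goals exact not_dvd_pow_sub_one hp hf (by norm_num)
  have hg' : Nat.gcd 3 (p ^ f - 1) * g = (p ^ f) ^ 36 * (((p ^ f) ^ 2 - 1) * ((p ^ f) ^ 5 - 1) *
      ((p ^ f) ^ 6 - 1) * ((p ^ f) ^ 8 - 1) * ((p ^ f) ^ 9 - 1) * ((p ^ f) ^ 12 - 1)) := by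
    rw [hg]; ring
  have hMe : ((p ^ f) ^ 2 - 1) * ((p ^ f) ^ 5 - 1) * ((p ^ f) ^ 6 - 1) * ((p ^ f) ^ 8 - 1) *
      ((p ^ f) ^ 9 - 1) * ((p ^ f) ^ 12 - 1) < Nat.gcd 3 (p ^ f - 1) * (p ^ f) ^ 42 := by
    apply lt_gcd_mul hd0
    have e : (p ^ f) ^ 42 = (p ^ f) ^ 2 * (p ^ f) ^ 5 * (p ^ f) ^ 6 * (p ^ f) ^ 8 * (p ^ f) ^ 9 *
        (p ^ f) ^ 12 := by ring
    rw [e]
    exact Nat.mul_lt_mul'' (Nat.mul_lt_mul'' (Nat.mul_lt_mul'' (Nat.mul_lt_mul''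
      (Nat.mul_lt_mul'' (pow_sub_one_lt hq1 2) (pow_sub_one_lt hq1 5)) (pow_sub_one_lt hq1 6))
      (pow_sub_one_lt hq1 8)) (pow_sub_one_lt hq1 9)) (pow_sub_one_lt hq1 12)
  exact card_bounds hp hd hM hg' hMe (by norm_num) (by norm_num)

theorem e7_bound {p f q g : ℕ} (hp : p.Prime) (hf : 1 ≤ f) (hq : q = p ^ f)
    (hg : Nat.gcd 2 (q - 1) * g = q ^ 63 * (q ^ 2 - 1) * (q ^ 6 - 1) * (q ^ 8 - 1) * (q ^ 10 - 1) *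
      (q ^ 12 - 1) * (q ^ 14 - 1) * (q ^ 18 - 1)) :
    g < p ^ (3 * g.factorization p) ∧ g ^ 3 < p ^ (8 * g.factorization p) := by
  subst hq
  have hq1 : 1 ≤ p ^ f := Nat.one_le_pow _ _ hp.pos
  have hd : ¬ p ∣ Nat.gcd 2 (p ^ f - 1) := not_dvd_gcd_sub_one hp hf 2
  have hd0 : 0 < Nat.gcd 2 (p ^ f - 1) := Nat.pos_of_ne_zero (fun h => hd (h ▸ dvd_zero p))
  have hM : ¬ p ∣ ((p ^ f) ^ 2 - 1) * ((p ^ f) ^ 6 - 1) * ((p ^ f) ^ 8 - 1) * ((p ^ f) ^ 10 - 1) *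
      ((p ^ f) ^ 12 - 1) * ((p ^ f) ^ 14 - 1) * ((p ^ f) ^ 18 - 1) := by
    repeat' apply not_dvd_mul' hp
    all_goals exact not_dvd_pow_sub_one hp hf (by norm_num)
  have hg' : Nat.gcd 2 (p ^ f - 1) * g = (p ^ f) ^ 63 * (((p ^ f) ^ 2 - 1) * ((p ^ f) ^ 6 - 1) *
      ((p ^ f) ^ 8 - 1) * ((p ^ f) ^ 10 - 1) * ((p ^ f) ^ 12 - 1) * ((p ^ f) ^ 14 - 1) *
      ((p ^ f) ^ 18 - 1)) := by
    rw [hg]; ring
  have hMe : ((p ^ f) ^ 2 - 1) * ((p ^ f) ^ 6 - 1) * ((p ^ f) ^ 8 - 1) * ((p ^ f) ^ 10 - 1) *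
      ((p ^ f) ^ 12 - 1) * ((p ^ f) ^ 14 - 1) * ((p ^ f) ^ 18 - 1) <
      Nat.gcd 2 (p ^ f - 1) * (p ^ f) ^ 70 := by
    apply lt_gcd_mul hd0
    have e : (p ^ f) ^ 70 = (p ^ f) ^ 2 * (p ^ f) ^ 6 * (p ^ f) ^ 8 * (p ^ f) ^ 10 * (p ^ f) ^ 12 *
        (p ^ f) ^ 14 * (p ^ f) ^ 18 := by ring
    rw [e]
    exact Nat.mul_lt_mul'' (Nat.mul_lt_mul'' (Nat.mul_lt_mul'' (Nat.mul_lt_mul''
      (Nat.mul_lt_mul'' (Nat.mul_lt_mul'' (pow_sub_one_lt hq1 2) (pow_sub_one_lt hq1 6))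
      (pow_sub_one_lt hq1 8)) (pow_sub_one_lt hq1 10)) (pow_sub_one_lt hq1 12))
      (pow_sub_one_lt hq1 14)) (pow_sub_one_lt hq1 18)
  exact card_bounds hp hd hM hg' hMe (by norm_num) (by norm_num)

theorem twoE6_bound {p f q g : ℕ} (hp : p.Prime) (hf : 1 ≤ f) (hq : q = p ^ f)
    (hg : Nat.gcd 3 (q + 1) * g = q ^ 36 * (q ^ 2 - 1) * (q ^ 5 + 1) * (q ^ 6 - 1) * (q ^ 8 - 1) *
      (q ^ 9 + 1) * (q ^ 12 - 1)) :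
    g < p ^ (3 * g.factorization p) ∧ g ^ 3 < p ^ (8 * g.factorization p) := by
  subst hq
  have hq1 : 1 ≤ p ^ f := Nat.one_le_pow _ _ hp.pos
  have hq2 : 2 ≤ p ^ f := two_le_pow hp hf
  have hd : ¬ p ∣ Nat.gcd 3 (p ^ f + 1) := not_dvd_gcd_add_one hp hf 3
  have hd0 : 0 < Nat.gcd 3 (p ^ f + 1) := Nat.pos_of_ne_zero (fun h => hd (h ▸ dvd_zero p))
  have hM : ¬ p ∣ ((p ^ f) ^ 2 - 1) * ((p ^ f) ^ 5 + 1) * ((p ^ f) ^ 6 - 1) * ((p ^ f) ^ 8 - 1) *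
      ((p ^ f) ^ 9 + 1) * ((p ^ f) ^ 12 - 1) := by
    refine not_dvd_mul' hp (not_dvd_mul' hp (not_dvd_mul' hp (not_dvd_mul' hp (not_dvd_mul' hp
      ?_ ?_) ?_) ?_) ?_) ?_
    · exact not_dvd_pow_sub_one hp hf (by norm_num)
    · exact not_dvd_pow_add_one hp hf (by norm_num)
    · exact not_dvd_pow_sub_one hp hf (by norm_num)
    · exact not_dvd_pow_sub_one hp hf (by norm_num)
    · exact not_dvd_pow_add_one hp hf (by norm_num)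
    · exact not_dvd_pow_sub_one hp hf (by norm_num)
  have hg' : Nat.gcd 3 (p ^ f + 1) * g = (p ^ f) ^ 36 * (((p ^ f) ^ 2 - 1) * ((p ^ f) ^ 5 + 1) *
      ((p ^ f) ^ 6 - 1) * ((p ^ f) ^ 8 - 1) * ((p ^ f) ^ 9 + 1) * ((p ^ f) ^ 12 - 1)) := by
    rw [hg]; ring
  have hMe : ((p ^ f) ^ 2 - 1) * ((p ^ f) ^ 5 + 1) * ((p ^ f) ^ 6 - 1) * ((p ^ f) ^ 8 - 1) *
      ((p ^ f) ^ 9 + 1) * ((p ^ f) ^ 12 - 1) < Nat.gcd 3 (p ^ f + 1) * (p ^ f) ^ 44 := by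
    apply lt_gcd_mul hd0
    have e : (p ^ f) ^ 44 = (p ^ f) ^ 2 * (p ^ f) ^ (5 + 1) * (p ^ f) ^ 6 * (p ^ f) ^ 8 *
        (p ^ f) ^ (9 + 1) * (p ^ f) ^ 12 := by ring
    rw [e]
    exact Nat.mul_lt_mul'' (Nat.mul_lt_mul'' (Nat.mul_lt_mul'' (Nat.mul_lt_mul''
      (Nat.mul_lt_mul'' (pow_sub_one_lt hq1 2) (pow_add_one_lt hq2 (by norm_num)))
      (pow_sub_one_lt hq1 6)) (pow_sub_one_lt hq1 8)) (pow_add_one_lt hq2 (by norm_num)))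
      (pow_sub_one_lt hq1 12)
  exact card_bounds hp hd hM hg' hMe (by norm_num) (by norm_num)

end Cfsg.Agent.Lib.Helper44.LieBoundExcB
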