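/-
Helper library (helper44): restriction of scalars for the unitary group.  Given an `F`-linear
identification `T` of `K^m` with `F^ι` under which the Hermitian norm `hermForm v v` becomes a function `Q`
on `F^ι`, the unitary group `GU_m` embeds in the isometry group of `Q`.
-/
import Mathlib
import Cfsg.Prelude.Def_LieClassical

set_option autoImplicit false

namespace Cfsg.Agent.Lib.Helper44

section
variable {K F : Type*} [Field K] [Field F] [Algebra F K] {m : ℕ} {ι : Type} [Fintype ι] [DecidableEq ι]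

/-- the `F`-matrix (in the coordinates `T`) of a `K`-matrix acting on `K^m`, as a monoid homomorphism -/
noncomputable def repHom (T : (Fin m → K) ≃ₗ[F] (ι → F)) :
    Matrix (Fin m) (Fin m) K →* Matrix ι ι F where
  toFun A := LinearMap.toMatrix' (T.conj ((Matrix.mulVecLin A).restrictScalars F))
  map_one' := by
    rw [Matrix.mulVecLin_one]
    have : (LinearMap.id : (Fin m → K) →ₗ[K] (Fin m → K)).restrictScalars F = LinearMap.id := rfl
    rw [this, LinearEquiv.conj_id, LinearMap.toMatrix'_id]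
  map_mul' A B := by
    rw [← LinearMap.toMatrix'_comp, ← LinearEquiv.conj_comp, Matrix.mulVecLin_mul]
    rfl

theorem repHom_mulVec (T : (Fin m → K) ≃ₗ[F] (ι → F)) (A : Matrix (Fin m) (Fin m) K) (v : Fin m → K) :
    (repHom T A).mulVec (T v) = T (A.mulVec v) := by
  show (LinearMap.toMatrix' (T.conj ((Matrix.mulVecLin A).restrictScalars F))).mulVec (T v) = _
  rw [LinearMap.toMatrix'_mulVec, LinearEquiv.conj_apply]
  simp

theorem repHom_injective (T : (Fin m → K) ≃ₗ[F] (ι → F)) : Function.Injective (repHom T) := by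
  intro A B h
  have h1 : ∀ v, A.mulVec v = B.mulVec v := by
    intro v
    apply T.injective
    rw [← repHom_mulVec, ← repHom_mulVec, h]
  ext i j
  have := congrFun (h1 (Pi.single j 1)) i
  simpa using this

/-- If `Q (T v) = hermForm v v` (read in `K`), then `GU_m` embeds in the isometry group of `Q`. -/
theorem exists_embedding_of_form {q : ℕ} (T : (Fin m → K) ≃ₗ[F] (ι → F)) (Q : (ι → F) → F)
    (hTQ : ∀ v, algebraMap F K (Q (T v)) = Cfsg.hermForm m K q v v) :
    ∃ φ : ↥(Cfsg.GU m K q) →* ↥(Cfsg.isometryGroup F Q), Function.Injective φ := by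
  classical
  let ψ : ↥(Cfsg.GU m K q) →* Matrix.GeneralLinearGroup ι F :=
    (Units.map (repHom T)).comp (Cfsg.GU m K q).subtype
  have hψ : ∀ g, ψ g ∈ Cfsg.isometryGroup F Q := by
    intro g u v
    obtain ⟨u', rfl⟩ := T.surjective u
    show Q ((repHom T ((g : Matrix.GeneralLinearGroup (Fin m) K) : Matrix _ _ K)).mulVec (T u')) = Q (T u')
    rw [repHom_mulVec]
    apply (algebraMap F K).injective
    rw [hTQ, hTQ]
    exact g.2 u' u'
  refine ⟨ψ.codRestrict _ hψ, ?_⟩
  intro g h hgh
  have h1 : ψ g = ψ h := congrArg Subtype.val hgh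
  have h2 : (g : Matrix.GeneralLinearGroup (Fin m) K) = h :=
    Units.map_injective (repHom_injective T) h1
  exact Subtype.ext h2

end


open Module

set_option linter.unusedSectionVars false

section
variable {K F : Type*} [Field K] [Fintype K] [Field F] [Fintype F] [Algebra F K]

theorem frob_frob (h2 : finrank F K = 2) (x : K) :
    (x ^ Fintype.card F) ^ Fintype.card F = x := by
  have hc : Fintype.card K = Fintype.card F ^ 2 := by
    rw [Module.card_eq_pow_finrank (K := F) (V := K), h2]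
  rw [← pow_mul, ← sq, ← hc, FiniteField.pow_card]

theorem algebraMap_trace_two (h2 : finrank F K = 2) (x : K) :
    algebraMap F K (Algebra.trace F K x) = x + x ^ Fintype.card F := by
  rw [FiniteField.algebraMap_trace_eq_sum_pow, h2, Finset.sum_range_succ, Finset.sum_range_one,
    Nat.card_eq_fintype_card]
  simp

theorem algebraMap_norm_two (h2 : finrank F K = 2) (x : K) :
    algebraMap F K (Algebra.norm F x) = x * x ^ Fintype.card F := by
  rw [FiniteField.algebraMap_norm_eq_prod_pow, h2, Finset.prod_range_succ, Finset.prod_range_one,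
    Nat.card_eq_fintype_card]
  simp

theorem exists_gamma_delta (h2 : finrank F K = 2) :
    ∃ γ δ : K, γ * γ ^ Fintype.card F = -1 ∧ δ + δ ^ Fintype.card F = 1 := by
  have : FiniteDimensional F K := Module.finite_of_finrank_pos (by omega)
  obtain ⟨γ, hγ⟩ := FiniteField.norm_surjective F K (-1)
  obtain ⟨δ, hδ⟩ := Algebra.trace_surjective F K 1
  refine ⟨γ, δ, ?_, ?_⟩
  · rw [← algebraMap_norm_two h2, hγ]; simp
  · rw [← algebraMap_trace_two h2, hδ]; simp


/-- pure algebra: the change of variables turning `N x₁ + N x₂` into a trace pairing -/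
theorem pair_identity {R : Type*} [CommRing R] (σ : R →+* R) (hσ : ∀ x, σ (σ x) = x) (γ δ x₁ x₂ : R)
    (hγ : γ * σ γ = -1) (hδ : δ + σ δ = 1) :
    (δ * x₁ + (1 - δ) * γ * x₂) * σ (x₁ - γ * x₂) +
      σ ((δ * x₁ + (1 - δ) * γ * x₂) * σ (x₁ - γ * x₂)) = x₁ * σ x₁ + x₂ * σ x₂ := by
  simp only [map_add, map_mul, map_sub, map_one, hσ]
  linear_combination (-(x₂ * σ x₂)) * hγ +
    (x₁ * σ x₁ + γ * σ γ * x₂ * σ x₂ - x₁ * σ x₂ * σ γ - σ x₁ * x₂ * γ) * hδ

/-- trace pairing in coordinates -/
theorem trace_mul_eq_sum (β : Basis (Fin 2) F K) (p s : K) :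
    Algebra.trace F K (p * s) =
      Algebra.trace F K (p * β 0) * β.repr s 0 + Algebra.trace F K (p * β 1) * β.repr s 1 := by
  conv_lhs => rw [← β.sum_repr s]
  rw [Fin.sum_univ_two, mul_add, map_add, mul_smul_comm, mul_smul_comm, map_smul, map_smul]
  simp only [smul_eq_mul]
  ring

/-- the coordinate `p = δ x₁ + (1 - δ) γ x₂` of the `i`-th pair -/
noncomputable def pLin (γ δ : K) (k : ℕ) (i : Fin k) : (Fin (k + k) → K) →ₗ[F] K :=
  ((δ • LinearMap.proj (Fin.castAdd k i) + ((1 - δ) * γ) • LinearMap.proj (Fin.natAdd k i) :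
    (Fin (k + k) → K) →ₗ[K] K)).restrictScalars F

/-- the coordinate `r = x₁ - γ x₂` of the `i`-th pair -/
noncomputable def rLin (γ : K) (k : ℕ) (i : Fin k) : (Fin (k + k) → K) →ₗ[F] K :=
  ((LinearMap.proj (Fin.castAdd k i) - γ • LinearMap.proj (Fin.natAdd k i) :
    (Fin (k + k) → K) →ₗ[K] K)).restrictScalars F

theorem pLin_apply (γ δ : K) (k : ℕ) (i : Fin k) (v : Fin (k + k) → K) :
    pLin (F := F) γ δ k i v = δ * v (Fin.castAdd k i) + (1 - δ) * γ * v (Fin.natAdd k i) := by
  simp [pLin]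

theorem rLin_apply (γ : K) (k : ℕ) (i : Fin k) (v : Fin (k + k) → K) :
    rLin (F := F) γ k i v = v (Fin.castAdd k i) - γ * v (Fin.natAdd k i) := by
  simp [rLin]

/-- The `F`-linear map `K^(2k) → F^(4k)` turning the Hermitian norm into the hyperbolic form. -/
noncomputable def hypMap (β : Basis (Fin 2) F K) (γ δ : K) (k : ℕ) :
    (Fin (k + k) → K) →ₗ[F] (Fin (k + k) ⊕ Fin (k + k) → F) :=
  LinearMap.pi (Sum.elim
    (Fin.addCases
      (fun i => (Algebra.trace F K) ∘ₗ (LinearMap.mulRight F (β 0)) ∘ₗ pLin γ δ k i)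
      (fun i => (Algebra.trace F K) ∘ₗ (LinearMap.mulRight F (β 1)) ∘ₗ pLin γ δ k i))
    (Fin.addCases
      (fun i => (Finsupp.lapply 0) ∘ₗ β.repr.toLinearMap ∘ₗ
        (FiniteField.frobeniusAlgHom F K).toLinearMap ∘ₗ rLin γ k i)
      (fun i => (Finsupp.lapply 1) ∘ₗ β.repr.toLinearMap ∘ₗ
        (FiniteField.frobeniusAlgHom F K).toLinearMap ∘ₗ rLin γ k i)))

theorem hypMap_inl_cast (β : Basis (Fin 2) F K) (γ δ : K) (k : ℕ) (v : Fin (k + k) → K) (i : Fin k) :
    hypMap β γ δ k v (Sum.inl (Fin.castAdd k i)) = Algebra.trace F K (pLin (F := F) γ δ k i v * β 0) := by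
  simp [hypMap, -Fin.natAdd_eq_addNat]

theorem hypMap_inl_nat (β : Basis (Fin 2) F K) (γ δ : K) (k : ℕ) (v : Fin (k + k) → K) (i : Fin k) :
    hypMap β γ δ k v (Sum.inl (Fin.natAdd k i)) = Algebra.trace F K (pLin (F := F) γ δ k i v * β 1) := by
  simp [hypMap, -Fin.natAdd_eq_addNat]

theorem hypMap_inr_cast (β : Basis (Fin 2) F K) (γ δ : K) (k : ℕ) (v : Fin (k + k) → K) (i : Fin k) :
    hypMap β γ δ k v (Sum.inr (Fin.castAdd k i)) =
      β.repr ((rLin (F := F) γ k i v) ^ Fintype.card F) 0 := by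
  simp [hypMap, -Fin.natAdd_eq_addNat]

theorem hypMap_inr_nat (β : Basis (Fin 2) F K) (γ δ : K) (k : ℕ) (v : Fin (k + k) → K) (i : Fin k) :
    hypMap β γ δ k v (Sum.inr (Fin.natAdd k i)) =
      β.repr ((rLin (F := F) γ k i v) ^ Fintype.card F) 1 := by
  simp [hypMap, -Fin.natAdd_eq_addNat]


theorem hypMap_form (h2 : finrank F K = 2) (β : Basis (Fin 2) F K) (γ δ : K)
    (hγ : γ * γ ^ Fintype.card F = -1) (hδ : δ + δ ^ Fintype.card F = 1) (k : ℕ)
    (v : Fin (k + k) → K) :
    algebraMap F K (Cfsg.quadFormPlus (k + k) F (hypMap β γ δ k v)) =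
      Cfsg.hermForm (k + k) K (Fintype.card F) v v := by
  unfold Cfsg.quadFormPlus Cfsg.hermForm
  rw [Fin.sum_univ_add, Fin.sum_univ_add, ← Finset.sum_add_distrib, ← Finset.sum_add_distrib, map_sum]
  apply Finset.sum_congr rfl
  intro i _
  rw [hypMap_inl_cast, hypMap_inl_nat, hypMap_inr_cast, hypMap_inr_nat, ← trace_mul_eq_sum,
    algebraMap_trace_two h2, pLin_apply, rLin_apply]
  have hσapp : ∀ z : K, (FiniteField.frobeniusAlgHom F K).toRingHom z = z ^ Fintype.card F := fun z => rfl
  have := pair_identity (FiniteField.frobeniusAlgHom F K).toRingHom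
    (fun x => by rw [hσapp, hσapp, frob_frob h2]) γ δ (v (Fin.castAdd k i)) (v (Fin.natAdd k i))
    (by rw [hσapp]; exact hγ) (by rw [hσapp]; exact hδ)
  simp only [hσapp] at this
  exact this


theorem hypMap_injective (h2 : finrank F K = 2) (β : Basis (Fin 2) F K) (γ δ : K)
    (hγ : γ * γ ^ Fintype.card F = -1) (k : ℕ) :
    Function.Injective (hypMap β γ δ k) := by
  have : FiniteDimensional F K := Module.finite_of_finrank_pos (by omega)
  rw [← LinearMap.ker_eq_bot, LinearMap.ker_eq_bot']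
  intro v hv
  have hγ0 : γ ≠ 0 := by
    rintro rfl
    simp at hγ
  have hp : ∀ i, pLin (F := F) γ δ k i v = 0 := by
    intro i
    have h0 := congrFun hv (Sum.inl (Fin.castAdd k i))
    have h1 := congrFun hv (Sum.inl (Fin.natAdd k i))
    rw [hypMap_inl_cast] at h0
    rw [hypMap_inl_nat] at h1
    apply (traceForm_nondegenerate F K).1
    intro s
    rw [Algebra.traceForm_apply, trace_mul_eq_sum β, h0, h1]
    simp
  have hr : ∀ i, rLin (F := F) γ k i v = 0 := by
    intro i
    have h0 := congrFun hv (Sum.inr (Fin.castAdd k i))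
    have h1 := congrFun hv (Sum.inr (Fin.natAdd k i))
    rw [hypMap_inr_cast] at h0
    rw [hypMap_inr_nat] at h1
    have h3 : β.repr ((rLin (F := F) γ k i v) ^ Fintype.card F) = 0 := by
      ext j
      fin_cases j
      · exact h0
      · exact h1
    have h4 : (rLin (F := F) γ k i v) ^ Fintype.card F = 0 := by
      simpa using h3
    exact pow_eq_zero_iff (Fintype.card_ne_zero) |>.1 h4
  ext j
  refine Fin.addCases (fun i => ?_) (fun i => ?_) j
  · have h3 := hp i
    have h4 := hr i
    rw [pLin_apply] at h3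
    rw [rLin_apply] at h4
    show v (Fin.castAdd k i) = 0
    linear_combination h3 + (1 - δ) * h4
  · have h3 := hp i
    have h4 := hr i
    rw [pLin_apply] at h3
    rw [rLin_apply] at h4
    show v (Fin.natAdd k i) = 0
    have : γ * v (Fin.natAdd k i) = 0 := by
      linear_combination h3 - δ * h4
    exact (mul_eq_zero.1 this).resolve_left hγ0

/-- For even `n = k + k`, the Hermitian norm on `K^n` is the hyperbolic form in suitable `F`-coordinates. -/
theorem exists_hyp_coords (h2 : finrank F K = 2) (k : ℕ) :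
    ∃ T : (Fin (k + k) → K) ≃ₗ[F] (Fin (k + k) ⊕ Fin (k + k) → F), ∀ v,
      algebraMap F K (Cfsg.quadFormPlus (k + k) F (T v)) = Cfsg.hermForm (k + k) K (Fintype.card F) v v := by
  have : FiniteDimensional F K := Module.finite_of_finrank_pos (by omega)
  obtain ⟨γ, δ, hγ, hδ⟩ := exists_gamma_delta h2
  let β : Basis (Fin 2) F K := Module.finBasisOfFinrankEq F K h2
  have hdim : finrank F (Fin (k + k) → K) = finrank F (Fin (k + k) ⊕ Fin (k + k) → F) := by
    rw [Module.finrank_pi_fintype, Module.finrank_fintype_fun_eq_card]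
    simp [h2]
    ring
  refine ⟨LinearMap.linearEquivOfInjective (hypMap β γ δ k) (hypMap_injective h2 β γ δ hγ k) hdim, ?_⟩
  intro v
  rw [LinearMap.linearEquivOfInjective_apply]
  exact hypMap_form h2 β γ δ hγ hδ k v


theorem mem_range_of_pow_card_eq (x : K) (hx : x ^ Fintype.card F = x) :
    ∃ t : F, algebraMap F K t = x := by
  classical
  by_contra hcon
  push Not at hcon
  have hne : (Polynomial.X ^ Fintype.card F - Polynomial.X : Polynomial K) ≠ 0 :=
    FiniteField.X_pow_card_sub_X_ne_zero K Fintype.one_lt_card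
  have hdeg := FiniteField.X_pow_card_sub_X_natDegree_eq K (Fintype.one_lt_card (α := F))
  let Z : Finset K := insert x (Finset.univ.image (algebraMap F K))
  have hZ : Z.val ⊆ (Polynomial.X ^ Fintype.card F - Polynomial.X : Polynomial K).roots := by
    intro y hy
    rw [Polynomial.mem_roots hne, Polynomial.IsRoot, Polynomial.eval_sub, Polynomial.eval_pow,
      Polynomial.eval_X]
    have hy' : y = x ∨ ∃ t, algebraMap F K t = y := by
      simpa [Z] using hy
    rcases hy' with rfl | ⟨t, rfl⟩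
    · rw [hx, sub_self]
    · rw [← map_pow, FiniteField.pow_card, sub_self]
  have := Polynomial.card_le_degree_of_subset_roots hZ
  rw [hdeg, Finset.card_insert_of_notMem (by simpa using hcon),
    Finset.card_image_of_injective _ (algebraMap F K).injective, Finset.card_univ] at this
  omega

theorem exists_theta (h2 : finrank F K = 2) (a b : F)
    (hab : ∀ z₁ z₂ : F, z₁ ^ 2 + a * z₁ * z₂ + b * z₂ ^ 2 = 0 → z₁ = 0 ∧ z₂ = 0) :
    ∃ θ : K, θ + θ ^ Fintype.card F = algebraMap F K a ∧ θ * θ ^ Fintype.card F = algebraMap F K b ∧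
      ∀ t : F, algebraMap F K t ≠ θ := by
  classical
  have : FiniteDimensional F K := Module.finite_of_finrank_pos (by omega)
  set f : Polynomial F := Polynomial.X ^ 2 - Polynomial.C a * Polynomial.X + Polynomial.C b with hf
  have hdeg : f.natDegree = 2 := by
    rw [hf]
    compute_degree!
  have hnoroot : ∀ t : F, ¬ Polynomial.IsRoot f t := by
    intro t ht
    rw [Polynomial.IsRoot, hf] at ht
    simp at ht
    have := (hab (-t) 1 (by linear_combination ht)).2
    exact one_ne_zero this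
  have hirr : Irreducible f :=
    Polynomial.irreducible_of_degree_le_three_of_not_isRoot (by rw [hdeg]; simp) hnoroot
  have : Fact (Irreducible f) := ⟨hirr⟩
  have hf0 : f ≠ 0 := hirr.ne_zero
  have hfin : finrank F (AdjoinRoot f) = 2 := by
    rw [(AdjoinRoot.powerBasis hf0).finrank, AdjoinRoot.powerBasis_dim, hdeg]
  obtain ⟨φ⟩ := FiniteField.nonempty_algHom_of_finrank_dvd (F := F) (K := AdjoinRoot f) (L := K)
    (by rw [hfin, h2])
  set θ : K := φ (AdjoinRoot.root f) with hθ
  have hroot : θ ^ 2 - algebraMap F K a * θ + algebraMap F K b = 0 := by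
    have h1 : Polynomial.aeval (AdjoinRoot.root f) f = 0 := by
      rw [AdjoinRoot.aeval_eq, AdjoinRoot.mk_self]
    have h3 := congrArg φ h1
    rw [← Polynomial.aeval_algHom_apply, map_zero, ← hθ, hf] at h3
    simpa using h3
  have hnot : ∀ t : F, algebraMap F K t ≠ θ := by
    intro t ht
    apply hnoroot t
    rw [Polynomial.IsRoot, hf]
    simp only [Polynomial.eval_add, Polynomial.eval_sub, Polynomial.eval_pow, Polynomial.eval_X,
      Polynomial.eval_mul, Polynomial.eval_C]
    apply (algebraMap F K).injective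
    rw [map_zero, ← hroot, ← ht]
    simp
  have hroot' : (θ ^ Fintype.card F) ^ 2 - algebraMap F K a * θ ^ Fintype.card F + algebraMap F K b = 0 := by
    have hσapp : ∀ z : K, (FiniteField.frobeniusAlgHom F K) z = z ^ Fintype.card F := fun z => rfl
    have h3 := congrArg (FiniteField.frobeniusAlgHom F K) hroot
    rw [map_zero, map_add, map_sub, map_mul, map_pow, AlgHom.commutes, AlgHom.commutes, hσapp] at h3
    exact h3
  have hne : θ ^ Fintype.card F ≠ θ := by
    intro h
    obtain ⟨t, ht⟩ := mem_range_of_pow_card_eq (F := F) θ h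
    exact hnot t ht
  have hsum : θ + θ ^ Fintype.card F = algebraMap F K a := by
    have h4 : (θ ^ Fintype.card F - θ) * (θ + θ ^ Fintype.card F - algebraMap F K a) = 0 := by
      linear_combination hroot' - hroot
    rcases mul_eq_zero.1 h4 with h5 | h5
    · exact absurd (sub_eq_zero.1 h5) hne
    · exact sub_eq_zero.1 h5
  refine ⟨θ, hsum, ?_, hnot⟩
  have : θ ^ Fintype.card F = algebraMap F K a - θ := by rw [← hsum]; ring
  rw [this]
  linear_combination -hroot


theorem exists_basis_one (h2 : finrank F K = 2) (θ : K) (hnot : ∀ t : F, algebraMap F K t ≠ θ) :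
    ∃ β : Basis (Fin 2) F K, β 0 = 1 ∧ β 1 = θ := by
  have hli : LinearIndependent F ![(1 : K), θ] := by
    rw [LinearIndependent.pair_iff]
    intro s c hsc
    have hc : c = 0 := by
      by_contra hc
      apply hnot (-(c⁻¹ * s))
      have h1 : c • θ = -(s • (1 : K)) := by
        rw [eq_neg_iff_add_eq_zero, add_comm]; exact hsc
      symm
      calc θ = c⁻¹ • (c • θ) := by rw [smul_smul, inv_mul_cancel₀ hc, one_smul]
        _ = algebraMap F K (-(c⁻¹ * s)) := by
          rw [h1, Algebra.algebraMap_eq_smul_one, smul_neg, smul_smul, neg_smul]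
    subst hc
    simp only [zero_smul, add_zero] at hsc
    have : s = 0 := by
      rcases smul_eq_zero.1 hsc with h | h
      · exact h
      · exact absurd h one_ne_zero
    exact ⟨this, rfl⟩
  refine ⟨basisOfLinearIndependentOfCardEqFinrank' _ hli (by simp [h2]), ?_, ?_⟩ <;> simp

theorem norm_in_basis (β : Basis (Fin 2) F K) (a b : F) (h0 : β 0 = 1)
    (hsum : β 1 + (β 1) ^ Fintype.card F = algebraMap F K a)
    (hprod : β 1 * (β 1) ^ Fintype.card F = algebraMap F K b) (x : K) :
    x * x ^ Fintype.card F =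
      algebraMap F K ((β.repr x 0) ^ 2 + a * β.repr x 0 * β.repr x 1 + b * (β.repr x 1) ^ 2) := by
  have hx := β.sum_repr x
  rw [Fin.sum_univ_two, h0] at hx
  set z0 := β.repr x 0
  set z1 := β.repr x 1
  set θ := β 1
  have hσapp : ∀ z : K, FiniteField.frobeniusAlgHom F K z = z ^ Fintype.card F := fun z => rfl
  have hxq : x ^ Fintype.card F = z0 • (1 : K) + z1 • θ ^ Fintype.card F := by
    rw [← hσapp]
    conv_lhs => rw [← hx]
    rw [map_add, map_smul, map_smul, map_one, hσapp]
  rw [hxq]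
  conv_lhs => rw [← hx]
  simp only [Algebra.smul_def, map_add, map_mul, map_pow]
  linear_combination (algebraMap F K z0 * algebraMap F K z1) * hsum +
    (algebraMap F K z1) ^ 2 * hprod


/-- glue coordinates on the first `n` entries with coordinates of the last entry -/
noncomputable def ellMap (n : ℕ) (T₀ : (Fin n → K) ≃ₗ[F] (Fin n ⊕ Fin n → F)) (β : Basis (Fin 2) F K) :
    (Fin (n + 1) → K) →ₗ[F] ((Fin n ⊕ Fin n) ⊕ Fin 2 → F) :=
  LinearMap.pi (Sum.elim
    (fun j => (LinearMap.proj j) ∘ₗ T₀.toLinearMap ∘ₗ LinearMap.funLeft F K Fin.castSucc)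
    (fun j => (Finsupp.lapply j) ∘ₗ β.repr.toLinearMap ∘ₗ
      (LinearMap.proj (R := F) (φ := fun _ => K) (Fin.last n))))

theorem ellMap_inl (n : ℕ) (T₀ : (Fin n → K) ≃ₗ[F] (Fin n ⊕ Fin n → F)) (β : Basis (Fin 2) F K)
    (v : Fin (n + 1) → K) (j : Fin n ⊕ Fin n) :
    ellMap n T₀ β v (Sum.inl j) = T₀ (fun i => v (Fin.castSucc i)) j := by
  simp [ellMap, LinearMap.funLeft, Function.comp_def]

theorem ellMap_inr (n : ℕ) (T₀ : (Fin n → K) ≃ₗ[F] (Fin n ⊕ Fin n → F)) (β : Basis (Fin 2) F K)
    (v : Fin (n + 1) → K) (j : Fin 2) :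
    ellMap n T₀ β v (Sum.inr j) = β.repr (v (Fin.last n)) j := by
  simp [ellMap]

theorem ellMap_injective (n : ℕ) (T₀ : (Fin n → K) ≃ₗ[F] (Fin n ⊕ Fin n → F)) (β : Basis (Fin 2) F K) :
    Function.Injective (ellMap n T₀ β) := by
  rw [← LinearMap.ker_eq_bot, LinearMap.ker_eq_bot']
  intro v hv
  have h1 : T₀ (fun i => v (Fin.castSucc i)) = 0 := by
    ext j
    rw [← ellMap_inl n T₀ β v j, hv]; rfl
  have h2 : β.repr (v (Fin.last n)) = 0 := by
    ext j
    rw [← ellMap_inr n T₀ β v j, hv]; rfl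
  have h3 : (fun i => v (Fin.castSucc i)) = 0 := by simpa using h1
  have h4 : v (Fin.last n) = 0 := by simpa using h2
  ext i
  refine Fin.lastCases h4 (fun i => ?_) i
  exact congrFun h3 i

theorem ellMap_form (n : ℕ) (T₀ : (Fin n → K) ≃ₗ[F] (Fin n ⊕ Fin n → F))
    (hT₀ : ∀ v, algebraMap F K (Cfsg.quadFormPlus n F (T₀ v)) = Cfsg.hermForm n K (Fintype.card F) v v)
    (β : Basis (Fin 2) F K) (a b : F) (h0 : β 0 = 1)
    (hsum : β 1 + (β 1) ^ Fintype.card F = algebraMap F K a)
    (hprod : β 1 * (β 1) ^ Fintype.card F = algebraMap F K b) (v : Fin (n + 1) → K) :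
    algebraMap F K (Cfsg.quadFormMinus n F a b (ellMap n T₀ β v)) =
      Cfsg.hermForm (n + 1) K (Fintype.card F) v v := by
  have h1 : Cfsg.quadFormMinus n F a b (ellMap n T₀ β v) =
      Cfsg.quadFormPlus n F (T₀ (fun i => v (Fin.castSucc i))) +
        ((β.repr (v (Fin.last n)) 0) ^ 2 + a * β.repr (v (Fin.last n)) 0 * β.repr (v (Fin.last n)) 1 +
          b * (β.repr (v (Fin.last n)) 1) ^ 2) := by
    unfold Cfsg.quadFormMinus Cfsg.quadFormPlus
    simp only [ellMap_inl, ellMap_inr]
  rw [h1, map_add, hT₀, ← norm_in_basis β a b h0 hsum hprod]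
  unfold Cfsg.hermForm
  rw [Fin.sum_univ_castSucc]


/-- For even `n`, the Hermitian norm on `K^n` is the hyperbolic form in suitable `F`-coordinates. -/
theorem exists_hyp_coords_even (h2 : finrank F K = 2) (n : ℕ) (hn : Even n) :
    ∃ T : (Fin n → K) ≃ₗ[F] (Fin n ⊕ Fin n → F), ∀ v,
      algebraMap F K (Cfsg.quadFormPlus n F (T v)) = Cfsg.hermForm n K (Fintype.card F) v v := by
  obtain ⟨k, rfl⟩ := hn
  exact exists_hyp_coords h2 k

/-- For even `n`, the Hermitian norm on `K^(n+1)` is the elliptic form (with any anisotropic binary part)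
in suitable `F`-coordinates. -/
theorem exists_ell_coords (h2 : finrank F K = 2) (n : ℕ) (hn : Even n) (a b : F)
    (hab : ∀ z₁ z₂ : F, z₁ ^ 2 + a * z₁ * z₂ + b * z₂ ^ 2 = 0 → z₁ = 0 ∧ z₂ = 0) :
    ∃ T : (Fin (n + 1) → K) ≃ₗ[F] ((Fin n ⊕ Fin n) ⊕ Fin 2 → F), ∀ v,
      algebraMap F K (Cfsg.quadFormMinus n F a b (T v)) =
        Cfsg.hermForm (n + 1) K (Fintype.card F) v v := by
  have : FiniteDimensional F K := Module.finite_of_finrank_pos (by omega)
  obtain ⟨T₀, hT₀⟩ := exists_hyp_coords_even h2 n hn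
  obtain ⟨θ, hsum, hprod, hnot⟩ := exists_theta h2 a b hab
  obtain ⟨β, h0, h1⟩ := exists_basis_one h2 θ hnot
  have hdim : finrank F (Fin (n + 1) → K) = finrank F ((Fin n ⊕ Fin n) ⊕ Fin 2 → F) := by
    rw [Module.finrank_pi_fintype, Module.finrank_fintype_fun_eq_card]
    simp [h2]
    ring
  refine ⟨LinearMap.linearEquivOfInjective (ellMap n T₀ β) (ellMap_injective n T₀ β) hdim, ?_⟩
  intro v
  rw [LinearMap.linearEquivOfInjective_apply]
  exact ellMap_form n T₀ hT₀ β a b h0 (by rw [h1]; exact hsum) (by rw [h1]; exact hprod) v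

end

end Cfsg.Agent.Lib.Helper44
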