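import Mathlib
import Cfsg.Prelude.Def_GeometricClasses
import Cfsg.Agent.Lib.Helper99.AschDefs
import Cfsg.Agent.Lib.Helper99.AschDefsR
import Cfsg.Agent.Lib.Helper93.LinearBasics

/-!
# PROJECT ASCH / BHR (helper99), modules BHR-[P1], BHR-[P2] (hedge by helper44):
`SL_n` is not contained in a subspace stabiliser / in the stabiliser of a decomposition
-/

set_option autoImplicit false
set_option linter.unusedSectionVars false

namespace Cfsg.Agent.Lib.Helper44.Bhr

open Cfsg Cfsg.Geo Cfsg.Agent.Lib.Helper93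
open scoped MatrixGroups Matrix Kronecker

variable {n : ℕ} {F : Type*} [Field F] [Fintype F]

/-- BHR-[P1] -/
theorem not_sl_le_subspaceStabilizer (hn : 2 ≤ n) (W : Submodule F (Fin n → F)) (hW : W ≠ ⊥)
    (hW' : W ≠ ⊤) : ¬ specialLinear (Fin n) F ≤ subspaceStabilizer W := by
  obtain ⟨g, hgSL, hg⟩ := exists_specialLinear_not_stab W hW hW'
  intro h
  exact hg (h hgSL)

/-- BHR-[P2] -/
theorem not_sl_le_decompositionStabilizer (hn : 3 ≤ n) {t : ℕ} (m : ℕ)
    (D : Fin t → Submodule F (Fin n → F)) (hD : IsMDecomposition m D) :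
    ¬ specialLinear (Fin n) F ≤ decompositionStabilizer D := by
  have ht := hD.two_le
  set i0 : Fin t := ⟨0, by omega⟩ with hi0
  set i1 : Fin t := ⟨1, by omega⟩ with hi1
  have h01 : i0 ≠ i1 := by
    intro h
    have := congrArg Fin.val h
    simp [hi0, hi1] at this
  have hne : ∀ i, D i ≠ ⊥ := by
    intro i h
    have h1 := hD.finrank_eq i
    rw [h, finrank_bot] at h1
    have := hD.pos
    omega
  obtain ⟨v, hv, hv0⟩ := (Submodule.ne_bot_iff _).1 (hne i0)
  obtain ⟨w, hw, hw0⟩ := (Submodule.ne_bot_iff _).1 (hne i1)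
  have hdisj : ∀ i j, i ≠ j → ∀ x, x ∈ D i → x ∈ D j → x = 0 := by
    intro i j hij x hxi hxj
    have := hD.indep.pairwiseDisjoint hij
    exact (Submodule.disjoint_def.1 this) x hxi hxj
  -- a functional vanishing at `w` with value `1` at `v`
  have hvw : v ∉ Submodule.span F {w} := by
    intro h
    obtain ⟨c, rfl⟩ := Submodule.mem_span_singleton.1 h
    apply hv0
    have : c • w ∈ D i1 := (D i1).smul_mem c hw
    exact hdisj i0 i1 h01 _ hv this
  obtain ⟨φ, hφ0, hφ1⟩ := exists_functional (Submodule.span F {w}) v hvw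
  have hφw : φ ⬝ᵥ w = 0 := hφ0 w (Submodule.mem_span_singleton_self w)
  intro hle
  have hmem := hle (tv_mem_specialLinear w φ hφw)
  obtain ⟨σ, hσ⟩ := hmem
  have himg : v + w ∈ D (σ i0) := by
    rw [← hσ i0]
    refine ⟨v, hv, ?_⟩
    rw [Matrix.toLin'_apply, tv_mulVec, hφ1, one_smul]
  -- `v + w` lies in no `D j`
  by_cases hj0 : σ i0 = i0
  · rw [hj0] at himg
    have : w ∈ D i0 := by
      have := (D i0).sub_mem himg hv
      rwa [add_sub_cancel_left] at this
    exact hw0 (hdisj i0 i1 h01 w this hw)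
  by_cases hj1 : σ i0 = i1
  · rw [hj1] at himg
    have : v ∈ D i1 := by
      have := (D i1).sub_mem himg hw
      rwa [add_sub_cancel_right] at this
    exact hv0 (hdisj i0 i1 h01 v hv this)
  · -- `σ i0` is a third index
    have hsup : v + w ∈ ⨆ (j : Fin t) (_ : j ≠ σ i0), D j := by
      apply Submodule.add_mem
      · exact Submodule.mem_iSup_of_mem i0 (Submodule.mem_iSup_of_mem (Ne.symm hj0) hv)
      · exact Submodule.mem_iSup_of_mem i1 (Submodule.mem_iSup_of_mem (Ne.symm hj1) hw)
    have hzero : v + w = 0 := (Submodule.disjoint_def.1 (hD.indep (σ i0))) _ himg hsup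
    have hv' : v ∈ D i1 := by
      have : v = -w := eq_neg_of_add_eq_zero_left hzero
      rw [this]
      exact (D i1).neg_mem hw
    exact hv0 (hdisj i0 i1 h01 v hv hv')

end Cfsg.Agent.Lib.Helper44.Bhr
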