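/-
helper44: subfield subgroups, part 2: the ring of root parameters of an overgroup of SL(ι, F₀).
-/
import Mathlib
import Cfsg.Agent.Lib.Helper44.SubF1

set_option autoImplicit false
set_option linter.unusedSectionVars false

namespace Cfsg.Agent.Lib.Helper44.SubF

open Matrix Cfsg.Geo Cfsg.Agent.Lib.Helper93

variable {ι : Type} [Fintype ι] [DecidableEq ι] {F : Type*} [Field F] {F₀ : Subfield F}

lemma elemTv_mul (i j : ι) (hij : i ≠ j) (a b : F) :
    elemTv i j hij a * elemTv i j hij b = elemTv i j hij (a + b) := by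
  apply Units.ext
  rw [Matrix.ext_iff_mulVec]
  intro x
  funext k
  simp only [Units.val_mul, ← Matrix.mulVec_mulVec, elemTv_mulVec_apply]
  by_cases hk : k = i
  · subst hk
    simp only [if_true, if_neg hij.symm]
    ring
  · simp only [if_neg hk, add_zero]

lemma elemTv_zero (i j : ι) (hij : i ≠ j) : elemTv i j hij (0 : F) = 1 := by
  apply Units.ext
  rw [Matrix.ext_iff_mulVec]
  intro x
  funext k
  simp only [elemTv_mulVec_apply, Units.val_one, Matrix.one_mulVec, mul_zero, ite_self, add_zero]

lemma elemTv_inv (i j : ι) (hij : i ≠ j) (a : F) :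
    (elemTv i j hij a)⁻¹ = elemTv i j hij (-a) := by
  rw [inv_eq_iff_mul_eq_one, elemTv_mul, add_neg_cancel, elemTv_zero]

lemma elemTv_mem_specialLinear (i j : ι) (hij : i ≠ j) (a : F) :
    elemTv i j hij a ∈ specialLinear ι F := tv_mem_specialLinear _ _ _

lemma elemTv_mem_NS (i j : ι) (hij : i ≠ j) {a : F} (ha : a ∈ F₀) :
    elemTv i j hij a ∈ NGrp F₀ ⊓ specialLinear ι F :=
  tv_mem_NS (ratVec_single i ha) (ratVec_single j F₀.one_mem) _

/-- the commutator relation of elementary transvections -/
lemma elemTv_comm (i k j : ι) (hik : i ≠ k) (hkj : k ≠ j) (hij : i ≠ j) (a b : F) :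
    elemTv i k hik a * elemTv k j hkj b * (elemTv i k hik a)⁻¹ * (elemTv k j hkj b)⁻¹ =
      elemTv i j hij (a * b) := by
  rw [elemTv_inv, elemTv_inv]
  apply Units.ext
  rw [Matrix.ext_iff_mulVec]
  intro x
  funext l
  simp only [Units.val_mul, ← Matrix.mulVec_mulVec, elemTv_mulVec_apply]
  by_cases hli : l = i
  · subst hli
    simp only [if_true, if_neg hik, if_neg hik.symm, if_neg hkj, if_neg hkj.symm, if_neg hij,
      if_neg hij.symm, add_zero]
    ring
  · by_cases hlk : l = k
    · subst hlk
      simp only [if_true, if_neg hli, if_neg hik, if_neg hik.symm, if_neg hkj, if_neg hkj.symm,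
        if_neg hij, if_neg hij.symm, add_zero]
      ring
    · simp only [if_neg hli, if_neg hlk, add_zero]

section Overgroup

variable (M : Subgroup (GL ι F)) (hNM : NGrp F₀ ⊓ specialLinear ι F ≤ M)

include hNM

lemma col_change {i k j : ι} (hik : i ≠ k) (hkj : k ≠ j) (hij : i ≠ j) {c : F}
    (h : elemTv i k hik c ∈ M) : elemTv i j hij c ∈ M := by
  have h1 : elemTv k j hkj (1 : F) ∈ M := hNM (elemTv_mem_NS k j hkj F₀.one_mem)
  have := elemTv_comm i k j hik hkj hij c 1
  rw [mul_one] at this
  rw [← this]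
  exact M.mul_mem (M.mul_mem (M.mul_mem h h1) (M.inv_mem h)) (M.inv_mem h1)

lemma row_change {i k j : ι} (hik : i ≠ k) (hkj : k ≠ j) (hij : i ≠ j) {c : F}
    (h : elemTv k j hkj c ∈ M) : elemTv i j hij c ∈ M := by
  have h1 : elemTv i k hik (1 : F) ∈ M := hNM (elemTv_mem_NS i k hik F₀.one_mem)
  have := elemTv_comm i k j hik hkj hij 1 c
  rw [one_mul] at this
  rw [← this]
  exact M.mul_mem (M.mul_mem (M.mul_mem h1 h) (M.inv_mem h1)) (M.inv_mem h)

lemma all_pairs (hcard : 5 ≤ Fintype.card ι) {i j : ι} (hij : i ≠ j) {c : F}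
    (h : elemTv i j hij c ∈ M) (k l : ι) (hkl : k ≠ l) : elemTv k l hkl c ∈ M := by
  classical
  obtain ⟨m, hm⟩ : ∃ m : ι, m ∉ ({i, j, k, l} : Finset ι) := by
    by_contra hno
    push Not at hno
    have h1 : (Finset.univ : Finset ι) ⊆ {i, j, k, l} := fun x _ => hno x
    have h2 := Finset.card_le_card h1
    have h3 : ({i, j, k, l} : Finset ι).card ≤ 4 := Finset.card_le_four
    rw [Finset.card_univ] at h2
    omega
  simp only [Finset.mem_insert, Finset.mem_singleton, not_or] at hm
  obtain ⟨hmi, hmj, hmk, hml⟩ := hm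
  have s1 : elemTv i m (Ne.symm hmi) c ∈ M :=
    col_change M hNM hij (Ne.symm hmj) (Ne.symm hmi) h
  have s2 : elemTv k m (Ne.symm hmk) c ∈ M := by
    by_cases hki : k = i
    · subst hki; exact s1
    · exact row_change M hNM hki (Ne.symm hmi) (Ne.symm hmk) s1
  exact col_change M hNM (Ne.symm hmk) hml hkl s2

end Overgroup

section Ring

variable [Fintype F] (M : Subgroup (GL ι F))

/-- the subfield of root parameters -/
def paramField (hNM : NGrp F₀ ⊓ specialLinear ι F ≤ M) (hcard : 5 ≤ Fintype.card ι)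
    (o o' : ι) (hoo : o ≠ o') : Subfield F where
  carrier := {c | elemTv o o' hoo c ∈ M}
  mul_mem' := by
    intro a b ha hb
    classical
    obtain ⟨m, hm⟩ : ∃ m : ι, m ∉ ({o, o'} : Finset ι) := by
      by_contra hno
      push Not at hno
      have h1 : (Finset.univ : Finset ι) ⊆ {o, o'} := fun x _ => hno x
      have h2 := Finset.card_le_card h1
      have h3 : ({o, o'} : Finset ι).card ≤ 2 := Finset.card_le_two
      rw [Finset.card_univ] at h2
      omega
    simp only [Finset.mem_insert, Finset.mem_singleton, not_or] at hm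
    obtain ⟨hmo, hmo'⟩ := hm
    have h1 : elemTv o m (Ne.symm hmo) a ∈ M := all_pairs M hNM hcard hoo ha _ _ _
    have h2 : elemTv m o' hmo' b ∈ M := all_pairs M hNM hcard hoo hb _ _ _
    show elemTv o o' hoo (a * b) ∈ M
    rw [← elemTv_comm o m o' (Ne.symm hmo) hmo' hoo a b]
    exact M.mul_mem (M.mul_mem (M.mul_mem h1 h2) (M.inv_mem h1)) (M.inv_mem h2)
  one_mem' := hNM (elemTv_mem_NS o o' hoo F₀.one_mem)
  add_mem' := by
    intro a b ha hb
    show elemTv o o' hoo (a + b) ∈ M
    rw [← elemTv_mul]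
    exact M.mul_mem ha hb
  zero_mem' := by
    show elemTv o o' hoo (0 : F) ∈ M
    rw [elemTv_zero]; exact M.one_mem
  neg_mem' := by
    intro a ha
    show elemTv o o' hoo (-a) ∈ M
    rw [← elemTv_inv]; exact M.inv_mem ha
  inv_mem' := by
    intro a ha
    by_cases h0 : a = 0
    · subst h0; rw [_root_.inv_zero]; exact ha
    · -- a⁻¹ = a ^ (q - 2)
      have hq : a ^ (Fintype.card F - 1) = 1 := FiniteField.pow_card_sub_one_eq_one a h0
      have h2 : 2 ≤ Fintype.card F := Fintype.one_lt_card
      have hinv : a⁻¹ = a ^ (Fintype.card F - 2) := by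
        apply inv_eq_of_mul_eq_one_right
        rw [← pow_succ', show Fintype.card F - 2 + 1 = Fintype.card F - 1 by omega, hq]
      rw [hinv]
      -- closed under powers
      have hpow : ∀ k : ℕ, elemTv o o' hoo (a ^ (k + 1)) ∈ M := by
        intro k
        induction k with
        | zero => rw [zero_add, pow_one]; exact ha
        | succ k ih =>
          classical
          obtain ⟨m, hm⟩ : ∃ m : ι, m ∉ ({o, o'} : Finset ι) := by
            by_contra hno
            push Not at hno
            have h1 : (Finset.univ : Finset ι) ⊆ {o, o'} := fun x _ => hno x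
            have h2 := Finset.card_le_card h1
            have h3 : ({o, o'} : Finset ι).card ≤ 2 := Finset.card_le_two
            rw [Finset.card_univ] at h2
            omega
          simp only [Finset.mem_insert, Finset.mem_singleton, not_or] at hm
          obtain ⟨hmo, hmo'⟩ := hm
          have h1 : elemTv o m (Ne.symm hmo) (a ^ (k + 1)) ∈ M := all_pairs M hNM hcard hoo ih _ _ _
          have h2 : elemTv m o' hmo' a ∈ M := all_pairs M hNM hcard hoo ha _ _ _
          rw [pow_succ, ← elemTv_comm o m o' (Ne.symm hmo) hmo' hoo]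
          exact M.mul_mem (M.mul_mem (M.mul_mem h1 h2) (M.inv_mem h1)) (M.inv_mem h2)
      by_cases hq2 : Fintype.card F - 2 = 0
      · rw [hq2, pow_zero]; exact hNM (elemTv_mem_NS o o' hoo F₀.one_mem)
      · obtain ⟨k, hk⟩ := Nat.exists_eq_succ_of_ne_zero hq2
        rw [hk]; exact hpow k

lemma mem_paramField (hNM : NGrp F₀ ⊓ specialLinear ι F ≤ M) (hcard : 5 ≤ Fintype.card ι)
    (o o' : ι) (hoo : o ≠ o') (c : F) :
    c ∈ paramField M hNM hcard o o' hoo ↔ elemTv o o' hoo c ∈ M := Iff.rfl

lemma le_paramField (hNM : NGrp F₀ ⊓ specialLinear ι F ≤ M) (hcard : 5 ≤ Fintype.card ι)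
    (o o' : ι) (hoo : o ≠ o') : F₀ ≤ paramField M hNM hcard o o' hoo :=
  fun _ hc => hNM (elemTv_mem_NS o o' hoo hc)

/-- the dichotomy: prime degree leaves no room -/
lemma paramField_dichotomy (hNM : NGrp F₀ ⊓ specialLinear ι F ≤ M) (hcard : 5 ≤ Fintype.card ι)
    (o o' : ι) (hoo : o ≠ o') (r : ℕ) (hr : r.Prime) (hF : Fintype.card F = Nat.card F₀ ^ r) :
    (∀ c, elemTv o o' hoo c ∈ M → c ∈ F₀) ∨ (∀ c : F, elemTv o o' hoo c ∈ M) := by
  classical
  haveI : Fintype F₀ := Fintype.ofFinite _
  have hfr : Module.finrank F₀ F = r := by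
    have h1 : Fintype.card F = Fintype.card F₀ ^ Module.finrank F₀ F := Module.card_eq_pow_finrank
    rw [Nat.card_eq_fintype_card] at hF
    rw [hF] at h1
    have h2 : 2 ≤ Fintype.card F₀ := Fintype.one_lt_card
    exact (Nat.pow_right_injective h2 h1).symm
  haveI : IsSimpleOrder (IntermediateField F₀ F) :=
    IntermediateField.isSimpleOrder_of_finrank_prime F₀ F (by rw [hfr]; exact hr)
  let R := paramField M hNM hcard o o' hoo
  let RI : IntermediateField F₀ F := Subfield.toIntermediateField R (fun x => le_paramField M hNM hcard o o' hoo x.2)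
  rcases eq_bot_or_eq_top RI with h | h
  · left
    intro c hc
    have : c ∈ RI := hc
    rw [h, IntermediateField.mem_bot] at this
    obtain ⟨x, rfl⟩ := this
    exact x.2
  · right
    intro c
    have : c ∈ RI := by rw [h]; trivial
    exact this

end Ring

end Cfsg.Agent.Lib.Helper44.SubF
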