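import Mathlib
import Cfsg.Prelude.Def_GeometricClasses
import Cfsg.Agent.Lib.Helper99.AschDefs
import Cfsg.Agent.Lib.Helper99.AschDefsR
import Cfsg.Agent.Lib.Helper44.SubF2

/-!
# PROJECT ASCH / BHR (helper99), module BHR-[P5] (hedge by helper44):
`SL_n` is not contained in a subfield subgroup
-/

set_option autoImplicit false
set_option linter.unusedSectionVars false

namespace Cfsg.Agent.Lib.Helper44.Bhr

open Cfsg Cfsg.Geo Cfsg.Agent.Lib.Helper93 Cfsg.Agent.Lib.Helper44.SubF
open scoped MatrixGroups Matrix Kronecker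

variable {n : ℕ} {F : Type*} [Field F] [Fintype F]

omit [Fintype F] in
theorem conj_mem_specialLinear {ι : Type} [Fintype ι] [DecidableEq ι] (P x : GL ι F)
    (hx : x ∈ specialLinear ι F) : P⁻¹ * x * P ∈ specialLinear ι F := by
  have hx' : Matrix.GeneralLinearGroup.det x = 1 := hx
  show Matrix.GeneralLinearGroup.det (P⁻¹ * x * P) = 1
  rw [map_mul, map_mul, hx', mul_one, ← map_mul, inv_mul_cancel, map_one]

/-- BHR-[P5] -/
theorem not_sl_le_subfieldSubgroup (hn : 2 ≤ n) (F₀ : Subfield F) (hF₀ : F₀ ≠ ⊤) (P : GL (Fin n) F) :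
    ¬ specialLinear (Fin n) F ≤ subfieldSubgroup F₀ P := by
  intro hle
  -- an element outside the subfield
  obtain ⟨lam, hlam⟩ : ∃ lam : F, lam ∉ F₀ := by
    by_contra h
    push Not at h
    exact hF₀ (eq_top_iff.2 fun x _ => h x)
  set o : Fin n := ⟨0, by omega⟩ with ho
  set o' : Fin n := ⟨1, by omega⟩ with ho'
  have hoo : o ≠ o' := by
    intro h
    have := congrArg Fin.val h
    simp [ho, ho'] at this
  -- `SL ≤ NGrp`
  have hN : elemTv o o' hoo lam ∈ NGrp F₀ := by
    have h1 : P * elemTv o o' hoo lam * P⁻¹ ∈ specialLinear (Fin n) F := by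
      have := conj_mem_specialLinear P⁻¹ _ (elemTv_mem_specialLinear o o' hoo lam)
      rwa [inv_inv] at this
    obtain ⟨y, hy, hye⟩ := hle h1
    have hye' : P * y * P⁻¹ = P * elemTv o o' hoo lam * P⁻¹ := hye
    have : y = elemTv o o' hoo lam := by
      have h2 := congrArg (fun z => P⁻¹ * z * P) hye'
      simp only [mul_assoc, inv_mul_cancel_left, inv_mul_cancel, mul_one] at h2
      exact h2
    rw [← this]
    exact hy
  have hval : ∀ a c, ((elemTv o o' hoo lam : GL (Fin n) F) : Matrix (Fin n) (Fin n) F) a c =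
      (1 : Matrix (Fin n) (Fin n) F) a c + (Pi.single o lam : Fin n → F) a * (Pi.single o' (1 : F) : Fin n → F) c := by
    intro a c
    unfold elemTv
    rw [tv_val]
    unfold Helper93.tvMat
    rw [Matrix.add_apply, Matrix.vecMulVec_apply]
  have h2 : ((elemTv o o' hoo lam : GL (Fin n) F) : Matrix (Fin n) (Fin n) F) o o = 1 := by
    rw [hval, Matrix.one_apply_eq, Pi.single_eq_same, Pi.single_eq_of_ne hoo, mul_zero, add_zero]
  have h3 := ratMat_of_mem_NGrp_of_col hN o h2 o o'
  rw [hval, Matrix.one_apply_ne hoo, Pi.single_eq_same, Pi.single_eq_same, mul_one, zero_add] at h3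
  exact hlam h3

end Cfsg.Agent.Lib.Helper44.Bhr
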