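/-
helper44: the similarities of the hyperbolic 4-space `(M₂(F), det) = F² ⊗ F²` (`2 ≠ 0`):
a matrix `b` on `Fin 2 × Fin 2` with `om (b x) (b y) = lam * om x y`, `om` the polar form of `det`
(Gram matrix `J ⊗ J`), is a Kronecker product `b₁ ⊗ b₂` or `(b₁ ⊗ b₂) * swp` (`swp` = swap of the two factors).
Core of `GO₄⁺ = (GL₂ ∘ GL₂).2`; used by BHRSP-[E-SP8-PLUS5] (and ASCHOE-[E-O3O4P]).
-/
import Mathlib

set_option autoImplicit false
set_option linter.unusedSectionVars false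

namespace Cfsg.Agent.Lib.Helper44.GO4Plus

open scoped Matrix Kronecker

variable {F : Type*} [Field F]

/-- pure tensor `u ⊗ v` in coordinates -/
def pt (u v : Fin 2 → F) : Fin 2 × Fin 2 → F := fun a => u a.1 * v a.2

/-- `det [u s]` -/
def dt (u s : Fin 2 → F) : F := u 0 * s 1 - u 1 * s 0

/-- the polar form of `det` on `M₂(F) = F² ⊗ F²` -/
def om (x y : Fin 2 × Fin 2 → F) : F :=
  x (0, 0) * y (1, 1) - x (0, 1) * y (1, 0) - x (1, 0) * y (0, 1) + x (1, 1) * y (0, 0)

/-- transposition of `M₂(F)` in coordinates -/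
def tr (x : Fin 2 × Fin 2 → F) : Fin 2 × Fin 2 → F := fun a => x (a.2, a.1)

theorem pt_apply (u v : Fin 2 → F) (i j : Fin 2) : pt u v (i, j) = u i * v j := rfl

theorem om_pt (u v s t : Fin 2 → F) : om (pt u v) (pt s t) = dt u s * dt v t := by
  simp only [om, pt, dt]; ring

theorem om_symm (x y : Fin 2 × Fin 2 → F) : om x y = om y x := by
  simp only [om]; ring

theorem om_zero_left (y : Fin 2 × Fin 2 → F) : om 0 y = 0 := by
  simp [om]

theorem om_tr (x y : Fin 2 × Fin 2 → F) : om (tr x) (tr y) = om x y := by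
  simp only [om, tr]; ring

theorem tr_pt (u v : Fin 2 → F) : tr (pt u v) = pt v u := by
  funext a; simp only [tr, pt]; ring

theorem tr_tr (x : Fin 2 × Fin 2 → F) : tr (tr x) = x := by
  funext a; simp [tr]

theorem tr_eq_iff (x y : Fin 2 × Fin 2 → F) : tr x = y ↔ x = tr y := by
  constructor
  · rintro rfl; rw [tr_tr]
  · rintro rfl; rw [tr_tr]

theorem pt_smul_left (c : F) (u v : Fin 2 → F) : pt (c • u) v = pt u (c • v) := by
  funext a; simp only [pt, Pi.smul_apply, smul_eq_mul]; ring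

theorem pt_smul_smul (c d : F) (u v : Fin 2 → F) : pt (c • u) (d • v) = (c * d) • pt u v := by
  funext a; simp only [pt, Pi.smul_apply, smul_eq_mul]; ring

theorem dt_smul_right (c : F) (u s : Fin 2 → F) : dt u (c • s) = c * dt u s := by
  simp only [dt, Pi.smul_apply, smul_eq_mul]; ring

theorem dt_swap (u s : Fin 2 → F) : dt s u = - dt u s := by
  simp only [dt]; ring

theorem pt_ne_zero_left {u v : Fin 2 → F} (h : pt u v ≠ 0) : u ≠ 0 := by
  rintro rfl; apply h; funext a; simp [pt]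

theorem pt_ne_zero_right {u v : Fin 2 → F} (h : pt u v ≠ 0) : v ≠ 0 := by
  rintro rfl; apply h; funext a; simp [pt]

/-- a singular non-zero vector is a pure tensor (a matrix of determinant zero has rank one) -/
theorem exists_pt_of_singular {x : Fin 2 × Fin 2 → F} (hx : x ≠ 0)
    (h : x (0, 0) * x (1, 1) = x (0, 1) * x (1, 0)) : ∃ u v : Fin 2 → F, x = pt u v := by
  have hall : ∀ i j k l : Fin 2, x (i, j) * x (k, l) = x (i, l) * x (k, j) := by
    intro i j k l
    fin_cases i <;> fin_cases j <;> fin_cases k <;> fin_cases l <;>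
      simp only [Fin.zero_eta, Fin.mk_one] <;>
      first | ring1 | linear_combination h | linear_combination -h
  obtain ⟨⟨i0, j0⟩, ha⟩ : ∃ a, x a ≠ 0 := by
    by_contra hcon
    push Not at hcon
    exact hx (funext hcon)
  refine ⟨fun i => x (i, j0), fun j => x (i0, j) / x (i0, j0), ?_⟩
  funext ⟨i, j⟩
  simp only [pt]
  field_simp
  exact hall i j i0 j0

/-- vectors with vanishing determinant are parallel -/
theorem exists_smul_of_dt {u s : Fin 2 → F} (hu : u ≠ 0) (h : dt u s = 0) : ∃ c : F, s = c • u := by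
  simp only [dt] at h
  have hne : u 0 ≠ 0 ∨ u 1 ≠ 0 := by
    by_contra hcon
    push Not at hcon
    apply hu
    funext i
    fin_cases i
    · exact hcon.1
    · exact hcon.2
  rcases hne with h0 | h1
  · refine ⟨s 0 / u 0, ?_⟩
    funext i
    fin_cases i
    · simp only [Fin.zero_eta, Pi.smul_apply, smul_eq_mul]; field_simp
    · simp only [Fin.mk_one, Pi.smul_apply, smul_eq_mul]; field_simp; linear_combination h
  · refine ⟨s 1 / u 1, ?_⟩
    funext i
    fin_cases i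
    · simp only [Fin.zero_eta, Pi.smul_apply, smul_eq_mul]; field_simp; linear_combination -h
    · simp only [Fin.mk_one, Pi.smul_apply, smul_eq_mul]; field_simp

theorem om_zero_right (x : Fin 2 × Fin 2 → F) : om x 0 = 0 := by
  simp [om]

theorem singular_of_om_self (h2 : (2 : F) ≠ 0) {x : Fin 2 × Fin 2 → F} (h : om x x = 0) :
    x (0, 0) * x (1, 1) = x (0, 1) * x (1, 0) := by
  have h' : 2 * (x (0, 0) * x (1, 1) - x (0, 1) * x (1, 0)) = 0 := by
    rw [← h]; simp only [om]; ring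
  have := (mul_eq_zero.mp h').resolve_left h2
  linear_combination this

/-- Case A of the main lemma: if `x00 = u0 ⊗ v0` and `x01 = u0 ⊗ v1` then `x10 = u1 ⊗ v0`, `x11 = u1 ⊗ v1`. -/
theorem caseA {x00 x01 x10 x11 : Fin 2 × Fin 2 → F} {lam : F} (hlam : lam ≠ 0) (h2 : (2 : F) ≠ 0)
    (s10 : om x10 x10 = 0) (s11 : om x11 x11 = 0)
    (o2 : om x00 x10 = 0) (o3 : om x00 x11 = lam) (o4 : om x01 x10 = -lam) (o5 : om x01 x11 = 0)
    (o6 : om x10 x11 = 0) {u0 v0 v1 : Fin 2 → F} (h00 : x00 = pt u0 v0) (h01 : x01 = pt u0 v1) :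
    ∃ u1 : Fin 2 → F, x10 = pt u1 v0 ∧ x11 = pt u1 v1 := by
  have hnlam : -lam ≠ 0 := neg_ne_zero.mpr hlam
  have hx00 : x00 ≠ 0 := by
    rintro rfl; rw [om_zero_left] at o3; exact hlam o3.symm
  have hx01 : x01 ≠ 0 := by
    rintro rfl; rw [om_zero_left] at o4; exact hnlam o4.symm
  have hx10 : x10 ≠ 0 := by
    rintro rfl; rw [om_zero_right] at o4; exact hnlam o4.symm
  have hx11 : x11 ≠ 0 := by
    rintro rfl; rw [om_zero_right] at o3; exact hlam o3.symm
  obtain ⟨s', t', h10⟩ := exists_pt_of_singular hx10 (singular_of_om_self h2 s10)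
  obtain ⟨s'', t'', h11⟩ := exists_pt_of_singular hx11 (singular_of_om_self h2 s11)
  subst h00 h01 h10 h11
  have hv0 : v0 ≠ 0 := pt_ne_zero_right hx00
  have hv1 : v1 ≠ 0 := pt_ne_zero_right hx01
  rw [om_pt] at o2 o3 o4 o5 o6
  have hd1 : dt u0 s' ≠ 0 := left_ne_zero_of_mul (o4 ▸ hnlam)
  have hd2 : dt v0 t' = 0 := (mul_eq_zero.mp o2).resolve_left hd1
  obtain ⟨c', rfl⟩ := exists_smul_of_dt hv0 hd2
  have hd3 : dt u0 s'' ≠ 0 := left_ne_zero_of_mul (o3 ▸ hlam)
  have hd4 : dt v0 t'' ≠ 0 := right_ne_zero_of_mul (o3 ▸ hlam)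
  have hd5 : dt v1 t'' = 0 := (mul_eq_zero.mp o5).resolve_left hd3
  obtain ⟨c1, rfl⟩ := exists_smul_of_dt hv1 hd5
  have hu1 : c' • s' ≠ 0 := by
    rw [← pt_smul_left] at hx10
    exact pt_ne_zero_left hx10
  have hd6 : dt (c' • s') s'' = 0 := by
    have h6 : dt (c' • s') s'' * dt v0 (c1 • v1) = 0 := by
      simp only [dt, Pi.smul_apply, smul_eq_mul] at o6 ⊢
      linear_combination o6
    exact (mul_eq_zero.mp h6).resolve_right hd4
  obtain ⟨c2, rfl⟩ := exists_smul_of_dt hu1 hd6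
  refine ⟨c' • s', (pt_smul_left _ _ _).symm, ?_⟩
  rw [pt_smul_smul]
  have hc : c2 * c1 = 1 := by
    have e3 : (c2 * c1 - 1) * lam = 0 := by
      simp only [dt, Pi.smul_apply, smul_eq_mul] at o3 o4
      linear_combination o3 + (c2 * c1) * o4
    have := (mul_eq_zero.mp e3).resolve_right hlam
    linear_combination this
  rw [hc, one_smul]

/-- The main lemma on vectors: a "hyperbolic quadruple" of `(M₂(F), det)` consists of the four pure tensors
`u_i ⊗ v_j`, in the standard or in the transposed arrangement. -/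
theorem main_vec {x00 x01 x10 x11 : Fin 2 × Fin 2 → F} {lam : F} (hlam : lam ≠ 0) (h2 : (2 : F) ≠ 0)
    (s00 : om x00 x00 = 0) (s01 : om x01 x01 = 0) (s10 : om x10 x10 = 0) (s11 : om x11 x11 = 0)
    (o1 : om x00 x01 = 0) (o2 : om x00 x10 = 0) (o3 : om x00 x11 = lam) (o4 : om x01 x10 = -lam)
    (o5 : om x01 x11 = 0) (o6 : om x10 x11 = 0) :
    (∃ u0 u1 v0 v1 : Fin 2 → F, x00 = pt u0 v0 ∧ x01 = pt u0 v1 ∧ x10 = pt u1 v0 ∧ x11 = pt u1 v1) ∨
    (∃ u0 u1 v0 v1 : Fin 2 → F, x00 = pt u0 v0 ∧ x01 = pt u1 v0 ∧ x10 = pt u0 v1 ∧ x11 = pt u1 v1) := by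
  have hnlam : -lam ≠ 0 := neg_ne_zero.mpr hlam
  have hx00 : x00 ≠ 0 := by
    rintro rfl; rw [om_zero_left] at o3; exact hlam o3.symm
  have hx01 : x01 ≠ 0 := by
    rintro rfl; rw [om_zero_left] at o4; exact hnlam o4.symm
  obtain ⟨u0, v0, h00⟩ := exists_pt_of_singular hx00 (singular_of_om_self h2 s00)
  obtain ⟨s, t, h01⟩ := exists_pt_of_singular hx01 (singular_of_om_self h2 s01)
  have hu0 : u0 ≠ 0 := pt_ne_zero_left (h00 ▸ hx00)
  have hv0 : v0 ≠ 0 := pt_ne_zero_right (h00 ▸ hx00)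
  have o1' := o1
  rw [h00, h01, om_pt] at o1'
  rcases mul_eq_zero.mp o1' with hA | hB
  · obtain ⟨c, rfl⟩ := exists_smul_of_dt hu0 hA
    rw [pt_smul_left] at h01
    obtain ⟨u1, h10, h11⟩ := caseA hlam h2 s10 s11 o2 o3 o4 o5 o6 h00 h01
    exact Or.inl ⟨u0, u1, v0, c • t, h00, h01, h10, h11⟩
  · obtain ⟨c, rfl⟩ := exists_smul_of_dt hv0 hB
    rw [← pt_smul_left] at h01
    have h00' : tr x00 = pt v0 u0 := by rw [h00, tr_pt]
    have h01' : tr x01 = pt v0 (c • s) := by rw [h01, tr_pt]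
    obtain ⟨w, h10, h11⟩ := caseA (x00 := tr x00) (x01 := tr x01) (x10 := tr x10) (x11 := tr x11)
      hlam h2 (by rw [om_tr]; exact s10) (by rw [om_tr]; exact s11) (by rw [om_tr]; exact o2)
      (by rw [om_tr]; exact o3) (by rw [om_tr]; exact o4) (by rw [om_tr]; exact o5)
      (by rw [om_tr]; exact o6) h00' h01'
    rw [tr_eq_iff, tr_pt] at h10 h11
    exact Or.inr ⟨u0, c • s, v0, w, h00, h01, h10, h11⟩

/-- the swap of the two tensor factors (transposition of `M₂(F)`) as a matrix -/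
def swp (F : Type*) [Field F] : Matrix (Fin 2 × Fin 2) (Fin 2 × Fin 2) F :=
  Matrix.of fun a c => if c = a.swap then 1 else 0

theorem mul_swp_apply (M : Matrix (Fin 2 × Fin 2) (Fin 2 × Fin 2) F) (a : Fin 2 × Fin 2) (k l : Fin 2) :
    (M * swp F) a (k, l) = M a (l, k) := by
  rw [Matrix.mul_apply, Finset.sum_eq_single (l, k)]
  · simp [swp]
  · intro c _ hc
    have : ¬ ((k, l) = c.swap) := by
      intro h
      apply hc
      rw [← Prod.swap_swap c, ← h]
      rfl
    simp [swp, this]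
  · simp

theorem swp_mul_swp : swp F * swp F = 1 := by
  ext a ⟨k, l⟩
  rw [mul_swp_apply]
  simp only [swp, Matrix.of_apply, Matrix.one_apply]
  by_cases h : a = (k, l)
  · subst h; simp
  · rw [if_neg h, if_neg]
    intro h'
    apply h
    rw [← Prod.swap_swap a, ← h']
    rfl

theorem om_single_single (a c : Fin 2 × Fin 2) :
    om (Pi.single a (1 : F)) (Pi.single c 1) =
      if a = (0, 0) ∧ c = (1, 1) ∨ a = (1, 1) ∧ c = (0, 0) then 1
      else if a = (0, 1) ∧ c = (1, 0) ∨ a = (1, 0) ∧ c = (0, 1) then -1 else 0 := by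
  obtain ⟨i, j⟩ := a
  obtain ⟨k, l⟩ := c
  fin_cases i <;> fin_cases j <;> fin_cases k <;> fin_cases l <;> simp [om, Pi.single_apply]

/-- **The similarities of `(M₂(F), det)`**: a matrix on `Fin 2 × Fin 2` multiplying the polar form of `det` by a
non-zero scalar is a Kronecker product, or a Kronecker product times the swap of the two factors. -/
theorem main_matrix (h2 : (2 : F) ≠ 0) {lam : F} (hlam : lam ≠ 0)
    (b : Matrix (Fin 2 × Fin 2) (Fin 2 × Fin 2) F)
    (hb : ∀ x y, om (b *ᵥ x) (b *ᵥ y) = lam * om x y) :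
    ∃ b₁ b₂ : Matrix (Fin 2) (Fin 2) F, b = b₁ ⊗ₖ b₂ ∨ b = (b₁ ⊗ₖ b₂) * swp F := by
  have hcol : ∀ (c a : Fin 2 × Fin 2), (b *ᵥ Pi.single c (1 : F)) a = b a c := by
    intro c a
    simp [Matrix.mulVec, dotProduct, Pi.single_apply]
  have hrel : ∀ a c : Fin 2 × Fin 2, om (b *ᵥ Pi.single a (1 : F)) (b *ᵥ Pi.single c 1) =
      lam * om (Pi.single a (1 : F)) (Pi.single c 1) := fun a c => hb _ _
  rcases main_vec (x00 := b *ᵥ Pi.single (0, 0) 1) (x01 := b *ᵥ Pi.single (0, 1) 1)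
      (x10 := b *ᵥ Pi.single (1, 0) 1) (x11 := b *ᵥ Pi.single (1, 1) 1) hlam h2
      (by rw [hrel, om_single_single]; simp) (by rw [hrel, om_single_single]; simp)
      (by rw [hrel, om_single_single]; simp) (by rw [hrel, om_single_single]; simp)
      (by rw [hrel, om_single_single]; simp) (by rw [hrel, om_single_single]; simp)
      (by rw [hrel, om_single_single]; simp) (by rw [hrel, om_single_single]; simp)
      (by rw [hrel, om_single_single]; simp) (by rw [hrel, om_single_single]; simp) with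
    ⟨u0, u1, v0, v1, h00, h01, h10, h11⟩ | ⟨u0, u1, v0, v1, h00, h01, h10, h11⟩
  · refine ⟨Matrix.of fun i k => (![u0, u1] k) i, Matrix.of fun j l => (![v0, v1] l) j, Or.inl ?_⟩
    ext ⟨i, j⟩ ⟨k, l⟩
    rw [← hcol]
    fin_cases k <;> fin_cases l
    · simp only [Fin.zero_eta, h00]; simp [pt, Matrix.kroneckerMap_apply]
    · simp only [Fin.zero_eta, Fin.mk_one, h01]; simp [pt, Matrix.kroneckerMap_apply]
    · simp only [Fin.zero_eta, Fin.mk_one, h10]; simp [pt, Matrix.kroneckerMap_apply]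
    · simp only [Fin.mk_one, h11]; simp [pt, Matrix.kroneckerMap_apply]
  · refine ⟨Matrix.of fun i k => (![u0, u1] k) i, Matrix.of fun j l => (![v0, v1] l) j, Or.inr ?_⟩
    ext ⟨i, j⟩ ⟨k, l⟩
    rw [mul_swp_apply, ← hcol]
    fin_cases k <;> fin_cases l
    · simp only [Fin.zero_eta, h00]; simp [pt, Matrix.kroneckerMap_apply]
    · simp only [Fin.zero_eta, Fin.mk_one, h01]; simp [pt, Matrix.kroneckerMap_apply]
    · simp only [Fin.zero_eta, Fin.mk_one, h10]; simp [pt, Matrix.kroneckerMap_apply]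
    · simp only [Fin.mk_one, h11]; simp [pt, Matrix.kroneckerMap_apply]

/-! ### The hyperbolic normal form of a 4-space of plus type -/

section Hyp

variable {V : Type*} [AddCommGroup V] [Module F V]

/-- a non-zero singular vector has a singular partner -/
theorem exists_partner (B : LinearMap.BilinForm F V) (h2 : (2 : F) ≠ 0)
    (hsymm : ∀ x y, B x y = B y x) (hnd : ∀ v, v ≠ 0 → ∃ x, B v x ≠ 0)
    (e : V) (he : e ≠ 0) (hee : B e e = 0) : ∃ f, B e f = 1 ∧ B f f = 0 := by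
  obtain ⟨f0, hf0⟩ := hnd e he
  have h1 : B e ((B e f0)⁻¹ • f0) = 1 := by
    rw [map_smul, smul_eq_mul, inv_mul_cancel₀ hf0]
  obtain ⟨f1, hf1⟩ : ∃ f1, f1 = (B e f0)⁻¹ • f0 := ⟨_, rfl⟩
  rw [← hf1] at h1
  refine ⟨f1 - (B f1 f1 / 2) • e, ?_, ?_⟩
  · rw [map_sub, map_smul, hee, h1]; simp
  · simp only [map_sub, map_smul, LinearMap.sub_apply, LinearMap.smul_apply, smul_eq_mul, hee, h1,
      hsymm f1 e]
    field_simp
    ring

/-- two independent mutually orthogonal singular vectors extend to a hyperbolic quadruple -/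
theorem exists_hyp4 (B : LinearMap.BilinForm F V) (h2 : (2 : F) ≠ 0)
    (hsymm : ∀ x y, B x y = B y x) (hnd : ∀ v, v ≠ 0 → ∃ x, B v x ≠ 0)
    (u1 u2 : V) (hli : ∀ a : F, u2 ≠ a • u1) (hu1 : u1 ≠ 0)
    (h11 : B u1 u1 = 0) (h12 : B u1 u2 = 0) (h22 : B u2 u2 = 0) :
    ∃ p q r s : V, B p p = 0 ∧ B q q = 0 ∧ B r r = 0 ∧ B s s = 0 ∧ B p q = 0 ∧ B p r = 0 ∧ B p s = 1 ∧
      B q r = -1 ∧ B q s = 0 ∧ B r s = 0 := by
  obtain ⟨v1, hv1, hv11⟩ := exists_partner B h2 hsymm hnd u1 hu1 h11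
  have h21 : B u2 u1 = 0 := by rw [hsymm]; exact h12
  obtain ⟨w, hw⟩ : ∃ w, w = u2 - (B u2 v1) • u1 := ⟨_, rfl⟩
  have hw0 : w ≠ 0 := by
    intro h0
    rw [hw, sub_eq_zero] at h0
    exact hli _ h0
  have hww : B w w = 0 := by
    rw [hw]
    simp only [map_sub, map_smul, LinearMap.sub_apply, LinearMap.smul_apply, smul_eq_mul, h11, h12,
      h21, h22]
    ring
  have hu1w : B u1 w = 0 := by
    rw [hw]; simp only [map_sub, map_smul, smul_eq_mul, h11, h12]; ring
  have hwv1 : B w v1 = 0 := by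
    rw [hw]
    simp only [map_sub, map_smul, LinearMap.sub_apply, LinearMap.smul_apply, smul_eq_mul, hv1]
    ring
  obtain ⟨g, hg, hgg⟩ := exists_partner B h2 hsymm hnd w hw0 hww
  obtain ⟨g', hg'⟩ : ∃ g', g' = g - (B g v1) • u1 - (B g u1) • v1 := ⟨_, rfl⟩
  have hv1u1 : B v1 u1 = 1 := by rw [hsymm]; exact hv1
  have hwu1 : B w u1 = 0 := by rw [hsymm]; exact hu1w
  have hv1w : B v1 w = 0 := by rw [hsymm]; exact hwv1
  have hg'u1 : B g' u1 = 0 := by
    rw [hg']
    simp only [map_sub, map_smul, LinearMap.sub_apply, LinearMap.smul_apply, smul_eq_mul, h11, hv1u1]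
    ring
  have hg'v1 : B g' v1 = 0 := by
    rw [hg']
    simp only [map_sub, map_smul, LinearMap.sub_apply, LinearMap.smul_apply, smul_eq_mul, hv1, hv11]
    ring
  have hwg' : B w g' = 1 := by
    rw [hg']
    simp only [map_sub, map_smul, smul_eq_mul, hg, hwu1, hwv1]
    ring
  obtain ⟨g'', hg''⟩ : ∃ g'', g'' = g' - (B g' g' / 2) • w := ⟨_, rfl⟩
  have hg'w : B g' w = 1 := by rw [hsymm]; exact hwg'
  have hg''g'' : B g'' g'' = 0 := by
    rw [hg'']
    simp only [map_sub, map_smul, LinearMap.sub_apply, LinearMap.smul_apply, smul_eq_mul, hww, hwg',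
      hg'w]
    field_simp
    ring
  have hg''u1 : B g'' u1 = 0 := by
    rw [hg'']
    simp only [map_sub, map_smul, LinearMap.sub_apply, LinearMap.smul_apply, smul_eq_mul, hg'u1, hwu1]
    ring
  have hg''v1 : B g'' v1 = 0 := by
    rw [hg'']
    simp only [map_sub, map_smul, LinearMap.sub_apply, LinearMap.smul_apply, smul_eq_mul, hg'v1, hwv1]
    ring
  have hwg'' : B w g'' = 1 := by
    rw [hg'']
    simp only [map_sub, map_smul, smul_eq_mul, hwg', hww]
    ring
  refine ⟨u1, w, -g'', v1, h11, hww, ?_, hv11, hu1w, ?_, hv1, ?_, hwv1, ?_⟩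
  · simp only [map_neg, LinearMap.neg_apply, neg_neg, hg''g'']
  · rw [map_neg, hsymm, hg''u1, neg_zero]
  · rw [map_neg, hwg'']
  · simp only [map_neg, LinearMap.neg_apply, hg''v1, neg_zero]

end Hyp

end Cfsg.Agent.Lib.Helper44.GO4Plus
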