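/-
helper44: BHRSP-[E-SP8-PLUS5] (project BHRSP of helper94, row S5823): for `q` odd,
`Sp_2 ⊗ GO_4⁺ ≤ Sp_2 ≀ S_3` inside `Sp_8(q)`.
-/
import Mathlib
import Cfsg.Prelude.Def_GeometricClasses
import Cfsg.Agent.Lib.Helper94.TensorBasic
import Cfsg.Agent.Lib.Helper44.GO4Plus

set_option autoImplicit false
set_option linter.unusedSectionVars false
set_option linter.unusedVariables false
set_option linter.unusedSimpArgs false

namespace Cfsg.Agent.Lib.Helper44.Sp8Plus5

open Cfsg Cfsg.Geo Cfsg.Agent.Lib.Helper94 Cfsg.Agent.Lib.Helper44.GO4Plus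
open scoped MatrixGroups Matrix Kronecker

variable {F : Type*} [Field F]

theorem two_ne_zero_of_odd_card' [Fintype F] (hodd : Odd (Fintype.card F)) : (2 : F) ≠ 0 := by
  intro h2
  have hchar : ringChar F = 2 := by
    have hdvd : ringChar F ∣ 2 := by
      have := (ringChar.spec F 2).mp (by exact_mod_cast h2)
      exact this
    have hp : (ringChar F).Prime := CharP.char_is_prime F (ringChar F)
    rcases (Nat.dvd_prime Nat.prime_two).mp hdvd with h | h
    · exact absurd h hp.one_lt.ne'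
    · exact h
  have := FiniteField.even_card_of_char_two hchar
  rcases hodd with ⟨k, hk⟩
  omega

/-! ### A symplectic form on `F²` is a multiple of the determinant -/

theorem symp2_eq (f₁ : (Fin 2 → F) → (Fin 2 → F) → F) (hf₁ : IsSymplecticForm f₁) :
    ∃ a₁ : F, a₁ ≠ 0 ∧ ∀ u v, f₁ u v = a₁ * dt u v := by
  have hform : ∀ u v, f₁ u v = gramMatrix f₁ 0 1 * dt u v := by
    intro u v
    rw [← formOfGram_gramMatrix hf₁.bilinear u v]
    have h00 : gramMatrix f₁ 0 0 = 0 := hf₁.alternating _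
    have h11 : gramMatrix f₁ 1 1 = 0 := hf₁.alternating _
    have h10 : gramMatrix f₁ 1 0 = - gramMatrix f₁ 0 1 := hf₁.skew _ _
    simp only [formOfGram, Fin.sum_univ_two, h00, h11, h10, dt, id]
    ring
  refine ⟨gramMatrix f₁ 0 1, ?_, hform⟩
  intro h0
  have hne : (Pi.single (0 : Fin 2) (1 : F) : Fin 2 → F) ≠ 0 := by
    intro h
    have := congrFun h 0
    simp at this
  obtain ⟨x, hx⟩ := (hf₁.nondegenerate _ hne).1
  apply hx
  rw [hform, h0, zero_mul]

theorem gram_dt : gramMatrix (dt (F := F)) = !![0, 1; -1, 0] := by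
  ext i j
  fin_cases i <;> fin_cases j <;> simp [gramMatrix, dt]

theorem isSymplecticForm_dt : IsSymplecticForm (dt (F := F)) where
  bilinear :=
    { add_left := fun x y v => by simp only [dt, Pi.add_apply]; ring
      smul_left := fun c x v => by simp only [dt, Pi.smul_apply, smul_eq_mul]; ring
      add_right := fun v x y => by simp only [dt, Pi.add_apply]; ring
      smul_right := fun c v x => by simp only [dt, Pi.smul_apply, smul_eq_mul]; ring }
  skew := fun v w => by simp only [dt]; ring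
  alternating := fun v => by simp only [dt]; ring
  nondegenerate := by
    intro v hv
    have hne : v 0 ≠ 0 ∨ v 1 ≠ 0 := by
      by_contra hcon
      push Not at hcon
      apply hv
      funext i
      fin_cases i
      · exact hcon.1
      · exact hcon.2
    rcases hne with h0 | h1
    · exact ⟨⟨Pi.single 1 1, by simp [dt, h0]⟩, ⟨Pi.single 1 1, by simp [dt, h0]⟩⟩
    · exact ⟨⟨Pi.single 0 1, by simp [dt, h1]⟩, ⟨Pi.single 0 1, by simp [dt, h1]⟩⟩

theorem dt_mulVec (A : Matrix (Fin 2) (Fin 2) F) (u v : Fin 2 → F) :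
    dt (A *ᵥ u) (A *ᵥ v) = A.det * dt u v := by
  simp only [dt, Matrix.mulVec, dotProduct, Fin.sum_univ_two, Matrix.det_fin_two]
  ring

/-! ### The normal form of a plus-type symmetric form on `F⁴` -/

/-- the Prelude bilinear form as a Mathlib bilinear form -/
noncomputable def toB {n : ℕ} {f : (Fin n → F) → (Fin n → F) → F} (hf : IsBilinearForm f) :
    LinearMap.BilinForm F (Fin n → F) :=
  LinearMap.mk₂ F f hf.add_left (fun c x v => by rw [hf.smul_left, smul_eq_mul]) hf.add_right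
    (fun c x v => by rw [hf.smul_right, smul_eq_mul])

theorem toB_apply {n : ℕ} {f : (Fin n → F) → (Fin n → F) → F} (hf : IsBilinearForm f)
    (u v : Fin n → F) : toB hf u v = f u v := rfl

theorem exists_normal_form (h2 : (2 : F) ≠ 0) (f₂ : (Fin 4 → F) → (Fin 4 → F) → F)
    (hf₂ : IsSymmetricForm f₂) (hplus : IsPlusTypeOn (fun v : Fin 4 → F => f₂ v v) ⊤)
    (ε : Fin 4 ≃ Fin 2 × Fin 2) :
    ∃ S : GL (Fin 4) F, ∀ x y : Fin 2 × Fin 2 → F,
      f₂ ((S : Matrix (Fin 4) (Fin 4) F) *ᵥ (x ∘ ε)) ((S : Matrix (Fin 4) (Fin 4) F) *ᵥ (y ∘ ε)) =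
        om x y := by
  obtain ⟨U, -, hUs, hUd⟩ := hplus
  have hU2 : Module.finrank F U = 2 := by
    rw [finrank_top, Module.finrank_fin_fun] at hUd; omega
  obtain ⟨B, hB⟩ : ∃ B : LinearMap.BilinForm F (Fin 4 → F), ∀ u v, B u v = f₂ u v :=
    ⟨toB hf₂.bilinear, fun u v => rfl⟩
  have hsymm : ∀ x y, B x y = B y x := fun x y => by rw [hB, hB]; exact hf₂.symm x y
  have hnd : ∀ v, v ≠ 0 → ∃ x, B v x ≠ 0 := fun v hv => by
    obtain ⟨x, hx⟩ := (hf₂.nondegenerate v hv).2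
    exact ⟨x, by rw [hB]; exact hx⟩
  have hss : ∀ u ∈ U, B u u = 0 := fun u hu => by rw [hB]; exact hUs u hu
  have hts : ∀ u ∈ U, ∀ u' ∈ U, B u u' = 0 := by
    intro u hu u' hu'
    have h1 : B (u + u') (u + u') = 0 := hss _ (U.add_mem hu hu')
    have h2' : B u u = 0 := hss _ hu
    have h3 : B u' u' = 0 := hss _ hu'
    simp only [map_add, LinearMap.add_apply, h2', h3, hsymm u' u] at h1
    have : 2 * B u u' = 0 := by linear_combination h1
    exact (mul_eq_zero.mp this).resolve_left h2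
  let bU := Module.finBasisOfFinrankEq F U hU2
  have hli : ∀ a : F, (bU 1 : Fin 4 → F) ≠ a • (bU 0 : Fin 4 → F) := by
    intro a h
    have hlin := bU.linearIndependent
    rw [Fintype.linearIndependent_iff] at hlin
    have := hlin ![-a, 1] (by
      rw [Fin.sum_univ_two]
      apply Subtype.ext
      simp [h]) 1
    simp at this
  have hu1 : (bU 0 : Fin 4 → F) ≠ 0 := fun h => bU.ne_zero 0 (Subtype.ext h)
  obtain ⟨p, q, r, s, hpp, hqq, hrr, hss', hpq, hpr, hps, hqr, hqs, hrs⟩ :=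
    exists_hyp4 B h2 hsymm hnd (bU 0 : Fin 4 → F) (bU 1 : Fin 4 → F) hli hu1
      (hts _ (bU 0).2 _ (bU 0).2) (hts _ (bU 0).2 _ (bU 1).2) (hts _ (bU 1).2 _ (bU 1).2)
  have hqp : B q p = 0 := by rw [hsymm]; exact hpq
  have hrp : B r p = 0 := by rw [hsymm]; exact hpr
  have hsp : B s p = 1 := by rw [hsymm]; exact hps
  have hrq : B r q = -1 := by rw [hsymm]; exact hqr
  have hsq : B s q = 0 := by rw [hsymm]; exact hqs
  have hsr : B s r = 0 := by rw [hsymm]; exact hrs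
  obtain ⟨S₀, hS₀def⟩ : ∃ S₀ : Matrix (Fin 4) (Fin 4) F,
      S₀ = Matrix.of fun m n => (![![p, q], ![r, s]] (ε n).1 (ε n).2) m := ⟨_, rfl⟩
  have hS₀ : ∀ x : Fin 2 × Fin 2 → F,
      S₀ *ᵥ (x ∘ ε) = x (0, 0) • p + x (0, 1) • q + x (1, 0) • r + x (1, 1) • s := by
    intro x
    funext m
    simp only [hS₀def, Matrix.mulVec, dotProduct, Matrix.of_apply, Function.comp]
    rw [ε.sum_comp (fun a => (![![p, q], ![r, s]] a.1 a.2) m * x a), Fintype.sum_prod_type,
      Fin.sum_univ_two, Fin.sum_univ_two, Fin.sum_univ_two]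
    simp
    ring
  have hform : ∀ x y : Fin 2 × Fin 2 → F, f₂ (S₀ *ᵥ (x ∘ ε)) (S₀ *ᵥ (y ∘ ε)) = om x y := by
    intro x y
    rw [hS₀, hS₀, ← hB]
    simp only [map_add, map_smul, LinearMap.add_apply, LinearMap.smul_apply, smul_eq_mul, hpp, hqq,
      hrr, hss', hpq, hpr, hps, hqr, hqs, hrs, hqp, hrp, hsp, hrq, hsq, hsr, om]
    ring
  have hker : ∀ z : Fin 4 → F, S₀ *ᵥ z = 0 → z = 0 := by
    intro z hz
    have hzx : z = (z ∘ ε.symm) ∘ ε := by funext m; simp
    have hom : ∀ y, om (z ∘ ε.symm) y = 0 := by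
      intro y
      rw [← hform, ← hzx, hz, ← hB, map_zero, LinearMap.zero_apply]
    have hx0 : z ∘ ε.symm = 0 := by
      funext ⟨i, j⟩
      fin_cases i <;> fin_cases j
      · have := hom (Pi.single (1, 1) 1); simpa [om] using this
      · have := hom (Pi.single (1, 0) 1); simpa [om] using this
      · have := hom (Pi.single (0, 1) 1); simpa [om] using this
      · have := hom (Pi.single (0, 0) 1); simpa [om] using this
    rw [hzx, hx0]; rfl
  have hinj : Function.Injective S₀.mulVec := by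
    intro z z' hzz
    have := hker (z - z') (by rw [Matrix.mulVec_sub]; exact sub_eq_zero.mpr hzz)
    exact sub_eq_zero.mp this
  have hunit : IsUnit S₀ := Matrix.mulVec_injective_iff_isUnit.mp hinj
  exact ⟨hunit.unit, fun x y => hform x y⟩

/-! ### Kronecker products in `GL`, the index bijection `2 × (2 × 2) ≃ (Fin 3 → Fin 2)` -/

section Kron

variable {m n : Type} [Fintype m] [DecidableEq m] [Fintype n] [DecidableEq n]

/-- Kronecker product of invertible matrices as an invertible matrix -/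
def kronGL (a : GL m F) (b : GL n F) : GL (m × n) F where
  val := (a : Matrix m m F) ⊗ₖ (b : Matrix n n F)
  inv := ((a⁻¹ : GL m F) : Matrix m m F) ⊗ₖ ((b⁻¹ : GL n F) : Matrix n n F)
  val_inv := by
    rw [← Matrix.mul_kronecker_mul, ← Units.val_mul, ← Units.val_mul, mul_inv_cancel,
      mul_inv_cancel, Units.val_one, Units.val_one, Matrix.one_kronecker_one]
  inv_val := by
    rw [← Matrix.mul_kronecker_mul, ← Units.val_mul, ← Units.val_mul, inv_mul_cancel,
      inv_mul_cancel, Units.val_one, Units.val_one, Matrix.one_kronecker_one]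

theorem kronGL_val (a : GL m F) (b : GL n F) :
    ((kronGL a b : GL (m × n) F) : Matrix (m × n) (m × n) F) =
      (a : Matrix m m F) ⊗ₖ (b : Matrix n n F) := rfl

theorem kronGL_mul (a c : GL m F) (b d : GL n F) :
    kronGL a b * kronGL c d = kronGL (a * c) (b * d) := by
  apply Units.ext
  rw [Units.val_mul, kronGL_val, kronGL_val, kronGL_val, ← Matrix.mul_kronecker_mul, Units.val_mul,
    Units.val_mul]

end Kron

/-- the index bijection `2 × (2 × 2) ≃ (Fin 3 → Fin 2)` -/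
def rho3 : Fin 2 × (Fin 2 × Fin 2) ≃ (Fin 3 → Fin 2) where
  toFun a := ![a.1, a.2.1, a.2.2]
  invFun x := (x 0, (x 1, x 2))
  left_inv := by rintro ⟨i, j, k⟩; rfl
  right_inv := by intro x; funext l; fin_cases l <;> rfl

theorem rho3_symm_apply (x : Fin 3 → Fin 2) : rho3.symm x = (x 0, (x 1, x 2)) := rfl

theorem rho3_apply (i j k : Fin 2) : rho3 (i, (j, k)) = ![i, j, k] := rfl

/-- the swap of the two factors of `F² ⊗ F²` as an invertible matrix -/
def swpGL : GL (Fin 2 × Fin 2) F := ⟨swp F, swp F, swp_mul_swp, swp_mul_swp⟩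

theorem swpGL_mul_swpGL : (swpGL : GL (Fin 2 × Fin 2) F) * swpGL = 1 := by
  apply Units.ext
  exact swp_mul_swp

theorem glReindex_apply {κ ι : Type} [Fintype κ] [DecidableEq κ] [Fintype ι] [DecidableEq ι]
    (e : κ ≃ ι) (g : GL κ F) (x y : ι) :
    ((glReindex e g : GL ι F) : Matrix ι ι F) x y = (g : Matrix κ κ F) (e.symm x) (e.symm y) := rfl

theorem pure_mem (A b₁ b₂ : GL (Fin 2) F) (β : GL (Fin 2 × Fin 2) F)
    (hβ : (β : Matrix (Fin 2 × Fin 2) (Fin 2 × Fin 2) F) =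
      (b₁ : Matrix (Fin 2) (Fin 2) F) ⊗ₖ (b₂ : Matrix (Fin 2) (Fin 2) F)) :
    glReindex rho3 (kronGL A β) ∈ tensorWreathStandard 2 3 F := by
  apply Subgroup.subset_closure
  left
  refine ⟨![A, b₁, b₂], fun x y => ?_⟩
  rw [glReindex_apply, kronGL_val, hβ, Fin.prod_univ_three, rho3_symm_apply, rho3_symm_apply]
  simp [Matrix.kroneckerMap_apply, mul_assoc]

theorem perm_mem :
    glReindex rho3 (kronGL (1 : GL (Fin 2) F) swpGL) ∈ tensorWreathStandard 2 3 F := by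
  apply Subgroup.subset_closure
  right
  refine ⟨Equiv.swap 1 2, fun x y => ?_⟩
  rw [glReindex_apply, kronGL_val, rho3_symm_apply, rho3_symm_apply]
  have key : (y = x ∘ Equiv.swap (1 : Fin 3) 2) ↔ (x 0 = y 0 ∧ y 1 = x 2 ∧ y 2 = x 1) := by
    constructor
    · rintro rfl
      refine ⟨?_, ?_, ?_⟩
      · simp only [Function.comp]
        rw [Equiv.swap_apply_of_ne_of_ne (by decide) (by decide)]
      · simp only [Function.comp]
        rw [Equiv.swap_apply_left]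
      · simp only [Function.comp]
        rw [Equiv.swap_apply_right]
    · rintro ⟨h0, h1, h2⟩
      funext l
      fin_cases l
      · simp only [Function.comp, Fin.zero_eta]
        rw [Equiv.swap_apply_of_ne_of_ne (by decide) (by decide)]
        exact h0.symm
      · simp only [Function.comp, Fin.mk_one]
        rw [Equiv.swap_apply_left]
        exact h1
      · simp only [Function.comp]
        rw [show (⟨2, by decide⟩ : Fin 3) = 2 from rfl, Equiv.swap_apply_right]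
        exact h2
  simp only [Matrix.kroneckerMap_apply, Units.val_one, Matrix.one_apply, swpGL, swp, Matrix.of_apply,
    Prod.swap_prod_mk, Prod.mk.injEq]
  by_cases h : y = x ∘ Equiv.swap (1 : Fin 3) 2
  · rw [if_pos h]
    obtain ⟨h0, h1, h2⟩ := key.mp h
    rw [if_pos h0, if_pos ⟨h1, h2⟩, one_mul]
  · rw [if_neg h]
    by_cases h0 : x 0 = y 0
    · rw [if_pos h0, if_neg, mul_zero]
      rintro ⟨h1, h2⟩
      exact h (key.mpr ⟨h0, h1, h2⟩)
    · rw [if_neg h0, zero_mul]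

/-! ### The triple tensor power of `dt` -/

theorem form_sum (x y : (Fin 3 → Fin 2) → F) :
    ∑ a, ∑ b, x a * (∏ l, gramMatrix (dt (F := F)) (a l) (b l)) * y b =
      ∑ i, ∑ i', gramMatrix (dt (F := F)) i i' *
        om (fun a => x (rho3 (i, a))) (fun a => y (rho3 (i', a))) := by
  rw [← rho3.sum_comp]
  have hin : ∀ a : Fin 2 × (Fin 2 × Fin 2),
      ∑ b, x (rho3 a) * (∏ l, gramMatrix (dt (F := F)) (rho3 a l) (b l)) * y b =
      ∑ b : Fin 2 × (Fin 2 × Fin 2),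
        x (rho3 a) * (∏ l, gramMatrix (dt (F := F)) (rho3 a l) (rho3 b l)) * y (rho3 b) := by
    intro a
    rw [← rho3.sum_comp]
  simp only [hin]
  simp only [Fintype.sum_prod_type, Fin.sum_univ_two, Fin.prod_univ_three, rho3_apply, gram_dt, om]
  simp
  ring

theorem formOfGram_kron_split {n₁ n₂ : ℕ} (G₁ : Matrix (Fin n₁) (Fin n₁) F)
    (f₂ : (Fin n₂ → F) → (Fin n₂ → F) → F) (hf₂ : IsBilinearForm f₂) (X Y : Fin n₁ × Fin n₂ → F) :
    formOfGram id (G₁ ⊗ₖ gramMatrix f₂) X Y =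
      ∑ i, ∑ i', G₁ i i' * f₂ (fun m => X (i, m)) (fun m => Y (i', m)) := by
  have h : ∀ i i', f₂ (fun m => X (i, m)) (fun m => Y (i', m)) =
      ∑ m, ∑ m', X (i, m) * gramMatrix f₂ m m' * Y (i', m') := by
    intro i i'
    rw [← formOfGram_gramMatrix hf₂]
    rfl
  simp only [h, formOfGram, Fintype.sum_prod_type, Matrix.kroneckerMap_apply, id]
  apply Finset.sum_congr rfl
  intro i _
  rw [Finset.sum_comm]
  apply Finset.sum_congr rfl
  intro i' _
  rw [Finset.mul_sum]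
  apply Finset.sum_congr rfl
  intro m _
  rw [Finset.mul_sum]
  apply Finset.sum_congr rfl
  intro m' _
  ring

/-! ### The main theorem -/

theorem det_ne_zero_of_GL {n : Type} [Fintype n] [DecidableEq n] (A : GL n F) :
    (A : Matrix n n F).det ≠ 0 :=
  ((Matrix.isUnit_iff_isUnit_det _).mp A.isUnit).ne_zero

theorem rho3_zero (a : Fin 2 × (Fin 2 × Fin 2)) : rho3 a 0 = a.1 := rfl
theorem rho3_one (a : Fin 2 × (Fin 2 × Fin 2)) : rho3 a 1 = a.2.1 := rfl
theorem rho3_two (a : Fin 2 × (Fin 2 × Fin 2)) : rho3 a 2 = a.2.2 := rfl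

/-- the value of the form on images of pure tensors (as `Helper94.tens_form`) -/
theorem tens_form' {ι : Type} [Fintype ι] [DecidableEq ι] {n₁ n₂ : ℕ}
    {f : (ι → F) → (ι → F) → F} {f₁ : (Fin n₁ → F) → (Fin n₁ → F) → F}
    {f₂ : (Fin n₂ → F) → (Fin n₂ → F) → F} (hf₁ : IsBilinearForm f₁)
    (hf₂ : IsBilinearForm f₂) {e : ι ≃ Fin n₁ × Fin n₂} {P : GL ι F} {c : F}
    (hT : ∀ x y : Fin n₁ × Fin n₂ → F,
      f ((P : Matrix ι ι F) *ᵥ (x ∘ e)) ((P : Matrix ι ι F) *ᵥ (y ∘ e)) =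
        c * formOfGram id (gramMatrix f₁ ⊗ₖ gramMatrix f₂) x y)
    (u u' : Fin n₁ → F) (w w' : Fin n₂ → F) :
    f (tensPhi e P (pureT u w)) (tensPhi e P (pureT u' w')) = c * (f₁ u u' * f₂ w w') := by
  rw [tensPhi_apply, tensPhi_apply, hT, formOfGram_kronecker_pureT id (fun _ _ => rfl),
    formOfGram_gramMatrix hf₁, formOfGram_gramMatrix hf₂]

theorem kron_factors_invertible (β : GL (Fin 2 × Fin 2) F) (b₁ b₂ : Matrix (Fin 2) (Fin 2) F)
    (hb : (β : Matrix (Fin 2 × Fin 2) (Fin 2 × Fin 2) F) = b₁ ⊗ₖ b₂) :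
    ∃ b₁' b₂' : GL (Fin 2) F, (b₁' : Matrix (Fin 2) (Fin 2) F) = b₁ ∧
      (b₂' : Matrix (Fin 2) (Fin 2) F) = b₂ := by
  have hdet := det_ne_zero_of_GL β
  rw [hb, Matrix.det_kronecker] at hdet
  have h1 : b₁.det ≠ 0 := by
    intro h; apply hdet; rw [h]; simp
  have h2 : b₂.det ≠ 0 := by
    intro h; apply hdet; rw [h]; simp
  exact ⟨Matrix.GeneralLinearGroup.mkOfDetNeZero b₁ h1,
    Matrix.GeneralLinearGroup.mkOfDetNeZero b₂ h2, rfl, rfl⟩

theorem tensor_plus_sp8_aux [Fintype F] (hodd : Odd (Fintype.card F))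
    (e : (Fin 4 ⊕ Fin 4) ≃ Fin 2 × Fin 4) (P : GL (Fin 4 ⊕ Fin 4) F)
    (f₁ : (Fin 2 → F) → (Fin 2 → F) → F) (f₂ : (Fin 4 → F) → (Fin 4 → F) → F)
    (hf₁ : IsSymplecticForm f₁) (hf₂ : IsSymmetricForm f₂)
    (hplus : IsPlusTypeOn (fun v : Fin 4 → F => f₂ v v) ⊤)
    (hT : IsTensorFormStructure id (sympForm 4 F) f₁ f₂ e P) :
    ∃ (e' : (Fin 4 ⊕ Fin 4) ≃ (Fin 3 → Fin 2)) (P' : GL (Fin 4 ⊕ Fin 4) F)
      (f₁' : (Fin 2 → F) → (Fin 2 → F) → F),
      IsSymplecticForm f₁' ∧ IsTensorPowerFormStructure id (sympForm 4 F) f₁' e' P' ∧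
      tensorProductSubgroup 2 4 e P ⊓ spGL 4 F ≤ tensorWreathSubgroup 2 3 e' P' ⊓ spGL 4 F := by
  have h2 := two_ne_zero_of_odd_card' hodd
  obtain ⟨c, hc, hTc⟩ := hT
  obtain ⟨a₁, ha₁, hf₁eq⟩ := symp2_eq f₁ hf₁
  obtain ⟨ε⟩ : Nonempty (Fin 4 ≃ Fin 2 × Fin 2) := ⟨(finProdFinEquiv (m := 2) (n := 2)).symm⟩
  obtain ⟨S, hS⟩ := exists_normal_form h2 f₂ hf₂ hplus ε
  obtain ⟨θ, hθ⟩ : ∃ θ : Fin 2 × Fin 4 ≃ (Fin 3 → Fin 2),
      θ = ((Equiv.refl (Fin 2)).prodCongr ε).trans rho3 := ⟨_, rfl⟩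
  have hθapp : ∀ i m, θ (i, m) = rho3 (i, ε m) := by
    intro i m; rw [hθ]; rfl
  obtain ⟨K₁, hK₁⟩ : ∃ K₁ : GL (Fin 2 × Fin 4) F, K₁ = kronGL 1 S := ⟨_, rfl⟩
  obtain ⟨T, hTdef⟩ : ∃ T : GL (Fin 4 ⊕ Fin 4) F, T = glReindex e.symm K₁ := ⟨_, rfl⟩
  have hTval : (T : Matrix (Fin 4 ⊕ Fin 4) (Fin 4 ⊕ Fin 4) F) =
      (K₁ : Matrix (Fin 2 × Fin 4) (Fin 2 × Fin 4) F).submatrix e e := by
    rw [hTdef]; rfl
  refine ⟨e.trans θ, P * T, dt, isSymplecticForm_dt, ⟨c * a₁, mul_ne_zero hc ha₁, ?_⟩, ?_⟩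
  · -- the form
    intro x y
    have hvec : ∀ x : (Fin 3 → Fin 2) → F,
        ((P * T : GL (Fin 4 ⊕ Fin 4) F) : Matrix (Fin 4 ⊕ Fin 4) (Fin 4 ⊕ Fin 4) F) *ᵥ
          (x ∘ (e.trans θ)) =
        (P : Matrix (Fin 4 ⊕ Fin 4) (Fin 4 ⊕ Fin 4) F) *ᵥ
          (((K₁ : Matrix (Fin 2 × Fin 4) (Fin 2 × Fin 4) F) *ᵥ (x ∘ θ)) ∘ e) := by
      intro x
      rw [Units.val_mul, ← Matrix.mulVec_mulVec, hTval, Matrix.submatrix_mulVec_equiv]
      congr 3
      funext p
      simp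
    have hcomp : ∀ (x : (Fin 3 → Fin 2) → F) (i : Fin 2),
        (fun m => ((K₁ : Matrix (Fin 2 × Fin 4) (Fin 2 × Fin 4) F) *ᵥ (x ∘ θ)) (i, m)) =
        (S : Matrix (Fin 4) (Fin 4) F) *ᵥ ((fun a => x (rho3 (i, a))) ∘ ε) := by
      intro x i
      funext m
      rw [hK₁, kronGL_val]
      simp only [Matrix.mulVec, dotProduct, Fintype.sum_prod_type, Matrix.kroneckerMap_apply,
        Units.val_one, Matrix.one_apply, Function.comp, hθapp]
      rw [Finset.sum_eq_single i]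
      · simp
      · intro i' _ hi'
        simp [Ne.symm hi']
      · simp
    simp only [id]
    rw [hvec, hvec, hTc, formOfGram_kron_split _ _ hf₂.bilinear, form_sum, mul_assoc]
    congr 1
    rw [Finset.mul_sum]
    apply Finset.sum_congr rfl
    intro i _
    rw [Finset.mul_sum]
    apply Finset.sum_congr rfl
    intro i' _
    rw [hcomp x i, hcomp y i', hS]
    have hg : gramMatrix f₁ i i' = a₁ * gramMatrix (dt (F := F)) i i' := hf₁eq _ _
    rw [hg]
    ring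
  · -- the containment
    intro g hg
    obtain ⟨hg1, hg2⟩ := Subgroup.mem_inf.mp hg
    refine Subgroup.mem_inf.mpr ⟨?_, hg2⟩
    unfold tensorProductSubgroup at hg1
    rw [Subgroup.mem_map] at hg1
    obtain ⟨h, hh, rfl⟩ := hg1
    rw [Subgroup.mem_map] at hh
    obtain ⟨k, hk, rfl⟩ := hh
    obtain ⟨A, B, hAB⟩ := hk
    have hkAB : k = kronGL A B := Units.ext hAB
    subst hkAB
    -- the action on the tensor coordinates
    have hact : ∀ x : Fin 2 × Fin 4 → F,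
        (((MulAut.conj P).toMonoidHom ((glReindex e.symm).toMonoidHom (kronGL A B)) :
          GL (Fin 4 ⊕ Fin 4) F) : Matrix (Fin 4 ⊕ Fin 4) (Fin 4 ⊕ Fin 4) F) *ᵥ tensPhi e P x =
        tensPhi e P (((A : Matrix (Fin 2) (Fin 2) F) ⊗ₖ (B : Matrix (Fin 4) (Fin 4) F)) *ᵥ x) := by
      intro x
      rw [tensPhi_apply, tensPhi_apply]
      have h1 : ((MulAut.conj P).toMonoidHom ((glReindex e.symm).toMonoidHom (kronGL A B)) :
          GL (Fin 4 ⊕ Fin 4) F) = P * (glReindex e.symm (kronGL A B)) * P⁻¹ := rfl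
      rw [h1, Units.val_mul, Units.val_mul, ← Matrix.mulVec_mulVec, ← Matrix.mulVec_mulVec,
        Matrix.mulVec_mulVec (x ∘ e), ← Units.val_mul, inv_mul_cancel, Units.val_one,
        Matrix.one_mulVec]
      congr 1
      have h2' : ((glReindex e.symm (kronGL A B) : GL (Fin 4 ⊕ Fin 4) F) :
          Matrix (Fin 4 ⊕ Fin 4) (Fin 4 ⊕ Fin 4) F) =
          ((A : Matrix (Fin 2) (Fin 2) F) ⊗ₖ (B : Matrix (Fin 4) (Fin 4) F)).submatrix e e := rfl
      rw [h2', Matrix.submatrix_mulVec_equiv]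
      congr 2
      ext a
      simp
    -- `B` is a similarity of `f₂`
    have hdetA : (A : Matrix (Fin 2) (Fin 2) F).det ≠ 0 := det_ne_zero_of_GL A
    have hsim : ∀ w w' : Fin 4 → F,
        f₂ ((B : Matrix (Fin 4) (Fin 4) F) *ᵥ w) ((B : Matrix (Fin 4) (Fin 4) F) *ᵥ w') =
          ((A : Matrix (Fin 2) (Fin 2) F).det)⁻¹ * f₂ w w' := by
      intro w w'
      have hpres := hg2 (tensPhi e P (pureT (Pi.single 0 1) w)) (tensPhi e P (pureT (Pi.single 1 1) w'))
      have hpres' : sympForm 4 F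
          ((((MulAut.conj P).toMonoidHom ((glReindex e.symm).toMonoidHom (kronGL A B)) :
            GL (Fin 4 ⊕ Fin 4) F) : Matrix (Fin 4 ⊕ Fin 4) (Fin 4 ⊕ Fin 4) F) *ᵥ
              tensPhi e P (pureT (Pi.single 0 1) w))
          ((((MulAut.conj P).toMonoidHom ((glReindex e.symm).toMonoidHom (kronGL A B)) :
            GL (Fin 4 ⊕ Fin 4) F) : Matrix (Fin 4 ⊕ Fin 4) (Fin 4 ⊕ Fin 4) F) *ᵥ
              tensPhi e P (pureT (Pi.single 1 1) w')) =
          sympForm 4 F (tensPhi e P (pureT (Pi.single 0 1) w))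
            (tensPhi e P (pureT (Pi.single 1 1) w')) := hpres
      rw [hact, hact, kronecker_mulVec_pureT, kronecker_mulVec_pureT,
        tens_form' hf₁.bilinear hf₂.bilinear hTc, tens_form' hf₁.bilinear hf₂.bilinear hTc,
        hf₁eq, hf₁eq, dt_mulVec] at hpres'
      have hdt : dt (Pi.single (0 : Fin 2) (1 : F)) (Pi.single 1 1) = 1 := by simp [dt]
      rw [hdt] at hpres'
      have h3 := mul_left_cancel₀ hc hpres'
      field_simp
      have h4 : a₁ * ((A : Matrix (Fin 2) (Fin 2) F).det *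
          f₂ ((B : Matrix (Fin 4) (Fin 4) F) *ᵥ w) ((B : Matrix (Fin 4) (Fin 4) F) *ᵥ w')) =
          a₁ * f₂ w w' := by linear_combination h3
      have h5 := mul_left_cancel₀ ha₁ h4
      linear_combination h5
    -- the conjugate of `B` on `Fin 2 × Fin 2`
    obtain ⟨β, hβdef⟩ : ∃ β : GL (Fin 2 × Fin 2) F, β = glReindex ε (S⁻¹ * B * S) := ⟨_, rfl⟩
    have hβval : (β : Matrix (Fin 2 × Fin 2) (Fin 2 × Fin 2) F) =
        ((S⁻¹ * B * S : GL (Fin 4) F) : Matrix (Fin 4) (Fin 4) F).submatrix ε.symm ε.symm := by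
      rw [hβdef]; rfl
    have hβvec : ∀ x : Fin 2 × Fin 2 → F,
        (S : Matrix (Fin 4) (Fin 4) F) *ᵥ
          (((β : Matrix (Fin 2 × Fin 2) (Fin 2 × Fin 2) F) *ᵥ x) ∘ ε) =
        (B : Matrix (Fin 4) (Fin 4) F) *ᵥ ((S : Matrix (Fin 4) (Fin 4) F) *ᵥ (x ∘ ε)) := by
      intro x
      rw [hβval, Matrix.submatrix_mulVec_equiv]
      have h1 : ((((S⁻¹ * B * S : GL (Fin 4) F) : Matrix (Fin 4) (Fin 4) F) *ᵥ
          (x ∘ ⇑ε.symm.symm)) ∘ ⇑ε.symm) ∘ ⇑ε =
          ((S⁻¹ * B * S : GL (Fin 4) F) : Matrix (Fin 4) (Fin 4) F) *ᵥ (x ∘ ε) := by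
        funext m
        simp
      rw [h1, Matrix.mulVec_mulVec, Matrix.mulVec_mulVec, ← Units.val_mul, ← Units.val_mul]
      congr 2
      group
    have hβom : ∀ x y : Fin 2 × Fin 2 → F,
        om ((β : Matrix (Fin 2 × Fin 2) (Fin 2 × Fin 2) F) *ᵥ x)
          ((β : Matrix (Fin 2 × Fin 2) (Fin 2 × Fin 2) F) *ᵥ y) =
        ((A : Matrix (Fin 2) (Fin 2) F).det)⁻¹ * om x y := by
      intro x y
      rw [← hS, hβvec, hβvec, hsim, hS]
    -- the tensor-wreath element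
    have hgoal : glReindex (e.trans θ).symm (glReindex rho3 (kronGL A β)) =
        T⁻¹ * glReindex e.symm (kronGL A B) * T := by
      have hw' : glReindex (e.trans θ).symm (glReindex rho3 (kronGL A β)) =
          glReindex e.symm (kronGL A (S⁻¹ * B * S)) := by
        apply Units.ext
        ext p p'
        rw [glReindex_apply, glReindex_apply, glReindex_apply, kronGL_val, kronGL_val, hβval]
        simp only [Equiv.symm_symm, Equiv.trans_apply, Matrix.kroneckerMap_apply,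
          Matrix.submatrix_apply, rho3_symm_apply]
        rw [show θ (e p) = rho3 ((e p).1, ε (e p).2) from hθapp _ _,
          show θ (e p') = rho3 ((e p').1, ε (e p').2) from hθapp _ _]
        simp only [rho3_zero, rho3_one, rho3_two, Prod.mk.eta, Equiv.symm_apply_apply]
      rw [hw', hTdef, hK₁, ← map_inv, ← map_mul, ← map_mul]
      congr 1
      have hk : kronGL (1 : GL (Fin 2) F) S * kronGL A (S⁻¹ * B * S) =
          kronGL A B * kronGL 1 S := by
        rw [kronGL_mul, kronGL_mul]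
        congr 1 <;> group
      calc kronGL A (S⁻¹ * B * S)
          = (kronGL 1 S)⁻¹ * (kronGL 1 S * kronGL A (S⁻¹ * B * S)) := by group
        _ = (kronGL 1 S)⁻¹ * (kronGL A B * kronGL 1 S) := by rw [hk]
        _ = (kronGL 1 S)⁻¹ * kronGL A B * kronGL 1 S := by group
    unfold tensorWreathSubgroup
    rw [Subgroup.mem_map]
    refine ⟨glReindex (e.trans θ).symm (glReindex rho3 (kronGL A β)), ?_, ?_⟩
    · rw [Subgroup.mem_map]
      refine ⟨glReindex rho3 (kronGL A β), ?_, rfl⟩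
      obtain ⟨b₁, b₂, hb | hb⟩ := main_matrix h2 (inv_ne_zero hdetA) _ hβom
      · obtain ⟨b₁', b₂', rfl, rfl⟩ := kron_factors_invertible β b₁ b₂ hb
        exact pure_mem A b₁' b₂' β hb
      · obtain ⟨β₁, hβ₁⟩ : ∃ β₁ : GL (Fin 2 × Fin 2) F, β₁ = β * swpGL := ⟨_, rfl⟩
        have hβ₁val : (β₁ : Matrix (Fin 2 × Fin 2) (Fin 2 × Fin 2) F) = b₁ ⊗ₖ b₂ := by
          rw [hβ₁, Units.val_mul, hb]
          show (b₁ ⊗ₖ b₂) * swp F * swp F = _
          rw [Matrix.mul_assoc, swp_mul_swp, mul_one]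
        obtain ⟨b₁', b₂', rfl, rfl⟩ := kron_factors_invertible β₁ b₁ b₂ hβ₁val
        have hsplit : kronGL A β = kronGL A β₁ * kronGL 1 swpGL := by
          rw [kronGL_mul, mul_one, hβ₁, mul_assoc, swpGL_mul_swpGL, mul_one]
        rw [hsplit, map_mul]
        exact mul_mem (pure_mem A b₁' b₂' β₁ hβ₁val) perm_mem
    · rw [hgoal]
      show P * T * (T⁻¹ * (glReindex e.symm) (kronGL A B) * T) * (P * T)⁻¹ =
        P * (glReindex e.symm) (kronGL A B) * P⁻¹
      group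

end Cfsg.Agent.Lib.Helper44.Sp8Plus5

namespace Cfsg.Agent.Lib.Helper94.BHRSP

open Cfsg Cfsg.Geo
open scoped MatrixGroups Matrix Kronecker

variable {F : Type*} [Field F] [Fintype F]

/-- **BHRSP-[E-SP8-PLUS5]** (exact sheet statement). `q` odd: `Sp_2 ⊗ GO_4⁺ ≤ Sp_2 ≀ S_3` (tensor-induced). -/
theorem tensor_plus_sp8 (hodd : Odd (Fintype.card F)) (e : (Fin 4 ⊕ Fin 4) ≃ Fin 2 × Fin 4) (P : GL (Fin 4 ⊕ Fin 4) F)
    (f₁ : (Fin 2 → F) → (Fin 2 → F) → F) (f₂ : (Fin 4 → F) → (Fin 4 → F) → F)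
    (hf₁ : IsSymplecticForm f₁) (hf₂ : IsSymmetricForm f₂) (hplus : IsPlusTypeOn (fun v : Fin 4 → F => f₂ v v) ⊤)
    (hT : IsTensorFormStructure id (sympForm 4 F) f₁ f₂ e P) :
    ∃ (e' : (Fin 4 ⊕ Fin 4) ≃ (Fin 3 → Fin 2)) (P' : GL (Fin 4 ⊕ Fin 4) F) (f₁' : (Fin 2 → F) → (Fin 2 → F) → F),
      IsSymplecticForm f₁' ∧ IsTensorPowerFormStructure id (sympForm 4 F) f₁' e' P' ∧
      tensorProductSubgroup 2 4 e P ⊓ spGL 4 F ≤ tensorWreathSubgroup 2 3 e' P' ⊓ spGL 4 F :=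
  Cfsg.Agent.Lib.Helper44.Sp8Plus5.tensor_plus_sp8_aux hodd e P f₁ f₂ hf₁ hf₂ hplus hT

end Cfsg.Agent.Lib.Helper94.BHRSP
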