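/-
helper44: S4482 modules [LOCZ] and [LOCA] (helper46's project, Brauer's order formula for dihedral Sylow 2-subgroups):
the two local counts of pairs of involutions with product in `z K` resp. `σ K`.
-/
import Mathlib
import Cfsg.Agent.Lib.Helper46.DihOrdDefs
import Cfsg.Agent.Lib.Helper74.KleinCount

set_option autoImplicit false
set_option linter.unusedSectionVars false

namespace Cfsg.Agent.Lib.Helper44.DihOrd

open Cfsg Cfsg.Agent.Lib.Helper46.DihOrd

variable {G : Type*} [Group G] [Fintype G]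

/-! ### Involutions in a coset of an odd-order subgroup -/

theorem not_mem_of_invol (K : Subgroup G) (hodd : Odd (Nat.card K)) {u : G}
    (hu : u * u = 1) (hu1 : u ≠ 1) : u ∉ K :=
  Cfsg.Agent.Lib.Helper74.not_mem_of_involution K hodd hu hu1

/-- an element of `2`-power order in an odd-order subgroup is trivial -/
theorem eq_one_of_pow_two_mem (K : Subgroup G) (hodd : Odd (Nat.card K)) {x : G} (hx : x ∈ K)
    (m : ℕ) (hxm : x ^ 2 ^ m = 1) : x = 1 := by
  have h1 : orderOf x ∣ Nat.card K := by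
    have : orderOf (⟨x, hx⟩ : K) = orderOf x := Subgroup.orderOf_mk x hx
    rw [← this]
    exact orderOf_dvd_natCard _
  have h2 : orderOf x ∣ 2 ^ m := orderOf_dvd_of_pow_eq_one hxm
  obtain ⟨j, -, hj⟩ := (Nat.dvd_prime_pow Nat.prime_two).1 h2
  rcases j with _ | j
  · rw [pow_zero] at hj
    exact orderOf_eq_one_iff.1 hj
  · exfalso
    rw [hj] at h1
    have : 2 ∣ Nat.card K := dvd_trans (dvd_pow_self 2 (Nat.succ_ne_zero j)) h1
    exact (Nat.not_even_iff_odd.mpr hodd) (even_iff_two_dvd.mpr this)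

/-- every involution in the coset `w K` is a `K`-conjugate of `w` -/
theorem exists_conj_of_mem_coset (K : Subgroup G) (hodd : Odd (Nat.card K)) (w u : G)
    (hw : w * w = 1) (huu : u * u = 1) (huK : w⁻¹ * u ∈ K) : ∃ l ∈ K, l * w * l⁻¹ = u := by
  have hwinv : w⁻¹ = w := inv_eq_of_mul_eq_one_left hw
  set k₀ := w⁻¹ * u with hk₀
  have hu_eq : u = w * k₀ := by rw [hk₀]; group
  have hinv : w * k₀ * w⁻¹ = k₀⁻¹ := by
    have h1 : w * k₀ * (w * k₀) = 1 := by rw [← hu_eq]; exact huu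
    have h2 : w * k₀ * w = k₀⁻¹ := by
      have : w * k₀ * w * k₀ = 1 := by rw [← h1]; group
      exact eq_inv_of_mul_eq_one_left this
    rw [hwinv]; exact h2
  have hinvpow : ∀ j : ℕ, w * k₀ ^ j * w⁻¹ = (k₀ ^ j)⁻¹ := by
    intro j
    have : w * k₀ ^ j * w⁻¹ = (w * k₀ * w⁻¹) ^ j := by
      rw [conj_pow]
    rw [this, hinv, inv_pow]
  have hmodd : Odd (orderOf k₀) := by
    have h1 : orderOf k₀ ∣ Nat.card K := by
      have : orderOf (⟨k₀, huK⟩ : K) = orderOf k₀ := Subgroup.orderOf_mk k₀ huK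
      rw [← this]
      exact orderOf_dvd_natCard _
    exact Odd.of_dvd_nat hodd h1
  obtain ⟨j, hj⟩ := hmodd
  set l := k₀ ^ j with hl
  have hlK : l ∈ K := K.pow_mem huK j
  refine ⟨l, hlK, ?_⟩
  have h3 : w⁻¹ * l * w = l⁻¹ := by
    have := hinvpow j
    rw [hwinv] at this ⊢
    exact this
  have h4 : l * l * k₀ = 1 := by
    rw [hl, ← pow_add, ← pow_succ, ← two_mul, ← hj, pow_orderOf_eq_one]
  have h5 : l⁻¹ * l⁻¹ = k₀ := by
    have : k₀ = (l * l)⁻¹ := eq_inv_of_mul_eq_one_right h4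
    rw [this, mul_inv_rev]
  calc l * w * l⁻¹ = w * (w⁻¹ * l * w) * l⁻¹ := by group
    _ = w * l⁻¹ * l⁻¹ := by rw [h3]
    _ = w * (l⁻¹ * l⁻¹) := by group
    _ = w * k₀ := by rw [h5]
    _ = u := hu_eq.symm

open scoped Classical in
/-- the number of involutions in the coset `w K`, for an involution `w` normalizing the odd-order subgroup `K` -/
theorem card_inv_coset (K : Subgroup G) (hodd : Odd (Nat.card K)) (w : G) (hw : w * w = 1)
    (hwK : ∀ k ∈ K, w⁻¹ * k * w ∈ K) :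
    (Finset.univ.filter (fun u : G => u * u = 1 ∧ w⁻¹ * u ∈ K)).card *
      Nat.card ↥(K ⊓ Subgroup.centralizer ({w} : Set G)) = Nat.card K := by
  set I := Finset.univ.filter (fun u : G => u * u = 1 ∧ w⁻¹ * u ∈ K) with hI
  have himg : ∀ k : K, (k : G) * w * (k : G)⁻¹ ∈ I := by
    intro k
    rw [hI, Finset.mem_filter]
    refine ⟨Finset.mem_univ _, ?_, ?_⟩
    · calc (k : G) * w * (k : G)⁻¹ * ((k : G) * w * (k : G)⁻¹) =
          (k : G) * (w * w) * (k : G)⁻¹ := by group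
        _ = 1 := by rw [hw]; group
    · have h1 : w⁻¹ * (k : G) * w ∈ K := hwK k k.2
      have h2 : w⁻¹ * ((k : G) * w * (k : G)⁻¹) = w⁻¹ * (k : G) * w * (k : G)⁻¹ := by group
      rw [h2]
      exact K.mul_mem h1 (K.inv_mem k.2)
  have hsurj : ∀ u ∈ I, ∃ k ∈ K, k * w * k⁻¹ = u := by
    intro u hu
    rw [hI, Finset.mem_filter] at hu
    exact exists_conj_of_mem_coset K hodd w u hw hu.2.1 hu.2.2
  have hcount : Nat.card K = ∑ u ∈ I, (Finset.univ.filter
      (fun k : K => u = (k : G) * w * (k : G)⁻¹)).card := by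
    rw [Nat.card_eq_fintype_card, ← Finset.card_univ]
    rw [Finset.card_eq_sum_card_fiberwise (f := fun k : K => (k : G) * w * (k : G)⁻¹) (t := I)
      (fun k _ => himg k)]
    apply Finset.sum_congr rfl
    intro u _
    congr 1
    ext k
    simp only [Finset.mem_filter, Finset.mem_univ, true_and]
    exact eq_comm
  rw [hcount, Finset.sum_congr rfl (fun u hu =>
    Cfsg.Agent.Lib.Helper74.card_filter_conj_eq_nat K w u (hsurj u hu)),
    Finset.sum_const, smul_eq_mul]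


/-! ### General counting lemmas -/

open scoped Classical in
/-- orbit-stabilizer for conjugation by a subgroup -/
theorem card_cls_mul (N : Subgroup G) (y : G) :
    (Finset.univ.filter (fun u : G => ∃ x ∈ N, x * y * x⁻¹ = u)).card *
      Nat.card ↥(N ⊓ Subgroup.centralizer ({y} : Set G)) = Nat.card N := by
  set I := Finset.univ.filter (fun u : G => ∃ x ∈ N, x * y * x⁻¹ = u) with hI
  have himg : ∀ k : N, (k : G) * y * (k : G)⁻¹ ∈ I := by
    intro k
    rw [hI, Finset.mem_filter]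
    exact ⟨Finset.mem_univ _, k, k.2, rfl⟩
  have hsurj : ∀ u ∈ I, ∃ k ∈ N, k * y * k⁻¹ = u := by
    intro u hu
    rw [hI, Finset.mem_filter] at hu
    exact hu.2
  have hcount : Nat.card N = ∑ u ∈ I, (Finset.univ.filter
      (fun k : N => u = (k : G) * y * (k : G)⁻¹)).card := by
    rw [Nat.card_eq_fintype_card, ← Finset.card_univ]
    rw [Finset.card_eq_sum_card_fiberwise (f := fun k : N => (k : G) * y * (k : G)⁻¹) (t := I)
      (fun k _ => himg k)]
    apply Finset.sum_congr rfl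
    intro u _
    congr 1
    ext k
    simp only [Finset.mem_filter, Finset.mem_univ, true_and]
    exact eq_comm
  rw [hcount, Finset.sum_congr rfl (fun u hu =>
    Cfsg.Agent.Lib.Helper74.card_filter_conj_eq_nat N y u (hsurj u hu)),
    Finset.sum_const, smul_eq_mul]

/-- conjugating the centralized element by a normalizing element does not change `|C_K(·)|` -/
theorem card_inf_centralizer_conj (K : Subgroup G) (x t : G)
    (hx : ∀ k ∈ K, x * k * x⁻¹ ∈ K) (hx' : ∀ k ∈ K, x⁻¹ * k * x ∈ K) :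
    Nat.card ↥(K ⊓ Subgroup.centralizer ({x * t * x⁻¹} : Set G)) =
      Nat.card ↥(K ⊓ Subgroup.centralizer ({t} : Set G)) := by
  apply Nat.card_congr
  refine ⟨fun k => ⟨x⁻¹ * (k : G) * x, ?_⟩, fun k => ⟨x * (k : G) * x⁻¹, ?_⟩, ?_, ?_⟩
  · obtain ⟨hk1, hk2⟩ := Subgroup.mem_inf.mp k.2
    refine Subgroup.mem_inf.mpr ⟨hx' _ hk1, ?_⟩
    rw [Subgroup.mem_centralizer_singleton_iff] at hk2 ⊢
    calc x⁻¹ * (k : G) * x * t = x⁻¹ * ((k : G) * (x * t * x⁻¹)) * x := by group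
      _ = x⁻¹ * ((x * t * x⁻¹) * (k : G)) * x := by rw [hk2]
      _ = t * (x⁻¹ * (k : G) * x) := by group
  · obtain ⟨hk1, hk2⟩ := Subgroup.mem_inf.mp k.2
    refine Subgroup.mem_inf.mpr ⟨hx _ hk1, ?_⟩
    rw [Subgroup.mem_centralizer_singleton_iff] at hk2 ⊢
    calc x * (k : G) * x⁻¹ * (x * t * x⁻¹) = x * ((k : G) * t) * x⁻¹ := by group
      _ = x * (t * (k : G)) * x⁻¹ := by rw [hk2]
      _ = x * t * x⁻¹ * (x * (k : G) * x⁻¹) := by group
  · intro k
    apply Subtype.ext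
    show x * (x⁻¹ * (k : G) * x) * x⁻¹ = (k : G)
    group
  · intro k
    apply Subtype.ext
    show x⁻¹ * (x * (k : G) * x⁻¹) * x = (k : G)
    group

open scoped Classical in
/-- for an involution `u`, the involutions `v` with `u v ∈ c K` are the involutions of the coset
`w K`, when `w` is an involution of `u c K` normalizing `K` -/
theorem card_second_mul (K : Subgroup G) (hodd : Odd (Nat.card K)) (c u w : G)
    (hu : u * u = 1) (hu1 : u ≠ 1) (hw : w * w = 1) (hw1 : w ≠ 1)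
    (hwK : ∀ k ∈ K, w⁻¹ * k * w ∈ K) (hr : w⁻¹ * u⁻¹ * c ∈ K) :
    (Finset.univ.filter (fun v : G => IsInvPair (u, v) ∧ c⁻¹ * (u * v) ∈ K)).card *
      Nat.card ↥(K ⊓ Subgroup.centralizer ({w} : Set G)) = Nat.card K := by
  have key : ∀ v : G, w⁻¹ * v = (w⁻¹ * u⁻¹ * c) * (c⁻¹ * (u * v)) := by intro v; group
  have hfil : (Finset.univ.filter (fun v : G => IsInvPair (u, v) ∧ c⁻¹ * (u * v) ∈ K)) =
      Finset.univ.filter (fun v : G => v * v = 1 ∧ w⁻¹ * v ∈ K) := by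
    apply Finset.filter_congr
    intro v _
    constructor
    · rintro ⟨⟨-, -, hv, -⟩, hK⟩
      refine ⟨hv, ?_⟩
      rw [key v]
      exact K.mul_mem hr hK
    · rintro ⟨hv, hK⟩
      refine ⟨⟨hu, hu1, hv, ?_⟩, ?_⟩
      · rintro rfl
        rw [mul_one] at hK
        exact not_mem_of_invol K hodd hw hw1 (inv_mem_iff.mp hK)
      · have : c⁻¹ * (u * v) = (w⁻¹ * u⁻¹ * c)⁻¹ * (w⁻¹ * v) := by group
        rw [this]
        exact K.mul_mem (K.inv_mem hr) hK
  rw [hfil]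
  exact card_inv_coset K hodd w hw hwK

/-- assembling a count of pairs from two disjoint classes of first components -/
theorem card_pairs_two_classes [DecidableEq G] (P : G × G → Prop) [DecidablePred P]
    [∀ u : G, DecidablePred (fun v : G => P (u, v))] (S₀ S₁ : Finset G) (hdisj : Disjoint S₀ S₁)
    (hcov : ∀ u v, P (u, v) → u ∈ S₀ ∪ S₁) (a₀ a₁ M : ℕ)
    (h₀ : ∀ u ∈ S₀, (Finset.univ.filter (fun v : G => P (u, v))).card * a₀ = M)
    (h₁ : ∀ u ∈ S₁, (Finset.univ.filter (fun v : G => P (u, v))).card * a₁ = M) :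
    (Finset.univ.filter P).card * (a₀ * a₁) = M * (S₀.card * a₁ + S₁.card * a₀) := by
  have h1 : (Finset.univ.filter P).card =
      ∑ u : G, (Finset.univ.filter (fun v : G => P (u, v))).card := by
    rw [Finset.card_filter, Fintype.sum_prod_type]
    apply Finset.sum_congr rfl
    intro u _
    rw [Finset.card_filter]
  have h2 : ∑ u : G, (Finset.univ.filter (fun v : G => P (u, v))).card =
      ∑ u ∈ S₀ ∪ S₁, (Finset.univ.filter (fun v : G => P (u, v))).card := by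
    symm
    apply Finset.sum_subset (Finset.subset_univ _)
    intro u _ hu
    rw [Finset.card_eq_zero, Finset.filter_eq_empty_iff]
    intro v _ hP
    exact hu (hcov u v hP)
  rw [h1, h2, Finset.sum_union hdisj, add_mul]
  have e₀ : (∑ u ∈ S₀, (Finset.univ.filter (fun v : G => P (u, v))).card) * a₀ = S₀.card * M := by
    rw [Finset.sum_mul, Finset.sum_congr rfl h₀, Finset.sum_const, smul_eq_mul]
  have e₁ : (∑ u ∈ S₁, (Finset.univ.filter (fun v : G => P (u, v))).card) * a₁ = S₁.card * M := by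
    rw [Finset.sum_mul, Finset.sum_congr rfl h₁, Finset.sum_const, smul_eq_mul]
  calc (∑ u ∈ S₀, (Finset.univ.filter (fun v : G => P (u, v))).card) * (a₀ * a₁) +
        (∑ u ∈ S₁, (Finset.univ.filter (fun v : G => P (u, v))).card) * (a₀ * a₁)
      = ((∑ u ∈ S₀, (Finset.univ.filter (fun v : G => P (u, v))).card) * a₀) * a₁ +
        ((∑ u ∈ S₁, (Finset.univ.filter (fun v : G => P (u, v))).card) * a₁) * a₀ := by ring
    _ = M * (S₀.card * a₁ + S₁.card * a₀) := by rw [e₀, e₁]; ring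

/-! ### The local context: basic facts -/

section Ctx

variable {n : ℕ} {σ τ : G} {C K : Subgroup G}

theorem mem_C_iff (h : LocCtx n σ τ C K) {g : G} : g ∈ C ↔ g * zz n σ = zz n σ * g := by
  rw [h.hC, Subgroup.mem_centralizer_singleton_iff]

theorem two_pow_pred (h : LocCtx n σ τ C K) : 2 ^ (n - 1) = 2 * 2 ^ (n - 2) := by
  have := h.hn
  have h1 : n - 1 = (n - 2) + 1 := by omega
  rw [h1, pow_succ']

theorem zz_mul_self (h : LocCtx n σ τ C K) : zz n σ * zz n σ = 1 := by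
  unfold zz
  rw [← pow_add, ← two_mul, ← two_pow_pred h, ← h.hσo, pow_orderOf_eq_one]

theorem zz_ne_one (h : LocCtx n σ τ C K) : zz n σ ≠ 1 := by
  intro h1
  unfold zz at h1
  have h2 := orderOf_dvd_of_pow_eq_one h1
  rw [h.hσo, two_pow_pred h] at h2
  have h3 := Nat.le_of_dvd (by positivity) h2
  have : 0 < 2 ^ (n - 2) := by positivity
  omega

theorem zz_inv (h : LocCtx n σ τ C K) : (zz n σ)⁻¹ = zz n σ :=
  inv_eq_of_mul_eq_one_left (zz_mul_self h)

theorem zz_mem_C (h : LocCtx n σ τ C K) : zz n σ ∈ C := by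
  unfold zz; exact C.pow_mem h.hσC _

theorem zz_eq_zpow (σ : G) (n : ℕ) : zz n σ = σ ^ ((2 ^ (n - 2) : ℕ) : ℤ) := by
  unfold zz; rw [zpow_natCast]

theorem tau_mul_self (h : LocCtx n σ τ C K) : τ * τ = 1 := by
  have := pow_orderOf_eq_one τ
  rwa [h.hτo, pow_two] at this

theorem tau_inv (h : LocCtx n σ τ C K) : τ⁻¹ = τ :=
  inv_eq_of_mul_eq_one_left (tau_mul_self h)

theorem tau_conj_zpow (h : LocCtx n σ τ C K) (a : ℤ) : τ * σ ^ a * τ⁻¹ = (σ ^ a)⁻¹ := by
  rw [← conj_zpow, h.hrel, inv_zpow]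

theorem tau_mul_zpow (h : LocCtx n σ τ C K) (a : ℤ) : τ * σ ^ a = (σ ^ a)⁻¹ * τ := by
  have := tau_conj_zpow h a
  calc τ * σ ^ a = (τ * σ ^ a * τ⁻¹) * τ := by group
    _ = (σ ^ a)⁻¹ * τ := by rw [this]

/-- the reflections `σ ^ a τ` -/
def tt (σ τ : G) (a : ℤ) : G := σ ^ a * τ

theorem tt_zero (σ τ : G) : tt σ τ 0 = τ := by unfold tt; rw [zpow_zero, one_mul]

theorem tt_one (σ τ : G) : tt σ τ 1 = σ * τ := by unfold tt; rw [zpow_one]

theorem tt_mul_self (h : LocCtx n σ τ C K) (a : ℤ) : tt σ τ a * tt σ τ a = 1 := by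
  unfold tt
  calc σ ^ a * τ * (σ ^ a * τ) = σ ^ a * (τ * σ ^ a) * τ := by group
    _ = σ ^ a * ((σ ^ a)⁻¹ * τ) * τ := by rw [tau_mul_zpow h]
    _ = τ * τ := by group
    _ = 1 := tau_mul_self h

theorem tt_inv (h : LocCtx n σ τ C K) (a : ℤ) : (tt σ τ a)⁻¹ = tt σ τ a :=
  inv_eq_of_mul_eq_one_left (tt_mul_self h a)

theorem sigma_conj_tt (h : LocCtx n σ τ C K) (a b : ℤ) :
    σ ^ b * tt σ τ a * (σ ^ b)⁻¹ = tt σ τ (a + 2 * b) := by
  unfold tt
  calc σ ^ b * (σ ^ a * τ) * (σ ^ b)⁻¹ = σ ^ b * σ ^ a * (τ * σ ^ (-b)) := by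
        rw [zpow_neg]; group
    _ = σ ^ b * σ ^ a * ((σ ^ (-b))⁻¹ * τ) := by rw [tau_mul_zpow h]
    _ = σ ^ (a + 2 * b) * τ := by group

theorem tau_conj_tt (h : LocCtx n σ τ C K) (a : ℤ) :
    τ * tt σ τ a * τ⁻¹ = tt σ τ (-a) := by
  unfold tt
  calc τ * (σ ^ a * τ) * τ⁻¹ = τ * σ ^ a := by group
    _ = (σ ^ a)⁻¹ * τ := tau_mul_zpow h a
    _ = σ ^ (-a) * τ := by rw [zpow_neg]

theorem tt_mul_tt_inv (σ τ : G) (a b : ℤ) : tt σ τ a * (tt σ τ b)⁻¹ = σ ^ (a - b) := by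
  unfold tt; group

theorem tt_mul_sigma (h : LocCtx n σ τ C K) (a : ℤ) : tt σ τ a * σ = tt σ τ (a - 1) := by
  unfold tt
  calc σ ^ a * τ * σ = σ ^ a * (τ * σ ^ (1 : ℤ)) := by rw [zpow_one]; group
    _ = σ ^ a * ((σ ^ (1 : ℤ))⁻¹ * τ) := by rw [tau_mul_zpow h]
    _ = σ ^ (a - 1) * τ := by group

theorem tt_conj_zpow (h : LocCtx n σ τ C K) (a i : ℤ) :
    tt σ τ a * σ ^ i * (tt σ τ a)⁻¹ = (σ ^ i)⁻¹ := by
  unfold tt
  calc σ ^ a * τ * σ ^ i * (σ ^ a * τ)⁻¹ = σ ^ a * (τ * σ ^ i * τ⁻¹) * (σ ^ a)⁻¹ := by group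
    _ = σ ^ a * (σ ^ i)⁻¹ * (σ ^ a)⁻¹ := by rw [tau_conj_zpow h]
    _ = (σ ^ i)⁻¹ := by group

theorem tt_conj_tt (h : LocCtx n σ τ C K) (a b : ℤ) :
    tt σ τ a * tt σ τ b * (tt σ τ a)⁻¹ = tt σ τ (2 * a - b) := by
  unfold tt
  calc σ ^ a * τ * (σ ^ b * τ) * (σ ^ a * τ)⁻¹ = σ ^ a * (τ * σ ^ (b - a)) := by group
    _ = σ ^ a * ((σ ^ (b - a))⁻¹ * τ) := by rw [tau_mul_zpow h]
    _ = σ ^ (2 * a - b) * τ := by group

theorem sigma_zpow_mem_C (h : LocCtx n σ τ C K) (a : ℤ) : σ ^ a ∈ C := C.zpow_mem h.hσC a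

theorem tt_mem_C (h : LocCtx n σ τ C K) (a : ℤ) : tt σ τ a ∈ C :=
  C.mul_mem (sigma_zpow_mem_C h a) h.hτC

theorem conj_mem_K (h : LocCtx n σ τ C K) {g : G} (hg : g ∈ C) {k : G} (hk : k ∈ K) :
    g * k * g⁻¹ ∈ K := h.hKn g hg k hk

theorem conj_mem_K' (h : LocCtx n σ τ C K) {g : G} (hg : g ∈ C) {k : G} (hk : k ∈ K) :
    g⁻¹ * k * g ∈ K := by
  have := h.hKn g⁻¹ (C.inv_mem hg) k hk
  rwa [inv_inv] at this

theorem sigma_zpow_eq_one_of_mem_K (h : LocCtx n σ τ C K) {m : ℤ} (hm : σ ^ m ∈ K) :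
    σ ^ m = 1 := by
  apply eq_one_of_pow_two_mem K h.hKodd hm (n - 1)
  rw [← zpow_natCast, ← zpow_mul, mul_comm, zpow_mul, zpow_natCast, ← h.hσo,
    pow_orderOf_eq_one, one_zpow]

theorem dvd_of_sigma_zpow_eq_one (h : LocCtx n σ τ C K) {m : ℤ} (hm : σ ^ m = 1) :
    ((2 ^ (n - 1) : ℕ) : ℤ) ∣ m := by
  rw [← h.hσo]
  exact orderOf_dvd_iff_zpow_eq_one.mpr hm

theorem sigma_zpow_odd_ne_one (h : LocCtx n σ τ C K) (m : ℤ) : σ ^ (2 * m + 1) ≠ 1 := by
  intro h1
  have h2 := dvd_of_sigma_zpow_eq_one h h1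
  rw [two_pow_pred h] at h2
  have h3 : (2 : ℤ) ∣ 2 * m + 1 := by
    refine dvd_trans ?_ h2
    push_cast
    exact dvd_mul_right _ _
  omega

theorem sigma_zpow_two_mul (h : LocCtx n σ τ C K) {m : ℤ} (hm : σ ^ (2 * m) = 1) :
    σ ^ m = 1 ∨ σ ^ m = zz n σ := by
  have h2 := dvd_of_sigma_zpow_eq_one h hm
  rw [two_pow_pred h] at h2
  have h3 : ((2 ^ (n - 2) : ℕ) : ℤ) ∣ m := by
    have : (2 : ℤ) * ((2 ^ (n - 2) : ℕ) : ℤ) ∣ 2 * m := by
      push_cast at h2 ⊢
      exact h2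
    exact (mul_dvd_mul_iff_left (by norm_num : (2 : ℤ) ≠ 0)).mp this
  obtain ⟨q, rfl⟩ := h3
  rw [zpow_mul, ← zz_eq_zpow]
  rcases Int.even_or_odd' q with ⟨r, rfl | rfl⟩
  · left
    rw [zpow_mul, zpow_two, zz_mul_self h, one_zpow]
  · right
    rw [zpow_add, zpow_mul, zpow_two, zz_mul_self h, one_zpow, one_mul, zpow_one]

theorem tau_ne_zpow (h : LocCtx n σ τ C K) (m : ℤ) : τ ≠ σ ^ m := by
  intro hτ
  have h1 : τ * σ * τ⁻¹ = σ := by
    rw [hτ]
    have : σ ^ m * σ * (σ ^ m)⁻¹ = σ := by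
      calc σ ^ m * σ * (σ ^ m)⁻¹ = σ ^ m * σ ^ (1 : ℤ) * (σ ^ m)⁻¹ := by rw [zpow_one]
        _ = σ ^ (1 : ℤ) := by group
        _ = σ := zpow_one σ
    exact this
  rw [h.hrel] at h1
  have h2 : σ ^ 2 = 1 := by
    rw [pow_two]
    calc σ * σ = σ * σ⁻¹ := by rw [h1]
      _ = 1 := mul_inv_cancel σ
  have h3 := orderOf_dvd_of_pow_eq_one h2
  rw [h.hσo, two_pow_pred h] at h3
  have h4 := Nat.le_of_dvd (by norm_num) h3
  have h5 : 2 ≤ 2 ^ (n - 2) := by
    have : n - 2 = (n - 3) + 1 := by have := h.hn; omega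
    rw [this, pow_succ']
    have : 0 < 2 ^ (n - 3) := by positivity
    omega
  omega

theorem tt_ne_zpow (h : LocCtx n σ τ C K) (a m : ℤ) : tt σ τ a ≠ σ ^ m := by
  intro h1
  apply tau_ne_zpow h (m - a)
  unfold tt at h1
  calc τ = (σ ^ a)⁻¹ * (σ ^ a * τ) := by group
    _ = (σ ^ a)⁻¹ * σ ^ m := by rw [h1]
    _ = σ ^ (m - a) := by group

theorem tt_ne_one (h : LocCtx n σ τ C K) (a : ℤ) : tt σ τ a ≠ 1 := by
  have := tt_ne_zpow h a 0
  rwa [zpow_zero] at this

theorem tt_ne_zz (h : LocCtx n σ τ C K) (a : ℤ) : tt σ τ a ≠ zz n σ := by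
  rw [zz_eq_zpow]
  exact tt_ne_zpow h a _

theorem tt_not_mem_K (h : LocCtx n σ τ C K) (a : ℤ) : tt σ τ a ∉ K :=
  not_mem_of_invol K h.hKodd (tt_mul_self h a) (tt_ne_one h a)

end Ctx

/-! ### The local context: structure of the involutions of `C` -/

section Ctx2

variable {n : ℕ} {σ τ : G} {C K : Subgroup G}

theorem exists_form (h : LocCtx n σ τ C K) {g : G} (hg : g ∈ C) :
    ∃ k ∈ K, ∃ i : ℤ, g = k * σ ^ i ∨ g = k * tt σ τ i := by
  obtain ⟨k, hk, i, hi⟩ := h.hprod g hg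
  refine ⟨k, hk, (i : ℤ), ?_⟩
  unfold tt
  rw [zpow_natCast]
  exact hi

/-- an involution of `C` other than `z` is a `K`-conjugate of a reflection -/
theorem exists_conj_tt (h : LocCtx n σ τ C K) {u : G} (hu : u ∈ C) (huu : u * u = 1)
    (hu1 : u ≠ 1) (huz : u ≠ zz n σ) : ∃ l ∈ K, ∃ i : ℤ, u = l * tt σ τ i * l⁻¹ := by
  obtain ⟨k, hk, i, hi | hi⟩ := exists_form h hu
  · exfalso
    have e1 : σ ^ (2 * i) = (σ ^ i * k⁻¹ * (σ ^ i)⁻¹) * k⁻¹ * (u * u) := by
      rw [hi]; group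
    rw [huu, mul_one] at e1
    have e2 : σ ^ (2 * i) ∈ K := by
      rw [e1]
      exact K.mul_mem (conj_mem_K h (sigma_zpow_mem_C h i) (K.inv_mem hk)) (K.inv_mem hk)
    rcases sigma_zpow_two_mul h (sigma_zpow_eq_one_of_mem_K h e2) with h1 | h1
    · rw [h1, mul_one] at hi
      rw [hi] at huu hu1
      exact not_mem_of_invol K h.hKodd huu hu1 hk
    · rw [h1] at hi
      have h2 : (zz n σ)⁻¹ * u ∈ K := by
        rw [hi]
        have := conj_mem_K' h (zz_mem_C h) hk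
        rwa [mul_assoc] at this
      obtain ⟨l, hl, hlu⟩ := exists_conj_of_mem_coset K h.hKodd (zz n σ) u (zz_mul_self h) huu h2
      apply huz
      rw [← hlu]
      have h3 := (mem_C_iff h).1 (h.hKC hl)
      rw [h3]; group
  · have h2 : (tt σ τ i)⁻¹ * u ∈ K := by
      rw [hi]
      have := conj_mem_K' h (tt_mem_C h i) hk
      rwa [mul_assoc] at this
    obtain ⟨l, hl, hlu⟩ := exists_conj_of_mem_coset K h.hKodd (tt σ τ i) u (tt_mul_self h i) huu h2
    exact ⟨l, hl, i, hlu.symm⟩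

/-- `u` is a `K`-conjugate of a reflection `σ ^ (2 j + e) τ` -/
def IsT (K : Subgroup G) (σ τ : G) (e : ℤ) (u : G) : Prop :=
  ∃ l ∈ K, ∃ j : ℤ, u = l * tt σ τ (2 * j + e) * l⁻¹

theorem isT_of_invol (h : LocCtx n σ τ C K) {u : G} (hu : u ∈ C) (huu : u * u = 1)
    (hu1 : u ≠ 1) (huz : u ≠ zz n σ) : IsT K σ τ 0 u ∨ IsT K σ τ 1 u := by
  obtain ⟨l, hl, i, hi⟩ := exists_conj_tt h hu huu hu1 huz
  rcases Int.even_or_odd' i with ⟨j, rfl | rfl⟩
  · left
    exact ⟨l, hl, j, by rw [add_zero]; exact hi⟩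
  · right
    exact ⟨l, hl, j, hi⟩

theorem isT_disjoint (h : LocCtx n σ τ C K) {u : G} (h0 : IsT K σ τ 0 u) (h1 : IsT K σ τ 1 u) :
    False := by
  obtain ⟨l, hl, j, hu⟩ := h0
  obtain ⟨l', hl', j', hu'⟩ := h1
  rw [hu] at hu'
  set a := 2 * j + 0 with ha
  set b := 2 * j' + 1 with hb
  have e1 : tt σ τ b * (tt σ τ a)⁻¹ =
      (l'⁻¹ * l) * (tt σ τ a * (l'⁻¹ * l)⁻¹ * (tt σ τ a)⁻¹) := by
    calc tt σ τ b * (tt σ τ a)⁻¹ = (l'⁻¹ * (l' * tt σ τ b * l'⁻¹) * l') * (tt σ τ a)⁻¹ := by group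
      _ = (l'⁻¹ * (l * tt σ τ a * l⁻¹) * l') * (tt σ τ a)⁻¹ := by rw [hu']
      _ = _ := by group
  have hm : l'⁻¹ * l ∈ K := K.mul_mem (K.inv_mem hl') hl
  have e2 : σ ^ (b - a) ∈ K := by
    rw [← tt_mul_tt_inv, e1]
    exact K.mul_mem hm (conj_mem_K h (tt_mem_C h a) (K.inv_mem hm))
  have e3 : b - a = 2 * (j' - j) + 1 := by rw [ha, hb]; ring
  rw [e3] at e2
  exact sigma_zpow_odd_ne_one h _ (sigma_zpow_eq_one_of_mem_K h e2)

theorem isT_imp_cls (h : LocCtx n σ τ C K) {e : ℤ} {u : G} (hu : IsT K σ τ e u) :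
    ∃ x ∈ C, x * tt σ τ e * x⁻¹ = u := by
  obtain ⟨l, hl, j, rfl⟩ := hu
  refine ⟨l * σ ^ j, C.mul_mem (h.hKC hl) (sigma_zpow_mem_C h j), ?_⟩
  calc l * σ ^ j * tt σ τ e * (l * σ ^ j)⁻¹ = l * (σ ^ j * tt σ τ e * (σ ^ j)⁻¹) * l⁻¹ := by group
    _ = l * tt σ τ (2 * j + e) * l⁻¹ := by rw [sigma_conj_tt h, add_comm]

theorem cls_imp_isT (h : LocCtx n σ τ C K) {e : ℤ} {u x : G} (hx : x ∈ C)
    (hxu : x * tt σ τ e * x⁻¹ = u) : IsT K σ τ e u := by
  obtain ⟨k, hk, i, hi | hi⟩ := exists_form h hx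
  · refine ⟨k, hk, i, ?_⟩
    rw [← hxu, hi]
    calc k * σ ^ i * tt σ τ e * (k * σ ^ i)⁻¹ = k * (σ ^ i * tt σ τ e * (σ ^ i)⁻¹) * k⁻¹ := by group
      _ = k * tt σ τ (2 * i + e) * k⁻¹ := by rw [sigma_conj_tt h, add_comm]
  · refine ⟨k, hk, i - e, ?_⟩
    rw [← hxu, hi]
    calc k * tt σ τ i * tt σ τ e * (k * tt σ τ i)⁻¹ =
          k * (tt σ τ i * tt σ τ e * (tt σ τ i)⁻¹) * k⁻¹ := by group
      _ = k * tt σ τ (2 * (i - e) + e) * k⁻¹ := by
          rw [tt_conj_tt h]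
          congr 3
          ring

theorem isT_iff_cls (h : LocCtx n σ τ C K) (e : ℤ) (u : G) :
    IsT K σ τ e u ↔ ∃ x ∈ C, x * tt σ τ e * x⁻¹ = u :=
  ⟨isT_imp_cls h, fun ⟨_, hx, hxu⟩ => cls_imp_isT h hx hxu⟩

theorem isT_facts (h : LocCtx n σ τ C K) {e : ℤ} {u : G} (hu : IsT K σ τ e u) :
    u * u = 1 ∧ u ≠ 1 ∧ u ∈ C ∧ u ≠ zz n σ := by
  obtain ⟨l, hl, j, rfl⟩ := hu
  set t := tt σ τ (2 * j + e) with ht
  refine ⟨?_, ?_, ?_, ?_⟩
  · calc l * t * l⁻¹ * (l * t * l⁻¹) = l * (t * t) * l⁻¹ := by group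
      _ = 1 := by rw [tt_mul_self h]; group
  · intro h1
    apply tt_ne_one h (2 * j + e)
    calc t = l⁻¹ * (l * t * l⁻¹) * l := by group
      _ = 1 := by rw [h1]; group
  · exact C.mul_mem (C.mul_mem (h.hKC hl) (tt_mem_C h _)) (C.inv_mem (h.hKC hl))
  · intro h1
    apply tt_ne_zz h (2 * j + e)
    have h3 := (mem_C_iff h).1 (C.inv_mem (h.hKC hl))
    calc t = l⁻¹ * (l * t * l⁻¹) * l := by group
      _ = l⁻¹ * zz n σ * l := by rw [h1]
      _ = zz n σ * l⁻¹ * l := by rw [h3]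
      _ = zz n σ := by group

theorem cK_shift (h : LocCtx n σ τ C K) (a j : ℤ) :
    Nat.card ↥(K ⊓ Subgroup.centralizer ({tt σ τ (a + 2 * j)} : Set G)) =
      Nat.card ↥(K ⊓ Subgroup.centralizer ({tt σ τ a} : Set G)) := by
  rw [← sigma_conj_tt h a j]
  exact card_inf_centralizer_conj K (σ ^ j) (tt σ τ a)
    (fun k hk => conj_mem_K h (sigma_zpow_mem_C h j) hk)
    (fun k hk => conj_mem_K' h (sigma_zpow_mem_C h j) hk)

theorem cK_isT (h : LocCtx n σ τ C K) {e : ℤ} {u : G} (hu : IsT K σ τ e u) :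
    Nat.card ↥(K ⊓ Subgroup.centralizer ({u} : Set G)) =
      Nat.card ↥(K ⊓ Subgroup.centralizer ({tt σ τ e} : Set G)) := by
  obtain ⟨x, hx, rfl⟩ := isT_imp_cls h hu
  exact card_inf_centralizer_conj K x (tt σ τ e)
    (fun k hk => conj_mem_K h hx hk) (fun k hk => conj_mem_K' h hx hk)

end Ctx2

/-! ### The local context: the counts attached to one involution, centralizer orders -/

section Ctx3

variable {n : ℕ} {σ τ : G} {C K : Subgroup G}

open scoped Classical in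
theorem count_Z (h : LocCtx n σ τ C K) {e : ℤ} {u : G} (hu : IsT K σ τ e u) :
    (Finset.univ.filter (fun v : G => IsInvPair (u, v) ∧ (zz n σ)⁻¹ * (u * v) ∈ K)).card *
      Nat.card ↥(K ⊓ Subgroup.centralizer ({tt σ τ e} : Set G)) = Nat.card K := by
  obtain ⟨huu, hu1, huC, huz⟩ := isT_facts h hu
  have hcomm : u * zz n σ = zz n σ * u := (mem_C_iff h).1 huC
  have hw : (u * zz n σ) * (u * zz n σ) = 1 := by
    calc u * zz n σ * (u * zz n σ) = u * (zz n σ * u) * zz n σ := by group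
      _ = u * (u * zz n σ) * zz n σ := by rw [hcomm]
      _ = (u * u) * (zz n σ * zz n σ) := by group
      _ = 1 := by rw [huu, zz_mul_self h, one_mul]
  have hw1 : u * zz n σ ≠ 1 := by
    intro h1
    apply huz
    have := eq_inv_of_mul_eq_one_left h1
    rw [this, zz_inv h]
  have hwC : u * zz n σ ∈ C := C.mul_mem huC (zz_mem_C h)
  have hr : (u * zz n σ)⁻¹ * u⁻¹ * zz n σ ∈ K := by
    have : (u * zz n σ)⁻¹ * u⁻¹ * zz n σ = (zz n σ)⁻¹ * (u * u)⁻¹ * zz n σ := by group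
    rw [this, huu, inv_one, mul_one, inv_mul_cancel]
    exact K.one_mem
  have key := card_second_mul K h.hKodd (zz n σ) u (u * zz n σ) huu hu1 hw hw1
    (fun k hk => conj_mem_K' h hwC hk) hr
  have hsub : K ⊓ Subgroup.centralizer ({u * zz n σ} : Set G) =
      K ⊓ Subgroup.centralizer ({u} : Set G) := by
    ext k
    simp only [Subgroup.mem_inf, Subgroup.mem_centralizer_singleton_iff]
    constructor
    · rintro ⟨hk, hc⟩
      refine ⟨hk, ?_⟩
      have hkz := (mem_C_iff h).1 (h.hKC hk)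
      calc k * u = k * (u * zz n σ) * (zz n σ)⁻¹ := by group
        _ = u * zz n σ * k * (zz n σ)⁻¹ := by rw [hc]
        _ = u * (zz n σ * k) * (zz n σ)⁻¹ := by group
        _ = u * (k * zz n σ) * (zz n σ)⁻¹ := by rw [hkz]
        _ = u * k := by group
    · rintro ⟨hk, hc⟩
      refine ⟨hk, ?_⟩
      have hkz := (mem_C_iff h).1 (h.hKC hk)
      calc k * (u * zz n σ) = (k * u) * zz n σ := by group
        _ = (u * k) * zz n σ := by rw [hc]
        _ = u * (k * zz n σ) := by group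
        _ = u * (zz n σ * k) := by rw [hkz]
        _ = u * zz n σ * k := by group
  rw [hsub, cK_isT h hu] at key
  exact key

open scoped Classical in
theorem count_A (h : LocCtx n σ τ C K) {e : ℤ} {u : G} (hu : IsT K σ τ e u) :
    (Finset.univ.filter (fun v : G => IsInvPair (u, v) ∧ σ⁻¹ * (u * v) ∈ K)).card *
      Nat.card ↥(K ⊓ Subgroup.centralizer ({tt σ τ (1 - e)} : Set G)) = Nat.card K := by
  obtain ⟨huu, hu1, huC, huz⟩ := isT_facts h hu
  obtain ⟨l, hl, j, hlu⟩ := hu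
  have huinv : u⁻¹ = u := inv_eq_of_mul_eq_one_left huu
  have hw_eq : tt σ τ (2 * j + e) * σ = tt σ τ (2 * j + e - 1) := tt_mul_sigma h _
  have hr : (tt σ τ (2 * j + e - 1))⁻¹ * u⁻¹ * σ ∈ K := by
    rw [huinv, ← hw_eq, hlu]
    have : (tt σ τ (2 * j + e) * σ)⁻¹ * (l * tt σ τ (2 * j + e) * l⁻¹) * σ =
        σ⁻¹ * (((tt σ τ (2 * j + e))⁻¹ * l * tt σ τ (2 * j + e)) * l⁻¹) * σ := by group
    rw [this]
    exact conj_mem_K' h h.hσC (K.mul_mem (conj_mem_K' h (tt_mem_C h _) hl) (K.inv_mem hl))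
  have key := card_second_mul K h.hKodd σ u (tt σ τ (2 * j + e - 1)) huu hu1 (tt_mul_self h _)
    (tt_ne_one h _) (fun k hk => conj_mem_K' h (tt_mem_C h _) hk) hr
  have e1 : 2 * j + e - 1 = (1 - e) + 2 * (j + e - 1) := by ring
  rw [e1, cK_shift h] at key
  exact key

open scoped Classical in
theorem card_isT (h : LocCtx n σ τ C K) (e : ℤ) :
    (Finset.univ.filter (fun u : G => IsT K σ τ e u)).card *
      Nat.card (Subgroup.centralizer ({zz n σ, tt σ τ e} : Set G)) = Nat.card C := by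
  have h1 := card_cls_mul C (tt σ τ e)
  have h2 : (Finset.univ.filter (fun u : G => IsT K σ τ e u)) =
      Finset.univ.filter (fun u : G => ∃ x ∈ C, x * tt σ τ e * x⁻¹ = u) := by
    apply Finset.filter_congr
    intro u _
    exact isT_iff_cls h e u
  have h3 : C ⊓ Subgroup.centralizer ({tt σ τ e} : Set G) =
      Subgroup.centralizer ({zz n σ, tt σ τ e} : Set G) := by
    ext g
    rw [Subgroup.mem_inf, mem_C_iff h, Subgroup.mem_centralizer_singleton_iff,
      Subgroup.mem_centralizer_iff]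
    simp only [Set.mem_insert_iff, Set.mem_singleton_iff, forall_eq_or_imp, forall_eq]
    constructor
    · rintro ⟨a, b⟩; exact ⟨a.symm, b.symm⟩
    · rintro ⟨a, b⟩; exact ⟨a.symm, b.symm⟩
  rw [h2, ← h3]
  exact h1

theorem card_centralizer_pair (h : LocCtx n σ τ C K) (a : ℤ) :
    Nat.card (Subgroup.centralizer ({zz n σ, tt σ τ a} : Set G)) =
      4 * Nat.card ↥(K ⊓ Subgroup.centralizer ({tt σ τ a} : Set G)) := by
  classical
  obtain ⟨z, hz⟩ : ∃ z, z = zz n σ := ⟨_, rfl⟩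
  obtain ⟨t, ht⟩ : ∃ t, t = tt σ τ a := ⟨_, rfl⟩
  rw [← hz, ← ht]
  have hzz : z * z = 1 := by rw [hz]; exact zz_mul_self h
  have hzinv : z⁻¹ = z := inv_eq_of_mul_eq_one_left hzz
  have htt : t * t = 1 := by rw [ht]; exact tt_mul_self h a
  have htinv : t⁻¹ = t := inv_eq_of_mul_eq_one_left htt
  have htz : t * z = z * t := by rw [ht, hz]; exact (mem_C_iff h).1 (tt_mem_C h a)
  have hz1 : z ≠ 1 := by rw [hz]; exact zz_ne_one h
  have ht1 : t ≠ 1 := by rw [ht]; exact tt_ne_one h a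
  have htz' : t ≠ z := by rw [ht, hz]; exact tt_ne_zz h a
  have hconjσ : ∀ i : ℤ, t * σ ^ i * t⁻¹ = (σ ^ i)⁻¹ := by
    intro i; rw [ht]; exact tt_conj_zpow h a i
  have hconjt : ∀ i : ℤ, t * tt σ τ i * t⁻¹ = tt σ τ (2 * a - i) := by
    intro i; rw [ht]; exact tt_conj_tt h a i
  have tC : t ∈ C := by rw [ht]; exact tt_mem_C h a
  have memC : ∀ g : G, g ∈ C ↔ g * z = z * g := by
    intro g; rw [hz]; exact mem_C_iff h
  have hzt2 : z * t * (z * t) = 1 := by
    calc z * t * (z * t) = z * (t * z) * t := by group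
      _ = z * (z * t) * t := by rw [htz]
      _ = (z * z) * (t * t) := by group
      _ = 1 := by rw [hzz, htt, one_mul]
  have memH : ∀ g : G, g ∈ Subgroup.centralizer ({z, t} : Set G) ↔
      (g * z = z * g ∧ g * t = t * g) := by
    intro g
    rw [Subgroup.mem_centralizer_iff]
    simp only [Set.mem_insert_iff, Set.mem_singleton_iff, forall_eq_or_imp, forall_eq]
    constructor
    · rintro ⟨h1, h2⟩; exact ⟨h1.symm, h2.symm⟩
    · rintro ⟨h1, h2⟩; exact ⟨h1.symm, h2.symm⟩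
  have zH : z ∈ Subgroup.centralizer ({z, t} : Set G) := (memH z).2 ⟨rfl, htz.symm⟩
  have tH : t ∈ Subgroup.centralizer ({z, t} : Set G) := (memH t).2 ⟨htz, rfl⟩
  let vv : Bool × Bool → G := fun ab => (cond ab.1 z 1) * (cond ab.2 t 1)
  have vvH : ∀ ab, vv ab ∈ Subgroup.centralizer ({z, t} : Set G) := by
    rintro ⟨a', b'⟩
    refine Subgroup.mul_mem _ ?_ ?_
    · cases a'
      · exact Subgroup.one_mem _
      · exact zH
    · cases b'
      · exact Subgroup.one_mem _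
      · exact tH
  have vvsq : ∀ ab, vv ab * vv ab = 1 := by
    rintro ⟨_ | _, _ | _⟩ <;> simp only [vv, cond_true, cond_false, one_mul, mul_one] <;>
      first | exact htt | exact hzz | exact hzt2
  have d3 : z * t ≠ 1 := by
    intro h1
    apply htz'
    have := eq_inv_of_mul_eq_one_right h1
    rw [this, hzinv]
  have d5 : z * t ≠ z := by
    intro h1
    exact ht1 (mul_eq_left.mp h1)
  have d6 : z * t ≠ t := by
    intro h1
    exact hz1 (mul_eq_right.mp h1)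
  have vvinj : ∀ ab ab', vv ab = vv ab' → ab = ab' := by
    rintro ⟨_ | _, _ | _⟩ ⟨_ | _, _ | _⟩ hv <;>
      simp only [vv, cond_true, cond_false, one_mul, mul_one] at hv <;>
      first
        | rfl
        | exact absurd hv hz1 | exact absurd hv.symm hz1
        | exact absurd hv ht1 | exact absurd hv.symm ht1
        | exact absurd hv htz' | exact absurd hv.symm htz'
        | exact absurd hv d3 | exact absurd hv.symm d3
        | exact absurd hv d5 | exact absurd hv.symm d5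
        | exact absurd hv d6 | exact absurd hv.symm d6
  have vvcomm : ∀ ab, ∀ k ∈ K ⊓ Subgroup.centralizer ({t} : Set G), k * vv ab = vv ab * k := by
    rintro ⟨a', b'⟩ k hk
    obtain ⟨hk1, hk2⟩ := Subgroup.mem_inf.mp hk
    rw [Subgroup.mem_centralizer_singleton_iff] at hk2
    have hkz : Commute k z := (memC k).1 (h.hKC hk1)
    have hkt : Commute k t := hk2
    have h1 : Commute k (cond a' z 1) := by
      cases a'
      · exact Commute.one_right k
      · exact hkz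
    have h2 : Commute k (cond b' t 1) := by
      cases b'
      · exact Commute.one_right k
      · exact hkt
    exact h1.mul_right h2
  have kH : ∀ k ∈ K ⊓ Subgroup.centralizer ({t} : Set G),
      k ∈ Subgroup.centralizer ({z, t} : Set G) := by
    intro k hk
    obtain ⟨hk1, hk2⟩ := Subgroup.mem_inf.mp hk
    rw [Subgroup.mem_centralizer_singleton_iff] at hk2
    exact (memH k).2 ⟨(memC k).1 (h.hKC hk1), hk2⟩
  let f : ↥(K ⊓ Subgroup.centralizer ({t} : Set G)) × (Bool × Bool) →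
      ↥(Subgroup.centralizer ({z, t} : Set G)) :=
    fun p => ⟨(p.1 : G) * vv p.2, Subgroup.mul_mem _ (kH _ p.1.2) (vvH p.2)⟩
  have hinj : Function.Injective f := by
    rintro ⟨k, ab⟩ ⟨k', ab'⟩ hff
    have hff' : (k : G) * vv ab = (k' : G) * vv ab' := congrArg Subtype.val hff
    obtain ⟨x, hx⟩ : ∃ x : G, x = (k' : G)⁻¹ * (k : G) := ⟨_, rfl⟩
    have hxK : x ∈ K ⊓ Subgroup.centralizer ({t} : Set G) := by
      rw [hx]; exact Subgroup.mul_mem _ (Subgroup.inv_mem _ k'.2) k.2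
    have hv' : vv ab' = x * vv ab := by
      rw [hx]
      calc vv ab' = (k' : G)⁻¹ * ((k' : G) * vv ab') := by group
        _ = (k' : G)⁻¹ * ((k : G) * vv ab) := by rw [hff']
        _ = _ := by group
    have hxx : x * x = 1 := by
      have h1 := vvsq ab'
      rw [hv'] at h1
      have hc := vvcomm ab x hxK
      calc x * x = x * x * (vv ab * vv ab) := by rw [vvsq, mul_one]
        _ = x * (x * vv ab) * vv ab := by group
        _ = x * (vv ab * x) * vv ab := by rw [hc]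
        _ = x * vv ab * (x * vv ab) := by group
        _ = 1 := h1
    have hx1 : x = 1 := eq_one_of_pow_two_mem K h.hKodd (Subgroup.mem_inf.mp hxK).1 1
      (by rw [pow_one, pow_two]; exact hxx)
    have hkk : (k : G) = (k' : G) := by
      rw [hx] at hx1
      exact (inv_mul_eq_one.mp hx1).symm
    have hvv : vv ab' = vv ab := by rw [hv', hx1, one_mul]
    have hab := vvinj _ _ hvv
    rw [Prod.mk.injEq]
    exact ⟨Subtype.ext hkk, hab.symm⟩
  have hsurj : Function.Surjective f := by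
    rintro ⟨g, hg⟩
    obtain ⟨hgz, hgt⟩ := (memH g).1 hg
    have hgC : g ∈ C := (memC g).2 hgz
    have hconj : t * g * t⁻¹ = g := by rw [← hgt]; group
    have claim : ∃ k ∈ K, ∃ ab, g = k * vv ab := by
      obtain ⟨k, hk, i, hi | hi⟩ := exists_form h hgC
      · rw [hi] at hconj
        have e2 : σ ^ (2 * i) = k⁻¹ * (t * k * t⁻¹) := by
          calc σ ^ (2 * i) = k⁻¹ * (k * σ ^ i) * σ ^ i := by group
            _ = k⁻¹ * (t * (k * σ ^ i) * t⁻¹) * σ ^ i := by rw [hconj]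
            _ = k⁻¹ * (t * k * t⁻¹) * (t * σ ^ i * t⁻¹) * σ ^ i := by group
            _ = k⁻¹ * (t * k * t⁻¹) * (σ ^ i)⁻¹ * σ ^ i := by rw [hconjσ]
            _ = k⁻¹ * (t * k * t⁻¹) := by group
        have e3 : σ ^ (2 * i) ∈ K := by
          rw [e2]
          exact K.mul_mem (K.inv_mem hk) (conj_mem_K h tC hk)
        rcases sigma_zpow_two_mul h (sigma_zpow_eq_one_of_mem_K h e3) with h1 | h1
        · refine ⟨k, hk, (false, false), ?_⟩
          simp only [vv, cond_false, mul_one]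
          rw [hi, h1, mul_one]
        · refine ⟨k, hk, (true, false), ?_⟩
          simp only [vv, cond_true, cond_false, mul_one]
          rw [hi, h1, hz]
      · rw [hi] at hconj
        have e2 : σ ^ (2 * (a - i)) = (t * k * t⁻¹)⁻¹ * k := by
          calc σ ^ (2 * (a - i)) = tt σ τ (2 * a - i) * (tt σ τ i)⁻¹ := by
                rw [tt_mul_tt_inv]; congr 1; ring
            _ = (t * tt σ τ i * t⁻¹) * (tt σ τ i)⁻¹ := by rw [hconjt]
            _ = (t * k * t⁻¹)⁻¹ * (t * (k * tt σ τ i) * t⁻¹) * (tt σ τ i)⁻¹ := by group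
            _ = (t * k * t⁻¹)⁻¹ * (k * tt σ τ i) * (tt σ τ i)⁻¹ := by rw [hconj]
            _ = (t * k * t⁻¹)⁻¹ * k := by group
        have e3 : σ ^ (2 * (a - i)) ∈ K := by
          rw [e2]
          exact K.mul_mem (K.inv_mem (conj_mem_K h tC hk)) hk
        rcases sigma_zpow_two_mul h (sigma_zpow_eq_one_of_mem_K h e3) with h1 | h1
        · refine ⟨k, hk, (false, true), ?_⟩
          simp only [vv, cond_true, cond_false, one_mul]
          rw [hi, ht]
          congr 1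
          unfold tt
          congr 1
          calc σ ^ i = σ ^ (a - i) * σ ^ i := by rw [h1, one_mul]
            _ = σ ^ a := by group
        · refine ⟨k, hk, (true, true), ?_⟩
          simp only [vv, cond_true]
          rw [hi, ht, hz]
          congr 1
          unfold tt
          calc σ ^ i * τ = (zz n σ * zz n σ) * σ ^ i * τ := by rw [zz_mul_self h, one_mul]
            _ = zz n σ * (σ ^ (a - i) * σ ^ i) * τ := by rw [h1]; group
            _ = zz n σ * (σ ^ a * τ) := by group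
    obtain ⟨k, hk, ab, hgk⟩ := claim
    have hkH : k ∈ Subgroup.centralizer ({z, t} : Set G) := by
      have : k = g * (vv ab)⁻¹ := by rw [hgk]; group
      rw [this]
      exact Subgroup.mul_mem _ hg (Subgroup.inv_mem _ (vvH ab))
    have hkt : k ∈ K ⊓ Subgroup.centralizer ({t} : Set G) := by
      refine Subgroup.mem_inf.mpr ⟨hk, ?_⟩
      rw [Subgroup.mem_centralizer_singleton_iff]
      exact ((memH k).1 hkH).2
    exact ⟨(⟨k, hkt⟩, ab), Subtype.ext hgk.symm⟩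
  have hcard := Nat.card_congr (Equiv.ofBijective f ⟨hinj, hsurj⟩)
  rw [← hcard, Nat.card_prod, mul_comm]
  congr 1
  rw [Nat.card_eq_fintype_card]
  rfl

end Ctx3

/-! ### The two local counts -/

section Final

variable {n : ℕ} {σ τ : G} {C K : Subgroup G}

theorem sigma_sq_ne_one (h : LocCtx n σ τ C K) : σ ^ 2 ≠ 1 := by
  intro h2
  have h3 := orderOf_dvd_of_pow_eq_one h2
  rw [h.hσo, two_pow_pred h] at h3
  have h4 := Nat.le_of_dvd (by norm_num) h3
  have h5 : 2 ≤ 2 ^ (n - 2) := by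
    have : n - 2 = (n - 3) + 1 := by have := h.hn; omega
    rw [this, pow_succ']
    have : 0 < 2 ^ (n - 3) := by positivity
    omega
  omega

/-- `u` inverts `u v` for involutions `u`, `v` -/
theorem conj_mul_of_invol {u v : G} (hu : u * u = 1) (hv : v * v = 1) :
    u * (u * v) * u⁻¹ = (u * v)⁻¹ := by
  have hui : u⁻¹ = u := inv_eq_of_mul_eq_one_left hu
  have hvi : v⁻¹ = v := inv_eq_of_mul_eq_one_left hv
  rw [mul_inv_rev, hui, hvi]
  calc u * (u * v) * u = (u * u) * v * u := by group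
    _ = v * u := by rw [hu, one_mul]

theorem mem_C_of_pow (h : LocCtx n σ τ C K) {u v : G} (hu : u * u = 1) (hv : v * v = 1) (N : ℕ)
    (hN : (u * v) ^ N = zz n σ) : u ∈ C := by
  rw [mem_C_iff h]
  have h1 : u * zz n σ * u⁻¹ = zz n σ := by
    rw [← hN, ← conj_pow, conj_mul_of_invol hu hv, inv_pow, hN, zz_inv h]
  calc u * zz n σ = (u * zz n σ * u⁻¹) * u := by group
    _ = zz n σ * u := by rw [h1]

theorem pow_card_K (K : Subgroup G) {k : G} (hk : k ∈ K) : k ^ Nat.card K = 1 := by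
  have h1 : (⟨k, hk⟩ : K) ^ Nat.card K = 1 := pow_card_eq_one'
  have h3 : (((⟨k, hk⟩ : K) ^ Nat.card K : K) : G) = ((1 : K) : G) := congrArg Subtype.val h1
  rw [Subgroup.coe_pow, Subgroup.coe_one] at h3
  exact h3

theorem zz_pow_odd (h : LocCtx n σ τ C K) {m : ℕ} (hm : Odd m) : zz n σ ^ m = zz n σ := by
  obtain ⟨r, rfl⟩ := hm
  rw [pow_succ, pow_mul, pow_two, zz_mul_self h, one_pow, one_mul]

theorem zz_mul_pow_card (h : LocCtx n σ τ C K) {k : G} (hk : k ∈ K) :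
    (zz n σ * k) ^ Nat.card K = zz n σ := by
  have hc : Commute (zz n σ) k := ((mem_C_iff h).1 (h.hKC hk)).symm
  rw [hc.mul_pow, pow_card_K K hk, mul_one, zz_pow_odd h h.hKodd]

theorem pow_mem_coset (h : LocCtx n σ τ C K) {g : G} (hg : g ∈ C) {k : G} (hk : k ∈ K) (j : ℕ) :
    ∃ k' ∈ K, (g * k) ^ j = g ^ j * k' := by
  induction j with
  | zero => exact ⟨1, K.one_mem, by simp⟩
  | succ j ih =>
    obtain ⟨k', hk', e⟩ := ih
    refine ⟨(g⁻¹ * k' * g) * k, K.mul_mem (conj_mem_K' h hg hk') hk, ?_⟩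
    rw [pow_succ, e, pow_succ]; group

theorem cover_Z (h : LocCtx n σ τ C K) {u v : G} (hp : IsInvPair (u, v))
    (hK : (zz n σ)⁻¹ * (u * v) ∈ K) : IsT K σ τ 0 u ∨ IsT K σ τ 1 u := by
  have huu : u * u = 1 := hp.1
  have hu1 : u ≠ 1 := hp.2.1
  have hvv : v * v = 1 := hp.2.2.1
  have hv1 : v ≠ 1 := hp.2.2.2
  have huv : u * v = zz n σ * ((zz n σ)⁻¹ * (u * v)) := by group
  have huC : u ∈ C := mem_C_of_pow h huu hvv (Nat.card K)
    (by rw [huv]; exact zz_mul_pow_card h hK)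
  refine isT_of_invol h huC huu hu1 ?_
  rintro rfl
  have : (zz n σ)⁻¹ * (zz n σ * v) = v := by group
  rw [this] at hK
  exact not_mem_of_invol K h.hKodd hvv hv1 hK

theorem cover_A (h : LocCtx n σ τ C K) {u v : G} (hp : IsInvPair (u, v))
    (hK : σ⁻¹ * (u * v) ∈ K) : IsT K σ τ 0 u ∨ IsT K σ τ 1 u := by
  have huu : u * u = 1 := hp.1
  have hu1 : u ≠ 1 := hp.2.1
  have hvv : v * v = 1 := hp.2.2.1
  have huv : u * v = σ * (σ⁻¹ * (u * v)) := by group
  obtain ⟨k', hk', e⟩ := pow_mem_coset h h.hσC hK (2 ^ (n - 2))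
  have e' : (u * v) ^ (2 ^ (n - 2)) = zz n σ * k' := by rw [huv]; exact e
  have huC : u ∈ C := mem_C_of_pow h huu hvv (2 ^ (n - 2) * Nat.card K)
    (by rw [pow_mul, e']; exact zz_mul_pow_card h hk')
  refine isT_of_invol h huC huu hu1 ?_
  rintro rfl
  have hwC : zz n σ * v ∈ C := by rw [huv]; exact C.mul_mem h.hσC (h.hKC hK)
  have h1 := conj_mul_of_invol huu hvv
  have h2 : zz n σ * (zz n σ * v) * (zz n σ)⁻¹ = zz n σ * v := by
    have := (mem_C_iff h).1 hwC
    rw [← this]; group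
  rw [h2] at h1
  have h3 : (zz n σ * v) ^ 2 = 1 := by
    rw [pow_two]
    nth_rewrite 2 [h1]
    exact mul_inv_cancel _
  obtain ⟨k'', hk'', e2⟩ := pow_mem_coset h h.hσC hK 2
  rw [← huv, h3] at e2
  have h4 : σ ^ 2 ∈ K := by
    have : σ ^ 2 = k''⁻¹ := eq_inv_of_mul_eq_one_left e2.symm
    rw [this]; exact K.inv_mem hk''
  have h5 : σ ^ ((2 : ℕ) : ℤ) = 1 :=
    sigma_zpow_eq_one_of_mem_K h (by rw [zpow_natCast]; exact h4)
  rw [zpow_natCast] at h5
  exact sigma_sq_ne_one h h5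

open scoped Classical in
theorem isT_disjoint_finset (h : LocCtx n σ τ C K) :
    Disjoint (Finset.univ.filter (fun u : G => IsT K σ τ 0 u))
      (Finset.univ.filter (fun u : G => IsT K σ τ 1 u)) := by
  rw [Finset.disjoint_left]
  intro u h0 h1
  exact isT_disjoint h (Finset.mem_filter.1 h0).2 (Finset.mem_filter.1 h1).2

open scoped Classical in
/-- **[LOCZ]** the number of pairs of involutions with product in `z K` -/
theorem loc_count_z (h : LocCtx n σ τ C K) :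
    (Finset.univ.filter (fun uv : G × G => IsInvPair uv ∧
        (zz n σ)⁻¹ * (uv.1 * uv.2) ∈ K)).card *
      (Nat.card (Subgroup.centralizer ({zz n σ, τ} : Set G)) ^ 2 *
        Nat.card (Subgroup.centralizer ({zz n σ, σ * τ} : Set G)) ^ 2) =
    4 * Nat.card K * Nat.card C *
      (Nat.card (Subgroup.centralizer ({zz n σ, τ} : Set G)) ^ 2 +
        Nat.card (Subgroup.centralizer ({zz n σ, σ * τ} : Set G)) ^ 2) := by
  have e0 : Subgroup.centralizer ({zz n σ, τ} : Set G) =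
      Subgroup.centralizer ({zz n σ, tt σ τ 0} : Set G) := by rw [tt_zero]
  have e1 : Subgroup.centralizer ({zz n σ, σ * τ} : Set G) =
      Subgroup.centralizer ({zz n σ, tt σ τ 1} : Set G) := by rw [tt_one]
  rw [e0, e1]
  have c0 := card_centralizer_pair h 0
  have c1 := card_centralizer_pair h 1
  have s0 := card_isT h 0
  have s1 := card_isT h 1
  have hcov : ∀ u v, (IsInvPair (u, v) ∧ (zz n σ)⁻¹ * (u * v) ∈ K) →
      u ∈ (Finset.univ.filter (fun u : G => IsT K σ τ 0 u)) ∪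
        (Finset.univ.filter (fun u : G => IsT K σ τ 1 u)) := by
    intro u v hp
    rw [Finset.mem_union, Finset.mem_filter, Finset.mem_filter]
    rcases cover_Z h hp.1 hp.2 with h0 | h1
    · exact Or.inl ⟨Finset.mem_univ _, h0⟩
    · exact Or.inr ⟨Finset.mem_univ _, h1⟩
  have h₀ : ∀ u ∈ Finset.univ.filter (fun u : G => IsT K σ τ 0 u),
      (Finset.univ.filter (fun v : G => IsInvPair (u, v) ∧ (zz n σ)⁻¹ * (u * v) ∈ K)).card *
        Nat.card (Subgroup.centralizer ({zz n σ, tt σ τ 0} : Set G)) = 4 * Nat.card K := by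
    intro u hu
    have := count_Z h (Finset.mem_filter.1 hu).2
    rw [c0, ← this]; ring
  have h₁ : ∀ u ∈ Finset.univ.filter (fun u : G => IsT K σ τ 1 u),
      (Finset.univ.filter (fun v : G => IsInvPair (u, v) ∧ (zz n σ)⁻¹ * (u * v) ∈ K)).card *
        Nat.card (Subgroup.centralizer ({zz n σ, tt σ τ 1} : Set G)) = 4 * Nat.card K := by
    intro u hu
    have := count_Z h (Finset.mem_filter.1 hu).2
    rw [c1, ← this]; ring
  have key := card_pairs_two_classes
    (fun uv : G × G => IsInvPair uv ∧ (zz n σ)⁻¹ * (uv.1 * uv.2) ∈ K) _ _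
    (isT_disjoint_finset h) hcov (Nat.card (Subgroup.centralizer ({zz n σ, tt σ τ 0} : Set G)))
    (Nat.card (Subgroup.centralizer ({zz n σ, tt σ τ 1} : Set G))) (4 * Nat.card K) h₀ h₁
  generalize (Finset.univ.filter (fun uv : G × G => IsInvPair uv ∧
        (zz n σ)⁻¹ * (uv.1 * uv.2) ∈ K)).card = N at key ⊢
  generalize Nat.card (Subgroup.centralizer ({zz n σ, tt σ τ 0} : Set G)) = a₀ at key s0 ⊢
  generalize Nat.card (Subgroup.centralizer ({zz n σ, tt σ τ 1} : Set G)) = a₁ at key s1 ⊢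
  generalize (Finset.univ.filter (fun u : G => IsT K σ τ 0 u)).card = m₀ at key s0
  generalize (Finset.univ.filter (fun u : G => IsT K σ τ 1 u)).card = m₁ at key s1
  calc N * (a₀ ^ 2 * a₁ ^ 2) = (N * (a₀ * a₁)) * (a₀ * a₁) := by ring
    _ = 4 * Nat.card K * (m₀ * a₁ + m₁ * a₀) * (a₀ * a₁) := by rw [key]
    _ = 4 * Nat.card K * ((m₀ * a₀) * a₁ ^ 2 + (m₁ * a₁) * a₀ ^ 2) := by ring
    _ = 4 * Nat.card K * Nat.card C * (a₀ ^ 2 + a₁ ^ 2) := by rw [s0, s1]; ring

open scoped Classical in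
/-- **[LOCA]** the number of pairs of involutions with product in `σ K` -/
theorem loc_count_a (h : LocCtx n σ τ C K) :
    (Finset.univ.filter (fun uv : G × G => IsInvPair uv ∧ σ⁻¹ * (uv.1 * uv.2) ∈ K)).card *
      (Nat.card (Subgroup.centralizer ({zz n σ, τ} : Set G)) *
        Nat.card (Subgroup.centralizer ({zz n σ, σ * τ} : Set G))) =
    8 * Nat.card K * Nat.card C := by
  have e0 : Subgroup.centralizer ({zz n σ, τ} : Set G) =
      Subgroup.centralizer ({zz n σ, tt σ τ 0} : Set G) := by rw [tt_zero]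
  have e1 : Subgroup.centralizer ({zz n σ, σ * τ} : Set G) =
      Subgroup.centralizer ({zz n σ, tt σ τ 1} : Set G) := by rw [tt_one]
  rw [e0, e1]
  have c0 := card_centralizer_pair h 0
  have c1 := card_centralizer_pair h 1
  have s0 := card_isT h 0
  have s1 := card_isT h 1
  have hcov : ∀ u v, (IsInvPair (u, v) ∧ σ⁻¹ * (u * v) ∈ K) →
      u ∈ (Finset.univ.filter (fun u : G => IsT K σ τ 0 u)) ∪
        (Finset.univ.filter (fun u : G => IsT K σ τ 1 u)) := by
    intro u v hp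
    rw [Finset.mem_union, Finset.mem_filter, Finset.mem_filter]
    rcases cover_A h hp.1 hp.2 with h0 | h1
    · exact Or.inl ⟨Finset.mem_univ _, h0⟩
    · exact Or.inr ⟨Finset.mem_univ _, h1⟩
  have h₀ : ∀ u ∈ Finset.univ.filter (fun u : G => IsT K σ τ 0 u),
      (Finset.univ.filter (fun v : G => IsInvPair (u, v) ∧ σ⁻¹ * (u * v) ∈ K)).card *
        Nat.card (Subgroup.centralizer ({zz n σ, tt σ τ 1} : Set G)) = 4 * Nat.card K := by
    intro u hu
    have := count_A h (Finset.mem_filter.1 hu).2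
    rw [sub_zero] at this
    rw [c1, ← this]; ring
  have h₁ : ∀ u ∈ Finset.univ.filter (fun u : G => IsT K σ τ 1 u),
      (Finset.univ.filter (fun v : G => IsInvPair (u, v) ∧ σ⁻¹ * (u * v) ∈ K)).card *
        Nat.card (Subgroup.centralizer ({zz n σ, tt σ τ 0} : Set G)) = 4 * Nat.card K := by
    intro u hu
    have := count_A h (Finset.mem_filter.1 hu).2
    rw [sub_self] at this
    rw [c0, ← this]; ring
  have key := card_pairs_two_classes
    (fun uv : G × G => IsInvPair uv ∧ σ⁻¹ * (uv.1 * uv.2) ∈ K) _ _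
    (isT_disjoint_finset h) hcov (Nat.card (Subgroup.centralizer ({zz n σ, tt σ τ 1} : Set G)))
    (Nat.card (Subgroup.centralizer ({zz n σ, tt σ τ 0} : Set G))) (4 * Nat.card K) h₀ h₁
  generalize (Finset.univ.filter (fun uv : G × G => IsInvPair uv ∧
        σ⁻¹ * (uv.1 * uv.2) ∈ K)).card = N at key ⊢
  generalize Nat.card (Subgroup.centralizer ({zz n σ, tt σ τ 0} : Set G)) = a₀ at key s0 ⊢
  generalize Nat.card (Subgroup.centralizer ({zz n σ, tt σ τ 1} : Set G)) = a₁ at key s1 ⊢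
  generalize (Finset.univ.filter (fun u : G => IsT K σ τ 0 u)).card = m₀ at key s0
  generalize (Finset.univ.filter (fun u : G => IsT K σ τ 1 u)).card = m₁ at key s1
  calc N * (a₀ * a₁) = N * (a₁ * a₀) := by ring
    _ = 4 * Nat.card K * (m₀ * a₀ + m₁ * a₁) := key
    _ = 8 * Nat.card K * Nat.card C := by rw [s0, s1]; ring

end Final

end Cfsg.Agent.Lib.Helper44.DihOrd
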