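import Mathlib
import Cfsg.Prelude.Def_GeometricClasses
import Cfsg.Prelude.Def_Classical
import Cfsg.Agent.Lib.Helper13.Orth
import Cfsg.Agent.Lib.Helper36.DicksonMatrix

set_option autoImplicit false
set_option linter.unusedSectionVars false

/-!
# Orthogonal groups in characteristic two acting on nonsingular points

Generic lemmas: Dickson parity criterion for `omegaGL`, fixed nonsingular points are fixed
nonsingular vectors, the rank of `x - 1` for an involution whose fixed space is totally singular,
and the count of nonsingular points.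
-/

namespace Cfsg.Agent.Lib.Helper44.Elu

open Matrix Module

variable {ι : Type} [Fintype ι] [DecidableEq ι] {F : Type*} [Field F] [Fintype F]

section chartwo
variable [CharP F 2]

theorem isSquare_all (a : F) : IsSquare a :=
  FiniteField.isSquare_of_char_two (ringChar.eq F 2) a

theorem eq_one_of_mul_self (c : F) (h : c * c = 1) : c = 1 := by
  have h2 : (c + 1) * (c + 1) = 0 := by
    have : (c + 1) * (c + 1) = c * c + (c + c) + 1 := by ring
    rw [this, h, CharTwo.add_self_eq_zero, add_zero, CharTwo.add_self_eq_zero]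
  have h3 : c + 1 = 0 := by
    rcases mul_eq_zero.mp h2 with h | h <;> exact h
  have := CharTwo.add_eq_zero.mp h3
  exact this

/-- Dickson parity criterion for `omegaGL`. -/
theorem mem_omegaGL_iff (Q : QuadraticForm F (ι → F))
    (hQ : (QuadraticMap.polarBilin Q).Nondegenerate) (hι : Fintype.card ι ≠ 4) (x : GL ι F) :
    x ∈ Cfsg.Geo.omegaGL (⇑Q) ↔
      x ∈ Cfsg.isometryGroup F (⇑Q) ∧ Even ((x : Matrix ι ι F) - 1).rank := by
  unfold Cfsg.Geo.omegaGL
  rw [Subgroup.mem_map]
  constructor
  · rintro ⟨t, ht, rfl⟩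
    refine ⟨t.2, ?_⟩
    exact (Cfsg.Agent.Lib.Helper36.mem_Omega_iff_even_rank Q hQ (Or.inr hι) isSquare_all t).mp ht
  · rintro ⟨hx, he⟩
    exact ⟨⟨x, hx⟩,
      (Cfsg.Agent.Lib.Helper36.mem_Omega_iff_even_rank Q hQ (Or.inr hι) isSquare_all ⟨x, hx⟩).mpr he,
      rfl⟩

/-- A nonsingular point is fixed iff some nonsingular vector is fixed. -/
theorem fix_point_iff (Q : QuadraticForm F (ι → F)) (x : GL ι F)
    (hx : x ∈ Cfsg.isometryGroup F (⇑Q)) :
    (∃ W : Submodule F (ι → F), (Module.finrank F ↥W = 1 ∧ ∃ v ∈ W, Q v ≠ 0) ∧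
        W.map (Matrix.toLin' (x : Matrix ι ι F)) ≤ W) ↔
      ∃ v, Q v ≠ 0 ∧ (x : Matrix ι ι F) *ᵥ v = v := by
  rw [Cfsg.Agent.Lib.Helper13.mem_isometryGroup_iff] at hx
  constructor
  · rintro ⟨W, ⟨hW1, v, hvW, hQv⟩, hmap⟩
    refine ⟨v, hQv, ?_⟩
    have hv0 : (⟨v, hvW⟩ : W) ≠ 0 := by
      intro h
      apply hQv
      have : v = 0 := congrArg Subtype.val h
      rw [this, map_zero]
    have hxv : (x : Matrix ι ι F) *ᵥ v ∈ W := by
      apply hmap
      exact ⟨v, hvW, by simp [Matrix.toLin'_apply]⟩
    obtain ⟨c, hc⟩ := (finrank_eq_one_iff_of_nonzero' (⟨v, hvW⟩ : W) hv0).mp hW1 ⟨_, hxv⟩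
    have hc' : c • v = (x : Matrix ι ι F) *ᵥ v := congrArg Subtype.val hc
    have h1 := hx v
    rw [← hc', QuadraticMap.map_smul] at h1
    have h2 : c * c = 1 := by
      have : (c * c - 1) * Q v = 0 := by
        rw [sub_mul, one_mul, sub_eq_zero]
        simpa [smul_eq_mul] using h1
      rcases mul_eq_zero.mp this with h | h
      · exact sub_eq_zero.mp h
      · exact absurd h hQv
    rw [← hc', eq_one_of_mul_self c h2, one_smul]
  · rintro ⟨v, hQv, hxv⟩
    have hv0 : v ≠ 0 := by
      intro h
      apply hQv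
      rw [h, map_zero]
    refine ⟨Submodule.span F {v}, ⟨finrank_span_singleton hv0, v, Submodule.mem_span_singleton_self v, hQv⟩, ?_⟩
    rw [Submodule.map_span, Set.image_singleton, Matrix.toLin'_apply, hxv]

/-- A scalar isometry is the identity. -/
theorem scalar_isometry_eq_one (Q : QuadraticForm F (ι → F)) (hv : ∃ v, Q v ≠ 0) (y : GL ι F)
    (hy : y ∈ Cfsg.isometryGroup F (⇑Q)) (z : F)
    (hz : (y : Matrix ι ι F) = z • (1 : Matrix ι ι F)) : (y : Matrix ι ι F) = 1 := by
  rw [Cfsg.Agent.Lib.Helper13.mem_isometryGroup_iff] at hy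
  obtain ⟨v, hQv⟩ := hv
  have h1 := hy v
  rw [hz, Matrix.smul_mulVec, Matrix.one_mulVec, QuadraticMap.map_smul] at h1
  have h2 : z * z = 1 := by
    have : (z * z - 1) * Q v = 0 := by
      rw [sub_mul, one_mul, sub_eq_zero]
      simpa [smul_eq_mul] using h1
    rcases mul_eq_zero.mp this with h | h
    · exact sub_eq_zero.mp h
    · exact absurd h hQv
  rw [hz, eq_one_of_mul_self z h2, one_smul]

/-- An involution in `O(Q)` whose fixed space is totally singular has `rank (x - 1) = d`. -/
theorem involution_rank (Q : QuadraticForm F (ι → F))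
    (hQ : (QuadraticMap.polarBilin Q).Nondegenerate) (d : ℕ) (hcard : Fintype.card ι = 2 * d)
    (x : GL ι F) (hx2 : (x : Matrix ι ι F) * (x : Matrix ι ι F) = 1)
    (hts : ∀ v, (x : Matrix ι ι F) *ᵥ v = v → Q v = 0) :
    ((x : Matrix ι ι F) - 1).rank = d := by
  set M : Matrix ι ι F := (x : Matrix ι ι F) - 1 with hM
  have hMM : M * M = 0 := by
    have : M * M = (x : Matrix ι ι F) * (x : Matrix ι ι F) - ((x : Matrix ι ι F) + (x : Matrix ι ι F)) + 1 := by
      rw [hM]; noncomm_ring
    have hadd : ∀ A : Matrix ι ι F, A + A = 0 := by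
      intro A; ext i j; exact CharTwo.add_self_eq_zero _
    rw [this, hx2, hadd, sub_zero, hadd]
  set f : (ι → F) →ₗ[F] (ι → F) := M.mulVecLin with hf
  have hker : ∀ v, v ∈ LinearMap.ker f ↔ (x : Matrix ι ι F) *ᵥ v = v := by
    intro v
    rw [LinearMap.mem_ker, hf, Matrix.mulVecLin_apply, hM, Matrix.sub_mulVec, Matrix.one_mulVec, sub_eq_zero]
  have hrk : LinearMap.range f ≤ LinearMap.ker f := by
    rintro _ ⟨w, rfl⟩
    rw [LinearMap.mem_ker, hf, Matrix.mulVecLin_apply, Matrix.mulVecLin_apply, Matrix.mulVec_mulVec, hMM,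
      Matrix.zero_mulVec]
  have hts' : LinearMap.ker f ≤
      LinearMap.BilinForm.orthogonal (QuadraticMap.polarBilin Q : LinearMap.BilinForm F (ι → F))
        (LinearMap.ker f) := by
    intro u hu w hw
    show QuadraticMap.polarBilin Q w u = 0
    rw [QuadraticMap.polarBilin_apply_apply, QuadraticMap.polar]
    have h1 := hts u ((hker u).mp hu)
    have h2 := hts w ((hker w).mp hw)
    have h3 := hts (w + u) ((hker (w + u)).mp (Submodule.add_mem _ hw hu))
    rw [h1, h2, h3]; simp
  have h1 := LinearMap.finrank_range_add_finrank_ker f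
  rw [Module.finrank_fintype_fun_eq_card, hcard] at h1
  have h2 := Submodule.finrank_mono hrk
  have h3 := Submodule.finrank_mono hts'
  rw [LinearMap.BilinForm.finrank_orthogonal hQ, Module.finrank_fintype_fun_eq_card, hcard] at h3
  have h4 : M.rank = finrank F (LinearMap.range f) := rfl
  omega

/-- A fixed-point-free element has `x - 1` of full rank. -/
theorem rank_of_fpf (x : GL ι F) (hfpf : ∀ v, (x : Matrix ι ι F) *ᵥ v = v → v = 0) :
    ((x : Matrix ι ι F) - 1).rank = Fintype.card ι := by
  apply Matrix.rank_of_isUnit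
  rw [← Matrix.mulVec_injective_iff_isUnit]
  intro u w huw
  have : ((x : Matrix ι ι F) - 1) *ᵥ (u - w) = 0 := by
    rw [Matrix.mulVec_sub, huw, sub_self]
  rw [Matrix.sub_mulVec, Matrix.one_mulVec, sub_eq_zero] at this
  exact sub_eq_zero.mp (hfpf _ this)

end chartwo

/-- Counting nonsingular points through nonsingular vectors. -/
theorem card_points_mul (Q : QuadraticForm F (ι → F)) :
    Nat.card {W : Submodule F (ι → F) // Module.finrank F ↥W = 1 ∧ ∃ v ∈ W, Q v ≠ 0} *
        (Fintype.card F - 1) = Nat.card {v : ι → F // Q v ≠ 0} := by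
  classical
  set P := {W : Submodule F (ι → F) // Module.finrank F ↥W = 1 ∧ ∃ v ∈ W, Q v ≠ 0} with hP
  have hv0 : ∀ v : {v : ι → F // Q v ≠ 0}, v.1 ≠ 0 := by
    intro v h
    apply v.2
    rw [h, map_zero]
  let f : {v : ι → F // Q v ≠ 0} → P := fun v =>
    ⟨Submodule.span F {v.1}, finrank_span_singleton (hv0 v), v.1, Submodule.mem_span_singleton_self _, v.2⟩
  have hfib : ∀ W : P, Nat.card {v // f v = W} = Fintype.card F - 1 := by
    intro W
    obtain ⟨hW1, v0, hv0W, hQv0⟩ := W.2
    have hv00 : (⟨v0, hv0W⟩ : W.1) ≠ 0 := by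
      intro h
      apply hQv0
      have : v0 = 0 := congrArg Subtype.val h
      rw [this, map_zero]
    have hgen := (finrank_eq_one_iff_of_nonzero' (⟨v0, hv0W⟩ : W.1) hv00).mp hW1
    have hmemW : ∀ v : {v // f v = W}, v.1.1 ∈ W.1 := by
      intro v
      have h := congrArg Subtype.val v.2
      have h' : Submodule.span F {v.1.1} = W.1 := h
      rw [← h']
      exact Submodule.mem_span_singleton_self _
    -- the fibre is in bijection with the nonzero scalars
    let e : {v // f v = W} ≃ Fˣ :=
      { toFun := fun v => by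
          have hvW : v.1.1 ∈ W.1 := hmemW v
          have hc := hgen ⟨v.1.1, hvW⟩
          have hc0 : hc.choose ≠ 0 := by
            intro h0
            have h1 := hc.choose_spec
            rw [h0, zero_smul] at h1
            exact hv0 v.1 (congrArg Subtype.val h1.symm)
          exact Units.mk0 hc.choose hc0
        invFun := fun c => ⟨⟨(c : F) • v0, by
            rw [QuadraticMap.map_smul]
            exact mul_ne_zero (mul_ne_zero c.ne_zero c.ne_zero) hQv0⟩, by
            apply Subtype.ext
            show Submodule.span F {(c : F) • v0} = W.1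
            rw [Submodule.span_singleton_smul_eq c.isUnit]
            apply Submodule.eq_of_le_of_finrank_eq
            · rw [Submodule.span_singleton_le_iff_mem]; exact hv0W
            · rw [finrank_span_singleton, hW1]
              intro h
              apply hQv0
              rw [h, map_zero]⟩
        left_inv := fun v => by
          apply Subtype.ext
          apply Subtype.ext
          show (hgen ⟨v.1.1, hmemW v⟩).choose • v0 = v.1.1
          exact congrArg Subtype.val (hgen ⟨v.1.1, hmemW v⟩).choose_spec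
        right_inv := fun c => by
          apply Units.ext
          have hvW : (c : F) • v0 ∈ W.1 := Submodule.smul_mem _ _ hv0W
          have hc := hgen ⟨(c : F) • v0, hvW⟩
          have h1 : hc.choose • v0 = (c : F) • v0 := congrArg Subtype.val hc.choose_spec
          have hv0ne : v0 ≠ 0 := by
            intro h
            apply hQv0
            rw [h, map_zero]
          have h2 : (hc.choose - (c : F)) • v0 = 0 := by rw [sub_smul, h1, sub_self]
          rcases smul_eq_zero.mp h2 with h | h
          · exact sub_eq_zero.mp h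
          · exact absurd h hv0ne }
    rw [Nat.card_congr e, Nat.card_eq_fintype_card, Fintype.card_units]
  have h1 := Nat.card_congr (Equiv.sigmaFiberEquiv f)
  rw [Nat.card_sigma] at h1
  rw [← h1]
  simp only [hfib]
  rw [Finset.sum_const, Finset.card_univ, smul_eq_mul, Nat.card_eq_fintype_card]

/-- A fixed-point-free matrix of prime order `r ∣ q ^ d - 1` in `GL_d(q)`. -/
theorem exists_fpf_matrix [CharP F 2] (d : ℕ) (hd : 0 < d) (r : ℕ) [hr : Fact r.Prime]
    (hdvd : r ∣ Fintype.card F ^ d - 1) :
    ∃ g : GL (Fin d) F, g ^ r = 1 ∧ IsUnit ((g : Matrix (Fin d) (Fin d) F) - 1) := by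
  have : NeZero d := ⟨hd.ne'⟩
  let K := FiniteField.Extension F 2 d
  have hcardK : Nat.card K = Fintype.card F ^ d := by
    rw [FiniteField.natCard_extension, Nat.card_eq_fintype_card]
  have hfr : Module.finrank F K = d := FiniteField.finrank_extension F 2 d
  let b : Basis (Fin d) F K := Module.finBasisOfFinrankEq F K hfr
  let φ := Algebra.leftMulMatrix b
  have hunits : Nat.card Kˣ = Fintype.card F ^ d - 1 := by
    rw [Nat.card_units, hcardK]
  obtain ⟨μ, hμ⟩ := exists_prime_orderOf_dvd_card' (G := Kˣ) r (by rw [hunits]; exact hdvd)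
  let gu : (Matrix (Fin d) (Fin d) F)ˣ := Units.map (φ : K →* Matrix (Fin d) (Fin d) F) μ
  refine ⟨gu, ?_, ?_⟩
  · rw [← map_pow, ← hμ, pow_orderOf_eq_one, map_one]
  · have hne : ((μ : K) - 1) ≠ 0 := by
      intro h
      have h1 : μ = 1 := Units.ext (sub_eq_zero.mp h)
      rw [h1, orderOf_one] at hμ
      exact hr.out.ne_one hμ.symm
    have h2 : ((gu : Matrix (Fin d) (Fin d) F) - 1) = φ ((μ : K) - 1) := by
      rw [map_sub, map_one]; rfl
    rw [h2]
    exact (IsUnit.mk0 _ hne).map φ

end Cfsg.Agent.Lib.Helper44.Elu
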