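import Mathlib
import Cfsg.Agent.Lib.Helper44.Elusive1
import Cfsg.Agent.Lib.Helper44.MinusQF
import Cfsg.Agent.Lib.Helper44.Levi
import Cfsg.Agent.Lib.Helper5.QuadCount

set_option autoImplicit false
set_option linter.unusedSectionVars false

/-!
# The minus-type quadratic form in characteristic two: Witt index, counts, Artin–Schreier
-/

namespace Cfsg.Agent.Lib.Helper44.Elu

open Matrix Module

/-- A totally singular subspace of the minus form has dimension at most `k`. -/
theorem ts_bound_minus {F : Type*} [Field F] (k : ℕ) (a b : F)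
    (hab : ∀ x y : F, x ^ 2 + a * x * y + b * y ^ 2 = 0 → x = 0 ∧ y = 0)
    (W : Submodule F ((Fin k ⊕ Fin k) ⊕ Fin 2 → F))
    (hW : ∀ w ∈ W, Cfsg.quadFormMinus k F a b w = 0) : finrank F W ≤ k := by
  classical
  let px : ((Fin k ⊕ Fin k) ⊕ Fin 2 → F) →ₗ[F] (Fin k → F) :=
    LinearMap.funLeft F F (fun i => Sum.inl (Sum.inl i))
  let py : ((Fin k ⊕ Fin k) ⊕ Fin 2 → F) →ₗ[F] (Fin k → F) :=
    LinearMap.funLeft F F (fun i => Sum.inl (Sum.inr i))
  let π : W →ₗ[F] (Fin k → F) := px ∘ₗ W.subtype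
  let ψ : LinearMap.ker π →ₗ[F] (Fin k → F) := py ∘ₗ W.subtype ∘ₗ (LinearMap.ker π).subtype
  have hK : ∀ w : LinearMap.ker π, (∀ i, (w : W).1 (Sum.inl (Sum.inl i)) = 0) ∧
      (w : W).1 (Sum.inr 0) = 0 ∧ (w : W).1 (Sum.inr 1) = 0 := by
    intro w
    have h1 : ∀ i, (w : W).1 (Sum.inl (Sum.inl i)) = 0 := by
      intro i
      have := w.2
      rw [LinearMap.mem_ker] at this
      exact congrFun this i
    refine ⟨h1, ?_⟩
    have h2 := hW _ (w : W).2
    simp only [Cfsg.quadFormMinus, h1, zero_mul, Finset.sum_const_zero, zero_add] at h2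
    exact hab _ _ h2
  have hψ : Function.Injective ψ := by
    rw [injective_iff_map_eq_zero]
    intro w hw
    obtain ⟨h1, h2, h3⟩ := hK w
    apply Subtype.ext
    apply Subtype.ext
    ext j
    rcases j with (j | j) | j
    · exact h1 j
    · exact congrFun hw j
    · fin_cases j
      · exact h2
      · exact h3
  let B : LinearMap.BilinForm F (Fin k → F) := Matrix.toBilin' (1 : Matrix (Fin k) (Fin k) F)
  have hB : B.Nondegenerate := by
    apply LinearMap.BilinForm.nondegenerate_toBilin'_iff_det_ne_zero.2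
    simp
  have hBapp : ∀ x y : Fin k → F, B x y = ∑ i, x i * y i := by
    intro x y
    simp [B, Matrix.toBilin'_apply', dotProduct]
  have horth : LinearMap.range ψ ≤ B.orthogonal (LinearMap.range π) := by
    rintro _ ⟨w, rfl⟩ _ ⟨w', rfl⟩
    show B _ _ = 0
    rw [hBapp]
    obtain ⟨h1, h2, h3⟩ := hK w
    have e1 := hW _ (W.add_mem w'.2 (w : W).2)
    have e2 := hW _ w'.2
    obtain ⟨⟨v, hvW⟩, hvK⟩ := w
    obtain ⟨v', hv'W⟩ := w'
    simp only at h1 h2 h3 e1 e2
    simp only [Cfsg.quadFormMinus, Pi.add_apply, h1, h2, h3, add_zero] at e1 e2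
    show ∑ i : Fin k, v' (Sum.inl (Sum.inl i)) * v (Sum.inl (Sum.inr i)) = 0
    have e3 : ∑ i : Fin k, v' (Sum.inl (Sum.inl i)) * (v' (Sum.inl (Sum.inr i)) + v (Sum.inl (Sum.inr i)))
        = ∑ i : Fin k, v' (Sum.inl (Sum.inl i)) * v' (Sum.inl (Sum.inr i)) +
          ∑ i : Fin k, v' (Sum.inl (Sum.inl i)) * v (Sum.inl (Sum.inr i)) := by
      rw [← Finset.sum_add_distrib]
      apply Finset.sum_congr rfl
      intro i _; ring
    rw [e3] at e1
    linear_combination e1 - e2
  have h1 := LinearMap.finrank_range_add_finrank_ker π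
  have h2 : finrank F (LinearMap.ker π) = finrank F (LinearMap.range ψ) :=
    (LinearMap.finrank_range_of_inj hψ).symm
  have h3 := Submodule.finrank_mono horth
  have h4 := LinearMap.BilinForm.finrank_orthogonal hB (LinearMap.range π)
  have h5 : finrank F (Fin k → F) = k := by simp
  have h6 : finrank F (LinearMap.range π) ≤ k := by
    have := Submodule.finrank_le (LinearMap.range π)
    rwa [h5] at this
  omega

section chartwo
variable {F : Type*} [Field F] [Fintype F] [CharP F 2]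

theorem aniso_a_ne_zero (a b : F)
    (hab : ∀ x y : F, x ^ 2 + a * x * y + b * y ^ 2 = 0 → x = 0 ∧ y = 0) : a ≠ 0 := by
  intro ha
  obtain ⟨s, hs⟩ := isSquare_all b
  have := (hab s 1 (by
    rw [ha, hs]
    have : s ^ 2 + 0 * s * 1 + s * s * 1 ^ 2 = s * s + s * s := by ring
    rw [this, CharTwo.add_self_eq_zero])).2
  exact one_ne_zero this

theorem minusQF_nondeg_char_two (k : ℕ) (a b : F)
    (hab : ∀ x y : F, x ^ 2 + a * x * y + b * y ^ 2 = 0 → x = 0 ∧ y = 0) :
    (QuadraticMap.polarBilin (minusQF k F a b)).Nondegenerate := by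
  classical
  rw [nondeg_iff_gramStd_det_ne_zero, gramStd_minusQF_det]
  have h1 := (nondeg_iff_gramStd_det_ne_zero (hypQF k F)).mp hypQF_nondeg
  have h4 : (4 : F) = 0 := by
    have : (4 : F) = 2 + 2 := by norm_num
    rw [this, CharTwo.add_self_eq_zero]
  have ha := aniso_a_ne_zero a b hab
  refine mul_ne_zero h1 ?_
  rw [h4, zero_mul, zero_sub]
  exact neg_ne_zero.mpr (mul_ne_zero ha ha)

end chartwo

section count
variable {F : Type*} [Field F] [Fintype F]

/-- count of singular vectors of the minus form -/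
theorem card_sing_minus (k : ℕ) (a b : F)
    (hab : ∀ x y : F, x ^ 2 + a * x * y + b * y ^ 2 = 0 → x = 0 ∧ y = 0) :
    Nat.card {v : (Fin k ⊕ Fin k) ⊕ Fin 2 → F // Cfsg.quadFormMinus k F a b v = 0} =
      Fintype.card F ^ k + (Fintype.card F ^ k - 1) * (Fintype.card F ^ (k - 1) * Fintype.card F ^ 2) := by
  have h := Cfsg.Agent.Lib.Helper5.card_hyperbolic_add (F := F) k (W := Fin 2 → F)
    (fun z => z 0 ^ 2 + a * z 0 * z 1 + b * z 1 ^ 2)
  let e : {v : (Fin k ⊕ Fin k) ⊕ Fin 2 → F // Cfsg.quadFormMinus k F a b v = 0} ≃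
      {p : (Fin k → F) × (Fin k → F) × (Fin 2 → F) //
        p.1 ⬝ᵥ p.2.1 + (fun z : Fin 2 → F => z 0 ^ 2 + a * z 0 * z 1 + b * z 1 ^ 2) p.2.2 = 0} :=
    { toFun := fun v => ⟨(fun i => v.1 (Sum.inl (Sum.inl i)), fun i => v.1 (Sum.inl (Sum.inr i)),
          fun j => v.1 (Sum.inr j)), by
        have := v.2
        unfold Cfsg.quadFormMinus at this
        simpa [dotProduct] using this⟩
      invFun := fun p => ⟨Sum.elim (Sum.elim p.1.1 p.1.2.1) p.1.2.2, by
        have := p.2
        unfold Cfsg.quadFormMinus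
        simpa [dotProduct] using this⟩
      left_inv := fun v => by
        apply Subtype.ext
        funext i
        rcases i with (i | i) | i <;> rfl
      right_inv := fun p => by
        apply Subtype.ext
        rfl }
  rw [Nat.card_congr e, h]
  have h1 : Nat.card {w : Fin 2 → F // (fun z : Fin 2 → F => z 0 ^ 2 + a * z 0 * z 1 + b * z 1 ^ 2) w = 0} = 1 := by
    rw [Nat.card_eq_one_iff_unique]
    refine ⟨⟨fun x y => ?_⟩, ⟨⟨0, by simp⟩⟩⟩
    apply Subtype.ext
    have hx := hab _ _ x.2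
    have hy := hab _ _ y.2
    funext j
    fin_cases j
    · exact hx.1.trans hy.1.symm
    · exact hx.2.trans hy.2.symm
  rw [h1, mul_one, Nat.card_eq_fintype_card, Fintype.card_fun, Fintype.card_fin]

/-- a prime `r ≠ 2` dividing the number of nonsingular points of the minus form divides `q^d + 1` -/
theorem dvd_of_dvd_points_minus [CharP F 2] (d : ℕ) (hd : 1 ≤ d) (a b : F)
    (hab : ∀ x y : F, x ^ 2 + a * x * y + b * y ^ 2 = 0 → x = 0 ∧ y = 0)
    (r : ℕ) (hr : r.Prime) (hr2 : r ≠ 2)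
    (h : r ∣ Nat.card {W : Submodule F ((Fin (d - 1) ⊕ Fin (d - 1)) ⊕ Fin 2 → F) //
      Module.finrank F ↥W = 1 ∧ ∃ v ∈ W, Cfsg.quadFormMinus (d - 1) F a b v ≠ 0}) :
    r ∣ Fintype.card F ^ d + 1 := by
  classical
  have h1 := card_points_mul (minusQF (d - 1) F a b)
  rw [minusQF_coe] at h1
  have hZ := card_sing_minus (F := F) (d - 1) a b hab
  have hNS : Nat.card {v : (Fin (d - 1) ⊕ Fin (d - 1)) ⊕ Fin 2 → F // Cfsg.quadFormMinus (d - 1) F a b v ≠ 0} =
      Fintype.card F ^ ((d - 1) + (d - 1) + 2) -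
        Nat.card {v : (Fin (d - 1) ⊕ Fin (d - 1)) ⊕ Fin 2 → F // Cfsg.quadFormMinus (d - 1) F a b v = 0} := by
    rw [Nat.card_eq_fintype_card, Nat.card_eq_fintype_card]
    have := Fintype.card_subtype_compl
      (fun v : (Fin (d - 1) ⊕ Fin (d - 1)) ⊕ Fin 2 → F => Cfsg.quadFormMinus (d - 1) F a b v = 0)
    rw [Fintype.card_fun, Fintype.card_sum, Fintype.card_sum, Fintype.card_fin, Fintype.card_fin] at this
    exact this
  obtain ⟨e, _, he⟩ := FiniteField.card F 2
  set q := Fintype.card F with hq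
  have hq2 : 2 ≤ q := by
    rw [he]
    calc 2 = 2 ^ 1 := rfl
      _ ≤ 2 ^ (e : ℕ) := Nat.pow_le_pow_right (by norm_num) e.pos
  obtain ⟨t, ht⟩ : ∃ t, q = t + 1 := ⟨q - 1, by omega⟩
  set A := q ^ (d - 1) with hA
  have hQn : q ^ d = A * q := by
    rw [hA, ← pow_succ]; congr 1; omega
  have hApos : 1 ≤ A := Nat.one_le_pow _ _ (by omega)
  obtain ⟨A', hA'⟩ : ∃ A', A = A' + 1 := ⟨A - 1, by omega⟩
  have hNS2 : Nat.card {v : (Fin (d - 1) ⊕ Fin (d - 1)) ⊕ Fin 2 → F // Cfsg.quadFormMinus (d - 1) F a b v ≠ 0} =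
      A * (A * q + 1) * t := by
    rw [hNS, hZ]
    apply Nat.sub_eq_of_eq_add
    have h3 : A - 1 = A' := by omega
    rw [h3]
    have h4 : q ^ ((d - 1) + (d - 1) + 2) = A * A * (q * q) := by
      rw [pow_add, pow_add, ← hA, sq]
    rw [h4]
    by_cases hd1 : d - 1 = 0
    · have hA1 : A = 1 := by rw [hA, hd1, pow_zero]
      have hA0 : A' = 0 := by omega
      rw [hA1, hA0, ht]
      ring
    · have h5 : q ^ (d - 1 - 1) * q = A := by
        rw [hA, ← pow_succ]; congr 1; omega
      have h6 : q ^ (d - 1 - 1) * q ^ 2 = A * q := by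
        rw [sq, ← mul_assoc, h5]
      rw [h6, hA', ht]
      ring
  have ht' : q - 1 = t := by omega
  rw [ht', hNS2] at h1
  have htpos : 0 < t := by omega
  have h2 := Nat.eq_of_mul_eq_mul_right htpos h1
  rw [h2] at h
  rw [hQn]
  rcases (Nat.Prime.dvd_mul hr).mp h with h3 | h3
  · exfalso
    have h5 : r ∣ q := hr.dvd_of_dvd_pow h3
    rw [he] at h5
    have h6 : r ∣ 2 := hr.dvd_of_dvd_pow h5
    exact hr2 ((Nat.prime_dvd_prime_iff_eq hr Nat.prime_two).mp h6)
  · exact h3

end count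

section AS
variable {F : Type*} [Field F] [Fintype F] [CharP F 2]

/-- the Artin–Schreier map -/
def asHom (F : Type*) [Field F] [CharP F 2] : F →+ F where
  toFun s := s ^ 2 + s
  map_zero' := by simp
  map_add' x y := by
    have : (x + y) ^ 2 = x ^ 2 + y ^ 2 := by
      have h : (x + y) ^ 2 = x ^ 2 + (x * y + x * y) + y ^ 2 := by ring
      rw [h, CharTwo.add_self_eq_zero, add_zero]
    rw [this]; ring

theorem asHom_apply (s : F) : asHom F s = s ^ 2 + s := rfl

theorem asHom_range_index : (asHom F).range.index = 2 := by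
  classical
  have hker : Nat.card (asHom F).ker = 2 := by
    rw [Nat.card_eq_two_iff]
    refine ⟨⟨0, by simp⟩, ⟨1, by
      rw [AddMonoidHom.mem_ker, asHom_apply, one_pow, CharTwo.add_self_eq_zero]⟩, ?_, ?_⟩
    · intro h
      have := congrArg Subtype.val h
      exact zero_ne_one this
    · ext x
      simp only [Set.mem_insert_iff, Set.mem_singleton_iff, Set.mem_univ, iff_true]
      have hx := x.2
      rw [AddMonoidHom.mem_ker, asHom_apply] at hx
      have h1 : (x : F) * ((x : F) + 1) = 0 := by rw [← hx]; ring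
      rcases mul_eq_zero.mp h1 with h | h
      · left; exact Subtype.ext h
      · right
        apply Subtype.ext
        exact CharTwo.add_eq_zero.mp h
  have h1 := AddSubgroup.card_mul_index (asHom F).ker
  have h2 := AddSubgroup.card_mul_index (asHom F).range
  have h3 : (asHom F).ker.index = Nat.card (asHom F).range := by
    rw [AddSubgroup.index_ker]
  have hpos : 0 < Nat.card (asHom F).range := Nat.card_pos
  rw [hker, h3] at h1
  rw [← h1] at h2
  have h4 : Nat.card (asHom F).range * (asHom F).range.index = Nat.card (asHom F).range * 2 := by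
    rw [h2, mul_comm]
  exact Nat.eq_of_mul_eq_mul_left hpos h4

/-- two elements outside the image of the Artin–Schreier map differ by an element of the image -/
theorem exists_as (ζ₁ ζ₂ : F) (h1 : ∀ t : F, t ^ 2 + t + ζ₁ ≠ 0) (h2 : ∀ t : F, t ^ 2 + t + ζ₂ ≠ 0) :
    ∃ s : F, ζ₂ = ζ₁ + s ^ 2 + s := by
  have hn1 : ζ₁ ∉ (asHom F).range := by
    rintro ⟨t, ht⟩
    apply h1 t
    rw [asHom_apply] at ht
    rw [ht, CharTwo.add_self_eq_zero]
  have hn2 : ζ₂ ∉ (asHom F).range := by
    rintro ⟨t, ht⟩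
    apply h2 t
    rw [asHom_apply] at ht
    rw [ht, CharTwo.add_self_eq_zero]
  have h3 := (AddSubgroup.add_mem_iff_of_index_two (asHom_range_index (F := F)) (a := ζ₁) (b := ζ₂)).mpr
    ⟨fun h => absurd h hn1, fun h => absurd h hn2⟩
  obtain ⟨s, hs⟩ := h3
  refine ⟨s, ?_⟩
  rw [asHom_apply] at hs
  have : ζ₂ = ζ₁ + (ζ₁ + ζ₂) := by
    rw [← add_assoc, CharTwo.add_self_eq_zero, zero_add]
  rw [this, ← hs]; ring

end AS

end Cfsg.Agent.Lib.Helper44.Elu
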