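import Mathlib
import Cfsg.Agent.Lib.Helper44.Elusive2
import Cfsg.Agent.S2616
import Cfsg.Agent.S2619

set_option autoImplicit false
set_option linter.unusedSectionVars false

/-!
# Classification of nondegenerate quadratic spaces of even dimension in characteristic two
(up to isometry with the standard plus / minus forms of the Prelude)
-/

namespace Cfsg.Agent.Lib.Helper44.Elu

open Matrix Module

section classify
variable {F : Type*} [Field F] [Fintype F] [CharP F 2]

theorem polarBilin_isAlt {V : Type*} [AddCommGroup V] [Module F V] (Q : QuadraticForm F V) :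
    (QuadraticMap.polarBilin Q).IsAlt := by
  intro x
  rw [QuadraticMap.polarBilin_apply_apply, QuadraticMap.polar_self]
  have : (2 : F) = 0 := CharTwo.two_eq_zero
  simp [this]

/-- A quadratic form is determined by its Gram matrix and its values on a basis. -/
theorem eq_comp_of_basis {V ι : Type*} [AddCommGroup V] [Module F V] [Fintype ι] [DecidableEq ι]
    (b : Basis ι F V) (Q : QuadraticForm F V) (Q₂ : QuadraticForm F (ι → F))
    (hpol : ∀ i j, QuadraticMap.polar (⇑Q) (b i) (b j) =
      QuadraticMap.polar (⇑Q₂) (Pi.single i 1) (Pi.single j 1))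
    (hval : ∀ i, Q (b i) = Q₂ (Pi.single i 1)) :
    ∀ v, Q₂ (b.equivFun v) = Q v := by
  classical
  have hΦ : ∀ i, b.equivFun (b i) = Pi.single i 1 := by
    intro i
    ext j
    rw [Basis.equivFun_self, Pi.single_apply]
    simp [eq_comm]
  set Q' : QuadraticForm F V := Q₂.comp (b.equivFun : V →ₗ[F] (ι → F)) with hQ'
  have hQ'app : ∀ v, Q' v = Q₂ (b.equivFun v) := fun v => rfl
  have huniq := (Cfsg.Agent.S2619.result b (QuadraticMap.polarBilin Q) (polarBilin_isAlt Q)
    (fun i => Q (b i))).unique (y₁ := Q) (y₂ := Q') ⟨rfl, fun _ => rfl⟩ ⟨?_, ?_⟩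
  · intro v
    rw [huniq, hQ'app]
  · apply LinearMap.ext_basis b b
    intro i j
    rw [QuadraticMap.polarBilin_apply_apply, QuadraticMap.polarBilin_apply_apply, hpol]
    unfold QuadraticMap.polar
    rw [hQ'app, hQ'app, hQ'app, map_add, hΦ, hΦ]
  · intro i
    rw [hQ'app, hΦ, hval]

theorem hyp_polar_single (m : ℕ) (i j : Fin m ⊕ Fin m) :
    QuadraticMap.polar (⇑(hypQF m F)) (Pi.single i 1) (Pi.single j 1) =
      if i = j.swap then 1 else 0 := by
  classical
  rw [hypQF_polar, hypBil_apply]
  rcases i with i | i <;> rcases j with j | j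
  · simp [Pi.single_apply]
  · simp [Pi.single_apply, Finset.sum_ite_eq, eq_comm]
  · simp [Pi.single_apply, Finset.sum_ite_eq, eq_comm]
  · simp [Pi.single_apply]

theorem minus_polar_single (k : ℕ) (ζ : F) (i j : (Fin k ⊕ Fin k) ⊕ Fin 2) :
    QuadraticMap.polar (⇑(minusQF k F 1 ζ)) (Pi.single i 1) (Pi.single j 1) =
      match i, j with
      | Sum.inl i', Sum.inl j' => if i' = j'.swap then 1 else 0
      | Sum.inl _, Sum.inr _ => 0
      | Sum.inr _, Sum.inl _ => 0
      | Sum.inr i', Sum.inr j' => if i' = j' then 0 else 1 := by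
  classical
  have h2 : (2 : F) = 0 := CharTwo.two_eq_zero
  rw [minusQF_polar]
  rcases i with (i | i) | i <;> rcases j with (j | j) | j
  · simp [Pi.single_apply]
  · simp [Pi.single_apply, Finset.sum_ite_eq, eq_comm]
  · simp [Pi.single_apply, Finset.sum_ite_eq, eq_comm]
  · simp [Pi.single_apply]
  · simp [Pi.single_apply]
  · simp [Pi.single_apply]
  · simp [Pi.single_apply]
  · simp [Pi.single_apply]
  · fin_cases i <;> fin_cases j <;> simp [Pi.single_apply, h2]

/-- change of the anisotropic part -/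
def anisoMap (k : ℕ) (a s : F) :
    ((Fin k ⊕ Fin k) ⊕ Fin 2 → F) →ₗ[F] ((Fin k ⊕ Fin k) ⊕ Fin 2 → F) where
  toFun w := Sum.elim (fun i => w (Sum.inl i)) ![w (Sum.inr 0) + s * a * w (Sum.inr 1), a * w (Sum.inr 1)]
  map_add' u v := by
    funext i
    rcases i with i | i
    · simp
    · fin_cases i <;> simp <;> ring
  map_smul' c u := by
    funext i
    rcases i with i | i
    · simp
    · fin_cases i <;> simp <;> ring

theorem anisoMap_apply_inl (k : ℕ) (a s : F) (w : (Fin k ⊕ Fin k) ⊕ Fin 2 → F) (i : Fin k ⊕ Fin k) :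
    anisoMap k a s w (Sum.inl i) = w (Sum.inl i) := rfl

theorem anisoMap_apply_zero (k : ℕ) (a s : F) (w : (Fin k ⊕ Fin k) ⊕ Fin 2 → F) :
    anisoMap k a s w (Sum.inr 0) = w (Sum.inr 0) + s * a * w (Sum.inr 1) := rfl

theorem anisoMap_apply_one (k : ℕ) (a s : F) (w : (Fin k ⊕ Fin k) ⊕ Fin 2 → F) :
    anisoMap k a s w (Sum.inr 1) = a * w (Sum.inr 1) := rfl

theorem anisoMap_form (k : ℕ) (a b ζ s : F) (hs : b = a ^ 2 * (ζ + s ^ 2 + s))
    (w : (Fin k ⊕ Fin k) ⊕ Fin 2 → F) :
    Cfsg.quadFormMinus k F 1 ζ (anisoMap k a s w) = Cfsg.quadFormMinus k F a b w := by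
  unfold Cfsg.quadFormMinus
  simp only [anisoMap_apply_inl, anisoMap_apply_zero, anisoMap_apply_one]
  congr 1
  have h2 : ∀ x : F, x + x = 0 := CharTwo.add_self_eq_zero
  rw [hs]
  have : (w (Sum.inr 0) + s * a * w (Sum.inr 1)) ^ 2 + 1 * (w (Sum.inr 0) + s * a * w (Sum.inr 1)) * (a * w (Sum.inr 1)) +
      ζ * (a * w (Sum.inr 1)) ^ 2 =
      w (Sum.inr 0) ^ 2 + a * w (Sum.inr 0) * w (Sum.inr 1) + a ^ 2 * (ζ + s ^ 2 + s) * w (Sum.inr 1) ^ 2 +
        (w (Sum.inr 0) * s * a * w (Sum.inr 1) + w (Sum.inr 0) * s * a * w (Sum.inr 1)) := by ring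
  rw [this, h2, add_zero]

/-- `anisoMap` is invertible for `a ≠ 0` -/
def anisoEquiv (k : ℕ) (a s : F) (ha : a ≠ 0) :
    ((Fin k ⊕ Fin k) ⊕ Fin 2 → F) ≃ₗ[F] ((Fin k ⊕ Fin k) ⊕ Fin 2 → F) :=
  LinearEquiv.ofLinearMap (anisoMap k a s)
    { toFun := fun w => Sum.elim (fun i => w (Sum.inl i)) ![w (Sum.inr 0) + s * w (Sum.inr 1), a⁻¹ * w (Sum.inr 1)]
      map_add' := fun u v => by
        funext i
        rcases i with i | i
        · simp
        · fin_cases i <;> simp <;> ring
      map_smul' := fun c u => by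
        funext i
        rcases i with i | i
        · simp
        · fin_cases i <;> simp <;> ring }
    (by
      apply LinearMap.ext
      intro w
      funext i
      rcases i with i | i
      · rfl
      · fin_cases i
        · show (w (Sum.inr 0) + s * w (Sum.inr 1)) + s * a * (a⁻¹ * w (Sum.inr 1)) = w (Sum.inr 0)
          have : (w (Sum.inr 0) + s * w (Sum.inr 1)) + s * a * (a⁻¹ * w (Sum.inr 1)) =
              w (Sum.inr 0) + (s * w (Sum.inr 1) + s * w (Sum.inr 1)) := by
            field_simp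
            ring
          rw [this, CharTwo.add_self_eq_zero, add_zero]
        · show a * (a⁻¹ * w (Sum.inr 1)) = w (Sum.inr 1)
          field_simp)
    (by
      apply LinearMap.ext
      intro w
      funext i
      rcases i with i | i
      · rfl
      · fin_cases i
        · show (w (Sum.inr 0) + s * a * w (Sum.inr 1)) + s * (a * w (Sum.inr 1)) = w (Sum.inr 0)
          have : (w (Sum.inr 0) + s * a * w (Sum.inr 1)) + s * (a * w (Sum.inr 1)) =
              w (Sum.inr 0) + (s * a * w (Sum.inr 1) + s * a * w (Sum.inr 1)) := by ring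
          rw [this, CharTwo.add_self_eq_zero, add_zero]
        · show a⁻¹ * (a * w (Sum.inr 1)) = w (Sum.inr 1)
          field_simp)

theorem anisoEquiv_apply (k : ℕ) (a s : F) (ha : a ≠ 0) (w : (Fin k ⊕ Fin k) ⊕ Fin 2 → F) :
    anisoEquiv k a s ha w = anisoMap k a s w := rfl

/-- **Classification**: a nondegenerate quadratic space of dimension `2d` over a finite field of
characteristic two is isometric to the standard plus form or to the standard minus form with any
prescribed anisotropic part. -/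
theorem classify {V : Type*} [AddCommGroup V] [Module F V] [FiniteDimensional F V] (d : ℕ)
    (hd : 1 ≤ d) (hV : Module.finrank F V = 2 * d) (Q : QuadraticForm F V)
    (hQ : (QuadraticMap.polarBilin Q).Nondegenerate) (a b : F)
    (hab : ∀ x y : F, x ^ 2 + a * x * y + b * y ^ 2 = 0 → x = 0 ∧ y = 0) :
    (∃ Φ : V ≃ₗ[F] (Fin d ⊕ Fin d → F), ∀ v, Cfsg.quadFormPlus d F (Φ v) = Q v) ∨
    (∃ Φ : V ≃ₗ[F] ((Fin (d - 1) ⊕ Fin (d - 1)) ⊕ Fin 2 → F),
      ∀ v, Cfsg.quadFormMinus (d - 1) F a b (Φ v) = Q v) := by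
  classical
  have h2F : (2 : F) = 0 := CharTwo.two_eq_zero
  rcases Cfsg.Agent.S2616.result hd hV Q hQ with ⟨bs, h1, h2, h3⟩ | ⟨bs, ζ, hζ, h1, h2, h3, h4, h5, h6, h7⟩
  · left
    refine ⟨bs.equivFun, ?_⟩
    have := eq_comp_of_basis bs Q (hypQF d F) ?_ ?_
    · exact this
    · intro i j
      rw [hyp_polar_single]
      rcases i with i | i <;> rcases j with j | j
      · simpa using (h3 i j).1
      · rw [h2]; simp
      · rw [QuadraticMap.polar_comm, h2]; simp [eq_comm]
      · simpa using (h3 i j).2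
    · intro i
      rw [hypQF_apply]
      rcases i with i | i
      · rw [(h1 i).1]; simp [Cfsg.quadFormPlus, Pi.single_apply]
      · rw [(h1 i).2]; simp [Cfsg.quadFormPlus, Pi.single_apply]
  · right
    have ha := aniso_a_ne_zero a b hab
    have hζ2 : ∀ t : F, t ^ 2 + t + b / a ^ 2 ≠ 0 := by
      intro t ht
      have := (hab t a⁻¹ (by
        have : t ^ 2 + a * t * a⁻¹ + b * a⁻¹ ^ 2 = t ^ 2 + t + b / a ^ 2 := by
          field_simp
        rw [this, ht])).2
      exact (inv_ne_zero ha) this
    obtain ⟨s, hs⟩ := exists_as ζ (b / a ^ 2) hζ hζ2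
    have hs' : b = a ^ 2 * (ζ + s ^ 2 + s) := by
      rw [← hs]; field_simp
    have key := eq_comp_of_basis bs Q (minusQF (d - 1) F 1 ζ) ?_ ?_
    · refine ⟨bs.equivFun.trans (anisoEquiv (d - 1) a s ha).symm, ?_⟩
      intro v
      rw [← key v, minusQF_coe, LinearEquiv.trans_apply]
      rw [← anisoMap_form (d - 1) a b ζ s hs', ← anisoEquiv_apply (d - 1) a s ha,
        LinearEquiv.apply_symm_apply]
    · intro i j
      rw [minus_polar_single]
      rcases i with (i | i) | i <;> rcases j with (j | j) | j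
      · simpa using (h3 i j).1
      · rw [h2]; simp
      · simpa using (h4 i j).1
      · rw [QuadraticMap.polar_comm, h2]; simp [eq_comm]
      · simpa using (h3 i j).2
      · simpa using (h4 i j).2
      · rw [QuadraticMap.polar_comm]; simpa using (h4 j i).1
      · rw [QuadraticMap.polar_comm]; simpa using (h4 j i).2
      · fin_cases i <;> fin_cases j
        · simp [QuadraticMap.polar_self, h2F]
        · simpa using h6
        · rw [QuadraticMap.polar_comm]; simpa using h6
        · simp [QuadraticMap.polar_self, h2F]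
    · intro i
      rw [minusQF_coe]
      rcases i with (i | i) | i
      · rw [(h1 i).1]; simp [Cfsg.quadFormMinus, Pi.single_apply]
      · rw [(h1 i).2]; simp [Cfsg.quadFormMinus, Pi.single_apply]
      · fin_cases i
        · simp only [Fin.zero_eta, Fin.isValue]
          rw [h5]; simp [Cfsg.quadFormMinus, Pi.single_apply]
        · simp only [Fin.mk_one, Fin.isValue]
          rw [h7]; simp [Cfsg.quadFormMinus, Pi.single_apply]

end classify

end Cfsg.Agent.Lib.Helper44.Elu
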