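import Mathlib
import Cfsg.Agent.Lib.Helper44.Elusive3

set_option autoImplicit false
set_option linter.unusedSectionVars false

/-!
# Singer-type fixed-point-free isometries of the minus-type quadratic form (characteristic two)
-/

namespace Cfsg.Agent.Lib.Helper44.Elu

open Matrix Module

section traceform
variable {F : Type*} [Field F] {K : Type*} [Field K] [Algebra F K] [FiniteDimensional F K]

/-- the quadratic form `v ↦ Tr(θ v σ(v))` -/
noncomputable def trQ (σ : K ≃ₐ[F] K) (θ : K) : QuadraticForm F K :=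
  LinearMap.BilinMap.toQuadraticMap
    ((Algebra.traceForm F K).compl₁₂ (LinearMap.mulLeft F θ) σ.toLinearMap)

theorem trQ_apply (σ : K ≃ₐ[F] K) (θ v : K) :
    trQ σ θ v = Algebra.trace F K (θ * v * σ v) := by
  unfold trQ
  rw [LinearMap.BilinMap.toQuadraticMap_apply, LinearMap.compl₁₂_apply, Algebra.traceForm_apply]
  rfl

theorem trQ_polar (σ : K ≃ₐ[F] K) (θ u v : K) :
    QuadraticMap.polar (⇑(trQ σ θ)) u v =
      Algebra.trace F K (θ * u * σ v) + Algebra.trace F K (θ * v * σ u) := by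
  unfold trQ
  rw [LinearMap.BilinMap.polar_toQuadraticMap, LinearMap.compl₁₂_apply, LinearMap.compl₁₂_apply,
    Algebra.traceForm_apply, Algebra.traceForm_apply]
  rfl

theorem trQ_nondeg [Algebra.IsSeparable F K] (σ : K ≃ₐ[F] K) (hσ : ∀ x, σ (σ x) = x) (θ : K)
    (hθ : θ + σ θ ≠ 0) : (QuadraticMap.polarBilin (trQ σ θ)).Nondegenerate := by
  have key : ∀ u v : K, QuadraticMap.polar (⇑(trQ σ θ)) u v =
      Algebra.trace F K ((θ + σ θ) * u * σ v) := by
    intro u v
    rw [trQ_polar]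
    have h1 : Algebra.trace F K (θ * v * σ u) = Algebra.trace F K (σ θ * u * σ v) := by
      rw [← Algebra.trace_eq_of_algEquiv σ (θ * v * σ u), map_mul σ, map_mul σ, hσ]
      congr 1
      ring
    rw [h1, ← map_add]
    congr 1
    ring
  have hleft : ∀ u : K, (∀ v, QuadraticMap.polar (⇑(trQ σ θ)) u v = 0) → u = 0 := by
    intro u hu
    have hnd := traceForm_nondegenerate F K
    have h1 : ∀ w : K, Algebra.traceForm F K ((θ + σ θ) * u) w = 0 := by
      intro w
      rw [Algebra.traceForm_apply]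
      have := hu (σ w)
      rw [key, hσ] at this
      exact this
    have h2 : (θ + σ θ) * u = 0 := hnd.1 _ h1
    rcases mul_eq_zero.mp h2 with h | h
    · exact absurd h hθ
    · exact h
  constructor
  · intro x hx
    exact hleft x hx
  · intro y hy
    apply hleft y
    intro x
    rw [QuadraticMap.polar_comm]
    exact hy x

theorem trQ_mul (σ : K ≃ₐ[F] K) (θ μ : K) (hμ : μ * σ μ = 1) (v : K) :
    trQ σ θ (μ * v) = trQ σ θ v := by
  rw [trQ_apply, trQ_apply, map_mul σ]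
  congr 1
  calc θ * (μ * v) * (σ μ * σ v) = (μ * σ μ) * (θ * v * σ v) := by ring
    _ = θ * v * σ v := by rw [hμ, one_mul]

end traceform

section transport
variable {F : Type*} [Field F] {ι : Type} [Fintype ι] [DecidableEq ι]
  {K : Type*} [Field K] [Algebra F K]

/-- the conjugate of multiplication by `μ` under a linear identification `K ≃ ι → F` -/
noncomputable def conjMul (Φ : K ≃ₗ[F] (ι → F)) (μ : K) (hμ : μ ≠ 0) :
    (ι → F) ≃ₗ[F] (ι → F) where
  toFun w := Φ (μ * Φ.symm w)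
  invFun w := Φ (μ⁻¹ * Φ.symm w)
  map_add' u v := by simp [mul_add]
  map_smul' c u := by simp
  left_inv w := by
    simp only [LinearEquiv.symm_apply_apply]
    rw [← mul_assoc, inv_mul_cancel₀ hμ, one_mul, LinearEquiv.apply_symm_apply]
  right_inv w := by
    simp only [LinearEquiv.symm_apply_apply]
    rw [← mul_assoc, mul_inv_cancel₀ hμ, one_mul, LinearEquiv.apply_symm_apply]

/-- transport of a multiplication isometry to a matrix isometry -/
theorem transport (Q' : QuadraticForm F K) (Qs : (ι → F) → F) (Φ : K ≃ₗ[F] (ι → F))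
    (hΦ : ∀ v, Qs (Φ v) = Q' v) (μ : K) (hμ0 : μ ≠ 0) (hiso : ∀ v, Q' (μ * v) = Q' v)
    (r : ℕ) (hμr : μ ^ r = 1) (hμ1 : μ ≠ 1) :
    ∃ x : GL ι F, x ∈ Cfsg.isometryGroup F Qs ∧ x ^ r = 1 ∧
      ∀ v, (x : Matrix ι ι F) *ᵥ v = v → v = 0 := by
  set x : GL ι F := (Cfsg.Agent.Lib.Helper36.glLinEquiv ι F).symm (conjMul Φ μ hμ0) with hx
  have hxv : ∀ w, (x : Matrix ι ι F) *ᵥ w = Φ (μ * Φ.symm w) := by
    intro w
    have := Cfsg.Agent.Lib.Helper36.glLinEquiv_apply x w
    rw [← this, hx, MulEquiv.apply_symm_apply]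
    rfl
  have hpow : ∀ n : ℕ, ∀ w, ((x : Matrix ι ι F) ^ n) *ᵥ w = Φ (μ ^ n * Φ.symm w) := by
    intro n
    induction n with
    | zero => intro w; simp
    | succ n ih =>
      intro w
      rw [pow_succ, ← Matrix.mulVec_mulVec, hxv, ih, LinearEquiv.symm_apply_apply, ← mul_assoc,
        ← pow_succ]
  refine ⟨x, ?_, ?_, ?_⟩
  · rw [Cfsg.Agent.Lib.Helper13.mem_isometryGroup_iff]
    intro u
    rw [hxv, hΦ, hiso, ← hΦ, LinearEquiv.apply_symm_apply]
  · apply Units.ext
    rw [Units.val_pow_eq_pow_val, Units.val_one]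
    apply Matrix.toLin'.injective
    apply LinearMap.ext
    intro w
    rw [Matrix.toLin'_apply, hpow, hμr, one_mul, LinearEquiv.apply_symm_apply, Matrix.toLin'_one]
    rfl
  · intro v hv
    rw [hxv] at hv
    have h1 : μ * Φ.symm v = Φ.symm v := by
      have := congrArg Φ.symm hv
      rwa [LinearEquiv.symm_apply_apply] at this
    have h2 : (μ - 1) * Φ.symm v = 0 := by rw [sub_mul, one_mul, h1, sub_self]
    rcases mul_eq_zero.mp h2 with h | h
    · exact absurd (sub_eq_zero.mp h) hμ1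
    · have := congrArg Φ h
      rwa [LinearEquiv.apply_symm_apply, map_zero] at this

end transport

section main
variable {F : Type*} [Field F] [Fintype F] [CharP F 2]

/-- A fixed-point-free isometry of prime order `r ∣ q^d + 1` exists on the plus form or on the
minus form (in fact always on the minus form). -/
theorem exists_fpf_isometry (d : ℕ) (hd : 1 ≤ d) (a b : F)
    (hab : ∀ x y : F, x ^ 2 + a * x * y + b * y ^ 2 = 0 → x = 0 ∧ y = 0)
    (r : ℕ) [hr : Fact r.Prime] (hr2 : r ≠ 2) (hdvd : r ∣ Fintype.card F ^ d + 1) :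
    (∃ x : GL (Fin d ⊕ Fin d) F, x ∈ Cfsg.isometryGroup F (Cfsg.quadFormPlus d F) ∧ x ^ r = 1 ∧
      ∀ v, (x : Matrix (Fin d ⊕ Fin d) (Fin d ⊕ Fin d) F) *ᵥ v = v → v = 0) ∨
    (∃ x : GL ((Fin (d - 1) ⊕ Fin (d - 1)) ⊕ Fin 2) F,
      x ∈ Cfsg.isometryGroup F (Cfsg.quadFormMinus (d - 1) F a b) ∧ x ^ r = 1 ∧
      ∀ v, (x : Matrix ((Fin (d - 1) ⊕ Fin (d - 1)) ⊕ Fin 2) ((Fin (d - 1) ⊕ Fin (d - 1)) ⊕ Fin 2) F) *ᵥ v
        = v → v = 0) := by
  classical
  have hne : NeZero (2 * d) := ⟨by omega⟩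
  let K := FiniteField.Extension F 2 (2 * d)
  have hcardK : Nat.card K = Fintype.card F ^ (2 * d) := by
    rw [FiniteField.natCard_extension, Nat.card_eq_fintype_card]
  have hfr : Module.finrank F K = 2 * d := FiniteField.finrank_extension F 2 (2 * d)
  set Qn := Fintype.card F ^ d with hQn
  have hQpos : 1 ≤ Qn := Nat.one_le_pow _ _ Fintype.card_pos
  have hKQ : Nat.card K = Qn * Qn := by rw [hcardK, hQn, ← pow_add]; congr 1; ring
  -- an element of order r
  have hunits : Nat.card Kˣ = Qn * Qn - 1 := by rw [Nat.card_units, hKQ]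
  have hdvd2 : r ∣ Nat.card Kˣ := by
    rw [hunits]
    have : Qn * Qn - 1 = (Qn + 1) * (Qn - 1) := by
      obtain ⟨m, hm⟩ : ∃ m, Qn = m + 1 := ⟨Qn - 1, by omega⟩
      rw [hm]
      simp only [Nat.add_sub_cancel]
      have : (m + 1) * (m + 1) = (m + 1 + 1) * m + 1 := by ring
      rw [this, Nat.add_sub_cancel]
    rw [this]
    exact Dvd.dvd.mul_right hdvd _
  obtain ⟨μ, hμ⟩ := exists_prime_orderOf_dvd_card' (G := Kˣ) r hdvd2
  -- the Frobenius power
  have : Fintype K := Fintype.ofFinite K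
  have hKcard : Fintype.card K = Qn * Qn := by rw [← Nat.card_eq_fintype_card, hKQ]
  let σh : K →ₐ[F] K := (FiniteField.frobeniusAlgHom F K) ^ d
  have hσh : ∀ x : K, σh x = x ^ Qn := by
    intro x
    show ((FiniteField.frobeniusAlgHom F K) ^ d) x = x ^ Qn
    rw [AlgHom.coe_pow, FiniteField.coe_frobeniusAlgHom, pow_iterate]
  have hσσ : ∀ x : K, σh (σh x) = x := by
    intro x
    rw [hσh, hσh, ← pow_mul, ← hKcard, FiniteField.pow_card]
  let σ : K ≃ₐ[F] K := AlgEquiv.ofAlgHom σh σh (AlgHom.ext hσσ) (AlgHom.ext hσσ)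
  have hσ : ∀ x : K, σ x = x ^ Qn := hσh
  have hσ2 : ∀ x : K, σ (σ x) = x := hσσ
  -- properties of μ
  have hμr : (μ : K) ^ r = 1 := by
    have := pow_orderOf_eq_one μ
    rw [hμ] at this
    rw [← Units.val_pow_eq_pow_val, this, Units.val_one]
  have hμQ : (μ : K) * σ (μ : K) = 1 := by
    rw [hσ, ← pow_succ']
    obtain ⟨c, hc⟩ := hdvd
    rw [hc, pow_mul, hμr, one_pow]
  have hμ0 : (μ : K) ≠ 0 := μ.ne_zero
  have hμ1 : (μ : K) ≠ 1 := by
    intro h
    have h1 : μ = 1 := Units.ext h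
    rw [h1, orderOf_one] at hμ
    exact hr.out.ne_one hμ.symm
  have : CharP K 2 := charP_of_injective_algebraMap (algebraMap F K).injective 2
  have hθ : (μ : K) + σ (μ : K) ≠ 0 := by
    intro h
    have h1 : σ (μ : K) = (μ : K) := by
      have := CharTwo.add_eq_zero.mp h
      exact this.symm
    rw [h1] at hμQ
    -- μ ^ 2 = 1 and μ ^ r = 1 with r odd
    have h2 : orderOf μ ∣ 2 := by
      apply orderOf_dvd_of_pow_eq_one
      apply Units.ext
      rw [Units.val_pow_eq_pow_val, sq, hμQ, Units.val_one]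
    rw [hμ] at h2
    exact hr2 ((Nat.prime_dvd_prime_iff_eq hr.out Nat.prime_two).mp h2)
  -- the form
  have hnd := trQ_nondeg (F := F) σ hσ2 (μ : K) hθ
  have hiso := trQ_mul (F := F) σ (μ : K) (μ : K) hμQ
  rcases classify (F := F) d hd hfr (trQ σ (μ : K)) hnd a b hab with ⟨Φ, hΦ⟩ | ⟨Φ, hΦ⟩
  · left
    exact transport (trQ σ (μ : K)) _ Φ hΦ (μ : K) hμ0 hiso r hμr hμ1
  · right
    exact transport (trQ σ (μ : K)) _ Φ hΦ (μ : K) hμ0 hiso r hμr hμ1

end main

end Cfsg.Agent.Lib.Helper44.Elu
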