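import Mathlib
import Cfsg.Agent.Lib.Helper44.Elusive4
import Cfsg.Agent.S5985
import Cfsg.Agent.Lib.Helper5.QuadCount

set_option autoImplicit false
set_option linter.unusedSectionVars false

/-!
# Quadratic forms with a given polar form in characteristic two

All quadratic forms with the same (nondegenerate) polar form `B` are `Q_c = Q + B(c, ·)²`;
consequences for invariant forms of fixed-point-free isometries, the plus/minus dichotomy with
counts of singular vectors, and a double-counting identity.
-/

namespace Cfsg.Agent.Lib.Helper44.Elu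

open Matrix Module

section shift
variable {ι : Type} [Fintype ι] [DecidableEq ι] {F : Type*} [Field F] [Fintype F] [CharP F 2]

theorem sq_inj {a b : F} (h : a ^ 2 = b ^ 2) : a = b := by
  have h2 : (a + b) ^ 2 = 0 := by
    have : (a + b) ^ 2 = a ^ 2 + b ^ 2 + (a * b + a * b) := by ring
    rw [this, h, CharTwo.add_self_eq_zero, CharTwo.add_self_eq_zero, add_zero]
  have h3 : a + b = 0 := pow_eq_zero_iff (two_ne_zero) |>.mp h2
  exact CharTwo.add_eq_zero.mp h3

/-- the form `Q_c = Q + B(c, ·)²` -/
noncomputable def shiftQF (Q : QuadraticForm F (ι → F)) (c : ι → F) : QuadraticForm F (ι → F) :=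
  Q + QuadraticMap.linMulLin (QuadraticMap.polarBilin Q c) (QuadraticMap.polarBilin Q c)

theorem shiftQF_apply (Q : QuadraticForm F (ι → F)) (c v : ι → F) :
    shiftQF Q c v = Q v + (QuadraticMap.polar (⇑Q) c v) ^ 2 := by
  unfold shiftQF
  rw [_root_.add_apply, QuadraticMap.linMulLin_apply, QuadraticMap.polarBilin_apply_apply, sq]

theorem shiftQF_zero (Q : QuadraticForm F (ι → F)) : shiftQF Q 0 = Q := by
  ext v
  rw [shiftQF_apply, QuadraticMap.polar_zero_left]
  simp

theorem shiftQF_polar (Q : QuadraticForm F (ι → F)) (c u v : ι → F) :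
    QuadraticMap.polar (⇑(shiftQF Q c)) u v = QuadraticMap.polar (⇑Q) u v := by
  have h2 : (2 : F) = 0 := CharTwo.two_eq_zero
  have e := QuadraticMap.polar_add_right Q c u v
  show shiftQF Q c (u + v) - shiftQF Q c u - shiftQF Q c v = Q (u + v) - Q u - Q v
  rw [shiftQF_apply, shiftQF_apply, shiftQF_apply, e]
  linear_combination (QuadraticMap.polar (⇑Q) c u * QuadraticMap.polar (⇑Q) c v) * h2

theorem shiftQF_polarBilin (Q : QuadraticForm F (ι → F)) (c : ι → F) :
    QuadraticMap.polarBilin (shiftQF Q c) = QuadraticMap.polarBilin Q := by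
  apply LinearMap.ext₂
  intro u v
  rw [QuadraticMap.polarBilin_apply_apply, QuadraticMap.polarBilin_apply_apply, shiftQF_polar]

/-- all forms with the same polar form are shifts -/
theorem exists_shift (Q Q' : QuadraticForm F (ι → F))
    (hQ : (QuadraticMap.polarBilin Q).Nondegenerate)
    (h : ∀ u v, QuadraticMap.polar (⇑Q') u v = QuadraticMap.polar (⇑Q) u v) :
    ∃ c, Q' = shiftQF Q c := by
  classical
  have h2 : (2 : F) = 0 := CharTwo.two_eq_zero
  have hadd : ∀ u v, Q' (u + v) + Q (u + v) = (Q' u + Q u) + (Q' v + Q v) := by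
    intro u v
    have h1 := h u v
    unfold QuadraticMap.polar at h1
    linear_combination h1 + (Q (u + v) - Q u - Q v) * h2
  let L : (ι → F) →ₗ[F] F :=
    { toFun := fun v => (frobeniusEquiv F 2).symm (Q' v + Q v)
      map_add' := by
        intro u v
        rw [hadd, map_add]
      map_smul' := by
        intro t v
        rw [QuadraticMap.map_smul, QuadraticMap.map_smul, smul_eq_mul, smul_eq_mul, ← mul_add,
          map_mul, RingHom.id_apply, smul_eq_mul]
        congr 1
        rw [← sq]
        exact frobeniusEquiv_symm_pow F 2 t }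
  have hL : ∀ v, (L v) ^ 2 = Q' v + Q v := fun v => frobeniusEquiv_symm_pow_p F 2 _
  refine ⟨(LinearMap.BilinForm.toDual (QuadraticMap.polarBilin Q) hQ).symm L, ?_⟩
  ext v
  rw [shiftQF_apply, ← QuadraticMap.polarBilin_apply_apply,
    LinearMap.BilinForm.apply_toDual_symm_apply, hL]
  linear_combination (-(Q v)) * h2

/-- the twist vector of an isometry of the polar form -/
theorem exists_twist (Q : QuadraticForm F (ι → F))
    (hQ : (QuadraticMap.polarBilin Q).Nondegenerate) (x : Matrix ι ι F)
    (hx : ∀ u v, QuadraticMap.polar (⇑Q) (x *ᵥ u) (x *ᵥ v) = QuadraticMap.polar (⇑Q) u v) :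
    ∃ a, ∀ v, Q (x *ᵥ v) = Q v + (QuadraticMap.polar (⇑Q) a v) ^ 2 := by
  obtain ⟨a, ha⟩ := exists_shift Q (Q.comp (Matrix.toLin' x)) hQ (by
    intro u v
    have : QuadraticMap.polar (⇑(Q.comp (Matrix.toLin' x))) u v =
        QuadraticMap.polar (⇑Q) (x *ᵥ u) (x *ᵥ v) := by
      unfold QuadraticMap.polar
      simp only [QuadraticMap.comp_apply, Matrix.toLin'_apply, Matrix.mulVec_add]
    rw [this, hx])
  refine ⟨a, fun v => ?_⟩
  have := congrArg (fun q : QuadraticForm F (ι → F) => q v) ha
  simp only [QuadraticMap.comp_apply, Matrix.toLin'_apply] at this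
  rw [this, shiftQF_apply]

/-- a fixed-point-free isometry of the polar form preserves at most one quadratic form -/
theorem eq_of_fpf_invariant (Q Q' : QuadraticForm F (ι → F))
    (hQ : (QuadraticMap.polarBilin Q).Nondegenerate)
    (h : ∀ u v, QuadraticMap.polar (⇑Q') u v = QuadraticMap.polar (⇑Q) u v)
    (x : Matrix ι ι F) (hfpf : ∀ v, x *ᵥ v = v → v = 0)
    (hxQ : ∀ v, Q (x *ᵥ v) = Q v) (hxQ' : ∀ v, Q' (x *ᵥ v) = Q' v) : Q' = Q := by
  obtain ⟨c, hc⟩ := exists_shift Q Q' hQ h
  have h1 : ∀ v, QuadraticMap.polar (⇑Q) c (x *ᵥ v) = QuadraticMap.polar (⇑Q) c v := by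
    intro v
    apply sq_inj
    have := hxQ' v
    rw [hc, shiftQF_apply, shiftQF_apply, hxQ] at this
    exact add_left_cancel this
  have hunit : IsUnit (x - 1) := by
    rw [← Matrix.mulVec_injective_iff_isUnit]
    intro u w huw
    have : (x - 1) *ᵥ (u - w) = 0 := by rw [Matrix.mulVec_sub, huw, sub_self]
    rw [Matrix.sub_mulVec, Matrix.one_mulVec, sub_eq_zero] at this
    exact sub_eq_zero.mp (hfpf _ this)
  have hsurj : Function.Surjective (x - 1).mulVec := Matrix.mulVec_surjective_iff_isUnit.mpr hunit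
  have hc0 : c = 0 := by
    apply hQ.1
    intro w
    obtain ⟨v, rfl⟩ := hsurj w
    rw [QuadraticMap.polarBilin_apply_apply, Matrix.sub_mulVec, Matrix.one_mulVec,
      QuadraticMap.polar_sub_right, h1, sub_self]
  rw [hc, hc0, shiftQF_zero]

end shift

section aniso
variable {F : Type*} [Field F] [Fintype F] [CharP F 2]

theorem exists_aniso_one :
    ∃ b : F, ∀ x y : F, x ^ 2 + 1 * x * y + b * y ^ 2 = 0 → x = 0 ∧ y = 0 := by
  have hidx := asHom_range_index (F := F)
  have hne : (asHom F).range ≠ ⊤ := by
    intro h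
    rw [h, AddSubgroup.index_top] at hidx
    omega
  obtain ⟨b, hb⟩ : ∃ b : F, b ∉ (asHom F).range := by
    by_contra hcon
    push Not at hcon
    exact hne (eq_top_iff.mpr fun b _ => hcon b)
  refine ⟨b, fun x y hxy => ?_⟩
  by_cases hy : y = 0
  · subst hy
    refine ⟨?_, rfl⟩
    have : x ^ 2 = 0 := by simpa using hxy
    exact pow_eq_zero_iff (by norm_num) |>.mp this
  · exfalso
    apply hb
    refine ⟨x / y, ?_⟩
    rw [asHom_apply]
    have h1 : (x / y) ^ 2 + x / y + b = 0 := by
      have : (x / y) ^ 2 + x / y + b = (x ^ 2 + 1 * x * y + b * y ^ 2) / y ^ 2 := by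
        field_simp
      rw [this, hxy, zero_div]
    have := CharTwo.add_eq_zero.mp h1
    exact this

end aniso

section dichotomy
variable {ι : Type} [Fintype ι] [DecidableEq ι] {F : Type*} [Field F] [Fintype F] [CharP F 2]

/-- plus or minus: a totally singular subspace of half dimension and the plus count of singular
vectors, or a bound on totally singular subspaces and the minus count -/
theorem type_dichotomy (d : ℕ) (hd : 2 ≤ d) (hcard : Fintype.card ι = 2 * d)
    (Q : QuadraticForm F (ι → F)) (hQ : (QuadraticMap.polarBilin Q).Nondegenerate) :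
    ((∃ U : Submodule F (ι → F), finrank F U = d ∧ ∀ u ∈ U, Q u = 0) ∧
      Nat.card {v : ι → F // Q v = 0} =
        Fintype.card F ^ d + (Fintype.card F ^ d - 1) * Fintype.card F ^ (d - 1)) ∨
    ((∀ U : Submodule F (ι → F), (∀ u ∈ U, Q u = 0) → finrank F U ≤ d - 1) ∧
      Nat.card {v : ι → F // Q v = 0} =
        Fintype.card F ^ (d - 1) + (Fintype.card F ^ (d - 1) - 1) * Fintype.card F ^ d) := by
  classical
  obtain ⟨b, hab⟩ := exists_aniso_one (F := F)
  have hfr : finrank F (ι → F) = 2 * d := by rw [Module.finrank_fintype_fun_eq_card, hcard]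
  rcases classify d (by omega) hfr Q hQ 1 b hab with ⟨Φ, hΦ⟩ | ⟨Φ, hΦ⟩
  · left
    constructor
    · let pr : (Fin d ⊕ Fin d → F) →ₗ[F] (Fin d → F) := LinearMap.funLeft F F Sum.inr
      have hpr : Function.Surjective pr :=
        LinearMap.funLeft_surjective_of_injective F F _ Sum.inr_injective
      have hker : finrank F (LinearMap.ker pr) = d := by
        have h1 := LinearMap.finrank_range_add_finrank_ker pr
        rw [LinearMap.range_eq_top.mpr hpr, finrank_top, Module.finrank_fintype_fun_eq_card,
          Module.finrank_fintype_fun_eq_card, Fintype.card_sum, Fintype.card_fin] at h1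
        omega
      refine ⟨(LinearMap.ker pr).map (Φ.symm : (Fin d ⊕ Fin d → F) →ₗ[F] (ι → F)), ?_, ?_⟩
      · rw [LinearEquiv.finrank_map_eq, hker]
      · rintro u ⟨w, hw, rfl⟩
        show Q (Φ.symm w) = 0
        rw [← hΦ, LinearEquiv.apply_symm_apply, quadFormPlus_eq_dot]
        have : w ∘ Sum.inr = 0 := LinearMap.mem_ker.mp hw
        rw [this, dotProduct_zero]
    · have e : {v : ι → F // Q v = 0} ≃ {w : Fin d ⊕ Fin d → F // Cfsg.quadFormPlus d F w = 0} :=
        Equiv.subtypeEquiv Φ.toEquiv (fun v => by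
          show Q v = 0 ↔ Cfsg.quadFormPlus d F (Φ v) = 0
          rw [hΦ])
      rw [Nat.card_congr e, Cfsg.Agent.S5985.card_sing_plus]
  · right
    constructor
    · intro U hU
      have h1 := ts_bound_minus (d - 1) 1 b hab (U.map (Φ : (ι → F) →ₗ[F] _)) (by
        rintro w ⟨u, hu, rfl⟩
        show Cfsg.quadFormMinus (d - 1) F 1 b (Φ u) = 0
        rw [hΦ]
        exact hU u hu)
      rwa [LinearEquiv.finrank_map_eq] at h1
    · have e : {v : ι → F // Q v = 0} ≃
          {w : (Fin (d - 1) ⊕ Fin (d - 1)) ⊕ Fin 2 → F // Cfsg.quadFormMinus (d - 1) F 1 b w = 0} :=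
        Equiv.subtypeEquiv Φ.toEquiv (fun v => by
          show Q v = 0 ↔ Cfsg.quadFormMinus (d - 1) F 1 b (Φ v) = 0
          rw [hΦ])
      rw [Nat.card_congr e, card_sing_minus (d - 1) 1 b hab]
      congr 2
      rw [← pow_add]
      congr 1
      omega

end dichotomy

section count
variable {ι : Type} [Fintype ι] [DecidableEq ι] {F : Type*} [Field F] [Fintype F] [CharP F 2]

/-- double counting of the pairs `(c, v)`, `c ∈ C`, with `Q_c v = 0` -/
theorem double_count (Q : QuadraticForm F (ι → F)) (C : Submodule F (ι → F)) [Fintype C] :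
    Fintype.card F * ∑ c : C, Nat.card {v : ι → F // shiftQF Q (c : ι → F) v = 0} =
      Fintype.card F * (Nat.card C *
        Nat.card {v : ι → F // (∀ c ∈ C, QuadraticMap.polar (⇑Q) c v = 0) ∧ Q v = 0}) +
      (Fintype.card F ^ Fintype.card ι -
        Nat.card {v : ι → F // ∀ c ∈ C, QuadraticMap.polar (⇑Q) c v = 0}) * Nat.card C := by
  classical
  have h1 : ∀ c : C, Nat.card {v : ι → F // shiftQF Q (c : ι → F) v = 0} =
      ∑ v : ι → F, if shiftQF Q (c : ι → F) v = 0 then 1 else 0 := by
    intro c
    rw [Nat.card_eq_fintype_card, Fintype.card_subtype, Finset.card_filter]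
  simp_rw [h1]
  rw [Finset.sum_comm, Finset.mul_sum]
  have h2 : ∀ v : ι → F,
      Fintype.card F * ∑ c : C, (if shiftQF Q (c : ι → F) v = 0 then 1 else 0) =
      if (∀ c ∈ C, QuadraticMap.polar (⇑Q) c v = 0) then
        (if Q v = 0 then Fintype.card F * Nat.card C else 0) else Nat.card C := by
    intro v
    split_ifs with hR hQ0
    · have : ∀ c : C, shiftQF Q (c : ι → F) v = 0 := by
        intro c
        rw [shiftQF_apply, hR c c.2, hQ0]
        simp
      simp only [this, if_true, Finset.sum_const, Finset.card_univ, smul_eq_mul, mul_one]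
      rw [Nat.card_eq_fintype_card]
    · have : ∀ c : C, shiftQF Q (c : ι → F) v ≠ 0 := by
        intro c
        rw [shiftQF_apply, hR c c.2]
        simpa using hQ0
      simp [this]
    · push Not at hR
      obtain ⟨c₁, hc₁, hne⟩ := hR
      let φ : C →+ F :=
        { toFun := fun c => QuadraticMap.polar (⇑Q) (c : ι → F) v
          map_zero' := by
            show QuadraticMap.polar (⇑Q) ((0 : C) : ι → F) v = 0
            rw [Submodule.coe_zero, QuadraticMap.polar_zero_left]
          map_add' := by
            intro c c'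
            show QuadraticMap.polar (⇑Q) ((c + c' : C) : ι → F) v = _
            rw [Submodule.coe_add, QuadraticMap.polar_add_left] }
      have hφ : Function.Surjective φ := by
        intro t
        refine ⟨(t / QuadraticMap.polar (⇑Q) c₁ v) • ⟨c₁, hc₁⟩, ?_⟩
        show QuadraticMap.polar (⇑Q) ((t / QuadraticMap.polar (⇑Q) c₁ v) • c₁) v = t
        rw [QuadraticMap.polar_smul_left, smul_eq_mul, div_mul_cancel₀ _ hne]
      obtain ⟨s, hs⟩ : ∃ s : F, s ^ 2 = Q v := by
        obtain ⟨s, hs⟩ := isSquare_all (Q v)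
        exact ⟨s, by rw [hs, sq]⟩
      have h3 := Cfsg.Agent.Lib.Helper5.card_fiber_mul_card φ hφ s
      have h4 : ∑ c : C, (if shiftQF Q (c : ι → F) v = 0 then 1 else 0) =
          Nat.card {c : C // φ c = s} := by
        rw [Nat.card_eq_fintype_card, Fintype.card_subtype, Finset.card_filter]
        apply Finset.sum_congr rfl
        intro c _
        have : shiftQF Q (c : ι → F) v = 0 ↔ φ c = s := by
          rw [shiftQF_apply, ← hs]
          constructor
          · intro h
            apply sq_inj
            exact (CharTwo.add_eq_zero.mp h).symm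
          · intro h
            show s ^ 2 + (φ c) ^ 2 = 0
            rw [h, CharTwo.add_self_eq_zero]
        simp only [this]
      rw [h4, mul_comm, ← Nat.card_eq_fintype_card (α := F)]
      exact h3
  simp_rw [h2]
  rw [Finset.sum_ite, Finset.sum_ite, Finset.sum_const_zero, add_zero, Finset.sum_const,
    Finset.sum_const, Finset.filter_filter, smul_eq_mul, smul_eq_mul]
  congr 1
  · rw [Nat.card_eq_fintype_card (α := {v : ι → F // (∀ c ∈ C, QuadraticMap.polar (⇑Q) c v = 0) ∧ Q v = 0}),
      Fintype.card_subtype]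
    ring
  · congr 1
    rw [Nat.card_eq_fintype_card, Fintype.card_subtype, ← Fintype.card_fun (α := ι) (β := F)]
    rw [← Finset.card_univ (α := ι → F)]
    rw [← Finset.card_filter_add_card_filter_not (s := (Finset.univ : Finset (ι → F)))
      (fun v => ∀ c ∈ C, QuadraticMap.polar (⇑Q) c v = 0), Nat.add_sub_cancel_left]

end count

end Cfsg.Agent.Lib.Helper44.Elu
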