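import Mathlib
import Cfsg.Agent.Lib.Helper44.Elusive5
import Cfsg.Agent.Lib.Helper36.AltEven

set_option autoImplicit false
set_option linter.unusedSectionVars false

/-!
# Involutions of the symplectic group in characteristic two and their invariant quadratic forms
-/

namespace Cfsg.Agent.Lib.Helper44.Elu

open Matrix Module

section invol
variable {ι : Type} [Fintype ι] [DecidableEq ι] {F : Type*} [Field F] [Fintype F] [CharP F 2]

theorem orth_ker_eq_range (Q : QuadraticForm F (ι → F))
    (hQ : (QuadraticMap.polarBilin Q).Nondegenerate) (N : Matrix ι ι F)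
    (hadj : ∀ u v, QuadraticMap.polar (⇑Q) (N *ᵥ u) v = QuadraticMap.polar (⇑Q) u (N *ᵥ v)) :
    LinearMap.BilinForm.orthogonal (QuadraticMap.polarBilin Q) (LinearMap.ker N.mulVecLin) =
      LinearMap.range N.mulVecLin := by
  symm
  apply Submodule.eq_of_le_of_finrank_eq
  · rintro _ ⟨u, rfl⟩
    rw [LinearMap.BilinForm.mem_orthogonal_iff]
    intro w hw
    rw [QuadraticMap.polarBilin_apply_apply, Matrix.mulVecLin_apply, ← hadj]
    have : N *ᵥ w = 0 := hw
    rw [this, QuadraticMap.polar_zero_left]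
  · rw [LinearMap.BilinForm.finrank_orthogonal hQ]
    have := LinearMap.finrank_range_add_finrank_ker N.mulVecLin
    omega

theorem polar_eq_gram (Q : QuadraticForm F (ι → F)) (u v : ι → F) :
    QuadraticMap.polar (⇑Q) u v = u ⬝ᵥ (Cfsg.Agent.Lib.Helper44.gramStd (⇑Q)) *ᵥ v := by
  rw [← Cfsg.Agent.Lib.Helper44.toMatrix_basisFun_polarBilin, LinearMap.BilinForm.toMatrix_basisFun,
    ← Matrix.toBilin'_apply', Matrix.toBilin'_toMatrix', QuadraticMap.polarBilin_apply_apply]

/-- An involution of the polar form preserves a quadratic form (with that polar form) of any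
prescribed type, unless the minus type is asked for, `x - 1` has rank `d` and `d` is even. -/
theorem exists_invariant_of_type (d : ℕ) (hd : 2 ≤ d) (hcard : Fintype.card ι = 2 * d)
    (Q : QuadraticForm F (ι → F)) (hQ : (QuadraticMap.polarBilin Q).Nondegenerate)
    (x : Matrix ι ι F) (hx2 : x * x = 1)
    (hx : ∀ u v, QuadraticMap.polar (⇑Q) (x *ᵥ u) (x *ᵥ v) = QuadraticMap.polar (⇑Q) u v)
    (P : Prop) (hP : ¬P → (x - 1).rank = d → Odd d) :
    ∃ Q' : QuadraticForm F (ι → F),
      (∀ u v, QuadraticMap.polar (⇑Q') u v = QuadraticMap.polar (⇑Q) u v) ∧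
      (∀ v, Q' (x *ᵥ v) = Q' v) ∧
      ((∃ U : Submodule F (ι → F), finrank F U = d ∧ ∀ u ∈ U, Q' u = 0) ↔ P) := by
  classical
  have h2 : (2 : F) = 0 := CharTwo.two_eq_zero
  set N : Matrix ι ι F := x - 1 with hN
  have hxN : ∀ v, x *ᵥ v = v + N *ᵥ v := by
    intro v
    rw [hN, Matrix.sub_mulVec, Matrix.one_mulVec]
    abel
  have hNN : N * N = 0 := by
    have e : (x - 1) * (x - 1) = x * x - (x + x) + 1 := by noncomm_ring
    have e2 : x + x = 0 := by
      ext i j
      exact CharTwo.add_self_eq_zero _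
    rw [hN, e, hx2, e2, sub_zero]
    ext i j
    exact CharTwo.add_self_eq_zero _
  have hxx : ∀ v, x *ᵥ (x *ᵥ v) = v := by
    intro v
    rw [Matrix.mulVec_mulVec, hx2, Matrix.one_mulVec]
  have hadjx : ∀ u v, QuadraticMap.polar (⇑Q) (x *ᵥ u) v = QuadraticMap.polar (⇑Q) u (x *ᵥ v) := by
    intro u v
    have := hx u (x *ᵥ v)
    rw [hxx] at this
    exact this
  have hadj : ∀ u v, QuadraticMap.polar (⇑Q) (N *ᵥ u) v = QuadraticMap.polar (⇑Q) u (N *ᵥ v) := by
    intro u v
    rw [hN, Matrix.sub_mulVec, Matrix.sub_mulVec, Matrix.one_mulVec, Matrix.one_mulVec,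
      QuadraticMap.polar_sub_left, QuadraticMap.polar_sub_right, hadjx]
  have horth := orth_ker_eq_range Q hQ N hadj
  -- the twist
  obtain ⟨a, ha⟩ := exists_twist Q hQ x hx
  have haR : a ∈ LinearMap.range N.mulVecLin := by
    rw [← horth, LinearMap.BilinForm.mem_orthogonal_iff]
    intro w hw
    have hw' : N *ᵥ w = 0 := hw
    have hxw : x *ᵥ w = w := by rw [hxN, hw', add_zero]
    have h3 := ha w
    rw [hxw] at h3
    have h0 : (QuadraticMap.polar (⇑Q) a w) ^ 2 = 0 := by
      have h4 : Q w + 0 = Q w + (QuadraticMap.polar (⇑Q) a w) ^ 2 := by rw [add_zero]; exact h3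
      exact (add_left_cancel h4).symm
    rw [QuadraticMap.polarBilin_apply_apply, QuadraticMap.polar_comm]
    exact pow_eq_zero_iff (two_ne_zero) |>.mp h0
  obtain ⟨c₀, hc₀⟩ := haR
  have hc₀' : N *ᵥ c₀ = a := hc₀
  set Q1 := shiftQF Q c₀ with hQ1
  have hQ1pol : ∀ u v, QuadraticMap.polar (⇑Q1) u v = QuadraticMap.polar (⇑Q) u v :=
    shiftQF_polar Q c₀
  have hQ1x : ∀ v, Q1 (x *ᵥ v) = Q1 v := by
    intro v
    rw [hQ1, shiftQF_apply, shiftQF_apply, ha]
    have e1 : QuadraticMap.polar (⇑Q) c₀ (x *ᵥ v) =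
        QuadraticMap.polar (⇑Q) c₀ v + QuadraticMap.polar (⇑Q) a v := by
      rw [← hadjx, hxN, QuadraticMap.polar_add_left, hc₀']
    rw [e1]
    linear_combination (QuadraticMap.polar (⇑Q) a v ^ 2 +
      QuadraticMap.polar (⇑Q) c₀ v * QuadraticMap.polar (⇑Q) a v) * h2
  have hQ1nd : (QuadraticMap.polarBilin Q1).Nondegenerate := by
    rw [hQ1, shiftQF_polarBilin]
    exact hQ
  set W := LinearMap.ker N.mulVecLin with hW
  have hinv : ∀ c ∈ W, ∀ v, shiftQF Q1 c (x *ᵥ v) = shiftQF Q1 c v := by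
    intro c hc v
    have hc' : N *ᵥ c = 0 := hc
    have hxc : x *ᵥ c = c := by rw [hxN, hc', add_zero]
    rw [shiftQF_apply Q1 c, shiftQF_apply Q1 c, hQ1x, hQ1pol, hQ1pol, ← hadjx, hxc]
  by_contra hcon
  have hall : ∀ c ∈ W, ¬((∃ U : Submodule F (ι → F), finrank F U = d ∧
      ∀ u ∈ U, shiftQF Q1 c u = 0) ↔ P) := by
    intro c hc hiff
    exact hcon ⟨shiftQF Q1 c, fun u v => by rw [shiftQF_polar, hQ1pol], hinv c hc, hiff⟩
  -- the counts
  set q := Fintype.card F with hq
  obtain ⟨e, _, he⟩ := FiniteField.card F 2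
  have hq2 : 2 ≤ q := by
    rw [hq, he]
    calc 2 = 2 ^ 1 := rfl
      _ ≤ 2 ^ (e : ℕ) := Nat.pow_le_pow_right (by norm_num) e.pos
  set A := q ^ (d - 1) with hA
  have hApos : 1 ≤ A := Nat.one_le_pow _ _ (by omega)
  have hqd : q ^ d = A * q := by
    rw [hA, ← pow_succ]; congr 1; omega
  have hq2d : q ^ Fintype.card ι = (A * q) ^ 2 := by
    rw [hcard, ← hqd, ← pow_mul]; congr 1; omega
  -- the common value of the counts
  have hZ : ∀ c ∈ W, Nat.card {v : ι → F // shiftQF Q1 c v = 0} =
      if P then A + (A - 1) * (A * q) else A * q + (A * q - 1) * A := by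
    intro c hc
    have hnd : (QuadraticMap.polarBilin (shiftQF Q1 c)).Nondegenerate := by
      rw [shiftQF_polarBilin]; exact hQ1nd
    rcases type_dichotomy d hd hcard (shiftQF Q1 c) hnd with ⟨hpl, hcnt⟩ | ⟨hmi, hcnt⟩
    · have hnP : ¬P := fun hp => hall c hc ⟨fun _ => hp, fun _ => hpl⟩
      rw [if_neg hnP, hcnt, hqd]
    · have hPp : P := by
        by_contra hnP
        apply hall c hc
        constructor
        · rintro ⟨U, hU, hU0⟩
          have := hmi U hU0
          omega
        · intro hp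
          exact absurd hp hnP
      rw [if_pos hPp, hcnt, hqd]
  set Zs : ℕ := if P then A + (A - 1) * (A * q) else A * q + (A * q - 1) * A with hZs
  have hDC := double_count Q1 W
  have hsum : ∑ c : W, Nat.card {v : ι → F // shiftQF Q1 (c : ι → F) v = 0} = Nat.card W * Zs := by
    rw [Finset.sum_congr rfl (fun c _ => hZ c.1 c.2), Finset.sum_const, Finset.card_univ,
      smul_eq_mul, Nat.card_eq_fintype_card]
  rw [hsum, hq2d] at hDC
  -- the radical-type subspace
  set R := LinearMap.range N.mulVecLin with hR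
  have hRset : ∀ v : ι → F, (∀ c ∈ W, QuadraticMap.polar (⇑Q1) c v = 0) ↔ v ∈ R := by
    intro v
    rw [← horth, LinearMap.BilinForm.mem_orthogonal_iff]
    constructor
    · intro h c hc
      rw [QuadraticMap.polarBilin_apply_apply, ← hQ1pol]
      exact h c hc
    · intro h c hc
      rw [hQ1pol, ← QuadraticMap.polarBilin_apply_apply]
      exact h c hc
  have hRcard : Nat.card {v : ι → F // ∀ c ∈ W, QuadraticMap.polar (⇑Q1) c v = 0} = q ^ N.rank := by
    rw [Nat.card_congr (Equiv.subtypeEquivRight hRset)]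
    show Nat.card R = _
    rw [Module.natCard_eq_pow_finrank (K := F), Nat.card_eq_fintype_card]
    rfl
  have hRW : R ≤ W := by
    rintro _ ⟨u, rfl⟩
    show N *ᵥ (N *ᵥ u) = 0
    rw [Matrix.mulVec_mulVec, hNN, Matrix.zero_mulVec]
  have hRiso : ∀ r ∈ R, ∀ r' ∈ R, QuadraticMap.polar (⇑Q1) r r' = 0 := by
    intro r hr r' hr'
    exact (hRset r').mpr hr' r (hRW hr)
  -- additive map on R
  let ψ : R →+ F :=
    { toFun := fun r => Q1 (r : ι → F)
      map_zero' := by
        show Q1 ((0 : R) : ι → F) = 0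
        rw [Submodule.coe_zero, map_zero]
      map_add' := by
        intro r r'
        show Q1 ((r + r' : R) : ι → F) = Q1 (r : ι → F) + Q1 (r' : ι → F)
        have := hRiso r r.2 r' r'.2
        unfold QuadraticMap.polar at this
        rw [Submodule.coe_add]
        linear_combination this }
  have hz0 : Nat.card {v : ι → F // (∀ c ∈ W, QuadraticMap.polar (⇑Q1) c v = 0) ∧ Q1 v = 0} =
      Nat.card {r : R // ψ r = 0} := by
    apply Nat.card_congr
    exact
      { toFun := fun v => ⟨⟨v.1, (hRset v.1).mp v.2.1⟩, v.2.2⟩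
        invFun := fun r => ⟨r.1.1, (hRset r.1.1).mpr r.1.2, r.2⟩
        left_inv := fun v => rfl
        right_inv := fun r => rfl }
  rw [hz0, hRcard] at hDC
  have hWpos : 0 < Nat.card W := Nat.card_pos
  have hρle : q ^ N.rank ≤ (A * q) ^ 2 := by
    rw [← hq2d]
    apply Nat.pow_le_pow_right (by omega)
    have := Matrix.rank_le_card_width N
    exact this
  set ρ := q ^ N.rank with hρ
  set z0 := Nat.card {r : R // ψ r = 0} with hz0'
  -- cancel |W| and cast
  have hmain : (q : ℤ) * Zs = q * z0 + (A * q) ^ 2 - ρ := by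
    have h3 : (q : ℤ) * ((Nat.card W : ℤ) * Zs) = q * ((Nat.card W : ℤ) * z0) +
        (((A : ℤ) * q) ^ 2 - ρ) * (Nat.card W : ℤ) := by
      have := congrArg (fun n : ℕ => (n : ℤ)) hDC
      simp only [Nat.cast_mul, Nat.cast_add] at this
      rw [this]
      push_cast [Nat.cast_sub hρle]
      ring
    have hW0 : (Nat.card W : ℤ) ≠ 0 := by exact_mod_cast hWpos.ne'
    apply mul_left_cancel₀ hW0
    linear_combination h3
  have hAz : (1 : ℤ) ≤ A := by exact_mod_cast hApos
  have hqz : (2 : ℤ) ≤ q := by exact_mod_cast hq2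
  have hρz : (1 : ℤ) ≤ ρ := by
    have : 1 ≤ ρ := Nat.one_le_pow _ _ (by omega)
    exact_mod_cast this
  have hpos1 : (0 : ℤ) < A * q * (q - 1) := by
    have h1 : (0 : ℤ) < A * q := by positivity
    have h2' : (0 : ℤ) < (q : ℤ) - 1 := by linarith
    exact mul_pos h1 h2'
  have hZp : ((A * q + (A * q - 1) * A : ℕ) : ℤ) = A * q + (A * q - 1) * A := by
    have : 1 ≤ A * q := by nlinarith
    push_cast [Nat.cast_sub this]
    ring
  have hZm : ((A + (A - 1) * (A * q) : ℕ) : ℤ) = A + (A - 1) * (A * q) := by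
    push_cast [Nat.cast_sub hApos]
    ring
  -- the two cases for ψ
  by_cases hψ : ∀ r : R, ψ r = 0
  · -- z0 = ρ
    have hz0ρ : z0 = ρ := by
      rw [hz0', hρ]
      have : Nat.card {r : R // ψ r = 0} = Nat.card R := by
        apply Nat.card_congr
        exact
          { toFun := fun r => r.1
            invFun := fun r => ⟨r, hψ r⟩
            left_inv := fun r => rfl
            right_inv := fun r => rfl }
      rw [this, Module.natCard_eq_pow_finrank (K := F), Nat.card_eq_fintype_card]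
      rfl
    rw [hz0ρ] at hmain
    by_cases hPp : P
    · rw [hZs, if_pos hPp, hZm] at hmain
      have h3 : ((ρ : ℤ) + A * q) * (q - 1) = 0 := by linear_combination -hmain
      have h4 : (0 : ℤ) < (ρ : ℤ) + A * q := by positivity
      rcases mul_eq_zero.mp h3 with h | h
      · linarith
      · linarith
    · rw [hZs, if_neg hPp, hZp] at hmain
      have hρeq : (ρ : ℤ) = A * q := by
        have h3 : ((ρ : ℤ) - A * q) * (q - 1) = 0 := by linear_combination -hmain
        rcases mul_eq_zero.mp h3 with h | h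
        · linarith
        · linarith
      have hρeq' : q ^ N.rank = q ^ d := by
        rw [hqd]
        exact_mod_cast hρeq
      have hrank : N.rank = d := Nat.pow_right_injective hq2 hρeq'
      have hodd : Odd d := hP hPp hrank
      -- parity
      set G := Cfsg.Agent.Lib.Helper44.gramStd (⇑Q) with hG
      have hGdet : G.det ≠ 0 := (Cfsg.Agent.Lib.Helper44.nondeg_iff_gramStd_det_ne_zero Q).mp hQ
      have halt : ∀ v : ι → F, v ⬝ᵥ (G * N) *ᵥ v = 0 := by
        intro v
        rw [← Matrix.mulVec_mulVec, ← polar_eq_gram, ← hQ1pol]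
        have h5 : Q1 (N *ᵥ v) = 0 := hψ ⟨N *ᵥ v, ⟨v, rfl⟩⟩
        have h6 := hQ1x v
        rw [hxN] at h6
        unfold QuadraticMap.polar
        rw [h6, h5]
        ring
      have hev := Cfsg.Agent.Lib.Helper36.even_rank_of_alt_matrix (G * N) halt
      rw [Matrix.rank_mul_eq_right_of_isUnit_det G N (isUnit_iff_ne_zero.mpr hGdet), hrank] at hev
      exact (Nat.not_even_iff_odd.mpr hodd) hev
  · -- ψ surjective
    push Not at hψ
    obtain ⟨r₀, hr₀⟩ := hψ
    have hsurj : Function.Surjective ψ := by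
      intro t
      obtain ⟨s, hs⟩ := isSquare_all (t / ψ r₀)
      refine ⟨s • r₀, ?_⟩
      show Q1 ((s • r₀ : R) : ι → F) = t
      rw [Submodule.coe_smul, QuadraticMap.map_smul, smul_eq_mul, ← hs]
      exact div_mul_cancel₀ t hr₀
    have h3 := Cfsg.Agent.Lib.Helper5.card_fiber_mul_card ψ hsurj 0
    have hz0ρ : z0 * q = ρ := by
      rw [hz0', hρ, hq, ← Nat.card_eq_fintype_card (α := F), h3,
        Module.natCard_eq_pow_finrank (K := F), Nat.card_eq_fintype_card]
      rfl
    have hz0ρ' : (q : ℤ) * z0 = ρ := by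
      rw [mul_comm]
      exact_mod_cast hz0ρ
    rw [hz0ρ'] at hmain
    by_cases hPp : P
    · rw [hZs, if_pos hPp, hZm] at hmain
      have h3 : (A : ℤ) * q * (q - 1) = 0 := by linear_combination -hmain
      linarith
    · rw [hZs, if_neg hPp, hZp] at hmain
      have h3 : (A : ℤ) * q * (q - 1) = 0 := by linear_combination hmain
      linarith

end invol

end Cfsg.Agent.Lib.Helper44.Elu
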