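import Mathlib
import Cfsg.Agent.Lib.Helper44.Elusive6
import Cfsg.Agent.Lib.Helper44.Transport
import Cfsg.Agent.Lib.Helper5.SymplecticOrder
import Cfsg.Agent.Lib.Helper5.OrthPlus
import Cfsg.Agent.Lib.Helper5.OrthMinus
import Cfsg.Agent.Lib.Helper94.SympBridge
import Cfsg.Agent.S0768

set_option autoImplicit false
set_option linter.unusedSectionVars false

/-!
# The index of `O^±_{2d}(q)` in `Sp_{2d}(q)`, `q` even, and transitivity on forms of one type
-/

namespace Cfsg.Agent.Lib.Helper44.Elu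

open Matrix Module

section spcard
variable {F : Type*} [Field F] [Fintype F]

theorem val_mem_symplecticGroup (d : ℕ) (x : GL (Fin d ⊕ Fin d) F) (hx : x ∈ Cfsg.spGL d F) :
    (x : Matrix (Fin d ⊕ Fin d) (Fin d ⊕ Fin d) F) ∈ Matrix.symplecticGroup (Fin d) F := by
  rw [SymplecticGroup.mem_iff']
  have h1 : ∀ u v : Fin d ⊕ Fin d → F,
      Matrix.toBilin' ((x : Matrix (Fin d ⊕ Fin d) (Fin d ⊕ Fin d) F)ᵀ * Matrix.J (Fin d) F *
        (x : Matrix (Fin d ⊕ Fin d) (Fin d ⊕ Fin d) F)) u v =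
      Matrix.toBilin' (Matrix.J (Fin d) F) u v := by
    intro u v
    have := hx u v
    rw [Matrix.toBilin'_apply', Matrix.toBilin'_apply']
    show _ = Cfsg.sympForm d F u v
    rw [← this]
    show _ = ((x : Matrix (Fin d ⊕ Fin d) (Fin d ⊕ Fin d) F) *ᵥ u) ⬝ᵥ
      (Matrix.J (Fin d) F *ᵥ ((x : Matrix (Fin d ⊕ Fin d) (Fin d ⊕ Fin d) F) *ᵥ v))
    rw [← Matrix.mulVec_mulVec, ← Matrix.mulVec_mulVec, Matrix.dotProduct_mulVec,
      Matrix.vecMul_transpose]
  have h2 : Matrix.toBilin' ((x : Matrix (Fin d ⊕ Fin d) (Fin d ⊕ Fin d) F)ᵀ * Matrix.J (Fin d) F *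
      (x : Matrix (Fin d ⊕ Fin d) (Fin d ⊕ Fin d) F)) = Matrix.toBilin' (Matrix.J (Fin d) F) :=
    LinearMap.ext₂ h1
  exact Matrix.toBilin'.injective h2

theorem card_spGL (d : ℕ) :
    Nat.card ↥(Cfsg.spGL d F) =
      Fintype.card F ^ (d ^ 2) * ∏ i ∈ Finset.range d, (Fintype.card F ^ (2 * (i + 1)) - 1) := by
  rw [← Cfsg.Agent.Lib.Helper5.card_symplecticGroup]
  apply Nat.card_congr
  exact
    { toFun := fun x => ⟨x.1.1, val_mem_symplecticGroup d x.1 x.2⟩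
      invFun := fun g => Cfsg.Agent.S0768.toSpGL d F g
      left_inv := fun x => by
        apply Subtype.ext
        apply Units.ext
        rfl
      right_inv := fun g => by
        apply Subtype.ext
        rfl }

end spcard

section ctype
variable {ι : Type} [Fintype ι] [DecidableEq ι] {F : Type*} [Field F] [Fintype F] [CharP F 2]

/-- plus or minus, with the isometry to the standard form -/
theorem classify_type (d : ℕ) (hd : 2 ≤ d) (hcard : Fintype.card ι = 2 * d)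
    (Q : QuadraticForm F (ι → F)) (hQ : (QuadraticMap.polarBilin Q).Nondegenerate) (b : F)
    (hab : ∀ x y : F, x ^ 2 + 1 * x * y + b * y ^ 2 = 0 → x = 0 ∧ y = 0) :
    ((∃ U : Submodule F (ι → F), finrank F U = d ∧ ∀ u ∈ U, Q u = 0) ∧
      ∃ Φ : (ι → F) ≃ₗ[F] (Fin d ⊕ Fin d → F), ∀ v, Cfsg.quadFormPlus d F (Φ v) = Q v) ∨
    ((¬ ∃ U : Submodule F (ι → F), finrank F U = d ∧ ∀ u ∈ U, Q u = 0) ∧
      ∃ Φ : (ι → F) ≃ₗ[F] ((Fin (d - 1) ⊕ Fin (d - 1)) ⊕ Fin 2 → F),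
        ∀ v, Cfsg.quadFormMinus (d - 1) F 1 b (Φ v) = Q v) := by
  classical
  have hfr : finrank F (ι → F) = 2 * d := by rw [Module.finrank_fintype_fun_eq_card, hcard]
  rcases classify d (by omega) hfr Q hQ 1 b hab with ⟨Φ, hΦ⟩ | ⟨Φ, hΦ⟩
  · left
    refine ⟨?_, Φ, hΦ⟩
    let pr : (Fin d ⊕ Fin d → F) →ₗ[F] (Fin d → F) := LinearMap.funLeft F F Sum.inr
    have hpr : Function.Surjective pr :=
      LinearMap.funLeft_surjective_of_injective F F _ Sum.inr_injective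
    have hker : finrank F (LinearMap.ker pr) = d := by
      have h1 := LinearMap.finrank_range_add_finrank_ker pr
      rw [LinearMap.range_eq_top.mpr hpr, finrank_top, Module.finrank_fintype_fun_eq_card,
        Module.finrank_fintype_fun_eq_card, Fintype.card_sum, Fintype.card_fin] at h1
      omega
    refine ⟨(LinearMap.ker pr).map (Φ.symm : (Fin d ⊕ Fin d → F) →ₗ[F] (ι → F)), ?_, ?_⟩
    · rw [LinearEquiv.finrank_map_eq, hker]
    · rintro u ⟨w, hw, rfl⟩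
      show Q (Φ.symm w) = 0
      rw [← hΦ, LinearEquiv.apply_symm_apply, quadFormPlus_eq_dot]
      have : w ∘ Sum.inr = 0 := LinearMap.mem_ker.mp hw
      rw [this, dotProduct_zero]
  · right
    refine ⟨?_, Φ, hΦ⟩
    rintro ⟨U, hU, hU0⟩
    have h1 := ts_bound_minus (d - 1) 1 b hab (U.map (Φ : (ι → F) →ₗ[F] _)) (by
      rintro w ⟨u, hu, rfl⟩
      show Cfsg.quadFormMinus (d - 1) F 1 b (Φ u) = 0
      rw [hΦ]
      exact hU0 u hu)
    rw [LinearEquiv.finrank_map_eq] at h1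
    omega

/-- two forms of the same type are isometric -/
theorem exists_isometry_of_same_type (d : ℕ) (hd : 2 ≤ d) (hcard : Fintype.card ι = 2 * d)
    (Q Q' : QuadraticForm F (ι → F)) (hQ : (QuadraticMap.polarBilin Q).Nondegenerate)
    (hQ' : (QuadraticMap.polarBilin Q').Nondegenerate)
    (htype : (∃ U : Submodule F (ι → F), finrank F U = d ∧ ∀ u ∈ U, Q' u = 0) ↔
      (∃ U : Submodule F (ι → F), finrank F U = d ∧ ∀ u ∈ U, Q u = 0)) :
    ∃ g : GL ι F, ∀ v, Q' ((g : Matrix ι ι F) *ᵥ v) = Q v := by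
  obtain ⟨b, hab⟩ := exists_aniso_one (F := F)
  have key : ∀ T : (ι → F) ≃ₗ[F] (ι → F), (∀ v, Q' (T v) = Q v) →
      ∃ g : GL ι F, ∀ v, Q' ((g : Matrix ι ι F) *ᵥ v) = Q v := by
    intro T hT
    refine ⟨(Cfsg.Agent.Lib.Helper36.glLinEquiv ι F).symm T, fun v => ?_⟩
    rw [← Cfsg.Agent.Lib.Helper36.glLinEquiv_apply, MulEquiv.apply_symm_apply, hT]
  rcases classify_type d hd hcard Q hQ b hab with ⟨hp, Φ, hΦ⟩ | ⟨hm, Φ, hΦ⟩ <;>
  rcases classify_type d hd hcard Q' hQ' b hab with ⟨hp', Φ', hΦ'⟩ | ⟨hm', Φ', hΦ'⟩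
  · apply key (Φ.trans Φ'.symm)
    intro v
    rw [LinearEquiv.trans_apply, ← hΦ', LinearEquiv.apply_symm_apply, hΦ]
  · exact absurd (htype.mpr hp) hm'
  · exact absurd (htype.mp hp') hm
  · apply key (Φ.trans Φ'.symm)
    intro v
    rw [LinearEquiv.trans_apply, ← hΦ', LinearEquiv.apply_symm_apply, hΦ]

end ctype

section index
variable {F : Type*} [Field F] [Fintype F] [CharP F 2]

theorem sympForm_eq_hypBil (d : ℕ) (u v : Fin d ⊕ Fin d → F) :
    Cfsg.sympForm d F u v = hypBil d F u v := by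
  rw [Cfsg.Agent.Lib.Helper94.sympForm_eq_sum, hypBil_apply]
  apply Finset.sum_congr rfl
  intro i _
  rw [CharTwo.sub_eq_add]
  ring

variable (d : ℕ) (Q : QuadraticForm F (Fin d ⊕ Fin d → F))
  (hpol : ∀ u v, QuadraticMap.polar (⇑Q) u v = Cfsg.sympForm d F u v)

include hpol in
theorem mem_spGL_iff_polar (x : GL (Fin d ⊕ Fin d) F) :
    x ∈ Cfsg.spGL d F ↔ ∀ u v, QuadraticMap.polar (⇑Q)
      ((x : Matrix (Fin d ⊕ Fin d) (Fin d ⊕ Fin d) F) *ᵥ u)
      ((x : Matrix (Fin d ⊕ Fin d) (Fin d ⊕ Fin d) F) *ᵥ v) = QuadraticMap.polar (⇑Q) u v := by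
  simp only [hpol]
  exact Iff.rfl

include hpol in
theorem isometry_mem_spGL (x : GL (Fin d ⊕ Fin d) F) (hx : x ∈ Cfsg.isometryGroup F (⇑Q)) :
    x ∈ Cfsg.spGL d F := by
  rw [mem_spGL_iff_polar d Q hpol]
  rw [Cfsg.Agent.Lib.Helper13.mem_isometryGroup_iff] at hx
  intro u v
  unfold QuadraticMap.polar
  rw [← Matrix.mulVec_add, hx, hx, hx]

include hpol in
theorem sim_mem_isometry (hQ : (QuadraticMap.polarBilin Q).Nondegenerate) (hd : 1 ≤ d)
    (x : GL (Fin d ⊕ Fin d) F) (hx : x ∈ Cfsg.spGL d F)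
    (hsim : x ∈ Cfsg.Geo.quadSimilarityGroup (⇑Q)) : x ∈ Cfsg.isometryGroup F (⇑Q) := by
  rw [Cfsg.Agent.Lib.Helper13.mem_isometryGroup_iff]
  obtain ⟨c, hc⟩ := hsim
  rw [mem_spGL_iff_polar d Q hpol] at hx
  -- a pair with nonzero polar
  have hne : (Pi.single (Sum.inl (⟨0, by omega⟩ : Fin d)) (1 : F) : Fin d ⊕ Fin d → F) ≠ 0 := by
    intro h
    have := congrFun h (Sum.inl (⟨0, by omega⟩ : Fin d))
    simp at this
  obtain ⟨w, hw⟩ : ∃ w, QuadraticMap.polar (⇑Q)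
      (Pi.single (Sum.inl (⟨0, by omega⟩ : Fin d)) (1 : F) : Fin d ⊕ Fin d → F) w ≠ 0 := by
    by_contra hcon
    push Not at hcon
    exact hne (hQ.1 _ hcon)
  have h1 := hx (Pi.single (Sum.inl (⟨0, by omega⟩ : Fin d)) (1 : F)) w
  have h2 : QuadraticMap.polar (⇑Q)
      ((x : Matrix (Fin d ⊕ Fin d) (Fin d ⊕ Fin d) F) *ᵥ (Pi.single (Sum.inl (⟨0, by omega⟩ : Fin d)) (1 : F)))
      ((x : Matrix (Fin d ⊕ Fin d) (Fin d ⊕ Fin d) F) *ᵥ w) =
      (c : F) * QuadraticMap.polar (⇑Q) (Pi.single (Sum.inl (⟨0, by omega⟩ : Fin d)) (1 : F)) w := by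
    unfold QuadraticMap.polar
    rw [← Matrix.mulVec_add, hc, hc, hc]
    ring
  have hc1 : (c : F) = 1 := by
    rw [h2] at h1
    have : ((c : F) - 1) * QuadraticMap.polar (⇑Q)
        (Pi.single (Sum.inl (⟨0, by omega⟩ : Fin d)) (1 : F)) w = 0 := by linear_combination h1
    rcases mul_eq_zero.mp this with h | h
    · exact sub_eq_zero.mp h
    · exact absurd h hw
  intro u
  rw [hc, hc1, one_mul]

include hpol in
theorem relIndex_mul_card (hQ : (QuadraticMap.polarBilin Q).Nondegenerate) (hd : 1 ≤ d) :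
    (Cfsg.Geo.quadSimilarityGroup (⇑Q)).relIndex (Cfsg.spGL d F) *
      Nat.card ↥(Cfsg.isometryGroup F (⇑Q)) = Nat.card ↥(Cfsg.spGL d F) := by
  have h1 := Subgroup.card_mul_index ((Cfsg.Geo.quadSimilarityGroup (⇑Q)).subgroupOf (Cfsg.spGL d F))
  have e : Nat.card ↥((Cfsg.Geo.quadSimilarityGroup (⇑Q)).subgroupOf (Cfsg.spGL d F)) =
      Nat.card ↥(Cfsg.isometryGroup F (⇑Q)) := by
    apply Nat.card_congr
    exact
    { toFun := fun g => ⟨g.1.1, sim_mem_isometry d Q hpol hQ hd g.1.1 g.1.2 g.2⟩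
      invFun := fun g => ⟨⟨g.1, isometry_mem_spGL d Q hpol g.1 g.2⟩, by
        show g.1 ∈ Cfsg.Geo.quadSimilarityGroup (⇑Q)
        refine ⟨1, fun v => ?_⟩
        rw [Units.val_one, one_mul]
        exact (Cfsg.Agent.Lib.Helper13.mem_isometryGroup_iff _ _).mp g.2 v⟩
      left_inv := fun g => rfl
      right_inv := fun g => rfl }
  rw [← h1, e, mul_comm]
  rfl

include hpol in
/-- an odd prime dividing the index of `O^ε(Q)` in `Sp` divides `q^d + ε` -/
theorem odd_prime_dvd_of_dvd_relIndex (hQ : (QuadraticMap.polarBilin Q).Nondegenerate)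
    (hd : 2 ≤ d) (r : ℕ) (hr : r.Prime) (hr2 : r ≠ 2)
    (h : r ∣ (Cfsg.Geo.quadSimilarityGroup (⇑Q)).relIndex (Cfsg.spGL d F)) :
    ((∃ U : Submodule F (Fin d ⊕ Fin d → F), finrank F U = d ∧ ∀ u ∈ U, Q u = 0) →
      r ∣ Fintype.card F ^ d + 1) ∧
    ((¬ ∃ U : Submodule F (Fin d ⊕ Fin d → F), finrank F U = d ∧ ∀ u ∈ U, Q u = 0) →
      r ∣ Fintype.card F ^ d - 1) := by
  classical
  obtain ⟨b, hab⟩ := exists_aniso_one (F := F)
  have hcard : Fintype.card (Fin d ⊕ Fin d) = 2 * d := by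
    rw [Fintype.card_sum, Fintype.card_fin]; ring
  have hRI := relIndex_mul_card d Q hpol hQ (by omega)
  rw [card_spGL] at hRI
  set RI := (Cfsg.Geo.quadSimilarityGroup (⇑Q)).relIndex (Cfsg.spGL d F) with hRIdef
  obtain ⟨e, _, he⟩ := FiniteField.card F 2
  set q := Fintype.card F with hq
  have hq2 : 2 ≤ q := by
    rw [he]
    calc 2 = 2 ^ 1 := rfl
      _ ≤ 2 ^ (e : ℕ) := Nat.pow_le_pow_right (by norm_num) e.pos
  have hrq : ¬ r ∣ q ^ d := by
    intro h1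
    have h2 : r ∣ q := hr.dvd_of_dvd_pow h1
    rw [he] at h2
    have h3 := hr.dvd_of_dvd_pow h2
    exact hr2 ((Nat.prime_dvd_prime_iff_eq hr Nat.prime_two).mp h3)
  obtain ⟨k, rfl⟩ : ∃ k, d = k + 1 := ⟨d - 1, by omega⟩
  have hqd4 : 4 ≤ q ^ (k + 1) := by
    calc 4 = 2 ^ 2 := rfl
      _ ≤ q ^ 2 := Nat.pow_le_pow_left hq2 2
      _ ≤ q ^ (k + 1) := Nat.pow_le_pow_right (by omega) (by omega)
  obtain ⟨m, hm⟩ : ∃ m, q ^ (k + 1) = m + 1 := ⟨q ^ (k + 1) - 1, by omega⟩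
  have hm3 : 3 ≤ m := by omega
  set E := q ^ ((k + 1) * k) with hE
  have hEpos : 0 < E := Nat.pos_of_ne_zero (pow_ne_zero _ (by omega))
  set P' := ∏ i ∈ Finset.range k, (q ^ (2 * (i + 1)) - 1) with hP'
  have hP'pos : 0 < P' := by
    apply Finset.prod_pos
    intro i _
    have : 2 ≤ q ^ (2 * (i + 1)) := by
      calc 2 = 2 ^ 1 := rfl
        _ ≤ q ^ 1 := Nat.pow_le_pow_left hq2 1
        _ ≤ q ^ (2 * (i + 1)) := Nat.pow_le_pow_right (by omega) (by omega)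
    omega
  have hpow1 : q ^ ((k + 1) ^ 2) = E * (m + 1) := by
    rw [hE, ← hm, ← pow_add]; congr 1; ring
  have hpow2 : q ^ (2 * (k + 1)) - 1 = m * (m + 2) := by
    have : q ^ (2 * (k + 1)) = m * (m + 2) + 1 := by
      rw [mul_comm 2 (k + 1), pow_mul, hm]; ring
    rw [this, Nat.add_sub_cancel]
  rw [Finset.prod_range_succ, hpow1, hpow2] at hRI
  have hpos : 0 < E * m * P' := by positivity
  constructor
  · intro hplus
    rcases classify_type (k + 1) hd hcard Q hQ b hab with ⟨_, Φ, hΦ⟩ | ⟨hm', _⟩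
    · have hc : Nat.card ↥(Cfsg.isometryGroup F (⇑Q)) =
          Nat.card ↥(Cfsg.isometryGroup F (Cfsg.quadFormPlus (k + 1) F)) :=
        Nat.card_congr (conjIso Φ (⇑Q) (Cfsg.quadFormPlus (k + 1) F) hΦ).toEquiv
      rw [hc, Cfsg.Agent.Lib.Helper5.card_isometryGroup_plus rfl (k + 1) (by omega),
        Nat.add_sub_cancel, hm, Nat.add_sub_cancel] at hRI
      have h2 : (E * m * P') * (2 * RI) = (E * m * P') * ((m + 1) * (m + 2)) := by
        calc (E * m * P') * (2 * RI) = RI * (2 * E * m * P') := by ring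
          _ = E * (m + 1) * (P' * (m * (m + 2))) := hRI
          _ = (E * m * P') * ((m + 1) * (m + 2)) := by ring
      have h3 := Nat.eq_of_mul_eq_mul_left hpos h2
      have h4 : r ∣ (m + 1) * (m + 2) := by
        rw [← h3]
        exact Dvd.dvd.mul_left h 2
      rcases (Nat.Prime.dvd_mul hr).mp h4 with h5 | h5
      · rw [← hm] at h5
        exact absurd h5 hrq
      · rw [hm]
        exact h5
    · exact absurd hplus hm'
  · intro hminus
    rcases classify_type (k + 1) hd hcard Q hQ b hab with ⟨hp', _⟩ | ⟨_, Φ, hΦ⟩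
    · exact absurd hp' hminus
    · have hc : Nat.card ↥(Cfsg.isometryGroup F (⇑Q)) =
          Nat.card ↥(Cfsg.isometryGroup F (Cfsg.quadFormMinus (k + 1 - 1) F 1 b)) :=
        Nat.card_congr (conjIso Φ (⇑Q) (Cfsg.quadFormMinus (k + 1 - 1) F 1 b) hΦ).toEquiv
      rw [hc, Cfsg.Agent.Lib.Helper5.card_isometryGroup_minus rfl (k + 1) (by omega) 1 b hab,
        Nat.add_sub_cancel, hm] at hRI
      have h2 : (E * (m + 2) * P') * (2 * RI) = (E * (m + 2) * P') * ((m + 1) * m) := by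
        calc (E * (m + 2) * P') * (2 * RI) = RI * (2 * E * (m + 1 + 1) * P') := by ring
          _ = E * (m + 1) * (P' * (m * (m + 2))) := hRI
          _ = (E * (m + 2) * P') * ((m + 1) * m) := by ring
      have hpos' : 0 < E * (m + 2) * P' := by positivity
      have h3 := Nat.eq_of_mul_eq_mul_left hpos' h2
      have h4 : r ∣ (m + 1) * m := by
        rw [← h3]
        exact Dvd.dvd.mul_left h 2
      rcases (Nat.Prime.dvd_mul hr).mp h4 with h5 | h5
      · rw [← hm] at h5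
        exact absurd h5 hrq
      · rw [hm, Nat.add_sub_cancel]
        exact h5

end index

end Cfsg.Agent.Lib.Helper44.Elu
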