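import Mathlib
import Cfsg.Agent.Lib.Helper44.TSMax2

set_option autoImplicit false
set_option linter.unusedSimpArgs false
set_option linter.unusedVariables false

/-!
# Complementary pairs of totally singular subspaces: Levi elements and root points

`V = U ⊕ U'` with `U`, `U'` totally singular.  The Levi elements `E(x,x')` (`x ∈ U`, `x' ∈ U'`,
`x ⊥ x'`) stabilise both subspaces.  If a subgroup `K` contains all of them and one element
`E(u,w₀)` of the unipotent radical (`u`, `w₀ ∈ U` independent), then every nonzero vector of `U` is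
a root point of `K`.
-/

namespace Cfsg.Agent.Lib.Helper44

open Cfsg.Agent.Lib.Helper13 hiding isoGroup mem_isoGroup
open Cfsg.Agent.Lib.Helper36 Module

section pair
variable {F V : Type*} [Field F] [AddCommGroup V] [Module F V]

local notation "pol" => QuadraticMap.polar

/-- a vector with prescribed pairings against a linearly independent family -/
theorem exists_dual_family [FiniteDimensional F V] (Q : QuadraticForm F V)
    (hQ : (QuadraticMap.polarBilin Q).Nondegenerate)
    {ι : Type*} [Fintype ι] (v : ι → V) (hv : LinearIndependent F v) (c : ι → F) :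
    ∃ y : V, ∀ i, pol (⇑Q) (v i) y = c i := by
  classical
  obtain ⟨φ, hφ⟩ : ∃ φ : V →ₗ[F] F, ∀ i, φ (v i) = c i := by
    let f : ↥(Submodule.span F (Set.range v)) →ₗ[F] F :=
      (Finsupp.linearCombination F c) ∘ₗ hv.repr
    obtain ⟨φ, hφ⟩ := LinearMap.exists_extend f
    refine ⟨φ, fun i => ?_⟩
    have h1 := LinearMap.congr_fun hφ ⟨v i, Submodule.subset_span (Set.mem_range_self i)⟩
    rw [LinearMap.comp_apply, Submodule.subtype_apply] at h1
    rw [h1]
    show Finsupp.linearCombination F c (hv.repr _) = c i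
    rw [hv.repr_eq_single i _ rfl, Finsupp.linearCombination_single, one_smul]
  refine ⟨(LinearMap.BilinForm.toDual (QuadraticMap.polarBilin Q) hQ).symm φ, fun i => ?_⟩
  rw [QuadraticMap.polar_comm, ← QuadraticMap.polarBilin_apply_apply,
    LinearMap.BilinForm.apply_toDual_symm_apply, hφ]

theorem eichG_congr (Q : QuadraticForm F V) {p p' w w' : V} (hp : Q p = 0)
    (hpw : pol (⇑Q) p w = 0) (hp' : Q p' = 0) (hpw' : pol (⇑Q) p' w' = 0)
    (e1 : p = p') (e2 : w = w') : eichG Q p w hp hpw = eichG Q p' w' hp' hpw' := by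
  subst e1; subst e2; rfl

/-- for singular perpendicular `a`, `b`: `E(b,a) = E(a,-b)` -/
theorem eichG_symm (Q : QuadraticForm F V) (a b : V) (ha : Q a = 0) (hb : Q b = 0)
    (hba : pol (⇑Q) b a = 0) :
    eichG Q b a hb hba = eichG Q a (-b) ha
      (by rw [QuadraticMap.polar_neg_right, QuadraticMap.polar_comm, hba, neg_zero]) := by
  apply isoGroup_ext
  intro z
  rw [eichG_apply, eichG_apply, siegelLin_apply, siegelLin_apply, QuadraticMap.map_neg, ha, hb,
    QuadraticMap.polar_neg_left]
  simp only [zero_mul, sub_zero, smul_neg, neg_smul]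
  abel

/-- a complementary pair of totally singular subspaces -/
structure TSPair (Q : QuadraticForm F V) (U U' : Submodule F V) : Prop where
  tsU : ∀ u ∈ U, Q u = 0
  tsU' : ∀ u ∈ U', Q u = 0
  compl : IsCompl U U'

namespace TSPair
variable {Q : QuadraticForm F V} {U U' : Submodule F V}

theorem symm (h : TSPair Q U U') : TSPair Q U' U := ⟨h.tsU', h.tsU, h.compl.symm⟩

theorem polU (h : TSPair Q U U') {u v : V} (hu : u ∈ U) (hv : v ∈ U) : pol (⇑Q) u v = 0 :=
  pol_eq_zero_of_ts Q U h.tsU u v hu hv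

theorem polU' (h : TSPair Q U U') {u v : V} (hu : u ∈ U') (hv : v ∈ U') : pol (⇑Q) u v = 0 :=
  pol_eq_zero_of_ts Q U' h.tsU' u v hu hv

theorem inter (h : TSPair Q U U') {z : V} (hz : z ∈ U) (hz' : z ∈ U') : z = 0 := by
  have : z ∈ U ⊓ U' := ⟨hz, hz'⟩
  rw [h.compl.inf_eq_bot] at this
  exact (Submodule.mem_bot F).1 this

/-- perfect pairing: a vector of `U'` with prescribed pairings against an independent family in `U` -/
theorem exists_dual_in [FiniteDimensional F V] (h : TSPair Q U U')
    (hQ : (QuadraticMap.polarBilin Q).Nondegenerate)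
    {ι : Type*} [Fintype ι] (v : ι → V) (hvU : ∀ i, v i ∈ U) (hv : LinearIndependent F v)
    (c : ι → F) : ∃ y ∈ U', ∀ i, pol (⇑Q) (v i) y = c i := by
  obtain ⟨y, hy⟩ := exists_dual_family Q hQ v hv c
  refine ⟨U'.projection U h.compl.symm y, Submodule.projection_apply_mem _ _, fun i => ?_⟩
  have hsum := Submodule.projection_add_projection_eq_self h.compl y
  have h1 : pol (⇑Q) (v i) (U.projection U' h.compl y) = 0 :=
    h.polU (hvU i) (Submodule.projection_apply_mem _ _)
  rw [← hy i]
  conv_rhs => rw [← hsum]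
  rw [QuadraticMap.polar_add_right, h1, zero_add]

/-- every nonzero vector of `U` is a root point as soon as one is -/
theorem rootPts_of_U [FiniteDimensional F V] (h : TSPair Q U U')
    (hQ : (QuadraticMap.polarBilin Q).Nondegenerate) (K : Subgroup ↥(isoGroup Q))
    (hlevi : ∀ x ∈ U, ∀ x' ∈ U', ∀ (hx : Q x = 0) (hxx' : pol (⇑Q) x x' = 0),
      eichG Q x x' hx hxx' ∈ K)
    (u : V) (huU : u ∈ U) (hu : u ∈ RootPts Q K) (x : V) (hxU : x ∈ U) (hx0 : x ≠ 0) :
    x ∈ RootPts Q K := by
  by_cases hc : ∃ c : F, x = c • u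
  · obtain ⟨c, rfl⟩ := hc
    exact rootPts_smul Q K c (by rintro rfl; exact hx0 (zero_smul _ _)) u hu
  · push Not at hc
    have hu0 := hu.1
    have hli : LinearIndependent F ![u, x] := by
      rw [LinearIndependent.pair_iff' hu0]
      intro a ha
      exact hc a ha.symm
    obtain ⟨y', hy'U, hy'⟩ := h.exists_dual_in hQ ![u, x]
      (by intro i; fin_cases i <;> simp [huU, hxU]) hli (fun _ => 1)
    have h1 : pol (⇑Q) u y' = 1 := hy' 0
    have h2 : pol (⇑Q) x y' = 1 := hy' 1
    have hxu : pol (⇑Q) (x - u) y' = 0 := by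
      rw [QuadraticMap.polar_sub_left, h2, h1, sub_self]
    have ht := hlevi (x - u) (U.sub_mem hxU huU) y' hy'U (h.tsU _ (U.sub_mem hxU huU)) hxu
    have h3 := rootPts_map Q K _ ht u hu
    have e : siegelLin Q (x - u) y' u = x := by
      rw [siegelLin_apply, h.polU (U.sub_mem hxU huU) huU, QuadraticMap.polar_comm (⇑Q) y' u, h1]
      simp
    rw [eichG_apply, e] at h3
    exact h3

/-- from one element of the unipotent radical to a root point -/
theorem rootPt_of_radical [FiniteDimensional F V] (h : TSPair Q U U')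
    (hQ : (QuadraticMap.polarBilin Q).Nondegenerate) (h3 : 3 ≤ finrank F U)
    (K : Subgroup ↥(isoGroup Q))
    (hlevi : ∀ x ∈ U, ∀ x' ∈ U', ∀ (hx : Q x = 0) (hxx' : pol (⇑Q) x x' = 0),
      eichG Q x x' hx hxx' ∈ K)
    (u w₀ : V) (huU : u ∈ U) (hwU : w₀ ∈ U) (hli : LinearIndependent F ![u, w₀])
    (hE : ∀ (hu : Q u = 0) (huw : pol (⇑Q) u w₀ = 0), eichG Q u w₀ hu huw ∈ K) :
    u ∈ RootPts Q K := by
  have hu0 : u ≠ 0 := hli.ne_zero 0
  have hQu : Q u = 0 := h.tsU u huU
  have hE0 := hE hQu (h.polU huU hwU)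
  -- step 1: vectors of `U` outside the plane `⟨u, w₀⟩`
  have C1 : ∀ y ∈ U, y ∉ Submodule.span F (Set.range ![u, w₀]) →
      ∀ (huy : pol (⇑Q) u y = 0), eichG Q u y hQu huy ∈ K := by
    intro y hyU hy huy
    have hli3 : LinearIndependent F ![y, u, w₀] :=
      (linearIndependent_finCons (v := ![u, w₀]) (x := y)).2 ⟨hli, hy⟩
    obtain ⟨x', hx'U, hx'⟩ := h.exists_dual_in hQ ![y, u, w₀]
      (by intro i; fin_cases i <;> simp [huU, hwU, hyU]) hli3 ![0, 0, 1]
    have hyx' : pol (⇑Q) y x' = 0 := hx' 0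
    have hux' : pol (⇑Q) u x' = 0 := hx' 1
    have hwx' : pol (⇑Q) w₀ x' = 1 := hx' 2
    have ht := hlevi y hyU x' hx'U (h.tsU y hyU) hyx'
    have hc := conj_eichG Q (eichG Q y x' (h.tsU y hyU) hyx') u w₀ hQu (h.polU huU hwU)
    have e1 : ((eichG Q y x' (h.tsU y hyU) hyx' : ↥(isoGroup Q)) : V ≃ₗ[F] V) u = u := by
      rw [eichG_apply, siegelLin_apply, h.polU hyU huU, QuadraticMap.polar_comm (⇑Q) x' u, hux']
      simp
    have e2 : ((eichG Q y x' (h.tsU y hyU) hyx' : ↥(isoGroup Q)) : V ≃ₗ[F] V) w₀ = w₀ + y := by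
      rw [eichG_apply, siegelLin_apply, h.polU hyU hwU, QuadraticMap.polar_comm (⇑Q) x' w₀, hwx']
      simp
    have hsum : pol (⇑Q) u (w₀ + y) = 0 := by
      rw [QuadraticMap.polar_add_right, h.polU huU hwU, huy, add_zero]
    have h4 : eichG Q u (w₀ + y) hQu hsum ∈ K := by
      rw [eichG_congr Q hQu hsum (by rw [isoG_Q, hQu]) (by rw [isoG_pol, h.polU huU hwU])
        e1.symm e2.symm, ← hc]
      exact K.mul_mem (K.mul_mem ht hE0) (K.inv_mem ht)
    have h5 := eichG_add Q u w₀ y hQu (h.polU huU hwU) huy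
    have h6 : eichG Q u y hQu huy = (eichG Q u w₀ hQu (h.polU huU hwU))⁻¹ *
        eichG Q u (w₀ + y) hQu hsum := by
      rw [h5, inv_mul_cancel_left]
    rw [h6]
    exact K.mul_mem (K.inv_mem hE0) h4
  -- step 2: all vectors of `U`
  have C2 : ∀ y ∈ U, ∀ (huy : pol (⇑Q) u y = 0), eichG Q u y hQu huy ∈ K := by
    intro y hyU huy
    by_cases hy : y ∈ Submodule.span F (Set.range ![u, w₀])
    · have hfr : finrank F ↥(Submodule.span F (Set.range ![u, w₀])) ≤ 2 := by
        have := finrank_range_le_card (R := F) ![u, w₀]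
        simpa [Set.finrank] using this
      have hnle : ¬ U ≤ Submodule.span F (Set.range ![u, w₀]) := by
        intro hle
        have := Submodule.finrank_mono hle
        omega
      obtain ⟨y₀, hy₀U, hy₀⟩ := SetLike.not_le_iff_exists.1 hnle
      have hyy₀ : y + y₀ ∉ Submodule.span F (Set.range ![u, w₀]) := by
        intro hcon
        apply hy₀
        have := Submodule.sub_mem _ hcon hy
        rwa [add_sub_cancel_left] at this
      have huy₀ : pol (⇑Q) u y₀ = 0 := h.polU huU hy₀U
      have h7 := C1 y₀ hy₀U hy₀ huy₀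
      have hsum : pol (⇑Q) u (y + y₀) = 0 := h.polU huU (U.add_mem hyU hy₀U)
      have h8 := C1 (y + y₀) (U.add_mem hyU hy₀U) hyy₀ hsum
      have h9 := eichG_add Q u y y₀ hQu huy huy₀
      have h10 : eichG Q u y hQu huy = eichG Q u (y + y₀) hQu hsum *
          (eichG Q u y₀ hQu huy₀)⁻¹ := by
        rw [h9, mul_inv_cancel_right]
      rw [h10]
      exact K.mul_mem h8 (K.inv_mem h7)
    · exact C1 y hyU hy huy
  -- step 3: the full root group
  refine ⟨hu0, hQu, fun w huw => ?_⟩
  have hsum := Submodule.projection_add_projection_eq_self h.compl w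
  have hw1 : U.projection U' h.compl w ∈ U := Submodule.projection_apply_mem _ _
  have hw2 : U'.projection U h.compl.symm w ∈ U' := Submodule.projection_apply_mem _ _
  have h11 : pol (⇑Q) u (U.projection U' h.compl w) = 0 := h.polU huU hw1
  have h12 : pol (⇑Q) u (U'.projection U h.compl.symm w) = 0 := by
    have := huw
    rw [← hsum, QuadraticMap.polar_add_right, h11, zero_add] at this
    exact this
  have h13 := eichG_add Q u _ _ hQu h11 h12
  have h14 : eichG Q u w hQu huw = eichG Q u (U.projection U' h.compl w +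
      U'.projection U h.compl.symm w) hQu
        (by rw [QuadraticMap.polar_add_right, h11, h12, add_zero]) :=
    eichG_congr Q hQu huw hQu _ rfl hsum.symm
  rw [h14, h13]
  exact K.mul_mem (C2 _ hw1 h11) (hlevi u huU _ hw2 hQu h12)

end TSPair

end pair

end Cfsg.Agent.Lib.Helper44
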