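import Mathlib
import Cfsg.Agent.Lib.Helper44.PairMax1

set_option autoImplicit false
set_option linter.unusedSimpArgs false
set_option linter.unusedVariables false

/-!
# Overgroups of the stabiliser of a complementary pair of totally singular subspaces
-/

namespace Cfsg.Agent.Lib.Helper44

open Cfsg.Agent.Lib.Helper13 hiding isoGroup mem_isoGroup
open Cfsg.Agent.Lib.Helper36 Module

section pair
variable {F V : Type*} [Field F] [AddCommGroup V] [Module F V]

local notation "pol" => QuadraticMap.polar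

namespace TSPair
variable {Q : QuadraticForm F V} {U U' : Submodule F V}

/-- a vector of `U` perpendicular to two given vectors and outside a subspace of dimension ≤ 2 -/
theorem exists_perp_not_mem [FiniteDimensional F V] (h : TSPair Q U U')
    (h5 : 5 ≤ finrank F U) (c d : V) (S : Submodule F V) (hS : finrank F S ≤ 2) :
    ∃ u ∈ U, pol (⇑Q) u c = 0 ∧ pol (⇑Q) u d = 0 ∧ u ∉ S := by
  let φ : V →ₗ[F] F × F :=
    LinearMap.prod ((QuadraticMap.polarBilin Q) c) ((QuadraticMap.polarBilin Q) d)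
  have h1 := LinearMap.finrank_range_add_finrank_ker φ
  have h2 : finrank F ↥(LinearMap.range φ) ≤ 2 := by
    have := Submodule.finrank_le (LinearMap.range φ)
    rw [Module.finrank_prod, Module.finrank_self] at this
    exact this
  have h3 := Submodule.finrank_sup_add_finrank_inf_eq U (LinearMap.ker φ)
  have h4 : finrank F ↥(U ⊔ LinearMap.ker φ) ≤ finrank F V := Submodule.finrank_le _
  have h6 : ¬ (U ⊓ LinearMap.ker φ) ≤ S := by
    intro hle
    have := Submodule.finrank_mono hle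
    omega
  obtain ⟨u, hu, huS⟩ := SetLike.not_le_iff_exists.1 h6
  have hφ : φ u = 0 := hu.2
  have e1 : pol (⇑Q) c u = 0 := congrArg Prod.fst hφ
  have e2 : pol (⇑Q) d u = 0 := congrArg Prod.snd hφ
  exact ⟨u, hu.1, by rw [QuadraticMap.polar_comm]; exact e1,
    by rw [QuadraticMap.polar_comm]; exact e2, huS⟩

/-- from a root element `E(a,b)` whose line is in general position to an element of the radical -/
theorem radical_of_line [FiniteDimensional F V] (h : TSPair Q U U')
    (hQ : (QuadraticMap.polarBilin Q).Nondegenerate) (h5 : 5 ≤ finrank F U)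
    (K : Subgroup ↥(isoGroup Q))
    (hlevi : ∀ x ∈ U, ∀ x' ∈ U', ∀ (hx : Q x = 0) (hxx' : pol (⇑Q) x x' = 0),
      eichG Q x x' hx hxx' ∈ K)
    (a b : V) (ha : Q a = 0) (hb : Q b = 0) (hab : pol (⇑Q) a b = 0)
    (hE : eichG Q a b ha hab ∈ K)
    (hli : LinearIndependent F ![U.projection U' h.compl a, U.projection U' h.compl b]) :
    ∃ u ∈ U, ∃ w₀ ∈ U, LinearIndependent F ![u, w₀] ∧
      ∀ (hu : Q u = 0) (huw : pol (⇑Q) u w₀ = 0), eichG Q u w₀ hu huw ∈ K := by
  obtain ⟨a₁, ha₁⟩ : ∃ a₁, a₁ = U.projection U' h.compl a := ⟨_, rfl⟩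
  obtain ⟨a₂, ha₂⟩ : ∃ a₂, a₂ = U'.projection U h.compl.symm a := ⟨_, rfl⟩
  obtain ⟨b₁, hb₁⟩ : ∃ b₁, b₁ = U.projection U' h.compl b := ⟨_, rfl⟩
  obtain ⟨b₂, hb₂⟩ : ∃ b₂, b₂ = U'.projection U h.compl.symm b := ⟨_, rfl⟩
  rw [← ha₁, ← hb₁] at hli
  have ha₁U : a₁ ∈ U := by rw [ha₁]; exact Submodule.projection_apply_mem _ _
  have hb₁U : b₁ ∈ U := by rw [hb₁]; exact Submodule.projection_apply_mem _ _
  have ha₂U : a₂ ∈ U' := by rw [ha₂]; exact Submodule.projection_apply_mem _ _
  have hb₂U : b₂ ∈ U' := by rw [hb₂]; exact Submodule.projection_apply_mem _ _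
  have hasum : a₁ + a₂ = a := by
    rw [ha₁, ha₂]; exact Submodule.projection_add_projection_eq_self h.compl a
  have hbsum : b₁ + b₂ = b := by
    rw [hb₁, hb₂]; exact Submodule.projection_add_projection_eq_self h.compl b
  have hfr : finrank F ↥(Submodule.span F (Set.range ![a₁, b₁])) ≤ 2 := by
    have := finrank_range_le_card (R := F) ![a₁, b₁]
    simpa [Set.finrank] using this
  obtain ⟨u, huU, hua₂, hub₂, huS⟩ := h.exists_perp_not_mem h5 a₂ b₂ _ hfr
  have hli3 : LinearIndependent F ![u, a₁, b₁] :=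
    (linearIndependent_finCons (v := ![a₁, b₁]) (x := u)).2 ⟨hli, huS⟩
  obtain ⟨u', hu'U, hu'⟩ := h.exists_dual_in hQ ![u, a₁, b₁]
    (by intro i; fin_cases i <;> simp [huU, ha₁U, hb₁U]) hli3 ![0, 0, 1]
  have huu' : pol (⇑Q) u u' = 0 := hu' 0
  have ha₁u' : pol (⇑Q) a₁ u' = 0 := hu' 1
  have hb₁u' : pol (⇑Q) b₁ u' = 1 := hu' 2
  have hQu : Q u = 0 := h.tsU u huU
  have hQu' : Q u' = 0 := h.tsU' u' hu'U
  have hua : pol (⇑Q) u a = 0 := by
    rw [← hasum, QuadraticMap.polar_add_right, h.polU huU ha₁U, hua₂, add_zero]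
  have hub : pol (⇑Q) u b = 0 := by
    rw [← hbsum, QuadraticMap.polar_add_right, h.polU huU hb₁U, hub₂, add_zero]
  have hbu' : pol (⇑Q) b u' = 1 := by
    rw [← hbsum, QuadraticMap.polar_add_left, hb₁u', h.polU' hb₂U hu'U, add_zero]
  have hau' : pol (⇑Q) a u' = 0 := by
    rw [← hasum, QuadraticMap.polar_add_left, ha₁u', h.polU' ha₂U hu'U, add_zero]
  have hcomm := eich_commutator Q u a b u' hQu ha hb hQu' hua hbu' hub huu' hab hau'
  -- `E(b,-a) = E(a,b)`
  have hba : pol (⇑Q) b a = 0 := by rw [QuadraticMap.polar_comm]; exact hab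
  have hsw : eichG Q b (-a) hb
      (by rw [QuadraticMap.polar_neg_right, hba, neg_zero]) = eichG Q a b ha hab := by
    have h1 := eichG_symm Q b a hb ha hab
    rw [h1]
  have hEua : eichG Q u a hQu hua ∈ K := by
    rw [hcomm, commutatorElement_def, hsw]
    exact K.mul_mem (K.mul_mem (K.mul_mem hE (hlevi u huU u' hu'U hQu huu')) (K.inv_mem hE))
      (K.inv_mem (hlevi u huU u' hu'U hQu huu'))
  have hua₁ : pol (⇑Q) u a₁ = 0 := h.polU huU ha₁U
  have hadd := eichG_add Q u a₁ a₂ hQu hua₁ hua₂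
  have hcongr : eichG Q u a hQu hua = eichG Q u (a₁ + a₂) hQu
      (by rw [QuadraticMap.polar_add_right, hua₁, hua₂, add_zero]) :=
    eichG_congr Q hQu hua hQu _ rfl hasum.symm
  have hEua₁ : eichG Q u a₁ hQu hua₁ ∈ K := by
    have : eichG Q u a₁ hQu hua₁ = eichG Q u a hQu hua * (eichG Q u a₂ hQu hua₂)⁻¹ := by
      rw [hcongr, hadd, mul_inv_cancel_right]
    rw [this]
    exact K.mul_mem hEua (K.inv_mem (hlevi u huU a₂ ha₂U hQu hua₂))
  refine ⟨u, huU, a₁, ha₁U, ?_, fun _ _ => hEua₁⟩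
  rw [LinearIndependent.pair_iff]
  intro s t hst
  have := Fintype.linearIndependent_iff.1 hli3 ![s, t, 0]
    (by rw [Fin.sum_univ_three]; simpa using hst)
  exact ⟨this 0, this 1⟩

end TSPair

end pair

end Cfsg.Agent.Lib.Helper44
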