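import Mathlib
import Cfsg.Agent.Lib.Helper44.PairMax2

set_option autoImplicit false
set_option linter.unusedSimpArgs false
set_option linter.unusedVariables false

/-!
# Overgroups of the stabiliser of a complementary pair of totally singular subspaces, II

An automorphism not stabilising the pair `{U, U'}` carries some Levi line to a line in general
position; the main overgroup theorem.
-/

namespace Cfsg.Agent.Lib.Helper44

open Cfsg.Agent.Lib.Helper13 hiding isoGroup mem_isoGroup
open Cfsg.Agent.Lib.Helper36 Module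

section pair
variable {F V : Type*} [Field F] [AddCommGroup V] [Module F V]

local notation "pol" => QuadraticMap.polar

namespace TSPair
variable {Q : QuadraticForm F V} {U U' : Submodule F V}

theorem proj_eq_zero_iff (h : TSPair Q U U') (z : V) :
    U.projection U' h.compl z = 0 ↔ z ∈ U' := Submodule.projection_apply_eq_zero_iff h.compl

theorem proj'_eq_zero_iff (h : TSPair Q U U') (z : V) :
    U'.projection U h.compl.symm z = 0 ↔ z ∈ U :=
  Submodule.projection_apply_eq_zero_iff h.compl.symm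

/-- two independent vectors of `U` independent of a given nonzero one -/
theorem exists_indep_three [FiniteDimensional F V] (h3 : 3 ≤ finrank F U) (x : V) (hxU : x ∈ U)
    (hx0 : x ≠ 0) : ∃ y₁ ∈ U, ∃ y₂ ∈ U, LinearIndependent F ![x, y₁, y₂] := by
  have hfr1 : finrank F ↥(Submodule.span F (Set.range ![x])) ≤ 1 := by
    have := finrank_range_le_card (R := F) ![x]
    simpa [Set.finrank] using this
  have hn1 : ¬ U ≤ Submodule.span F (Set.range ![x]) := by
    intro hle
    have := Submodule.finrank_mono hle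
    omega
  obtain ⟨y₁, hy₁U, hy₁⟩ := SetLike.not_le_iff_exists.1 hn1
  have hli1 : LinearIndependent F ![x] := by
    rw [linearIndependent_unique_iff]
    exact hx0
  have hli2 : LinearIndependent F ![y₁, x] :=
    (linearIndependent_finCons (v := ![x]) (x := y₁)).2 ⟨hli1, hy₁⟩
  have hfr2 : finrank F ↥(Submodule.span F (Set.range ![y₁, x])) ≤ 2 := by
    have := finrank_range_le_card (R := F) ![y₁, x]
    simpa [Set.finrank] using this
  have hn2 : ¬ U ≤ Submodule.span F (Set.range ![y₁, x]) := by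
    intro hle
    have := Submodule.finrank_mono hle
    omega
  obtain ⟨y₂, hy₂U, hy₂⟩ := SetLike.not_le_iff_exists.1 hn2
  have hli3 : LinearIndependent F ![y₂, y₁, x] :=
    (linearIndependent_finCons (v := ![y₁, x]) (x := y₂)).2 ⟨hli2, hy₂⟩
  refine ⟨y₁, hy₁U, y₂, hy₂U, ?_⟩
  rw [Fintype.linearIndependent_iff] at hli3 ⊢
  intro g hg
  have := hli3 ![g 2, g 1, g 0] (by
    rw [Fin.sum_univ_three] at hg ⊢
    simp only [Matrix.cons_val_zero, Matrix.cons_val_one, Matrix.cons_val_two,
      Matrix.head_cons, Matrix.tail_cons] at hg ⊢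
    rw [← hg]; abel)
  intro i
  fin_cases i
  · exact this 2
  · exact this 1
  · exact this 0

/-- the image under `g` of a vector of `U` lies in `U` or in `U'`, if `g` maps every Levi line to a
line in special position -/
theorem image_mem_or [FiniteDimensional F V] (h : TSPair Q U U')
    (hQ : (QuadraticMap.polarBilin Q).Nondegenerate) (h3 : 3 ≤ finrank F U)
    (g : V ≃ₗ[F] V)
    (hbad : ∀ x ∈ U, ∀ x' ∈ U', pol (⇑Q) x x' = 0 →
      ¬ LinearIndependent F ![U.projection U' h.compl (g x), U.projection U' h.compl (g x')] ∧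
      ¬ LinearIndependent F ![U'.projection U h.compl.symm (g x),
        U'.projection U h.compl.symm (g x')])
    (x : V) (hxU : x ∈ U) : g x ∈ U' ∨ g x ∈ U := by
  rw [← h.proj_eq_zero_iff, ← h.proj'_eq_zero_iff]
  by_contra hcon
  push Not at hcon
  obtain ⟨hp1, hp2⟩ := hcon
  have hx0 : x ≠ 0 := by
    rintro rfl
    apply hp1
    rw [map_zero, map_zero]
  obtain ⟨y₁, hy₁U, y₂, hy₂U, hli⟩ := exists_indep_three h3 x hxU hx0
  obtain ⟨x₁', hx₁'U, hx₁'⟩ := h.exists_dual_in hQ ![x, y₁, y₂]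
    (by intro i; fin_cases i <;> simp [hxU, hy₁U, hy₂U]) hli ![0, 1, 0]
  obtain ⟨x₂', hx₂'U, hx₂'⟩ := h.exists_dual_in hQ ![x, y₁, y₂]
    (by intro i; fin_cases i <;> simp [hxU, hy₁U, hy₂U]) hli ![0, 0, 1]
  have e10 : pol (⇑Q) x x₁' = 0 := hx₁' 0
  have e11 : pol (⇑Q) y₁ x₁' = 1 := hx₁' 1
  have e12 : pol (⇑Q) y₂ x₁' = 0 := hx₁' 2
  have e20 : pol (⇑Q) x x₂' = 0 := hx₂' 0
  have e21 : pol (⇑Q) y₁ x₂' = 0 := hx₂' 1
  have e22 : pol (⇑Q) y₂ x₂' = 1 := hx₂' 2
  obtain ⟨b1a, b1b⟩ := hbad x hxU x₁' hx₁'U e10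
  obtain ⟨b2a, b2b⟩ := hbad x hxU x₂' hx₂'U e20
  rw [LinearIndependent.pair_iff' hp1] at b1a b2a
  rw [LinearIndependent.pair_iff' hp2] at b1b b2b
  push Not at b1a b2a b1b b2b
  obtain ⟨l₁, hl₁⟩ := b1a
  obtain ⟨l₂, hl₂⟩ := b2a
  obtain ⟨m₁, hm₁⟩ := b1b
  obtain ⟨m₂, hm₂⟩ := b2b
  -- decompositions
  have s0 := Submodule.projection_add_projection_eq_self h.compl (g x)
  have s1 := Submodule.projection_add_projection_eq_self h.compl (g x₁')
  have s2 := Submodule.projection_add_projection_eq_self h.compl (g x₂')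
  obtain ⟨p₁, hp₁⟩ : ∃ p₁, p₁ = U.projection U' h.compl (g x) := ⟨_, rfl⟩
  obtain ⟨p₂, hp₂⟩ : ∃ p₂, p₂ = U'.projection U h.compl.symm (g x) := ⟨_, rfl⟩
  rw [← hp₁] at hl₁ hl₂ s0 hp1
  rw [← hp₂] at hm₁ hm₂ s0 hp2
  rw [← hl₁, ← hm₁] at s1
  rw [← hl₂, ← hm₂] at s2
  -- `g x₁' - l₁ g x` and `g x₂' - l₂ g x` are multiples of `p₂`
  have v1 : g (x₁' - l₁ • x) = (m₁ - l₁) • p₂ := by
    rw [map_sub, map_smul, ← s1, ← s0]
    module
  have v2 : g (x₂' - l₂ • x) = (m₂ - l₂) • p₂ := by
    rw [map_sub, map_smul, ← s2, ← s0]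
    module
  have v3 : g ((m₂ - l₂) • (x₁' - l₁ • x) - (m₁ - l₁) • (x₂' - l₂ • x)) = 0 := by
    rw [map_sub, map_smul, map_smul, v1, v2]
    module
  have v4 : (m₂ - l₂) • (x₁' - l₁ • x) - (m₁ - l₁) • (x₂' - l₂ • x) = 0 := by
    have := g.injective (v3.trans (map_zero g).symm)
    exact this
  -- the `U'`-component vanishes
  have v5 : (m₂ - l₂) • x₁' - (m₁ - l₁) • x₂' = 0 := by
    have hU' : (m₂ - l₂) • x₁' - (m₁ - l₁) • x₂' ∈ U' :=
      U'.sub_mem (U'.smul_mem _ hx₁'U) (U'.smul_mem _ hx₂'U)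
    have hU : (m₂ - l₂) • x₁' - (m₁ - l₁) • x₂' ∈ U := by
      have : (m₂ - l₂) • x₁' - (m₁ - l₁) • x₂' =
          ((m₂ - l₂) * l₁ - (m₁ - l₁) * l₂) • x := by
        have := v4
        rw [sub_eq_zero] at this
        have h2 : (m₂ - l₂) • x₁' - (m₁ - l₁) • x₂' -
            ((m₂ - l₂) * l₁ - (m₁ - l₁) * l₂) • x =
            (m₂ - l₂) • (x₁' - l₁ • x) - (m₁ - l₁) • (x₂' - l₂ • x) := by module
        rw [← sub_eq_zero, h2, v4]
      rw [this]
      exact U.smul_mem _ hxU
    exact h.inter hU hU'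
  have c1 : m₂ - l₂ = 0 := by
    have := congrArg (fun z => pol (⇑Q) y₁ z) v5
    simp only [QuadraticMap.polar_sub_right, QuadraticMap.polar_smul_right, e11, e21,
      QuadraticMap.polar_zero_right, smul_eq_mul, mul_one, mul_zero, sub_zero] at this
    exact this
  have c2 : m₁ - l₁ = 0 := by
    have := congrArg (fun z => pol (⇑Q) y₂ z) v5
    simp only [QuadraticMap.polar_sub_right, QuadraticMap.polar_smul_right, e12, e22,
      QuadraticMap.polar_zero_right, smul_eq_mul, mul_one, mul_zero, zero_sub, neg_eq_zero]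
      at this
    exact this
  -- hence `x₁' = l₁ x`, impossible
  rw [c2, zero_smul] at v1
  have v6 : x₁' - l₁ • x = 0 := g.injective (v1.trans (map_zero g).symm)
  have v7 : x₁' = l₁ • x := sub_eq_zero.1 v6
  have v8 : x₁' = 0 := h.inter (by rw [v7]; exact U.smul_mem _ hxU) hx₁'U
  rw [v8, QuadraticMap.polar_zero_right] at e11
  exact zero_ne_one e11

/-- a linear map sending a subspace into the union of two subspaces sends it into one of them -/
theorem map_le_or_le (g : V ≃ₗ[F] V) (A B C : Submodule F V)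
    (hA : ∀ x ∈ A, g x ∈ B ∨ g x ∈ C) : (∀ x ∈ A, g x ∈ B) ∨ (∀ x ∈ A, g x ∈ C) := by
  by_contra hcon
  push Not at hcon
  obtain ⟨⟨x₁, hx₁, h1⟩, ⟨x₂, hx₂, h2⟩⟩ := hcon
  have h1' : g x₁ ∈ C := (hA x₁ hx₁).resolve_left h1
  have h2' : g x₂ ∈ B := (hA x₂ hx₂).resolve_right h2
  rcases hA (x₁ + x₂) (A.add_mem hx₁ hx₂) with h3 | h3
  · apply h1
    have := B.sub_mem h3 h2'
    rwa [map_add, add_sub_cancel_right] at this
  · apply h2
    have := C.sub_mem h3 h1'
    rwa [map_add, add_sub_cancel_left] at this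

/-- an automorphism not stabilising the pair moves some Levi line into general position -/
theorem exists_general_line [FiniteDimensional F V] (h : TSPair Q U U')
    (hQ : (QuadraticMap.polarBilin Q).Nondegenerate) (h3 : 3 ≤ finrank F U)
    (h3' : 3 ≤ finrank F U') (g : V ≃ₗ[F] V)
    (hg1 : ¬ ((∀ u ∈ U, g u ∈ U) ∧ (∀ u ∈ U', g u ∈ U')))
    (hg2 : ¬ ((∀ u ∈ U, g u ∈ U') ∧ (∀ u ∈ U', g u ∈ U))) :
    ∃ x ∈ U, ∃ x' ∈ U', pol (⇑Q) x x' = 0 ∧
      (LinearIndependent F ![U.projection U' h.compl (g x), U.projection U' h.compl (g x')] ∨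
       LinearIndependent F ![U'.projection U h.compl.symm (g x),
        U'.projection U h.compl.symm (g x')]) := by
  by_contra hcon
  push Not at hcon
  have hbad : ∀ x ∈ U, ∀ x' ∈ U', pol (⇑Q) x x' = 0 →
      ¬ LinearIndependent F ![U.projection U' h.compl (g x), U.projection U' h.compl (g x')] ∧
      ¬ LinearIndependent F ![U'.projection U h.compl.symm (g x),
        U'.projection U h.compl.symm (g x')] := hcon
  have hbad' : ∀ x ∈ U', ∀ x' ∈ U, pol (⇑Q) x x' = 0 →
      ¬ LinearIndependent F ![U'.projection U h.symm.compl (g x),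
        U'.projection U h.symm.compl (g x')] ∧
      ¬ LinearIndependent F ![U.projection U' h.symm.compl.symm (g x),
        U.projection U' h.symm.compl.symm (g x')] := by
    intro x hx x' hx' hxx'
    have := hbad x' hx' x hx (by rw [QuadraticMap.polar_comm]; exact hxx')
    constructor
    · intro hli
      exact this.2 (LinearIndependent.pair_symm_iff.1 hli)
    · intro hli
      exact this.1 (LinearIndependent.pair_symm_iff.1 hli)
  have hU := map_le_or_le g U U' U (fun x hx => h.image_mem_or hQ h3 g hbad x hx)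
  have hU' := map_le_or_le g U' U U' (fun x hx => h.symm.image_mem_or hQ h3' g hbad' x hx)
  have htop : ∀ (A : Submodule F V), (∀ u ∈ U, g u ∈ A) → (∀ u ∈ U', g u ∈ A) → A = ⊤ := by
    intro A h1 h2
    rw [eq_top_iff]
    intro z _
    obtain ⟨w, rfl⟩ := g.surjective z
    have hs := Submodule.projection_add_projection_eq_self h.compl w
    rw [← hs, map_add]
    exact A.add_mem (h1 _ (Submodule.projection_apply_mem _ _))
      (h2 _ (Submodule.projection_apply_mem _ _))
  have hUne : U ≠ ⊤ := by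
    intro hU1
    have : U' = ⊥ := by
      have := h.compl.inf_eq_bot
      rwa [hU1, top_inf_eq] at this
    rw [this, finrank_bot] at h3'
    omega
  have hU'ne : U' ≠ ⊤ := by
    intro hU1
    have : U = ⊥ := by
      have := h.compl.inf_eq_bot
      rwa [hU1, inf_top_eq] at this
    rw [this, finrank_bot] at h3
    omega
  rcases hU with hU | hU <;> rcases hU' with hU' | hU'
  · exact hg2 ⟨hU, hU'⟩
  · exact hU'ne (htop U' hU hU')
  · exact hUne (htop U hU hU')
  · exact hg1 ⟨hU, hU'⟩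

end TSPair

end pair

end Cfsg.Agent.Lib.Helper44
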