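import Mathlib
import Cfsg.Agent.Lib.Helper44.PairMax3

set_option autoImplicit false
set_option linter.unusedSimpArgs false
set_option linter.unusedVariables false

/-!
# Overgroups of the stabiliser of a complementary pair of totally singular subspaces, III

The main theorem: a subgroup `K` of the isometry group containing the Levi elements, an element
interchanging `U` and `U'`, and an element not stabilising the pair `{U, U'}`, contains `Ω = KE Q`.
-/

namespace Cfsg.Agent.Lib.Helper44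

open Cfsg.Agent.Lib.Helper13 hiding isoGroup mem_isoGroup
open Cfsg.Agent.Lib.Helper36 Module

section pair
variable {F V : Type*} [Field F] [AddCommGroup V] [Module F V]

local notation "pol" => QuadraticMap.polar

namespace TSPair
variable {Q : QuadraticForm F V} {U U' : Submodule F V}

/-- one side: a line in general position with respect to `U` makes all of `U` root points -/
theorem rootPts_side [FiniteDimensional F V] (h : TSPair Q U U')
    (hQ : (QuadraticMap.polarBilin Q).Nondegenerate) (h5 : 5 ≤ finrank F U)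
    (K : Subgroup ↥(isoGroup Q))
    (hlevi : ∀ x ∈ U, ∀ x' ∈ U', ∀ (hx : Q x = 0) (hxx' : pol (⇑Q) x x' = 0),
      eichG Q x x' hx hxx' ∈ K)
    (a b : V) (ha : Q a = 0) (hb : Q b = 0) (hab : pol (⇑Q) a b = 0)
    (hE : eichG Q a b ha hab ∈ K)
    (hli : LinearIndependent F ![U.projection U' h.compl a, U.projection U' h.compl b]) :
    ∀ x ∈ U, x ≠ 0 → x ∈ RootPts Q K := by
  obtain ⟨u, huU, w₀, hwU, hli2, hE2⟩ := h.radical_of_line hQ h5 K hlevi a b ha hb hab hE hli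
  have hu := h.rootPt_of_radical hQ (by omega) K hlevi u w₀ huU hwU hli2 hE2
  intro x hxU hx0
  exact h.rootPts_of_U hQ K hlevi u huU hu x hxU hx0

/-- transfer of root points by an element interchanging the two subspaces -/
theorem rootPts_swap (K : Subgroup ↥(isoGroup Q)) (A B : Submodule F V)
    (s : ↥(isoGroup Q)) (hsK : s ∈ K) (hsB : ∀ u ∈ B, (s : V ≃ₗ[F] V) u ∈ A)
    (hA : ∀ x ∈ A, x ≠ 0 → x ∈ RootPts Q K) : ∀ x ∈ B, x ≠ 0 → x ∈ RootPts Q K := by
  intro x hxB hx0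
  have hy0 : (s : V ≃ₗ[F] V) x ≠ 0 := by
    intro h0
    exact hx0 ((s : V ≃ₗ[F] V).map_eq_zero_iff.1 h0)
  have h1 := rootPts_map Q K s⁻¹ (K.inv_mem hsK) _ (hA _ (hsB x hxB) hy0)
  rwa [isoG_inv_apply'] at h1

/-- **Overgroup theorem** for the stabiliser of a complementary pair of totally singular
subspaces. -/
theorem overgroup_ge [FiniteDimensional F V] (h : TSPair Q U U')
    (hQ : (QuadraticMap.polarBilin Q).Nondegenerate) (h5 : 5 ≤ finrank F U)
    (h5' : 5 ≤ finrank F U') (K : Subgroup ↥(isoGroup Q))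
    (hlevi : ∀ x ∈ U, ∀ x' ∈ U', ∀ (hx : Q x = 0) (hxx' : pol (⇑Q) x x' = 0),
      eichG Q x x' hx hxx' ∈ K)
    (s : ↥(isoGroup Q)) (hsK : s ∈ K) (hsU : ∀ u ∈ U, (s : V ≃ₗ[F] V) u ∈ U')
    (hsU' : ∀ u ∈ U', (s : V ≃ₗ[F] V) u ∈ U)
    (g : ↥(isoGroup Q)) (hgK : g ∈ K)
    (hg1 : ¬ ((∀ u ∈ U, (g : V ≃ₗ[F] V) u ∈ U) ∧ (∀ u ∈ U', (g : V ≃ₗ[F] V) u ∈ U')))
    (hg2 : ¬ ((∀ u ∈ U, (g : V ≃ₗ[F] V) u ∈ U') ∧ (∀ u ∈ U', (g : V ≃ₗ[F] V) u ∈ U))) :
    KE Q ≤ K := by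
  obtain ⟨x, hxU, x', hx'U, hxx', hcase⟩ :=
    h.exists_general_line hQ (by omega) (by omega) (g : V ≃ₗ[F] V) hg1 hg2
  have hQx : Q x = 0 := h.tsU x hxU
  have ha : Q ((g : V ≃ₗ[F] V) x) = 0 := by rw [isoG_Q, hQx]
  have hb : Q ((g : V ≃ₗ[F] V) x') = 0 := by rw [isoG_Q, h.tsU' x' hx'U]
  have hab : pol (⇑Q) ((g : V ≃ₗ[F] V) x) ((g : V ≃ₗ[F] V) x') = 0 := by rw [isoG_pol, hxx']
  have hE : eichG Q ((g : V ≃ₗ[F] V) x) ((g : V ≃ₗ[F] V) x') ha hab ∈ K := by
    rw [← conj_eichG Q g x x' hQx hxx']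
    exact K.mul_mem (K.mul_mem hgK (hlevi x hxU x' hx'U hQx hxx')) (K.inv_mem hgK)
  have hlevi' : ∀ y' ∈ U', ∀ y ∈ U, ∀ (hy' : Q y' = 0) (hy'y : pol (⇑Q) y' y = 0),
      eichG Q y' y hy' hy'y ∈ K := by
    intro y' hy'U y hyU hy' hy'y
    rw [eichG_symm Q y y' (h.tsU y hyU) hy' hy'y]
    exact hlevi y hyU (-y') (U'.neg_mem hy'U) _ _
  have hboth : (∀ z ∈ U, z ≠ 0 → z ∈ RootPts Q K) ∧ (∀ z ∈ U', z ≠ 0 → z ∈ RootPts Q K) := by
    rcases hcase with hli | hli
    · have hU := h.rootPts_side hQ h5 K hlevi _ _ ha hb hab hE hli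
      exact ⟨hU, rootPts_swap K U U' s hsK hsU' hU⟩
    · have hU' := h.symm.rootPts_side hQ h5' K hlevi' _ _ ha hb hab hE hli
      exact ⟨rootPts_swap K U' U s hsK hsU hU', hU'⟩
  obtain ⟨hU, hU'⟩ := hboth
  have hUne : U ≠ ⊥ := by
    intro h0
    rw [h0, finrank_bot] at h5
    omega
  obtain ⟨u, huU, hu0⟩ := Submodule.exists_mem_ne_zero_of_ne_bot hUne
  have hli1 : LinearIndependent F ![u] := by
    rw [linearIndependent_unique_iff]
    exact hu0
  obtain ⟨u', hu'U, hu'⟩ := h.exists_dual_in hQ ![u]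
    (by intro i; fin_cases i; simpa using huU) hli1 (fun _ => 1)
  have huu' : pol (⇑Q) u u' = 1 := hu' 0
  have hu'0 : u' ≠ 0 := by
    rintro rfl
    rw [QuadraticMap.polar_zero_right] at huu'
    exact zero_ne_one huu'
  exact KE_le_of_rootPts Q K (fun z hz0 hz =>
    rootPts_all Q hQ K u u' (hU u huU hu0) (hU' u' hu'U hu'0)
      (by rw [huu']; exact one_ne_zero) z hz0 hz)

end TSPair

end pair

end Cfsg.Agent.Lib.Helper44
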