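import Mathlib
import Cfsg.Agent.Lib.Helper44.PairMax4
import Cfsg.Agent.Lib.Helper94.SympMax

set_option autoImplicit false
set_option linter.unusedSimpArgs false
set_option linter.unusedVariables false

/-!
# Complementary pairs of totally isotropic subspaces of a symplectic space

`V = U ⊕ U'` with `U`, `U'` totally isotropic for an alternating form `B`.  The hyperbolic quadratic
form `z ↦ B(π z, π' z)` has `U`, `U'` as a complementary pair of totally singular subspaces, so the
geometric lemmas of `PairMax1-3` apply.  The Levi elements are helper94's `sg x x' c`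
(`x ∈ U`, `x' ∈ U'`, `x ⊥ x'`).
-/

namespace Cfsg.Agent.Lib.Helper44

open Cfsg.Agent.Lib.Helper94 (SympData)
open Module

section sppair
variable {K V : Type*} [Field K] [AddCommGroup V] [Module K V] {B : LinearMap.BilinForm K V}
  {U U' : Submodule K V}

/-- a complementary pair of totally isotropic subspaces -/
structure TIPair (B : LinearMap.BilinForm K V) (U U' : Submodule K V) : Prop where
  tiU : ∀ u ∈ U, ∀ v ∈ U, B u v = 0
  tiU' : ∀ u ∈ U', ∀ v ∈ U', B u v = 0
  compl : IsCompl U U'

namespace TIPair

theorem symm (hp : TIPair B U U') : TIPair B U' U := ⟨hp.tiU', hp.tiU, hp.compl.symm⟩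

/-- the hyperbolic quadratic form attached to the polarisation -/
noncomputable def auxQ (hp : TIPair B U U') : QuadraticForm K V :=
  LinearMap.BilinMap.toQuadraticMap
    (B.compl₁₂ (U.projection U' hp.compl) (U'.projection U hp.compl.symm))

theorem auxQ_apply (hp : TIPair B U U') (z : V) :
    hp.auxQ z = B (U.projection U' hp.compl z) (U'.projection U hp.compl.symm z) := rfl

theorem polar_auxQ (hp : TIPair B U U') (z w : V) :
    QuadraticMap.polar (⇑hp.auxQ) z w =
      B (U.projection U' hp.compl z) (U'.projection U hp.compl.symm w) +
      B (U.projection U' hp.compl w) (U'.projection U hp.compl.symm z) := by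
  unfold auxQ
  rw [LinearMap.BilinMap.polar_toQuadraticMap]
  rfl

theorem polar_auxQ_of_mem (hp : TIPair B U U') {x x' : V} (hx : x ∈ U) (hx' : x' ∈ U') :
    QuadraticMap.polar (⇑hp.auxQ) x x' = B x x' := by
  rw [polar_auxQ, Submodule.projection_apply_of_mem_left hp.compl hx,
    Submodule.projection_apply_of_mem_left hp.compl.symm hx',
    Submodule.projection_apply_of_mem_right hp.compl hx', map_zero, LinearMap.zero_apply, add_zero]

theorem tsPair (hp : TIPair B U U') : TSPair hp.auxQ U U' := by
  refine ⟨fun u hu => ?_, fun u hu => ?_, hp.compl⟩
  · rw [auxQ_apply, Submodule.projection_apply_of_mem_right hp.compl.symm hu, map_zero]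
  · rw [auxQ_apply, Submodule.projection_apply_of_mem_right hp.compl hu, map_zero,
      LinearMap.zero_apply]

theorem auxQ_nondeg (hp : TIPair B U U') (h : SympData B) :
    (QuadraticMap.polarBilin hp.auxQ).Nondegenerate := by
  have key : ∀ z, (∀ w, QuadraticMap.polar (⇑hp.auxQ) z w = 0) → z = 0 := by
    intro z hz
    have h1 : U.projection U' hp.compl z = 0 := by
      apply h.nondeg
      intro y
      rw [← Submodule.projection_add_projection_eq_self hp.compl y, map_add,
        hp.tiU _ (Submodule.projection_apply_mem _ _) _ (Submodule.projection_apply_mem _ _),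
        zero_add]
      have := hz (U'.projection U hp.compl.symm y)
      rw [polar_auxQ, Submodule.projection_apply_of_mem_left hp.compl.symm
        (Submodule.projection_apply_mem _ _),
        Submodule.projection_apply_of_mem_right hp.compl (Submodule.projection_apply_mem _ _),
        map_zero, LinearMap.zero_apply, add_zero] at this
      exact this
    have h2 : U'.projection U hp.compl.symm z = 0 := by
      apply h.nondeg
      intro y
      rw [← Submodule.projection_add_projection_eq_self hp.compl y, map_add,
        hp.tiU' _ (Submodule.projection_apply_mem _ _) _ (Submodule.projection_apply_mem _ _),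
        add_zero]
      have := hz (U.projection U' hp.compl y)
      rw [polar_auxQ, Submodule.projection_apply_of_mem_left hp.compl
        (Submodule.projection_apply_mem _ _),
        Submodule.projection_apply_of_mem_right hp.compl.symm (Submodule.projection_apply_mem _ _),
        map_zero, zero_add] at this
      rw [h.eq_zero_comm]
      exact this
    rw [← Submodule.projection_add_projection_eq_self hp.compl z, h1, h2, add_zero]
  refine ⟨fun x hx => key x fun w => ?_, fun y hy => key y fun w => ?_⟩
  · have := hx w
    rwa [QuadraticMap.polarBilin_apply_apply] at this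
  · have := hy w
    rwa [QuadraticMap.polarBilin_apply_apply, QuadraticMap.polar_comm] at this

theorem inter (hp : TIPair B U U') {z : V} (hz : z ∈ U) (hz' : z ∈ U') : z = 0 :=
  hp.tsPair.inter hz hz'

/-- perfect pairing: a vector of `U'` with prescribed pairings against an independent family in `U` -/
theorem exists_dual_in [FiniteDimensional K V] (hp : TIPair B U U') (h : SympData B)
    {ι : Type*} [Fintype ι] (v : ι → V) (hvU : ∀ i, v i ∈ U) (hv : LinearIndependent K v)
    (c : ι → K) : ∃ y ∈ U', ∀ i, B (v i) y = c i := by
  obtain ⟨y, hyU, hy⟩ := hp.tsPair.exists_dual_in (hp.auxQ_nondeg h) v hvU hv c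
  refine ⟨y, hyU, fun i => ?_⟩
  rw [← hp.polar_auxQ_of_mem (hvU i) hyU]
  exact hy i

end TIPair

end sppair

end Cfsg.Agent.Lib.Helper44
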