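import Mathlib
import Cfsg.Agent.Lib.Helper44.Elusive7
import Cfsg.Agent.Lib.Helper44.SpPair1

set_option autoImplicit false
set_option linter.unusedSectionVars false

/-!
# Counting pairs of complementary totally isotropic subspaces of the symplectic space
-/

namespace Cfsg.Agent.Lib.Helper44.Elu

open Matrix Module

section pairs
variable {F : Type*} [Field F] [Fintype F]

theorem sympForm_eq_dot (d : ℕ) (u v : Fin d ⊕ Fin d → F) :
    Cfsg.sympForm d F u v =
      (u ∘ Sum.inr) ⬝ᵥ (v ∘ Sum.inl) - (u ∘ Sum.inl) ⬝ᵥ (v ∘ Sum.inr) := by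
  rw [Cfsg.Agent.Lib.Helper94.sympForm_eq_sum]
  simp [dotProduct, Finset.sum_sub_distrib]

theorem levi_dot {d : ℕ} (A : GL (Fin d) F) (a b : Fin d → F) :
    ((A : Matrix (Fin d) (Fin d) F) *ᵥ a) ⬝ᵥ
      (((A⁻¹ : GL (Fin d) F) : Matrix (Fin d) (Fin d) F)ᵀ *ᵥ b) = a ⬝ᵥ b := by
  rw [Matrix.dotProduct_mulVec, Matrix.vecMul_transpose, Matrix.mulVec_mulVec,
    ← Units.val_mul, inv_mul_cancel, Units.val_one, Matrix.one_mulVec]

theorem leviGL_mem_spGL {d : ℕ} (A : GL (Fin d) F) : leviGL A ∈ Cfsg.spGL d F := by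
  intro u v
  show Cfsg.sympForm d F ((leviMat A) *ᵥ u) ((leviMat A) *ᵥ v) = _
  rw [leviMat_mulVec, leviMat_mulVec, sympForm_eq_dot, sympForm_eq_dot]
  simp only [Sum.elim_comp_inl, Sum.elim_comp_inr]
  rw [dotProduct_comm (((A⁻¹ : GL (Fin d) F) : Matrix (Fin d) (Fin d) F)ᵀ *ᵥ (u ∘ Sum.inr)),
    levi_dot, levi_dot, dotProduct_comm]

/-- the predicate of the statement: a pair of complementary totally isotropic subspaces -/
def IsTIP (d : ℕ) (P : Submodule F (Fin d ⊕ Fin d → F) × Submodule F (Fin d ⊕ Fin d → F)) : Prop :=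
  IsCompl P.1 P.2 ∧ (∀ u ∈ P.1, ∀ v ∈ P.1, Cfsg.sympForm d F u v = 0) ∧
    (∀ u ∈ P.2, ∀ v ∈ P.2, Cfsg.sympForm d F u v = 0)

/-- the standard pair -/
def stdU (d : ℕ) (F : Type*) [Field F] : Submodule F (Fin d ⊕ Fin d → F) :=
  LinearMap.ker (LinearMap.funLeft F F (Sum.inr : Fin d → Fin d ⊕ Fin d))

def stdW (d : ℕ) (F : Type*) [Field F] : Submodule F (Fin d ⊕ Fin d → F) :=
  LinearMap.ker (LinearMap.funLeft F F (Sum.inl : Fin d → Fin d ⊕ Fin d))

theorem mem_stdU {d : ℕ} (v : Fin d ⊕ Fin d → F) : v ∈ stdU d F ↔ v ∘ Sum.inr = 0 := Iff.rfl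

theorem mem_stdW {d : ℕ} (v : Fin d ⊕ Fin d → F) : v ∈ stdW d F ↔ v ∘ Sum.inl = 0 := Iff.rfl

theorem finrank_stdU (d : ℕ) : finrank F (stdU d F) = d := by
  let pr : (Fin d ⊕ Fin d → F) →ₗ[F] (Fin d → F) := LinearMap.funLeft F F Sum.inr
  have hpr : Function.Surjective pr :=
    LinearMap.funLeft_surjective_of_injective F F _ Sum.inr_injective
  have h1 := LinearMap.finrank_range_add_finrank_ker pr
  rw [LinearMap.range_eq_top.mpr hpr, finrank_top, Module.finrank_fintype_fun_eq_card,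
    Module.finrank_fintype_fun_eq_card, Fintype.card_sum, Fintype.card_fin] at h1
  show finrank F (LinearMap.ker pr) = d
  omega

theorem finrank_stdW (d : ℕ) : finrank F (stdW d F) = d := by
  let pr : (Fin d ⊕ Fin d → F) →ₗ[F] (Fin d → F) := LinearMap.funLeft F F Sum.inl
  have hpr : Function.Surjective pr :=
    LinearMap.funLeft_surjective_of_injective F F _ Sum.inl_injective
  have h1 := LinearMap.finrank_range_add_finrank_ker pr
  rw [LinearMap.range_eq_top.mpr hpr, finrank_top, Module.finrank_fintype_fun_eq_card,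
    Module.finrank_fintype_fun_eq_card, Fintype.card_sum, Fintype.card_fin] at h1
  show finrank F (LinearMap.ker pr) = d
  omega

open Cfsg.Agent.Lib.Helper94 (glEquiv glEquiv_apply glEquiv_symm_mulVec sympBilin sympBilin_apply
  sympData_sympBilin SympData)

theorem map_mul_eq {V : Type*} [AddCommGroup V] [Module F V] (e₁ e₂ : V ≃ₗ[F] V)
    (U : Submodule F V) :
    U.map ((e₁ * e₂ : V ≃ₗ[F] V) : V →ₗ[F] V) =
      (U.map (e₂ : V →ₗ[F] V)).map (e₁ : V →ₗ[F] V) := by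
  rw [← Submodule.map_comp]; rfl

theorem map_one_eq {V : Type*} [AddCommGroup V] [Module F V] (U : Submodule F V) :
    U.map ((1 : V ≃ₗ[F] V) : V →ₗ[F] V) = U := by
  ext v
  simp

theorem spGL_apply {d : ℕ} (g : ↥(Cfsg.spGL d F)) (u v : Fin d ⊕ Fin d → F) :
    Cfsg.sympForm d F (glEquiv _ F g.1 u) (glEquiv _ F g.1 v) = Cfsg.sympForm d F u v := by
  rw [glEquiv_apply, glEquiv_apply]
  exact g.2 u v

theorem isTIP_map {d : ℕ} (g : ↥(Cfsg.spGL d F))
    (P : Submodule F (Fin d ⊕ Fin d → F) × Submodule F (Fin d ⊕ Fin d → F)) (hP : IsTIP d P) :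
    IsTIP d (P.1.map ((glEquiv _ F g.1 : (Fin d ⊕ Fin d → F) ≃ₗ[F] _) : _ →ₗ[F] _),
      P.2.map ((glEquiv _ F g.1 : (Fin d ⊕ Fin d → F) ≃ₗ[F] _) : _ →ₗ[F] _)) := by
  obtain ⟨h1, h2, h3⟩ := hP
  refine ⟨?_, ?_, ?_⟩
  · exact h1.map (Submodule.orderIsoMapComap (glEquiv _ F g.1))
  · rintro _ ⟨u, hu, rfl⟩ _ ⟨v, hv, rfl⟩
    show Cfsg.sympForm d F (glEquiv _ F g.1 u) (glEquiv _ F g.1 v) = 0
    rw [spGL_apply]
    exact h2 u hu v hv
  · rintro _ ⟨u, hu, rfl⟩ _ ⟨v, hv, rfl⟩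
    show Cfsg.sympForm d F (glEquiv _ F g.1 u) (glEquiv _ F g.1 v) = 0
    rw [spGL_apply]
    exact h3 u hu v hv

/-- the action of the symplectic group on the polar pairs -/
@[reducible] noncomputable def tipAction (d : ℕ) :
    MulAction ↥(Cfsg.spGL d F)
      {P : Submodule F (Fin d ⊕ Fin d → F) × Submodule F (Fin d ⊕ Fin d → F) // IsTIP d P} where
  smul g P := ⟨_, isTIP_map g P.1 P.2⟩
  one_smul P := by
    apply Subtype.ext
    show (P.1.1.map ((glEquiv (Fin d ⊕ Fin d) F ((1 : ↥(Cfsg.spGL d F)) : GL _ F) :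
        (Fin d ⊕ Fin d → F) ≃ₗ[F] (Fin d ⊕ Fin d → F)) : (Fin d ⊕ Fin d → F) →ₗ[F] _),
      P.1.2.map ((glEquiv (Fin d ⊕ Fin d) F ((1 : ↥(Cfsg.spGL d F)) : GL _ F) :
        (Fin d ⊕ Fin d → F) ≃ₗ[F] (Fin d ⊕ Fin d → F)) : (Fin d ⊕ Fin d → F) →ₗ[F] _)) = P.1
    rw [Subgroup.coe_one, map_one, map_one_eq, map_one_eq]
  mul_smul g h P := by
    apply Subtype.ext
    show (P.1.1.map ((glEquiv (Fin d ⊕ Fin d) F ((g * h : ↥(Cfsg.spGL d F)) : GL _ F) :
        (Fin d ⊕ Fin d → F) ≃ₗ[F] (Fin d ⊕ Fin d → F)) :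
          (Fin d ⊕ Fin d → F) →ₗ[F] (Fin d ⊕ Fin d → F)),
      P.1.2.map ((glEquiv (Fin d ⊕ Fin d) F ((g * h : ↥(Cfsg.spGL d F)) : GL _ F) :
        (Fin d ⊕ Fin d → F) ≃ₗ[F] (Fin d ⊕ Fin d → F)) :
          (Fin d ⊕ Fin d → F) →ₗ[F] (Fin d ⊕ Fin d → F))) =
      (_, _)
    rw [Subgroup.coe_mul, map_mul, map_mul_eq, map_mul_eq]
    rfl

theorem tipAction_smul_fst {d : ℕ} (g : ↥(Cfsg.spGL d F))
    (P : {P : Submodule F (Fin d ⊕ Fin d → F) × Submodule F (Fin d ⊕ Fin d → F) // IsTIP d P}) :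
    (letI := tipAction (F := F) d; g • P).1 =
      (P.1.1.map ((glEquiv _ F g.1 : _ ≃ₗ[F] _) : _ →ₗ[F] _),
        P.1.2.map ((glEquiv _ F g.1 : _ ≃ₗ[F] _) : _ →ₗ[F] _)) := rfl

/-- the standard pair -/
theorem isTIP_std (d : ℕ) : IsTIP (F := F) d (stdU d F, stdW d F) := by
  refine ⟨?_, ?_, ?_⟩
  · constructor
    · rw [Submodule.disjoint_def]
      intro v hv hv'
      rw [mem_stdU] at hv
      rw [mem_stdW] at hv'
      funext k
      rcases k with i | i
      · exact congrFun hv' i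
      · exact congrFun hv i
    · rw [codisjoint_iff, eq_top_iff]
      intro v _
      have hv : v = Sum.elim (v ∘ Sum.inl) (0 : Fin d → F) +
          Sum.elim (0 : Fin d → F) (v ∘ Sum.inr) := by
        funext k
        rcases k with i | i <;> simp
      rw [hv]
      refine Submodule.add_mem_sup ?_ ?_
      · rw [mem_stdU]; funext i; simp
      · rw [mem_stdW]; funext i; simp
  · intro u hu v hv
    rw [mem_stdU] at hu hv
    rw [sympForm_eq_dot, hu, hv]
    simp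
  · intro u hu v hv
    rw [mem_stdW] at hu hv
    rw [sympForm_eq_dot, hu, hv]
    simp

theorem finrank_of_isTIP {d : ℕ} (U W : Submodule F (Fin d ⊕ Fin d → F)) (hP : IsTIP d (U, W)) :
    finrank F U = d ∧ finrank F W = d := by
  obtain ⟨h1, h2, h3⟩ := hP
  have hS := sympData_sympBilin (F := F) d
  have hU : finrank F U ≤ finrank F ((sympBilin d F).orthogonal U) :=
    Submodule.finrank_mono (Cfsg.Agent.Lib.Helper94.SympData.TotIso.le_orthogonal hS
      (fun u hu v hv => by rw [sympBilin_apply]; exact h2 u hu v hv))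
  have hW : finrank F W ≤ finrank F ((sympBilin d F).orthogonal W) :=
    Submodule.finrank_mono (Cfsg.Agent.Lib.Helper94.SympData.TotIso.le_orthogonal hS
      (fun u hu v hv => by rw [sympBilin_apply]; exact h3 u hu v hv))
  rw [LinearMap.BilinForm.finrank_orthogonal hS.nondegenerate, Module.finrank_fintype_fun_eq_card,
    Fintype.card_sum, Fintype.card_fin] at hU hW
  have hsum := Submodule.finrank_add_eq_of_isCompl h1
  rw [Module.finrank_fintype_fun_eq_card, Fintype.card_sum, Fintype.card_fin] at hsum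
  simp only at hsum hU hW
  omega

theorem single_inl_comp_inl {d : ℕ} (i : Fin d) :
    (Pi.single (Sum.inl i) (1 : F) : Fin d ⊕ Fin d → F) ∘ Sum.inl = Pi.single i 1 := by
  funext j; simp [Pi.single_apply]

theorem single_inl_comp_inr {d : ℕ} (i : Fin d) :
    (Pi.single (Sum.inl i) (1 : F) : Fin d ⊕ Fin d → F) ∘ Sum.inr = 0 := by
  funext j; simp [Pi.single_apply]

theorem single_inr_comp_inr {d : ℕ} (i : Fin d) :
    (Pi.single (Sum.inr i) (1 : F) : Fin d ⊕ Fin d → F) ∘ Sum.inr = Pi.single i 1 := by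
  funext j; simp [Pi.single_apply]

theorem single_inr_comp_inl {d : ℕ} (i : Fin d) :
    (Pi.single (Sum.inr i) (1 : F) : Fin d ⊕ Fin d → F) ∘ Sum.inl = 0 := by
  funext j; simp [Pi.single_apply]

/-- transitivity of the symplectic group on polar pairs -/
theorem exists_sp_map {d : ℕ} (U W : Submodule F (Fin d ⊕ Fin d → F)) (hP : IsTIP d (U, W)) :
    ∃ g : ↥(Cfsg.spGL d F),
      (stdU d F).map ((glEquiv (Fin d ⊕ Fin d) F g.1 :
        (Fin d ⊕ Fin d → F) ≃ₗ[F] (Fin d ⊕ Fin d → F)) :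
          (Fin d ⊕ Fin d → F) →ₗ[F] (Fin d ⊕ Fin d → F)) = U ∧
      (stdW d F).map ((glEquiv (Fin d ⊕ Fin d) F g.1 :
        (Fin d ⊕ Fin d → F) ≃ₗ[F] (Fin d ⊕ Fin d → F)) :
          (Fin d ⊕ Fin d → F) →ₗ[F] (Fin d ⊕ Fin d → F)) = W := by
  classical
  obtain ⟨hdU, hdW⟩ := finrank_of_isTIP U W hP
  obtain ⟨h1, h2, h3⟩ := hP
  have hS := sympData_sympBilin (F := F) d
  have hp : TIPair (sympBilin d F) U W :=
    ⟨fun u hu v hv => by rw [sympBilin_apply]; exact h2 u hu v hv,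
      fun u hu v hv => by rw [sympBilin_apply]; exact h3 u hu v hv, h1⟩
  let bU : Basis (Fin d) F U := Module.finBasisOfFinrankEq F U hdU
  let u : Fin d → (Fin d ⊕ Fin d → F) := fun i => (bU i : Fin d ⊕ Fin d → F)
  have huU : ∀ i, u i ∈ U := fun i => (bU i).2
  have hu : LinearIndependent F u := bU.linearIndependent.map' U.subtype (Submodule.ker_subtype U)
  have hw : ∀ j, ∃ y ∈ W, ∀ i, sympBilin d F (u i) y = if i = j then -1 else 0 :=
    fun j => hp.exists_dual_in hS u huU hu _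
  choose w hwW hw using hw
  let T : (Fin d ⊕ Fin d → F) →ₗ[F] (Fin d ⊕ Fin d → F) :=
    (Pi.basisFun F (Fin d ⊕ Fin d)).constr F (Sum.elim u w)
  have hT : ∀ k, T (Pi.single k 1) = Sum.elim u w k := by
    intro k
    have := (Pi.basisFun F (Fin d ⊕ Fin d)).constr_basis F (Sum.elim u w) k
    rwa [Pi.basisFun_apply] at this
  have hTv : ∀ v, T v = ∑ i, v (Sum.inl i) • u i + ∑ j, v (Sum.inr j) • w j := by
    intro v
    show (Pi.basisFun F (Fin d ⊕ Fin d)).constr F (Sum.elim u w) v = _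
    rw [Basis.constr_apply_fintype, Fintype.sum_sum_type]
    simp
  have hTB : (sympBilin d F).compl₁₂ T T = sympBilin d F := by
    apply LinearMap.BilinForm.ext_basis (Pi.basisFun F (Fin d ⊕ Fin d))
    intro k l
    rw [LinearMap.compl₁₂_apply, Pi.basisFun_apply, Pi.basisFun_apply, hT, hT]
    rcases k with i | i <;> rcases l with j | j
    · simp only [Sum.elim_inl]
      rw [hp.tiU _ (huU i) _ (huU j), sympBilin_apply, sympForm_eq_dot, single_inl_comp_inr,
        single_inl_comp_inr]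
      simp
    · simp only [Sum.elim_inl, Sum.elim_inr]
      rw [hw j i, sympBilin_apply, sympForm_eq_dot, single_inl_comp_inr, single_inl_comp_inl,
        single_inr_comp_inr]
      by_cases hij : i = j
      · subst hij; simp
      · have hji : ¬ j = i := fun h => hij h.symm
        simp [hij, hji, Pi.single_apply]
    · simp only [Sum.elim_inl, Sum.elim_inr]
      rw [hS.skew, hw i j, sympBilin_apply, sympForm_eq_dot, single_inl_comp_inr,
        single_inl_comp_inl, single_inr_comp_inr]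
      by_cases hij : i = j
      · subst hij; simp
      · have hji : ¬ j = i := fun h => hij h.symm
        simp [hij, hji, Pi.single_apply]
    · simp only [Sum.elim_inr]
      rw [hp.tiU' _ (hwW i) _ (hwW j), sympBilin_apply, sympForm_eq_dot, single_inr_comp_inl,
        single_inr_comp_inl]
      simp
  have hTpres : ∀ a b, sympBilin d F (T a) (T b) = sympBilin d F a b := fun a b => by
    have := LinearMap.congr_fun₂ hTB a b
    rwa [LinearMap.compl₁₂_apply] at this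
  have hinj : Function.Injective T := by
    rw [injective_iff_map_eq_zero]
    intro a ha
    apply hS.nondeg
    intro b
    rw [← hTpres, ha]
    simp
  let e : (Fin d ⊕ Fin d → F) ≃ₗ[F] (Fin d ⊕ Fin d → F) := LinearEquiv.ofInjectiveEndo T hinj
  have he : ∀ a, e a = T a := fun a => rfl
  let g : GL (Fin d ⊕ Fin d) F := (glEquiv (Fin d ⊕ Fin d) F).symm e
  have hg : g ∈ Cfsg.spGL d F := by
    intro a b
    show Cfsg.sympForm d F ((g : Matrix _ _ F) *ᵥ a) ((g : Matrix _ _ F) *ᵥ b) = _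
    rw [glEquiv_symm_mulVec, glEquiv_symm_mulVec, he, he, ← sympBilin_apply, ← sympBilin_apply]
    exact hTpres a b
  have hge : glEquiv (Fin d ⊕ Fin d) F g = e := (glEquiv (Fin d ⊕ Fin d) F).apply_symm_apply e
  refine ⟨⟨g, hg⟩, ?_, ?_⟩
  · show (stdU d F).map ((glEquiv (Fin d ⊕ Fin d) F g :
        (Fin d ⊕ Fin d → F) ≃ₗ[F] (Fin d ⊕ Fin d → F)) :
          (Fin d ⊕ Fin d → F) →ₗ[F] (Fin d ⊕ Fin d → F)) = U
    rw [hge]
    apply Submodule.eq_of_le_of_finrank_eq
    · rintro _ ⟨v, hv, rfl⟩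
      show e v ∈ U
      rw [he, hTv]
      have hv' : v ∘ Sum.inr = 0 := hv
      have hv0 : ∀ j, v (Sum.inr j) = 0 := fun j => congrFun hv' j
      simp only [hv0, zero_smul, Finset.sum_const_zero, add_zero]
      exact Submodule.sum_mem _ fun i _ => Submodule.smul_mem _ _ (huU i)
    · rw [LinearEquiv.finrank_map_eq, finrank_stdU, hdU]
  · show (stdW d F).map ((glEquiv (Fin d ⊕ Fin d) F g :
        (Fin d ⊕ Fin d → F) ≃ₗ[F] (Fin d ⊕ Fin d → F)) :
          (Fin d ⊕ Fin d → F) →ₗ[F] (Fin d ⊕ Fin d → F)) = W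
    rw [hge]
    apply Submodule.eq_of_le_of_finrank_eq
    · rintro _ ⟨v, hv, rfl⟩
      show e v ∈ W
      rw [he, hTv]
      have hv' : v ∘ Sum.inl = 0 := hv
      have hv0 : ∀ j, v (Sum.inl j) = 0 := fun j => congrFun hv' j
      simp only [hv0, zero_smul, Finset.sum_const_zero, zero_add]
      exact Submodule.sum_mem _ fun i _ => Submodule.smul_mem _ _ (hwW i)
    · rw [LinearEquiv.finrank_map_eq, finrank_stdW, hdW]

theorem leviGL_injective {d : ℕ} :
    Function.Injective (leviGL : GL (Fin d) F →* GL (Fin d ⊕ Fin d) F) := by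
  intro A B h
  apply Units.ext
  have h1 : leviMat A = leviMat B := congrArg Units.val h
  unfold leviMat at h1
  exact (Matrix.fromBlocks_inj.mp h1).1

/-- the Levi embedding into the symplectic group -/
def leviSp (d : ℕ) : GL (Fin d) F →* ↥(Cfsg.spGL d F) :=
  leviGL.codRestrict _ leviGL_mem_spGL

theorem leviSp_injective {d : ℕ} : Function.Injective (leviSp (F := F) d) := by
  intro A B h
  exact leviGL_injective (congrArg Subtype.val h)

theorem leviSp_apply {d : ℕ} (A : GL (Fin d) F) (v : Fin d ⊕ Fin d → F) :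
    glEquiv (Fin d ⊕ Fin d) F (leviSp d A).1 v =
      Sum.elim ((A : Matrix (Fin d) (Fin d) F) *ᵥ (v ∘ Sum.inl))
        (((A⁻¹ : GL (Fin d) F) : Matrix (Fin d) (Fin d) F)ᵀ *ᵥ (v ∘ Sum.inr)) := by
  rw [glEquiv_apply]
  exact leviMat_mulVec A v

/-- the standard pair as a point -/
def stdP (d : ℕ) (F : Type*) [Field F] [Fintype F] :
    {P : Submodule F (Fin d ⊕ Fin d → F) × Submodule F (Fin d ⊕ Fin d → F) // IsTIP d P} :=
  ⟨(stdU d F, stdW d F), isTIP_std d⟩

theorem leviSp_smul {d : ℕ} (A : GL (Fin d) F) :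
    (letI := tipAction (F := F) d; leviSp d A • stdP d F) = stdP d F := by
  apply Subtype.ext
  rw [tipAction_smul_fst]
  refine Prod.ext ?_ ?_
  · show (stdU d F).map ((glEquiv (Fin d ⊕ Fin d) F (leviSp d A).1 :
        (Fin d ⊕ Fin d → F) ≃ₗ[F] (Fin d ⊕ Fin d → F)) :
          (Fin d ⊕ Fin d → F) →ₗ[F] (Fin d ⊕ Fin d → F)) = stdU d F
    apply Submodule.eq_of_le_of_finrank_eq
    · rintro _ ⟨v, hv, rfl⟩
      have hv' : v ∘ Sum.inr = 0 := hv
      show glEquiv (Fin d ⊕ Fin d) F (leviSp d A).1 v ∈ stdU d F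
      rw [leviSp_apply, mem_stdU, Sum.elim_comp_inr, hv', Matrix.mulVec_zero]
    · rw [LinearEquiv.finrank_map_eq]
  · show (stdW d F).map ((glEquiv (Fin d ⊕ Fin d) F (leviSp d A).1 :
        (Fin d ⊕ Fin d → F) ≃ₗ[F] (Fin d ⊕ Fin d → F)) :
          (Fin d ⊕ Fin d → F) →ₗ[F] (Fin d ⊕ Fin d → F)) = stdW d F
    apply Submodule.eq_of_le_of_finrank_eq
    · rintro _ ⟨v, hv, rfl⟩
      have hv' : v ∘ Sum.inl = 0 := hv
      show glEquiv (Fin d ⊕ Fin d) F (leviSp d A).1 v ∈ stdW d F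
      rw [leviSp_apply, mem_stdW, Sum.elim_comp_inl, hv', Matrix.mulVec_zero]
    · rw [LinearEquiv.finrank_map_eq]

/-- orbit-stabiliser count of the polar pairs -/
theorem card_pairs_mul (d : ℕ) : ∃ m : ℕ,
    Nat.card (GL (Fin d) F) * m *
      Nat.card {P : Submodule F (Fin d ⊕ Fin d → F) × Submodule F (Fin d ⊕ Fin d → F) // IsTIP d P} =
      Nat.card ↥(Cfsg.spGL d F) := by
  let _ := tipAction (F := F) d
  have key : ∀ P : {P : Submodule F (Fin d ⊕ Fin d → F) × Submodule F (Fin d ⊕ Fin d → F) //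
      IsTIP d P}, ∃ g : ↥(Cfsg.spGL d F), g • stdP d F = P := by
    intro P
    obtain ⟨g, hg1, hg2⟩ := exists_sp_map P.1.1 P.1.2 P.2
    exact ⟨g, Subtype.ext (Prod.ext hg1 hg2)⟩
  have : MulAction.IsPretransitive ↥(Cfsg.spGL d F)
      {P : Submodule F (Fin d ⊕ Fin d → F) × Submodule F (Fin d ⊕ Fin d → F) // IsTIP d P} := by
    constructor
    intro P Q
    obtain ⟨g, hg⟩ := key P
    obtain ⟨h, hh⟩ := key Q
    refine ⟨h * g⁻¹, ?_⟩
    rw [← hg, ← hh, mul_smul, inv_smul_smul]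
  have h1 := MulAction.index_stabilizer_of_transitive ↥(Cfsg.spGL d F) (stdP d F)
  have h2 := Subgroup.card_mul_index (MulAction.stabilizer ↥(Cfsg.spGL d F) (stdP d F))
  have h3 : Nat.card (GL (Fin d) F) ∣
      Nat.card (MulAction.stabilizer ↥(Cfsg.spGL d F) (stdP d F)) := by
    have hle : (leviSp (F := F) d).range ≤ MulAction.stabilizer ↥(Cfsg.spGL d F) (stdP d F) := by
      rintro _ ⟨A, rfl⟩
      exact leviSp_smul A
    have h4 := Subgroup.card_dvd_of_le hle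
    rwa [← Nat.card_congr (MonoidHom.ofInjective (leviSp_injective (F := F) (d := d))).toEquiv]
      at h4
  obtain ⟨m, hm⟩ := h3
  exact ⟨m, by rw [← h2, h1, hm]⟩

end pairs

section arith

theorem pow_two_mul_sub_one (q i : ℕ) (hq : 1 ≤ q) :
    q ^ (2 * (i + 1)) - 1 = (q ^ (i + 1) - 1) * (q ^ (i + 1) + 1) := by
  have h1 : 1 ≤ q ^ (i + 1) := Nat.one_le_pow _ _ hq
  obtain ⟨b, hb⟩ : ∃ b, q ^ (i + 1) = b + 1 := ⟨q ^ (i + 1) - 1, by omega⟩
  rw [mul_comm 2, pow_mul, hb, Nat.add_sub_cancel]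
  have : (b + 1) ^ 2 = b * (b + 1 + 1) + 1 := by ring
  rw [this, Nat.add_sub_cancel]

theorem exists_dvd_add_one (q d m N r : ℕ) (hq : 2 ≤ q) (hr : r.Prime) (hrq : ¬ r ∣ q)
    (h : (∏ i : Fin d, (q ^ d - q ^ (i : ℕ))) * m * N =
      q ^ (d ^ 2) * ∏ i ∈ Finset.range d, (q ^ (2 * (i + 1)) - 1))
    (hrN : r ∣ N) : ∃ i, i < d ∧ r ∣ q ^ (i + 1) + 1 := by
  have hq1 : 1 ≤ q := by omega
  rw [Fin.prod_univ_eq_prod_range (fun i => q ^ d - q ^ i) d] at h
  have e1 : ∏ i ∈ Finset.range d, (q ^ d - q ^ i) =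
      (∏ i ∈ Finset.range d, q ^ i) * ∏ i ∈ Finset.range d, (q ^ (i + 1) - 1) := by
    rw [← Finset.prod_range_reflect (fun j => q ^ (j + 1) - 1) d, ← Finset.prod_mul_distrib]
    apply Finset.prod_congr rfl
    intro i hi
    rw [Finset.mem_range] at hi
    have : d - 1 - i + 1 = d - i := by omega
    rw [this, Nat.mul_sub, mul_one, ← pow_add]
    congr 2
    omega
  have e2 : ∏ i ∈ Finset.range d, (q ^ (2 * (i + 1)) - 1) =
      (∏ i ∈ Finset.range d, (q ^ (i + 1) - 1)) * ∏ i ∈ Finset.range d, (q ^ (i + 1) + 1) := by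
    rw [← Finset.prod_mul_distrib]
    exact Finset.prod_congr rfl fun i _ => pow_two_mul_sub_one q i hq1
  have hA : 0 < ∏ i ∈ Finset.range d, (q ^ (i + 1) - 1) := by
    apply Finset.prod_pos
    intro i _
    have : 2 ≤ q ^ (i + 1) := by
      calc 2 ≤ q := hq
        _ = q ^ 1 := (pow_one q).symm
        _ ≤ q ^ (i + 1) := Nat.pow_le_pow_right hq1 (by omega)
    omega
  rw [e1, e2] at h
  have h' : (∏ i ∈ Finset.range d, q ^ i) * m * N =
      q ^ (d ^ 2) * ∏ i ∈ Finset.range d, (q ^ (i + 1) + 1) := by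
    apply Nat.eq_of_mul_eq_mul_left hA
    calc _ = ((∏ i ∈ Finset.range d, q ^ i) * ∏ i ∈ Finset.range d, (q ^ (i + 1) - 1)) * m * N := by
          ring
      _ = _ := by rw [h]; ring
  have h5 : r ∣ q ^ (d ^ 2) * ∏ i ∈ Finset.range d, (q ^ (i + 1) + 1) := by
    rw [← h']
    exact Dvd.dvd.mul_left hrN _
  rcases (Nat.Prime.dvd_mul hr).mp h5 with h6 | h6
  · exact absurd (hr.dvd_of_dvd_pow h6) hrq
  · obtain ⟨i, hi, hri⟩ := (Prime.dvd_finsetProd_iff hr.prime _).mp h6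
    exact ⟨i, Finset.mem_range.mp hi, hri⟩

end arith

section final
variable {F : Type*} [Field F] [Fintype F]

/-- the number of polar pairs is even -/
theorem two_dvd_card_pairs (d : ℕ) (hd : 1 ≤ d) :
    2 ∣ Nat.card {P : Submodule F (Fin d ⊕ Fin d → F) × Submodule F (Fin d ⊕ Fin d → F) //
      IsTIP d P} := by
  classical
  have : Fintype {P : Submodule F (Fin d ⊕ Fin d → F) × Submodule F (Fin d ⊕ Fin d → F) //
      IsTIP d P} := Fintype.ofFinite _
  let sw : {P : Submodule F (Fin d ⊕ Fin d → F) × Submodule F (Fin d ⊕ Fin d → F) // IsTIP d P} →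
      {P : Submodule F (Fin d ⊕ Fin d → F) × Submodule F (Fin d ⊕ Fin d → F) // IsTIP d P} :=
    fun P => ⟨(P.1.2, P.1.1), ⟨P.2.1.symm, P.2.2.2, P.2.2.1⟩⟩
  have hsw : ∀ P, sw (sw P) = P := fun P => rfl
  let σ : Equiv.Perm {P : Submodule F (Fin d ⊕ Fin d → F) × Submodule F (Fin d ⊕ Fin d → F) //
      IsTIP d P} := ⟨sw, sw, hsw, hsw⟩
  have hσ2 : σ ^ 2 = 1 := by
    apply Equiv.ext
    intro P
    rw [sq, Equiv.Perm.mul_apply]
    exact hsw P
  have hsupp : σ.support = Finset.univ := by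
    ext P
    simp only [Equiv.Perm.mem_support, Finset.mem_univ, iff_true]
    intro h
    have h1 : P.1.2 = P.1.1 := congrArg (fun Q => Q.1.1) h
    have h2 := P.2.1
    rw [h1] at h2
    have h3 : P.1.1 = ⊥ := by
      have := h2.disjoint
      rwa [disjoint_self] at this
    have h4 : P.1.1 = ⊤ := by
      have := h2.codisjoint
      rwa [codisjoint_self] at this
    have h5 : (⊥ : Submodule F (Fin d ⊕ Fin d → F)) = ⊤ := h3.symm.trans h4
    have h6 : (Pi.single (Sum.inl ⟨0, hd⟩) 1 : Fin d ⊕ Fin d → F) ∈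
        (⊥ : Submodule F (Fin d ⊕ Fin d → F)) := by rw [h5]; trivial
    rw [Submodule.mem_bot] at h6
    have := congrFun h6 (Sum.inl ⟨0, hd⟩)
    simp at this
  have := Equiv.Perm.two_dvd_card_support hσ2
  rw [hsupp, Finset.card_univ] at this
  rwa [Nat.card_eq_fintype_card]

/-- an odd prime `r ≠ p` dividing half the number of polar pairs divides some `q^i + 1`, `i ≤ d` -/
theorem exists_dvd_of_dvd_pairs {p : ℕ} [Fact p.Prime] [CharP F p] (d : ℕ) (hd : 1 ≤ d)
    (r : ℕ) (hr : r.Prime) (hrp : r ≠ p)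
    (hΩ : r ∣ Nat.card {P : Submodule F (Fin d ⊕ Fin d → F) × Submodule F (Fin d ⊕ Fin d → F) //
      IsTIP d P} / 2) :
    ∃ i, i < d ∧ r ∣ Fintype.card F ^ (i + 1) + 1 := by
  obtain ⟨m, hm⟩ := card_pairs_mul (F := F) d
  have hN : r ∣ Nat.card {P : Submodule F (Fin d ⊕ Fin d → F) × Submodule F (Fin d ⊕ Fin d → F) //
      IsTIP d P} := by
    obtain ⟨c, hc⟩ := two_dvd_card_pairs (F := F) d hd
    rw [hc, Nat.mul_div_cancel_left _ (by norm_num : 0 < 2)] at hΩ
    rw [hc]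
    exact Dvd.dvd.mul_left hΩ 2
  rw [Matrix.card_GL_field, card_spGL] at hm
  have hq2 : 2 ≤ Fintype.card F := Fintype.one_lt_card
  have hrq : ¬ r ∣ Fintype.card F := by
    intro h
    obtain ⟨n, hn⟩ := FiniteField.card F p
    rw [hn.2] at h
    have := (Nat.prime_dvd_prime_iff_eq hr hn.1).mp (hr.dvd_of_dvd_pow h)
    exact hrp this
  exact exists_dvd_add_one (Fintype.card F) d m _ r hq2 hr hrq hm hN

end final

end Cfsg.Agent.Lib.Helper44.Elu
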