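import Mathlib
import Cfsg.Agent.Lib.Helper44.Elusive9
import Cfsg.Agent.Lib.Helper13.SympSplit

set_option autoImplicit false
set_option linter.unusedSectionVars false
set_option linter.unusedSimpArgs false
set_option linter.unusedVariables false

/-!
# Singer-type elements of the symplectic group with no invariant polar pair
-/

namespace Cfsg.Agent.Lib.Helper44.Elu

open Matrix Module

section nt

/-- the multiplicative order of `q` modulo an odd prime `r ∣ q^i + 1` is `2j` with `r ∣ q^j + 1` -/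
theorem exists_half_order (q r i : ℕ) [hr : Fact r.Prime] (hr2 : r ≠ 2) (hri : r ∣ q ^ i + 1) :
    ∃ j, 1 ≤ j ∧ j ≤ i ∧ r ∣ q ^ j + 1 ∧ ∀ e, r ∣ q ^ e - 1 → 2 * j ∣ e := by
  have hqi : (q : ZMod r) ^ i = -1 := by
    have : ((q ^ i + 1 : ℕ) : ZMod r) = 0 := (ZMod.natCast_eq_zero_iff _ _).mpr hri
    push_cast at this
    exact eq_neg_of_add_eq_zero_left this
  have hneg : (-1 : ZMod r) ≠ 1 := by
    intro h
    have h2 : ((2 : ℕ) : ZMod r) = 0 := by
      push_cast
      have : (2 : ZMod r) = 1 - (-1) := by ring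
      rw [this, h, sub_self]
    have h3 : r ∣ 2 := (ZMod.natCast_eq_zero_iff _ _).mp h2
    exact hr2 ((Nat.prime_dvd_prime_iff_eq hr.out Nat.prime_two).mp h3)
  have hipos : 0 < i := by
    rcases Nat.eq_zero_or_pos i with h | h
    · rw [h, pow_zero] at hqi
      exact absurd hqi.symm hneg
    · exact h
  set o := orderOf (q : ZMod r) with ho
  have h2i : (q : ZMod r) ^ (2 * i) = 1 := by
    rw [mul_comm, pow_mul, hqi]
    ring
  have ho2i : o ∣ 2 * i := orderOf_dvd_of_pow_eq_one h2i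
  have hoi : ¬ o ∣ i := fun h => hneg (by rw [← hqi]; exact orderOf_dvd_iff_pow_eq_one.mp h)
  have hopos : 0 < o := by
    apply orderOf_pos_iff.mpr
    rw [isOfFinOrder_iff_pow_eq_one]
    exact ⟨2 * i, by omega, h2i⟩
  have hoe : 2 ∣ o := by
    by_contra hodd
    have hcop : Nat.Coprime 2 o := (Nat.Prime.coprime_iff_not_dvd Nat.prime_two).mpr hodd
    exact hoi (hcop.symm.dvd_of_dvd_mul_left ho2i)
  obtain ⟨j, hj⟩ := hoe
  have hjpos : 0 < j := by omega
  refine ⟨j, hjpos, ?_, ?_, ?_⟩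
  · have : j ∣ i := by
      rw [hj] at ho2i
      exact (Nat.mul_dvd_mul_iff_left (by norm_num : 0 < 2)).mp ho2i
    exact Nat.le_of_dvd hipos this
  · have h1 : ((q : ZMod r) ^ j) ^ 2 = 1 := by
      rw [← pow_mul, mul_comm, ← hj]
      exact pow_orderOf_eq_one _
    have h2 : (q : ZMod r) ^ j ≠ 1 := by
      intro h
      have h3 : o ∣ j := orderOf_dvd_of_pow_eq_one h
      have := Nat.le_of_dvd hjpos h3
      omega
    have h3 : (q : ZMod r) ^ j = -1 := by
      rcases sq_eq_one_iff.mp h1 with h | h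
      · exact absurd h h2
      · exact h
    apply (ZMod.natCast_eq_zero_iff _ _).mp
    push_cast
    rw [h3]
    ring
  · intro e he
    rw [← hj]
    apply orderOf_dvd_of_pow_eq_one
    have hq0 : (q : ZMod r) ≠ 0 := by
      intro h
      rw [h, zero_pow (by omega)] at hqi
      exact one_ne_zero (neg_eq_zero.mp hqi.symm)
    have hq1 : 1 ≤ q := by
      rcases Nat.eq_zero_or_pos q with h | h
      · rw [h] at hq0; simp at hq0
      · exact h
    have hqe : 1 ≤ q ^ e := Nat.one_le_pow _ _ hq1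
    have : ((q ^ e - 1 : ℕ) : ZMod r) = 0 := (ZMod.natCast_eq_zero_iff _ _).mpr he
    rw [Nat.cast_sub hqe] at this
    push_cast at this
    exact sub_eq_zero.mp this

end nt

section traceform
variable {F : Type*} [Field F] {K : Type*} [Field K] [Algebra F K] [FiniteDimensional F K]

/-- the sesquilinear-type trace form `(u,v) ↦ Tr(θ u σ(v))` -/
noncomputable def trB (σ : K ≃ₐ[F] K) (θ : K) : LinearMap.BilinForm F K :=
  (Algebra.traceForm F K).compl₁₂ (LinearMap.mulLeft F θ) σ.toLinearMap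

theorem trB_apply (σ : K ≃ₐ[F] K) (θ u v : K) :
    trB σ θ u v = Algebra.trace F K (θ * u * σ v) := by
  unfold trB
  rw [LinearMap.compl₁₂_apply, Algebra.traceForm_apply]
  rfl

theorem trB_alt (σ : K ≃ₐ[F] K) (hσ : ∀ x, σ (σ x) = x) (θ : K) (hθ : σ θ = -θ)
    (h2 : (2 : F) ≠ 0) (u : K) : trB σ θ u u = 0 := by
  rw [trB_apply]
  have h1 : Algebra.trace F K (θ * u * σ u) = Algebra.trace F K (-(θ * u * σ u)) := by
    rw [← Algebra.trace_eq_of_algEquiv σ (θ * u * σ u), map_mul σ, map_mul σ, hσ, hθ]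
    congr 1
    ring
  rw [map_neg] at h1
  have h3 : (2 : F) * Algebra.trace F K (θ * u * σ u) = 0 := by
    rw [two_mul]
    nth_rewrite 1 [h1]
    exact neg_add_cancel _
  rcases mul_eq_zero.mp h3 with h | h
  · exact absurd h h2
  · exact h

theorem trB_nondeg [Algebra.IsSeparable F K] (σ : K ≃ₐ[F] K) (hσ : ∀ x, σ (σ x) = x) (θ : K)
    (hθ : θ ≠ 0) (u : K) (hu : ∀ v, trB σ θ u v = 0) : u = 0 := by
  have hnd := traceForm_nondegenerate F K
  have h1 : ∀ w : K, Algebra.traceForm F K (θ * u) w = 0 := by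
    intro w
    rw [Algebra.traceForm_apply]
    have := hu (σ w)
    rw [trB_apply, hσ] at this
    exact this
  have h2 : θ * u = 0 := hnd.1 _ h1
  rcases mul_eq_zero.mp h2 with h | h
  · exact absurd h hθ
  · exact h

theorem trB_mul (σ : K ≃ₐ[F] K) (θ μ : K) (hμ : μ * σ μ = 1) (u v : K) :
    trB σ θ (μ * u) (μ * v) = trB σ θ u v := by
  rw [trB_apply, trB_apply, map_mul σ]
  congr 1
  calc θ * (μ * u) * (σ μ * σ v) = (μ * σ μ) * (θ * u * σ v) := by ring
    _ = θ * u * σ v := by rw [hμ, one_mul]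

/-- the subalgebra of multipliers of a subspace -/
def stabAlg (S : Submodule F K) : Subalgebra F K where
  carrier := {a | ∀ s ∈ S, a * s ∈ S}
  mul_mem' := by
    intro a b ha hb s hs
    rw [mul_assoc]
    exact ha _ (hb s hs)
  one_mem' := by
    intro s hs
    rwa [one_mul]
  add_mem' := by
    intro a b ha hb s hs
    rw [add_mul]
    exact S.add_mem (ha s hs) (hb s hs)
  zero_mem' := by
    intro s hs
    rw [zero_mul]
    exact S.zero_mem
  algebraMap_mem' := by
    intro c s hs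
    rw [← Algebra.smul_def]
    exact S.smul_mem c hs

/-- irreducibility of a Singer-type element -/
theorem invariant_eq_bot_or_top [Fintype F] (μ : K) (hμ0 : μ ≠ 0) (r j : ℕ) (hμ : orderOf μ = r)
    (hfr : finrank F K = 2 * j)
    (hmin : ∀ e, r ∣ Fintype.card F ^ e - 1 → 2 * j ∣ e)
    (S : Submodule F K) (hS : ∀ s ∈ S, μ * s ∈ S) : S = ⊥ ∨ S = ⊤ := by
  classical
  have hμA : μ ∈ stabAlg S := hS
  have hLtop : IntermediateField.adjoin F {μ} = ⊤ := by
    set L := IntermediateField.adjoin F {μ} with hL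
    have hμL : μ ∈ L := IntermediateField.mem_adjoin_simple_self F μ
    have : Finite K := Module.finite_of_finite F
    have : Fintype L := Fintype.ofFinite L
    have hcard : Fintype.card L = Fintype.card F ^ finrank F L := Module.card_eq_pow_finrank
    have hμL0 : (⟨μ, hμL⟩ : L) ≠ 0 := by
      intro h
      exact hμ0 (congrArg Subtype.val h)
    have h1 := FiniteField.pow_card_sub_one_eq_one (⟨μ, hμL⟩ : L) hμL0
    have h2 : μ ^ (Fintype.card F ^ finrank F L - 1) = 1 := by
      have := congrArg Subtype.val h1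
      rw [hcard] at this
      simpa using this
    have h3 : r ∣ Fintype.card F ^ finrank F L - 1 := by
      rw [← hμ]
      exact orderOf_dvd_of_pow_eq_one h2
    have h4 := hmin _ h3
    have h5 : finrank F L ≤ 2 * j := by
      rw [← hfr]
      exact Submodule.finrank_le L.toSubalgebra.toSubmodule
    have h6 : 0 < finrank F L := Module.finrank_pos
    have h7 : finrank F L = finrank F K := by
      rw [hfr]
      exact le_antisymm h5 (Nat.le_of_dvd h6 h4)
    apply IntermediateField.eq_of_le_of_finrank_eq le_top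
    rw [h7, IntermediateField.finrank_top']
  have hall : ∀ a : K, a ∈ stabAlg S := by
    intro a
    have h1 : a ∈ IntermediateField.adjoin F {μ} := by rw [hLtop]; trivial
    have h2 : a ∈ (IntermediateField.adjoin F {μ}).toSubalgebra := h1
    rw [IntermediateField.adjoin_simple_toSubalgebra_of_isAlgebraic
      (Algebra.IsAlgebraic.isAlgebraic μ)] at h2
    exact (Algebra.adjoin_le (Set.singleton_subset_iff.mpr hμA)) h2
  by_cases hbot : S = ⊥
  · exact Or.inl hbot
  · right
    obtain ⟨s, hs, hs0⟩ := (Submodule.ne_bot_iff S).mp hbot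
    rw [eq_top_iff]
    intro t _
    have := hall (t * s⁻¹) s hs
    rwa [mul_assoc, inv_mul_cancel₀ hs0, mul_one] at this

end traceform

section abstract
variable {F : Type*} [Field F] [Fintype F] {V : Type*} [AddCommGroup V] [Module F V]

/-- an element acting irreducibly on the non-isotropic subspace `E ⊇ range (g - 1)` leaves no pair
of totally isotropic subspaces spanning the space invariant -/
theorem no_invariant_pair (B : V → V → F) (g : V →ₗ[F] V) (E : Submodule F V)
    (hgE : ∀ v, g v - v ∈ E)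
    (hirr : ∀ S : Submodule F V, S ≤ E → (∀ s ∈ S, g s ∈ S) → S = ⊥ ∨ S = E)
    (hE : ∃ a ∈ E, ∃ b ∈ E, B a b ≠ 0)
    (hg1 : ∃ v, g v ≠ v)
    (U W : Submodule F V) (hUW : U ⊔ W = ⊤)
    (hU : ∀ u ∈ U, ∀ v ∈ U, B u v = 0) (hW : ∀ u ∈ W, ∀ v ∈ W, B u v = 0)
    (hgU : ∀ u ∈ U, g u ∈ U) (hgW : ∀ u ∈ W, g u ∈ W) : False := by
  have key : ∀ U' : Submodule F V, (∀ u ∈ U', ∀ v ∈ U', B u v = 0) → (∀ u ∈ U', g u ∈ U') →
      ∀ u ∈ U', g u = u := by
    intro U' hU' hgU' u hu
    let S : Submodule F V := U'.map (g - LinearMap.id)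
    have hSE : S ≤ E := by
      rintro _ ⟨v, hv, rfl⟩
      exact hgE v
    have hSU : S ≤ U' := by
      rintro _ ⟨v, hv, rfl⟩
      exact U'.sub_mem (hgU' v hv) hv
    have hSg : ∀ s ∈ S, g s ∈ S := by
      rintro _ ⟨v, hv, rfl⟩
      refine ⟨g v, hgU' v hv, ?_⟩
      simp [map_sub]
    rcases hirr S hSE hSg with h | h
    · have h1 : g u - u ∈ S := ⟨u, hu, rfl⟩
      rw [h, Submodule.mem_bot] at h1
      exact sub_eq_zero.mp h1
    · exfalso
      obtain ⟨a, ha, b, hb, hab⟩ := hE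
      rw [← h] at ha hb
      exact hab (hU' a (hSU ha) b (hSU hb))
  obtain ⟨v, hv⟩ := hg1
  apply hv
  have hvt : v ∈ U ⊔ W := by rw [hUW]; trivial
  obtain ⟨u, hu, w, hw, rfl⟩ := Submodule.mem_sup.mp hvt
  rw [map_add, key U hU hgU u hu, key W hW hgW w hw]

theorem map_pow_two_mul (X : V ≃ₗ[F] V) (U : Submodule F V)
    (hU : U.map ((X * X : V ≃ₗ[F] V) : V →ₗ[F] V) = U) (n : ℕ) :
    U.map ((X ^ (2 * n) : V ≃ₗ[F] V) : V →ₗ[F] V) = U := by
  induction n with
  | zero => rw [mul_zero, pow_zero]; exact map_one_eq U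
  | succ n ih =>
    have : X ^ (2 * (n + 1)) = X ^ (2 * n) * (X * X) := by
      rw [mul_add, pow_add, mul_one, pow_two]
    rw [this, map_mul_eq, hU, ih]

/-- an element of odd order cannot interchange two distinct subspaces -/
theorem no_swap (X : V ≃ₗ[F] V) (r : ℕ) (hr : Odd r) (hX : X ^ r = 1) (U W : Submodule F V)
    (h1 : U.map (X : V →ₗ[F] V) = W) (h2 : W.map (X : V →ₗ[F] V) = U) : U = W := by
  obtain ⟨n, hn⟩ := hr
  have hW : W.map ((X * X : V ≃ₗ[F] V) : V →ₗ[F] V) = W := by rw [map_mul_eq, h2, h1]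
  have h3 := map_pow_two_mul X W hW n
  have h4 : U.map ((X ^ r : V ≃ₗ[F] V) : V →ₗ[F] V) = W := by
    rw [hn, pow_succ, map_mul_eq, h1, h3]
  rw [hX, map_one_eq] at h4
  exact h4

end abstract

section main
variable {F : Type*} [Field F] [Fintype F]

open Cfsg.Agent.Lib.Helper94 (sympBilin sympBilin_apply sympData_sympBilin)

theorem sympForm_zero_right (k : ℕ) (u : Fin k ⊕ Fin k → F) : Cfsg.sympForm k F u 0 = 0 := by
  rw [← sympBilin_apply, map_zero]

theorem sympForm_zero_left (k : ℕ) (v : Fin k ⊕ Fin k → F) : Cfsg.sympForm k F 0 v = 0 := by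
  rw [← sympBilin_apply, map_zero, LinearMap.zero_apply]

/-- multiplication by a nonzero element as a linear automorphism -/
noncomputable def mulEquiv {K : Type*} [Field K] [Algebra F K] (μ : K) (hμ : μ ≠ 0) : K ≃ₗ[F] K :=
  LinearEquiv.ofLinearMap (LinearMap.mulLeft F μ) (LinearMap.mulLeft F μ⁻¹)
    (LinearMap.ext fun a => by simp [hμ]) (LinearMap.ext fun a => by simp [hμ])

theorem mulEquiv_apply {K : Type*} [Field K] [Algebra F K] (μ : K) (hμ : μ ≠ 0) (a : K) :
    mulEquiv (F := F) μ hμ a = μ * a := rfl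

/-- a symplectic transformation of odd prime order `r ∣ q^j + 1` acting irreducibly on a
nondegenerate `2j`-space and trivially on its complement: it is not scalar and leaves no pair of
totally isotropic subspaces spanning the space invariant. -/
theorem exists_singer_sp {p : ℕ} [hp : Fact p.Prime] [CharP F p] (d : ℕ)
    (hodd : Odd (Fintype.card F))
    (r : ℕ) [hr : Fact r.Prime] (hr2 : r ≠ 2) (j : ℕ) (hj1 : 1 ≤ j) (hjd : j ≤ d)
    (hrj : r ∣ Fintype.card F ^ j + 1)
    (hmin : ∀ e, r ∣ Fintype.card F ^ e - 1 → 2 * j ∣ e) :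
    ∃ X : (Fin d ⊕ Fin d → F) ≃ₗ[F] (Fin d ⊕ Fin d → F),
      (∀ u v, Cfsg.sympForm d F (X u) (X v) = Cfsg.sympForm d F u v) ∧ X ^ r = 1 ∧
      (∀ z : F, ∃ v, X v ≠ z • v) ∧
      ∀ U W : Submodule F (Fin d ⊕ Fin d → F), U ⊔ W = ⊤ →
        (∀ u ∈ U, ∀ v ∈ U, Cfsg.sympForm d F u v = 0) →
        (∀ u ∈ W, ∀ v ∈ W, Cfsg.sympForm d F u v = 0) →
        (∀ u ∈ U, X u ∈ U) → (∀ u ∈ W, X u ∈ W) → False := by
  classical
  have hne : NeZero (2 * j) := ⟨by omega⟩
  let K := FiniteField.Extension F p (2 * j)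
  have hcardK : Nat.card K = Fintype.card F ^ (2 * j) := by
    rw [FiniteField.natCard_extension, Nat.card_eq_fintype_card]
  have hfr : Module.finrank F K = 2 * j := FiniteField.finrank_extension F p (2 * j)
  set Qn := Fintype.card F ^ j with hQn
  have hQpos : 1 ≤ Qn := Nat.one_le_pow _ _ Fintype.card_pos
  have hKQ : Nat.card K = Qn * Qn := by rw [hcardK, hQn, ← pow_add]; congr 1; ring
  have hunits : Nat.card Kˣ = Qn * Qn - 1 := by rw [Nat.card_units, hKQ]
  have hdvd2 : r ∣ Nat.card Kˣ := by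
    rw [hunits]
    have : Qn * Qn - 1 = (Qn + 1) * (Qn - 1) := by
      obtain ⟨m, hm⟩ : ∃ m, Qn = m + 1 := ⟨Qn - 1, by omega⟩
      rw [hm]
      simp only [Nat.add_sub_cancel]
      have : (m + 1) * (m + 1) = (m + 1 + 1) * m + 1 := by ring
      rw [this, Nat.add_sub_cancel]
    rw [this]
    exact Dvd.dvd.mul_right hrj _
  obtain ⟨μ, hμ⟩ := exists_prime_orderOf_dvd_card' (G := Kˣ) r hdvd2
  have : Fintype K := Fintype.ofFinite K
  have hKcard : Fintype.card K = Qn * Qn := by rw [← Nat.card_eq_fintype_card, hKQ]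
  let σh : K →ₐ[F] K := (FiniteField.frobeniusAlgHom F K) ^ j
  have hσh : ∀ x : K, σh x = x ^ Qn := by
    intro x
    show ((FiniteField.frobeniusAlgHom F K) ^ j) x = x ^ Qn
    rw [AlgHom.coe_pow, FiniteField.coe_frobeniusAlgHom, pow_iterate]
  have hσσ : ∀ x : K, σh (σh x) = x := by
    intro x
    rw [hσh, hσh, ← pow_mul, ← hKcard, FiniteField.pow_card]
  let σ : K ≃ₐ[F] K := AlgEquiv.ofAlgHom σh σh (AlgHom.ext hσσ) (AlgHom.ext hσσ)
  have hσ : ∀ x : K, σ x = x ^ Qn := hσh
  have hσ2 : ∀ x : K, σ (σ x) = x := hσσ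
  have hμr : (μ : K) ^ r = 1 := by
    have := pow_orderOf_eq_one μ
    rw [hμ] at this
    rw [← Units.val_pow_eq_pow_val, this, Units.val_one]
  have hμQ : (μ : K) * σ (μ : K) = 1 := by
    rw [hσ, ← pow_succ']
    obtain ⟨c, hc⟩ := hrj
    rw [hc, pow_mul, hμr, one_pow]
  have hμ0 : (μ : K) ≠ 0 := μ.ne_zero
  have hμ1 : (μ : K) ≠ 1 := by
    intro h
    have h1 : μ = 1 := Units.ext h
    rw [h1, orderOf_one] at hμ
    exact hr.out.ne_one hμ.symm
  have hμμ : (μ : K) * (μ : K) ≠ 1 := by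
    intro h
    have h2 : orderOf μ ∣ 2 := by
      apply orderOf_dvd_of_pow_eq_one
      apply Units.ext
      rw [Units.val_pow_eq_pow_val, sq, h, Units.val_one]
    rw [hμ] at h2
    exact hr2 ((Nat.prime_dvd_prime_iff_eq hr.out Nat.prime_two).mp h2)
  have hσμ : σ (μ : K) ≠ (μ : K) := by
    intro h
    rw [h] at hμQ
    exact hμμ hμQ
  have hordK : orderOf (μ : K) = r := by rw [← hμ]; exact orderOf_units
  set θ : K := (μ : K) - σ (μ : K) with hθdef
  have hθ0 : θ ≠ 0 := sub_ne_zero.mpr (Ne.symm hσμ)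
  have hθσ : σ θ = -θ := by rw [hθdef, map_sub, hσ2]; ring
  have h2F : (2 : F) ≠ 0 := by
    intro h
    have h1 : ((2 : ℕ) : F) = 0 := by exact_mod_cast h
    have h3 : p ∣ 2 := (CharP.cast_eq_zero_iff F p 2).mp h1
    have h4 : p = 2 := (Nat.prime_dvd_prime_iff_eq hp.out Nat.prime_two).mp h3
    obtain ⟨n, hn⟩ := FiniteField.card F p
    rw [hn.2, h4] at hodd
    exact (Nat.not_even_iff_odd.mpr hodd) (Nat.even_pow.mpr ⟨even_two, n.ne_zero⟩)
  -- the ambient space
  let B' : LinearMap.BilinForm F (K × (Fin (d - j) ⊕ Fin (d - j) → F)) :=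
    (trB σ θ).compl₁₂ (LinearMap.fst F K (Fin (d - j) ⊕ Fin (d - j) → F))
        (LinearMap.fst F K (Fin (d - j) ⊕ Fin (d - j) → F)) +
      (sympBilin (d - j) F).compl₁₂ (LinearMap.snd F K (Fin (d - j) ⊕ Fin (d - j) → F))
        (LinearMap.snd F K (Fin (d - j) ⊕ Fin (d - j) → F))
  have hB' : ∀ p p' : K × (Fin (d - j) ⊕ Fin (d - j) → F),
      B' p p' = trB σ θ p.1 p'.1 + Cfsg.sympForm (d - j) F p.2 p'.2 := by
    intro p p'
    simp only [B', LinearMap.add_apply, LinearMap.compl₁₂_apply, sympBilin_apply,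
      LinearMap.fst_apply, LinearMap.snd_apply]
  have hA : B'.IsAlt := by
    intro p
    rw [hB', trB_alt σ hσ2 θ hθσ h2F, ← sympBilin_apply, (sympData_sympBilin (d - j)).alt, add_zero]
  have hnd : ∀ u, (∀ v, B' u v = 0) → u = 0 := by
    intro u hu
    have h1 : u.1 = 0 := trB_nondeg σ hσ2 θ hθ0 u.1 (fun v => by
      have := hu (v, 0)
      rw [hB'] at this
      simpa [sympForm_zero_right] using this)
    have h2 : u.2 = 0 := (sympData_sympBilin (d - j)).nondeg u.2 (fun m => by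
      have := hu (0, m)
      rw [hB'] at this
      rw [sympBilin_apply]
      simpa using this)
    exact Prod.ext h1 h2
  have hfin : finrank F (K × (Fin (d - j) ⊕ Fin (d - j) → F)) = 2 * d := by
    rw [Module.finrank_prod, hfr, Module.finrank_fintype_fun_eq_card, Fintype.card_sum,
      Fintype.card_fin]
    omega
  obtain ⟨ι, hι⟩ := Cfsg.Agent.Lib.Helper13.exists_symp_coords B' hA hnd d hfin
  let gK : (K × (Fin (d - j) ⊕ Fin (d - j) → F)) ≃ₗ[F] (K × (Fin (d - j) ⊕ Fin (d - j) → F)) :=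
    (mulEquiv (F := F) (μ : K) hμ0).prodCongr (LinearEquiv.refl F (Fin (d - j) ⊕ Fin (d - j) → F))
  have hgK : ∀ p : K × (Fin (d - j) ⊕ Fin (d - j) → F), gK p = ((μ : K) * p.1, p.2) := fun p => rfl
  let X : (Fin d ⊕ Fin d → F) ≃ₗ[F] (Fin d ⊕ Fin d → F) := ι.trans (gK.trans ι.symm)
  have hX : ∀ v, ι (X v) = ((μ : K) * (ι v).1, (ι v).2) := by
    intro v
    show ι (ι.symm (gK (ι v))) = _
    rw [LinearEquiv.apply_symm_apply, hgK]
  have hXpow : ∀ n : ℕ, ∀ v, ι ((X ^ n) v) = ((μ : K) ^ n * (ι v).1, (ι v).2) := by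
    intro n
    induction n with
    | zero => intro v; simp
    | succ n ih =>
      intro v
      rw [pow_succ, LinearEquiv.mul_apply, ih, hX]
      simp only []
      rw [← mul_assoc, ← pow_succ]
  have hform : ∀ u v, Cfsg.sympForm d F u v = B' (ι u) (ι v) := fun u v => (hι u v).symm
  refine ⟨X, ?_, ?_, ?_, ?_⟩
  · intro u v
    rw [hform, hform, hB', hB', hX, hX]
    simp only []
    rw [trB_mul σ θ _ hμQ]
  · apply LinearEquiv.ext
    intro v
    apply ι.injective
    rw [hXpow, hμr, one_mul]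
    rfl
  · intro z
    by_contra hcon
    push Not at hcon
    have h1 := hcon (ι.symm (1, 0))
    have h2 := congrArg ι h1
    rw [hX, LinearEquiv.apply_symm_apply, map_smul, LinearEquiv.apply_symm_apply] at h2
    have h3 : (μ : K) = algebraMap F K z := by
      have := congrArg Prod.fst h2
      simpa [Algebra.smul_def] using this
    have h4 : σ (μ : K) = μ := by rw [h3, σ.commutes]
    exact hσμ h4
  · intro U W hUW hU hW hXU hXW
    let E : Submodule F (Fin d ⊕ Fin d → F) :=
      Submodule.comap (ι : (Fin d ⊕ Fin d → F) →ₗ[F] K × (Fin (d - j) ⊕ Fin (d - j) → F))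
        (LinearMap.ker (LinearMap.snd F K (Fin (d - j) ⊕ Fin (d - j) → F)))
    have hE : ∀ v, v ∈ E ↔ (ι v).2 = 0 := fun v => Iff.rfl
    have hrepr : ∀ v ∈ E, v = ι.symm ((ι v).1, 0) := by
      intro v hv
      apply ι.injective
      rw [LinearEquiv.apply_symm_apply]
      exact Prod.ext rfl ((hE v).mp hv)
    refine no_invariant_pair (Cfsg.sympForm d F)
      (X : (Fin d ⊕ Fin d → F) →ₗ[F] (Fin d ⊕ Fin d → F)) E ?_ ?_ ?_ ?_ U W hUW hU hW hXU hXW
    · intro v
      rw [hE, map_sub, Prod.snd_sub]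
      show (ι (X v)).2 - (ι v).2 = 0
      rw [hX, sub_self]
    · intro S hSE hSX
      let SK : Submodule F K :=
        S.comap ((ι.symm : (K × (Fin (d - j) ⊕ Fin (d - j) → F)) →ₗ[F] (Fin d ⊕ Fin d → F)).comp
          (LinearMap.inl F K (Fin (d - j) ⊕ Fin (d - j) → F)))
      have hSK : ∀ a, a ∈ SK ↔ ι.symm (a, 0) ∈ S := fun a => Iff.rfl
      have hinv : ∀ a ∈ SK, (μ : K) * a ∈ SK := by
        intro a ha
        rw [hSK] at ha ⊢
        have h0 := hSX _ ha
        have h1 : X (ι.symm (a, 0)) = ι.symm ((μ : K) * a, 0) := by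
          apply ι.injective
          rw [hX, LinearEquiv.apply_symm_apply, LinearEquiv.apply_symm_apply]
        rw [← h1]
        exact h0
      rcases invariant_eq_bot_or_top (F := F) (μ : K) hμ0 r j hordK hfr hmin SK hinv with h | h
      · left
        rw [Submodule.eq_bot_iff]
        intro s hs
        have h1 := hrepr s (hSE hs)
        have h2 : (ι s).1 ∈ SK := by rw [hSK, ← h1]; exact hs
        rw [h, Submodule.mem_bot] at h2
        rw [h1, h2]
        exact map_zero ι.symm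
      · right
        apply le_antisymm hSE
        intro v hv
        rw [hrepr v hv, ← hSK, h]
        trivial
    · have hex : ∃ v, trB σ θ 1 v ≠ 0 := by
        by_contra hcon
        push Not at hcon
        exact one_ne_zero (trB_nondeg σ hσ2 θ hθ0 1 hcon)
      obtain ⟨b, hb⟩ := hex
      refine ⟨ι.symm (1, 0), ?_, ι.symm (b, 0), ?_, ?_⟩
      · rw [hE, LinearEquiv.apply_symm_apply]
      · rw [hE, LinearEquiv.apply_symm_apply]
      · rw [hform, LinearEquiv.apply_symm_apply, LinearEquiv.apply_symm_apply, hB']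
        simp only []
        rw [sympForm_zero_right, add_zero]
        exact hb
    · refine ⟨ι.symm (1, 0), ?_⟩
      intro h
      have h2 := congrArg ι h
      have h3 : ι (X (ι.symm (1, 0))) = ι (ι.symm (1, 0)) := h2
      rw [hX, LinearEquiv.apply_symm_apply] at h3
      have h4 := congrArg Prod.fst h3
      simp only [mul_one] at h4
      exact hμ1 h4

end main

end Cfsg.Agent.Lib.Helper44.Elu
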