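import Mathlib
import Cfsg.Agent.Lib.Helper44.Elusive7
import Cfsg.Agent.S5986

set_option autoImplicit false
set_option linter.unusedSectionVars false

/-!
# Types of invariant quadratic forms of fixed-point-free symplectic elements; explicit elements
-/

namespace Cfsg.Agent.Lib.Helper44.Elu

open Matrix Module

section types
variable {ι : Type} [Fintype ι] [DecidableEq ι] {F : Type*} [Field F] [Fintype F] [CharP F 2]

/-- the plus-type predicate -/
def PlusT (d : ℕ) (Q : QuadraticForm F (ι → F)) : Prop :=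
  ∃ U : Submodule F (ι → F), finrank F U = d ∧ ∀ u ∈ U, Q u = 0

/-- the form `v ↦ Q (g⁻¹ v)` -/
noncomputable def pullQF (Q : QuadraticForm F (ι → F)) (g : GL ι F) : QuadraticForm F (ι → F) :=
  Q.comp (Matrix.toLin' ((g⁻¹ : GL ι F) : Matrix ι ι F))

theorem pullQF_apply (Q : QuadraticForm F (ι → F)) (g : GL ι F) (v : ι → F) :
    pullQF Q g v = Q (((g⁻¹ : GL ι F) : Matrix ι ι F) *ᵥ v) := by
  unfold pullQF
  rw [QuadraticMap.comp_apply, Matrix.toLin'_apply]

theorem inv_mulVec_mulVec (g : GL ι F) (v : ι → F) :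
    ((g⁻¹ : GL ι F) : Matrix ι ι F) *ᵥ ((g : Matrix ι ι F) *ᵥ v) = v := by
  rw [Matrix.mulVec_mulVec, ← Units.val_mul, inv_mul_cancel, Units.val_one, Matrix.one_mulVec]

theorem mulVec_inv_mulVec (g : GL ι F) (v : ι → F) :
    (g : Matrix ι ι F) *ᵥ (((g⁻¹ : GL ι F) : Matrix ι ι F) *ᵥ v) = v := by
  rw [Matrix.mulVec_mulVec, ← Units.val_mul, mul_inv_cancel, Units.val_one, Matrix.one_mulVec]

theorem plusT_pullQF (d : ℕ) (Q : QuadraticForm F (ι → F)) (g : GL ι F) :
    PlusT d (pullQF Q g) ↔ PlusT d Q := by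
  constructor
  · rintro ⟨U, hU, hU0⟩
    refine ⟨U.map ((Cfsg.Agent.Lib.Helper36.glLinEquiv ι F g⁻¹ : (ι → F) ≃ₗ[F] (ι → F)) :
      (ι → F) →ₗ[F] (ι → F)), ?_, ?_⟩
    · rw [LinearEquiv.finrank_map_eq, hU]
    · rintro _ ⟨u, hu, rfl⟩
      have := hU0 u hu
      rw [pullQF_apply] at this
      exact this
  · rintro ⟨U, hU, hU0⟩
    refine ⟨U.map ((Cfsg.Agent.Lib.Helper36.glLinEquiv ι F g : (ι → F) ≃ₗ[F] (ι → F)) :
      (ι → F) →ₗ[F] (ι → F)), ?_, ?_⟩
    · rw [LinearEquiv.finrank_map_eq, hU]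
    · rintro _ ⟨u, hu, rfl⟩
      rw [pullQF_apply]
      show Q (((g⁻¹ : GL ι F) : Matrix ι ι F) *ᵥ ((g : Matrix ι ι F) *ᵥ u)) = 0
      rw [inv_mulVec_mulVec]
      exact hU0 u hu

/-- If a conjugate `g⁻¹ x g` of a fixed-point-free `x` preserves `Q`, and `x` preserves `Q'` with
the same polar form, then `Q` and `Q'` have the same type. -/
theorem type_eq_of_conj (d : ℕ) (Q Q' : QuadraticForm F (ι → F))
    (hQ' : (QuadraticMap.polarBilin Q').Nondegenerate)
    (hpol : ∀ u v, QuadraticMap.polar (⇑Q') u v = QuadraticMap.polar (⇑Q) u v)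
    (x g : GL ι F)
    (hg : ∀ u v, QuadraticMap.polar (⇑Q) ((g : Matrix ι ι F) *ᵥ u) ((g : Matrix ι ι F) *ᵥ v) =
      QuadraticMap.polar (⇑Q) u v)
    (hconj : ∀ v, Q (((g⁻¹ * x * g : GL ι F) : Matrix ι ι F) *ᵥ v) = Q v)
    (hfpf : ∀ v, (x : Matrix ι ι F) *ᵥ v = v → v = 0)
    (hxQ' : ∀ v, Q' ((x : Matrix ι ι F) *ᵥ v) = Q' v) :
    PlusT d Q' ↔ PlusT d Q := by
  have hginv : ∀ u v, QuadraticMap.polar (⇑Q) (((g⁻¹ : GL ι F) : Matrix ι ι F) *ᵥ u)
      (((g⁻¹ : GL ι F) : Matrix ι ι F) *ᵥ v) = QuadraticMap.polar (⇑Q) u v := by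
    intro u v
    have := hg (((g⁻¹ : GL ι F) : Matrix ι ι F) *ᵥ u) (((g⁻¹ : GL ι F) : Matrix ι ι F) *ᵥ v)
    rw [mulVec_inv_mulVec, mulVec_inv_mulVec] at this
    exact this.symm
  have h1 : pullQF Q g = Q' := by
    apply eq_of_fpf_invariant Q' (pullQF Q g) hQ' ?_ (x : Matrix ι ι F) hfpf hxQ' ?_
    · intro u v
      rw [hpol]
      unfold QuadraticMap.polar
      rw [pullQF_apply, pullQF_apply, pullQF_apply, Matrix.mulVec_add]
      exact hginv u v
    · intro v
      rw [pullQF_apply, pullQF_apply]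
      have := hconj (((g⁻¹ : GL ι F) : Matrix ι ι F) *ᵥ v)
      rw [Units.val_mul, Units.val_mul, ← Matrix.mulVec_mulVec, ← Matrix.mulVec_mulVec,
        mulVec_inv_mulVec] at this
      exact this
  rw [← h1]
  exact plusT_pullQF d Q g

end types

section explicit
variable {F : Type*} [Field F] [Fintype F] [CharP F 2]

theorem plusT_hypQF (d : ℕ) : PlusT d (hypQF d F) := by
  let pr : (Fin d ⊕ Fin d → F) →ₗ[F] (Fin d → F) := LinearMap.funLeft F F Sum.inr
  have hpr : Function.Surjective pr :=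
    LinearMap.funLeft_surjective_of_injective F F _ Sum.inr_injective
  have hker : finrank F (LinearMap.ker pr) = d := by
    have h1 := LinearMap.finrank_range_add_finrank_ker pr
    rw [LinearMap.range_eq_top.mpr hpr, finrank_top, Module.finrank_fintype_fun_eq_card,
      Module.finrank_fintype_fun_eq_card, Fintype.card_sum, Fintype.card_fin] at h1
    omega
  refine ⟨LinearMap.ker pr, hker, ?_⟩
  intro w hw
  rw [hypQF_apply, quadFormPlus_eq_dot]
  have : w ∘ Sum.inr = 0 := LinearMap.mem_ker.mp hw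
  rw [this, dotProduct_zero]

theorem hypQF_polar_symp (d : ℕ) (u v : Fin d ⊕ Fin d → F) :
    QuadraticMap.polar (⇑(hypQF d F)) u v = Cfsg.sympForm d F u v := by
  rw [hypQF_polar, sympForm_eq_hypBil]

/-- the Levi element of a fixed-point-free matrix is fixed-point-free -/
theorem levi_fpf (d : ℕ) (g : GL (Fin d) F)
    (hgu : IsUnit ((g : Matrix (Fin d) (Fin d) F) - 1)) (v : Fin d ⊕ Fin d → F)
    (hv : ((leviGL g : GL (Fin d ⊕ Fin d) F) : Matrix (Fin d ⊕ Fin d) (Fin d ⊕ Fin d) F) *ᵥ v = v) :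
    v = 0 := by
  change (leviMat g).mulVec v = v at hv
  rw [leviMat_mulVec] at hv
  have h1 : (g : Matrix (Fin d) (Fin d) F) *ᵥ (v ∘ Sum.inl) = v ∘ Sum.inl := by
    have := congrArg (fun u : Fin d ⊕ Fin d → F => u ∘ Sum.inl) hv
    simpa using this
  have h2 : ((g⁻¹ : GL (Fin d) F) : Matrix (Fin d) (Fin d) F)ᵀ *ᵥ (v ∘ Sum.inr) = v ∘ Sum.inr := by
    have := congrArg (fun u : Fin d ⊕ Fin d → F => u ∘ Sum.inr) hv
    simpa using this
  have hinj : Function.Injective ((g : Matrix (Fin d) (Fin d) F) - 1).mulVec :=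
    Matrix.mulVec_injective_iff_isUnit.mpr hgu
  have hinj' : Function.Injective ((g : Matrix (Fin d) (Fin d) F) - 1).vecMul :=
    Matrix.vecMul_injective_iff_isUnit.mpr hgu
  have h3 : v ∘ Sum.inl = 0 := by
    apply hinj
    rw [Matrix.sub_mulVec, Matrix.one_mulVec, h1, sub_self, Matrix.mulVec_zero]
  have h4 : v ∘ Sum.inr = 0 := by
    apply hinj'
    show (v ∘ Sum.inr) ᵥ* ((g : Matrix (Fin d) (Fin d) F) - 1) = 0 ᵥ* ((g : Matrix (Fin d) (Fin d) F) - 1)
    rw [Matrix.zero_vecMul, Matrix.vecMul_sub, Matrix.vecMul_one]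
    rw [Matrix.mulVec_transpose] at h2
    have h5 := congrArg (fun u => Matrix.vecMul u (g : Matrix (Fin d) (Fin d) F)) h2
    simp only [Matrix.vecMul_vecMul, ← Units.val_mul, inv_mul_cancel, Units.val_one,
      Matrix.vecMul_one] at h5
    rw [← h5, sub_self]
  funext i
  rcases i with i | i
  · exact congrFun h3 i
  · exact congrFun h4 i

/-- a minus-type form with the standard polar form -/
theorem exists_minus_form (d : ℕ) (hd : 2 ≤ d) :
    ∃ Q' : QuadraticForm F (Fin d ⊕ Fin d → F),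
      (∀ u v, QuadraticMap.polar (⇑Q') u v = Cfsg.sympForm d F u v) ∧ ¬ PlusT d Q' := by
  have hcard : Fintype.card (Fin d ⊕ Fin d) = 2 * d := by
    rw [Fintype.card_sum, Fintype.card_fin]; ring
  obtain ⟨Q', h1, -, h3⟩ := exists_invariant_of_type d hd hcard (hypQF d F) hypQF_nondeg
    (1 : Matrix (Fin d ⊕ Fin d) (Fin d ⊕ Fin d) F) (one_mul 1)
    (fun u v => by rw [Matrix.one_mulVec, Matrix.one_mulVec]) False
    (fun _ hrk => by
      rw [sub_self, Matrix.rank_zero] at hrk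
      omega)
  refine ⟨Q', fun u v => by rw [h1, hypQF_polar_symp], ?_⟩
  intro hp
  exact h3.mp hp

end explicit

end Cfsg.Agent.Lib.Helper44.Elu
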