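import Cfsg.Agent.Lib.Helper91.F4Out.F4Defs
import Cfsg.Agent.Lib.Helper18.F4M

/-!
# PROJECT F4OUT (helper91), modules F4OUT-[C-XA], F4OUT-[C-XB]: the fundamental root subgroups of `²F₄`
-/

set_option autoImplicit false
set_option linter.unusedSectionVars false

namespace Cfsg.Agent.Lib.Helper44.F4Out

open Cfsg Cfsg.Lie Cfsg.Agent.Lib.Helper18 Cfsg.Agent.Lib.Helper18.F4T Cfsg.Agent.Lib.Helper91.TwOut
open Cfsg.Agent.Lib.Helper91.ReeF4 Cfsg.Agent.Lib.Helper91.SigAbs Cfsg.Agent.Lib.Helper91.ExcAut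
open Cfsg.Agent.Lib.Helper61.ReeF4 Cfsg.Agent.Lib.Helper91.F4Out

universe u

variable (K : Type u) [Field K] [Fintype K] [CharP K 2] (m : ℕ) (hq : ∀ t : K, t ^ (2 * 2 ^ m * 2 ^ m) = t)

theorem negBl_zero : negBl [0] = [Blk.pair 33 24] := by decide

theorem negBl_one : negBl [1] = [Blk.quad 27 25 28 30] := by decide

theorem zero_mem_f4wl : [0] ∈ f4wl := by decide

theorem one_mem_f4wl : [1] ∈ f4wl := by decide

theorem mem24 : (24 : ℕ) ∈ paramsL (negBl [0]) := by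
  rw [negBl_zero]; decide

theorem mem25 : (25 : ℕ) ∈ paramsL (negBl [1]) := by
  rw [negBl_one]; decide

theorem mem28 : (28 : ℕ) ∈ paramsL (negBl [1]) := by
  rw [negBl_one]; decide

omit [Fintype K] [CharP K 2] in
/-- the cell of the word `[0]` -/
theorem cellU_zero (e : ℕ) (he : e ≠ 0) (a : {s // s ∈ paramsL (negBl [0])} → K) :
    cellU K e [0] a = pairW e (a ⟨24, mem24⟩) := by
  obtain ⟨hok, hnd, hl, hall, hmem⟩ := perm_facts (cellBl [0]) (cellBl_perm [0])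
  rw [cellU_eq K e he, pairW_eq]
  have hB : Blk.pair 33 24 ∈ cellBl [0] := by
    unfold cellBl
    rw [negBl_zero]
    exact List.mem_append_right _ (List.mem_singleton.2 rfl)
  have h33 := cfL_of_mem e (cellBl [0]) hnd (extL (paramsL (negBl [0])) a) (Blk.pair 33 24) hB 33
    (by simp [Blk.roots])
  have h24 := cfL_of_mem e (cellBl [0]) hnd (extL (paramsL (negBl [0])) a) (Blk.pair 33 24) hB 24
    (by simp [Blk.roots])
  have hr : rootsL (negBl [0]) = [33, 24] := by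
    rw [negBl_zero]; rfl
  rw [hr, prodL_cons, prodL_cons, prodL_nil, mul_one, h33, h24]
  simp only [Blk.cf]
  rw [extL_of_mem _ _ _ mem24]
  simp

include hq in
/-- **F4OUT-[C-XA]** -/
theorem mem_XF4_zero_iff (g : ↥(GF4 K m)) : g ∈ XF4 K m 0 ↔ ∃ t, g = xa K m t := by
  rw [mem_XF4]
  show (g : GL chevF4.Idx K) ∈ Subgroup.closure (UnegSet chevF4 K (nW hD4 chevData_F4.{u} (wordJ [0]))) ↔ _
  constructor
  · intro hg
    have hg' : (g : GL chevF4.Idx K) ∈
        Subgroup.closure (UnegSet chevF4 K (nW hD4 chevData_F4.{u} (wordJ [0]) * 1)) := by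
      rw [mul_one]; exact hg
    obtain ⟨a, ha⟩ := exists_cellU K m hq [0] zero_mem_f4wl 1 (one_mem _) _ hg' g.2
    refine ⟨a ⟨24, mem24⟩, Subtype.ext ?_⟩
    rw [ha, cellU_zero K _ (two_pow_ne_zero m), coe_xa]
  · rintro ⟨t, rfl⟩
    rw [coe_xa, ← cellU_zero K (2 ^ m) (two_pow_ne_zero m) (fun _ => t)]
    have := cellU_mem_closure K (2 ^ m) (two_pow_ne_zero m) [0] zero_mem_f4wl 1 (one_mem _)
      (fun _ => t)
    rwa [mul_one] at this

theorem wordJ_lt_rank (cw : List ℕ) : ∀ i ∈ wordJ cw, i < chevF4.rank := wordJ_lt cw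

theorem sF4_conj_xa (t : K) : sF4 K m 0 * xa K m t * (sF4 K m 0)⁻¹ = ya K m t := by
  apply Subtype.ext
  show nW hD4 chevData_F4.{u} (wordJ [0]) * wordG hD4 (f4PairWord (2 ^ m) 33 24 t) *
      (nW hD4 chevData_F4.{u} (wordJ [0]))⁻¹ = wordG hD4 (f4PairWord (2 ^ m) 14 23 t)
  rw [nW_conj_wordG (wordJ [0]) (wordJ_lt [0])]
  · have h1 : wordRootF f4tabs (wordJ [0]) 33 = 14 := by decide
    have h2 : wordRootF f4tabs (wordJ [0]) 24 = 23 := by decide
    simp only [f4PairWord, List.map_cons, List.map_nil, h1, h2]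
  · intro a ha
    simp only [f4PairWord, List.mem_cons, List.not_mem_nil, or_false] at ha
    rcases ha with rfl | rfl
    · show (33 : ℕ) < chevF4.nroots
      decide
    · show (24 : ℕ) < chevF4.nroots
      decide

theorem sF4_inv_conj_ya (t : K) : (sF4 K m 0)⁻¹ * ya K m t * sF4 K m 0 = xa K m t := by
  rw [← sF4_conj_xa]
  group

include hq in
theorem mem_YF4_zero_iff (g : ↥(GF4 K m)) : g ∈ YF4 K m 0 ↔ ∃ t, g = ya K m t := by
  rw [mem_YF4, mem_XF4_zero_iff K m hq]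
  constructor
  · rintro ⟨t, ht⟩
    refine ⟨t, ?_⟩
    rw [← sF4_conj_xa, ← ht]
    group
  · rintro ⟨t, rfl⟩
    exact ⟨t, sF4_inv_conj_ya K m t⟩

/-! ### [C-XB] -/

omit [Fintype K] [CharP K 2] in
theorem quadW_eq' (e : ℕ) (t υ : K) :
    quadW e t υ = xG hD4 27 (t ^ e) * (xG hD4 25 t * (xG hD4 28 (t ^ (e + 1) + υ) *
      xG hD4 30 (υ ^ (2 * e)))) := by
  unfold quadW b2ClassWord
  rw [wordG_cons, wordG_cons, wordG_cons, wordG_cons, wordG_nil, mul_one]

omit [Fintype K] in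
/-- the cell of the word `[1]` -/
theorem cellU_one (e : ℕ) (he : e ≠ 0) (a : {s // s ∈ paramsL (negBl [1])} → K) :
    cellU K e [1] a = quadW e (a ⟨25, mem25⟩) (a ⟨28, mem28⟩ + a ⟨25, mem25⟩ ^ (e + 1)) := by
  obtain ⟨hok, hnd, hl, hall, hmem⟩ := perm_facts (cellBl [1]) (cellBl_perm [1])
  rw [cellU_eq K e he, quadW_eq']
  have hB : Blk.quad 27 25 28 30 ∈ cellBl [1] := by
    unfold cellBl
    rw [negBl_one]
    exact List.mem_append_right _ (List.mem_singleton.2 rfl)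
  have h27 := cfL_of_mem e (cellBl [1]) hnd (extL (paramsL (negBl [1])) a) (Blk.quad 27 25 28 30) hB 27
    (by simp [Blk.roots])
  have h25 := cfL_of_mem e (cellBl [1]) hnd (extL (paramsL (negBl [1])) a) (Blk.quad 27 25 28 30) hB 25
    (by simp [Blk.roots])
  have h28 := cfL_of_mem e (cellBl [1]) hnd (extL (paramsL (negBl [1])) a) (Blk.quad 27 25 28 30) hB 28
    (by simp [Blk.roots])
  have h30 := cfL_of_mem e (cellBl [1]) hnd (extL (paramsL (negBl [1])) a) (Blk.quad 27 25 28 30) hB 30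
    (by simp [Blk.roots])
  have hr : rootsL (negBl [1]) = [27, 25, 28, 30] := by
    rw [negBl_one]; rfl
  rw [hr, prodL_cons, prodL_cons, prodL_cons, prodL_cons, prodL_nil, mul_one, h27, h25, h28, h30]
  simp only [Blk.cf]
  rw [extL_of_mem _ _ _ mem25, extL_of_mem _ _ _ mem28]
  have hchar : a ⟨25, mem25⟩ ^ (e + 1) + (a ⟨28, mem28⟩ + a ⟨25, mem25⟩ ^ (e + 1)) = a ⟨28, mem28⟩ := by
    rw [add_comm (a ⟨28, mem28⟩), ← add_assoc, CharTwo.add_self_eq_zero, zero_add]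
  rw [hchar]
  simp

include hq in
/-- **F4OUT-[C-XB]** -/
theorem mem_XF4_one_iff (g : ↥(GF4 K m)) : g ∈ XF4 K m 1 ↔ ∃ t υ, g = xb K m t υ := by
  rw [mem_XF4]
  show (g : GL chevF4.Idx K) ∈ Subgroup.closure (UnegSet chevF4 K (nW hD4 chevData_F4.{u} (wordJ [1]))) ↔ _
  constructor
  · intro hg
    have hg' : (g : GL chevF4.Idx K) ∈
        Subgroup.closure (UnegSet chevF4 K (nW hD4 chevData_F4.{u} (wordJ [1]) * 1)) := by
      rw [mul_one]; exact hg
    obtain ⟨a, ha⟩ := exists_cellU K m hq [1] one_mem_f4wl 1 (one_mem _) _ hg' g.2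
    refine ⟨a ⟨25, mem25⟩, a ⟨28, mem28⟩ + a ⟨25, mem25⟩ ^ (2 ^ m + 1), Subtype.ext ?_⟩
    rw [ha, cellU_one K _ (two_pow_ne_zero m), coe_xb]
  · rintro ⟨t, υ, rfl⟩
    have hcell := cellU_one K (2 ^ m) (two_pow_ne_zero m)
      (fun s => if s.1 = 25 then t else t ^ (2 ^ m + 1) + υ)
    simp only [if_true] at hcell
    have h28 : ((28 : ℕ) = 25) = False := by simp
    simp only [h28, if_false] at hcell
    have hchar : t ^ (2 ^ m + 1) + υ + t ^ (2 ^ m + 1) = υ := by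
      rw [add_comm (t ^ (2 ^ m + 1)) υ, add_assoc, CharTwo.add_self_eq_zero, add_zero]
    rw [hchar] at hcell
    rw [coe_xb, ← hcell]
    have := cellU_mem_closure K (2 ^ m) (two_pow_ne_zero m) [1] one_mem_f4wl 1 (one_mem _)
      (fun s => if s.1 = 25 then t else t ^ (2 ^ m + 1) + υ)
    rwa [mul_one] at this

theorem sF4_conj_xb (t υ : K) : sF4 K m 1 * xb K m t υ * (sF4 K m 1)⁻¹ = yb K m t υ := by
  apply Subtype.ext
  show nW hD4 chevData_F4.{u} (wordJ [1]) * wordG hD4 (b2ClassWord (2 ^ m) 27 25 28 30 t υ) *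
      (nW hD4 chevData_F4.{u} (wordJ [1]))⁻¹ = wordG hD4 (b2ClassWord (2 ^ m) 20 22 19 17 t υ)
  rw [nW_conj_wordG (wordJ [1]) (wordJ_lt [1])]
  · have h1 : wordRootF f4tabs (wordJ [1]) 27 = 20 := by decide
    have h2 : wordRootF f4tabs (wordJ [1]) 25 = 22 := by decide
    have h3 : wordRootF f4tabs (wordJ [1]) 28 = 19 := by decide
    have h4 : wordRootF f4tabs (wordJ [1]) 30 = 17 := by decide
    simp only [b2ClassWord, List.map_cons, List.map_nil, h1, h2, h3, h4]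
  · intro a ha
    simp only [b2ClassWord, List.mem_cons, List.not_mem_nil, or_false] at ha
    rcases ha with rfl | rfl | rfl | rfl
    · show (27 : ℕ) < chevF4.nroots
      decide
    · show (25 : ℕ) < chevF4.nroots
      decide
    · show (28 : ℕ) < chevF4.nroots
      decide
    · show (30 : ℕ) < chevF4.nroots
      decide

theorem sF4_inv_conj_yb (t υ : K) : (sF4 K m 1)⁻¹ * yb K m t υ * sF4 K m 1 = xb K m t υ := by
  rw [← sF4_conj_xb]
  group

include hq in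
theorem mem_YF4_one_iff (g : ↥(GF4 K m)) : g ∈ YF4 K m 1 ↔ ∃ t υ, g = yb K m t υ := by
  rw [mem_YF4, mem_XF4_one_iff K m hq]
  constructor
  · rintro ⟨t, υ, ht⟩
    refine ⟨t, υ, ?_⟩
    rw [← sF4_conj_xb, ← ht]
    group
  · rintro ⟨t, υ, rfl⟩
    exact ⟨t, υ, sF4_inv_conj_yb K m t υ⟩

end Cfsg.Agent.Lib.Helper44.F4Out
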