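import Mathlib
import Cfsg.Agent.Lib.Helper44.GraphInv3
import Cfsg.Agent.Lib.Helper43.PSLnGraphField

set_option autoImplicit false
set_option linter.unusedSectionVars false

/-!
# Splitting of an `Inndiag(PSL_n)`-class into `PSL_n`-classes

The `Inndiag`-class of an automorphism `x` of `PSL_n(F)` is the union of `|Fˣ : D|` classes under
`Inn`, where `D` is the group of the determinants of the matrices `k` with `pslDiag k` centralising
`x`.
-/

namespace Cfsg.Agent.Lib.Helper44.GraphInv

open scoped MatrixGroups Matrix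
open Matrix Cfsg.Agent.Lib.Helper43

variable {n : ℕ} {F : Type*} [Field F]

/-- the determinants of the matrices inducing elements of the centraliser of `x` -/
noncomputable def detCent (x : MulAut (Matrix.ProjectiveSpecialLinearGroup (Fin n) F)) :
    Subgroup Fˣ :=
  ((Subgroup.centralizer {x}).comap (pslDiag : GL (Fin n) F →* _)).map
    Matrix.GeneralLinearGroup.det

theorem mem_detCent_iff (x : MulAut (Matrix.ProjectiveSpecialLinearGroup (Fin n) F)) (d : Fˣ) :
    d ∈ detCent x ↔ ∃ k : GL (Fin n) F,
      (pslDiag k : MulAut (Matrix.ProjectiveSpecialLinearGroup (Fin n) F)) ∈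
        Subgroup.centralizer {x} ∧ Matrix.GeneralLinearGroup.det k = d := by
  unfold detCent
  rw [Subgroup.mem_map]
  constructor
  · rintro ⟨k, hk, rfl⟩
    exact ⟨k, Subgroup.mem_comap.mp hk, rfl⟩
  · rintro ⟨k, hk, rfl⟩
    exact ⟨k, Subgroup.mem_comap.mpr hk, rfl⟩

theorem isConjUnder_inn_iff_detCent
    (x : MulAut (Matrix.ProjectiveSpecialLinearGroup (Fin n) F)) (g g' : GL (Fin n) F) :
    (QuotientGroup.mk' (detCent x)) (Matrix.GeneralLinearGroup.det g) =
        (QuotientGroup.mk' (detCent x)) (Matrix.GeneralLinearGroup.det g') ↔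
      Cfsg.IsConjUnder (Cfsg.Inn (Matrix.ProjectiveSpecialLinearGroup (Fin n) F))
        (pslDiag g * x * (pslDiag g)⁻¹) (pslDiag g' * x * (pslDiag g')⁻¹) := by
  rw [QuotientGroup.mk'_apply, QuotientGroup.mk'_apply, QuotientGroup.eq, mem_detCent_iff]
  constructor
  · rintro ⟨k, hk, hdet⟩
    have hκ : (pslDiag k : MulAut (Matrix.ProjectiveSpecialLinearGroup (Fin n) F)) * x =
        x * pslDiag k := by
      rw [← Subgroup.mem_centralizer_singleton_iff]
      exact hk
    set s₀ : GL (Fin n) F := g' * k⁻¹ * g⁻¹ with hs₀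
    have hdet1 : Matrix.GeneralLinearGroup.det s₀ = 1 := by
      rw [hs₀, map_mul, map_mul, map_inv, map_inv, hdet]
      rw [_root_.mul_inv_rev, inv_inv]
      have : ∀ a b : Fˣ, b * (b⁻¹ * a) * a⁻¹ = 1 := by intro a b; group
      exact this _ _
    let s : Matrix.SpecialLinearGroup (Fin n) F :=
      ⟨(s₀ : Matrix (Fin n) (Fin n) F), congrArg Units.val hdet1⟩
    have hs : Matrix.SpecialLinearGroup.toGL s = s₀ := by
      apply Units.ext
      rfl
    refine ⟨pslDiag (Matrix.SpecialLinearGroup.toGL s), (mem_inn_iff _).mpr ⟨s, rfl⟩, ?_⟩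
    rw [hs, hs₀, map_mul, map_mul, map_inv, map_inv]
    set a := (pslDiag g : MulAut (Matrix.ProjectiveSpecialLinearGroup (Fin n) F))
    set b := (pslDiag g' : MulAut (Matrix.ProjectiveSpecialLinearGroup (Fin n) F))
    set κ := (pslDiag k : MulAut (Matrix.ProjectiveSpecialLinearGroup (Fin n) F))
    have h1 : κ⁻¹ * x * κ = x := by
      rw [mul_assoc, ← hκ, ← mul_assoc, inv_mul_cancel, one_mul]
    calc b * x * b⁻¹ = b * (κ⁻¹ * x * κ) * b⁻¹ := by rw [h1]
      _ = b * κ⁻¹ * a⁻¹ * (a * x * a⁻¹) * (b * κ⁻¹ * a⁻¹)⁻¹ := by group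
  · rintro ⟨t, ht, heq⟩
    obtain ⟨s, rfl⟩ := (mem_inn_iff t).mp ht
    set k : GL (Fin n) F := g'⁻¹ * Matrix.SpecialLinearGroup.toGL s * g with hk
    have hκ : (pslDiag k : MulAut (Matrix.ProjectiveSpecialLinearGroup (Fin n) F)) ∈
        Subgroup.centralizer {x} := by
      rw [Subgroup.mem_centralizer_singleton_iff, hk, map_mul, map_mul, map_inv]
      set a := (pslDiag g : MulAut (Matrix.ProjectiveSpecialLinearGroup (Fin n) F))
      set b := (pslDiag g' : MulAut (Matrix.ProjectiveSpecialLinearGroup (Fin n) F))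
      set t := (pslDiag (Matrix.SpecialLinearGroup.toGL s) :
        MulAut (Matrix.ProjectiveSpecialLinearGroup (Fin n) F))
      calc b⁻¹ * t * a * x = b⁻¹ * (t * (a * x * a⁻¹) * t⁻¹) * t * a := by group
        _ = b⁻¹ * (b * x * b⁻¹) * t * a := by rw [← heq]
        _ = x * (b⁻¹ * t * a) := by group
    refine ⟨k⁻¹, ?_, ?_⟩
    · rw [map_inv]
      exact Subgroup.inv_mem _ hκ
    · rw [map_inv, hk, map_mul, map_mul, map_inv, det_toGL, mul_one, _root_.mul_inv_rev, inv_inv]

/-- the `Inndiag`-class of `x` is the union of `|Fˣ : detCent x|` classes under `PSL_n` -/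
theorem splitClassCount_eq_index (hn : 1 ≤ n)
    (x : MulAut (Matrix.ProjectiveSpecialLinearGroup (Fin n) F)) :
    Cfsg.splitClassCount (Cfsg.inndiagPSL n F)
      (Cfsg.Inn (Matrix.ProjectiveSpecialLinearGroup (Fin n) F)) x = (detCent x).index := by
  rw [splitClassCount_eq_card (Cfsg.inndiagPSL n F)
    (Cfsg.Inn (Matrix.ProjectiveSpecialLinearGroup (Fin n) F)) x
    (pslDiag : GL (Fin n) F →* _) inndiagPSL_eq_range.symm
    (fun g : GL (Fin n) F => (QuotientGroup.mk' (detCent x)) (Matrix.GeneralLinearGroup.det g))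
    (by
      intro y
      obtain ⟨c, rfl⟩ := QuotientGroup.mk_surjective y
      obtain ⟨g, rfl⟩ := det_surjective (F := F) hn c
      exact ⟨g, rfl⟩)
    (isConjUnder_inn_iff_detCent x)]
  rw [Subgroup.index_eq_card]

/-- the determinant group of the graph automorphism `gr g` -/
theorem mem_detCent_gr_iff (hn : 2 ≤ n) (g : GL (Fin n) F) (d : Fˣ) :
    d ∈ detCent (gr g) ↔ ∃ (k : GL (Fin n) F) (c : Fˣ),
      (k : Matrix (Fin n) (Fin n) F) * (g : Matrix (Fin n) (Fin n) F) *
        (k : Matrix (Fin n) (Fin n) F)ᵀ = (c : F) • (g : Matrix (Fin n) (Fin n) F) ∧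
      Matrix.GeneralLinearGroup.det k = d := by
  rw [mem_detCent_iff]
  constructor
  · rintro ⟨k, hk, hd⟩
    obtain ⟨c, hc⟩ := (pslDiag_mem_centralizer_gr_iff hn k g).mp hk
    exact ⟨k, c, hc, hd⟩
  · rintro ⟨k, c, hc, hd⟩
    exact ⟨k, (pslDiag_mem_centralizer_gr_iff hn k g).mpr ⟨c, hc⟩, hd⟩

/-- the `n`-th powers are determinants of centralising matrices (scalar matrices) -/
theorem pow_mem_detCent (x : MulAut (Matrix.ProjectiveSpecialLinearGroup (Fin n) F)) (z : Fˣ) :
    z ^ n ∈ detCent x := by
  rw [mem_detCent_iff]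
  refine ⟨Matrix.GeneralLinearGroup.scalar (Fin n) z, ?_, ?_⟩
  · have h1 : (pslDiag (Matrix.GeneralLinearGroup.scalar (Fin n) z) :
        MulAut (Matrix.ProjectiveSpecialLinearGroup (Fin n) F)) = 1 := by
      by_cases hn : 2 ≤ n
      · have := (pslDiag_eq_iff hn (Matrix.GeneralLinearGroup.scalar (Fin n) z) 1).mpr
          ⟨z, by rw [mul_one]⟩
        rw [this, map_one]
      · -- `n ≤ 1`: the group `PSL_n` is trivial
        apply MulEquiv.ext
        intro y
        have : Subsingleton (Matrix.ProjectiveSpecialLinearGroup (Fin n) F) := by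
          have : Subsingleton (Matrix.SpecialLinearGroup (Fin n) F) := by
            constructor
            intro a b
            apply Subtype.ext
            have hsub : Subsingleton (Fin n) ∨ IsEmpty (Fin n) := by
              rcases Nat.lt_or_ge n 1 with h | h
              · right
                have : n = 0 := by omega
                subst this
                infer_instance
              · left
                have : n = 1 := by omega
                subst this
                infer_instance
            rcases hsub with h | h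
            · ext i j
              have hij : i = j := Subsingleton.elim i j
              subst hij
              have ha := a.2
              have hb := b.2
              rw [Matrix.det_eq_elem_of_subsingleton _ i] at ha hb
              rw [ha, hb]
            · ext i j
              exact (h.false i).elim
          exact Quotient.instSubsingletonQuotient _
        exact Subsingleton.elim _ _
    rw [h1]
    exact Subgroup.one_mem _
  · apply Units.ext
    rw [Matrix.GeneralLinearGroup.val_det_apply, Matrix.GeneralLinearGroup.coe_scalar,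
      Matrix.scalar_apply, Matrix.det_diagonal, Finset.prod_const, Finset.card_univ,
      Fintype.card_fin, Units.val_pow_eq_pow_val]

end Cfsg.Agent.Lib.Helper44.GraphInv
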