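import Mathlib
import Cfsg.Agent.Lib.Helper44.GraphInv7
import Cfsg.Agent.Lib.Helper44.GraphInv4
import Cfsg.Agent.Lib.Helper44.Refl

set_option autoImplicit false
set_option linter.unusedSectionVars false

/-!
# The determinant group of the centraliser of an involutory graph automorphism of `PSL_n(F)`
-/

namespace Cfsg.Agent.Lib.Helper44.GraphInv

open scoped MatrixGroups Matrix
open Matrix Cfsg.Agent.Lib.Helper43 Cfsg.Agent.Lib.Helper44

section general

variable {n : ℕ} {F : Type*} [Field F]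

/-- the determinant group of `gr g` in terms of the similitudes of the form `bf g` -/
theorem mem_detCent_gr_iff' (hn : 2 ≤ n) (g : GL (Fin n) F) (d : Fˣ) :
    d ∈ detCent (gr g) ↔ ∃ (h : GL (Fin n) F) (c : Fˣ),
      (∀ u v, bf (g : Matrix (Fin n) (Fin n) F) ((h : Matrix (Fin n) (Fin n) F) *ᵥ u)
        ((h : Matrix (Fin n) (Fin n) F) *ᵥ v) = (c : F) * bf (g : Matrix (Fin n) (Fin n) F) u v) ∧
      Matrix.GeneralLinearGroup.det h = d := by
  rw [mem_detCent_gr_iff hn]
  constructor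
  · rintro ⟨k, c, hc, hd⟩
    refine ⟨(glInvT k)⁻¹, c, ?_, ?_⟩
    · intro u v
      rw [bf_mulVec, glInvT_inv_coe, Matrix.transpose_transpose, hc, bf_smul]
    · apply Units.ext
      rw [← hd, Matrix.GeneralLinearGroup.val_det_apply, Matrix.GeneralLinearGroup.val_det_apply,
        glInvT_inv_coe, Matrix.det_transpose]
  · rintro ⟨h, c, hc, hd⟩
    refine ⟨(glInvT h)⁻¹, c, ?_, ?_⟩
    · rw [glInvT_inv_coe, Matrix.transpose_transpose]
      apply bf_ext
      intro u v
      rw [← bf_mulVec, hc, bf_smul]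
    · apply Units.ext
      rw [← hd, Matrix.GeneralLinearGroup.val_det_apply, Matrix.GeneralLinearGroup.val_det_apply,
        glInvT_inv_coe, Matrix.det_transpose]

/-- the square of the determinant of a similitude is the `n`-th power of the multiplier -/
theorem det_sq_of_sim (g h : GL (Fin n) F) (c : Fˣ)
    (hc : ∀ u v, bf (g : Matrix (Fin n) (Fin n) F) ((h : Matrix (Fin n) (Fin n) F) *ᵥ u)
      ((h : Matrix (Fin n) (Fin n) F) *ᵥ v) = (c : F) * bf (g : Matrix (Fin n) (Fin n) F) u v) :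
    Matrix.GeneralLinearGroup.det h ^ 2 = c ^ n := by
  have h1 : (h : Matrix (Fin n) (Fin n) F)ᵀ * (g : Matrix (Fin n) (Fin n) F) *
      (h : Matrix (Fin n) (Fin n) F) = (c : F) • (g : Matrix (Fin n) (Fin n) F) := by
    apply bf_ext
    intro u v
    rw [← bf_mulVec, hc, bf_smul]
  have h2 := congrArg Matrix.det h1
  rw [Matrix.det_mul, Matrix.det_mul, Matrix.det_transpose, Matrix.det_smul, Fintype.card_fin]
    at h2
  have hg : (g : Matrix (Fin n) (Fin n) F).det ≠ 0 :=
    ((Matrix.isUnit_iff_isUnit_det _).mp g.isUnit).ne_zero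
  apply Units.ext
  rw [Units.val_pow_eq_pow_val, Units.val_pow_eq_pow_val, Matrix.GeneralLinearGroup.val_det_apply]
  apply mul_right_cancel₀ hg
  linear_combination h2

theorem exists_pow_of_sq_eq_odd {G : Type*} [CommGroup G] (D c : G) (t : ℕ)
    (h : D ^ 2 = c ^ (2 * t + 1)) : ∃ s : G, D = s ^ (2 * t + 1) := by
  refine ⟨D * (c ^ t)⁻¹, ?_⟩
  have h1 : D ^ (2 * t + 1) = c ^ ((2 * t + 1) * t) * D := by
    rw [pow_succ, pow_mul, h, ← pow_mul]
  rw [mul_pow, inv_pow, h1, ← pow_mul, mul_comm t (2 * t + 1)]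
  exact (mul_inv_cancel_comm _ _).symm

/-- odd dimension: the determinant of a similitude is an `n`-th power -/
theorem detCent_gr_le_of_odd (hn2 : 2 ≤ n) (hn : Odd n) (g : GL (Fin n) F) (d : Fˣ)
    (hd : d ∈ detCent (gr g)) : ∃ s : Fˣ, d = s ^ n := by
  obtain ⟨h, c, hc, rfl⟩ := (mem_detCent_gr_iff' hn2 g d).mp hd
  obtain ⟨t, rfl⟩ := hn
  exact exists_pow_of_sq_eq_odd _ c t (det_sq_of_sim g h c hc)

/-- characteristic two: the determinant of a similitude is an `n`-th power -/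
theorem detCent_gr_le_of_char_two [Finite F] [CharP F 2] (hn2 : 2 ≤ n) (g : GL (Fin n) F)
    (d : Fˣ) (hd : d ∈ detCent (gr g)) : ∃ s : Fˣ, d = s ^ n := by
  obtain ⟨h, c, hc, rfl⟩ := (mem_detCent_gr_iff' hn2 g d).mp hd
  have h1 := det_sq_of_sim g h c hc
  have hsurj : Function.Surjective (frobenius F 2) :=
    Finite.injective_iff_surjective.mp (frobenius_inj F 2)
  obtain ⟨s, hs⟩ := hsurj (c : F)
  rw [frobenius_def] at hs
  have hs0 : s ≠ 0 := by
    rintro rfl
    rw [zero_pow (by norm_num)] at hs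
    exact c.ne_zero hs.symm
  refine ⟨Units.mk0 s hs0, ?_⟩
  apply Units.ext
  rw [Units.val_pow_eq_pow_val, Units.val_mk0]
  apply frobenius_inj F 2
  rw [frobenius_def, frobenius_def]
  have h2 := congrArg Units.val h1
  rw [Units.val_pow_eq_pow_val, Units.val_pow_eq_pow_val] at h2
  rw [h2, ← hs, ← pow_mul, ← pow_mul, mul_comm]

/-- if all determinants of similitudes are `n`-th powers, the determinant group is the group of
`n`-th powers -/
theorem detCent_gr_eq_range (g : GL (Fin n) F)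
    (h : ∀ d ∈ detCent (gr g), ∃ s : Fˣ, d = s ^ n) :
    detCent (gr g) = (powMonoidHom n : Fˣ →* Fˣ).range := by
  ext d
  constructor
  · intro hd
    obtain ⟨s, rfl⟩ := h d hd
    exact ⟨s, rfl⟩
  · rintro ⟨s, rfl⟩
    exact pow_mem_detCent _ s

theorem index_range_pow [Fintype F] (k : ℕ) :
    (powMonoidHom k : Fˣ →* Fˣ).range.index = Nat.gcd k (Fintype.card F - 1) := by
  classical
  rw [IsCyclic.index_powMonoidHom_range, Nat.card_units, Nat.card_eq_fintype_card, Nat.gcd_comm]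

end general

section alt

variable {n m : ℕ} {F : Type*} [Field F]

/-- the diagonal matrix `diag(1, c)` -/
def dmat (m : ℕ) (c : F) : Matrix (Fin m ⊕ Fin m) (Fin m ⊕ Fin m) F :=
  Matrix.fromBlocks 1 0 0 (c • (1 : Matrix (Fin m) (Fin m) F))

theorem dmat_mul_J (c : F) :
    dmat m c * Matrix.J (Fin m) F * (dmat m c)ᵀ = c • Matrix.J (Fin m) F := by
  unfold dmat Matrix.J
  rw [Matrix.fromBlocks_transpose, Matrix.fromBlocks_multiply, Matrix.fromBlocks_multiply,
    Matrix.fromBlocks_smul]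
  simp

theorem det_dmat (c : F) : (dmat m c).det = c ^ m := by
  unfold dmat
  rw [Matrix.det_fromBlocks_zero₂₁, Matrix.det_one, one_mul, Matrix.det_smul, Matrix.det_one,
    mul_one, Fintype.card_fin]

/-- a similitude of the standard alternating form with multiplier `c` has determinant `c ^ m` -/
theorem det_of_sim_J (k : Matrix (Fin m ⊕ Fin m) (Fin m ⊕ Fin m) F) (c : F) (hc0 : c ≠ 0)
    (h : k * Matrix.J (Fin m) F * kᵀ = c • Matrix.J (Fin m) F) : k.det = c ^ m := by
  have hA : dmat m c⁻¹ * k ∈ Matrix.symplecticGroup (Fin m) F := by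
    rw [_root_.SymplecticGroup.mem_iff, Matrix.transpose_mul]
    calc dmat m c⁻¹ * k * Matrix.J (Fin m) F * (kᵀ * (dmat m c⁻¹)ᵀ)
        = dmat m c⁻¹ * (k * Matrix.J (Fin m) F * kᵀ) * (dmat m c⁻¹)ᵀ := by
          simp only [Matrix.mul_assoc]
      _ = c • (dmat m c⁻¹ * Matrix.J (Fin m) F * (dmat m c⁻¹)ᵀ) := by
          rw [h, Matrix.mul_smul, Matrix.smul_mul]
      _ = Matrix.J (Fin m) F := by
          rw [dmat_mul_J, smul_smul, mul_inv_cancel₀ hc0, one_smul]
  have h1 := _root_.SymplecticGroup.det_eq_one hA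
  rw [Matrix.det_mul, det_dmat, inv_pow] at h1
  have h3 : k.det = c ^ m * ((c ^ m)⁻¹ * k.det) := by
    rw [← mul_assoc, mul_inv_cancel₀ (pow_ne_zero _ hc0), one_mul]
  rw [h3, h1, mul_one]

/-- the determinant group of the standard symplectic-type graph automorphism is the group of
`m`-th powers -/
theorem detCent_altGL (hn2 : 2 ≤ n) (e : Fin m ⊕ Fin m ≃ Fin n) :
    detCent (gr (altGL (F := F) e)) = (powMonoidHom m : Fˣ →* Fˣ).range := by
  ext d
  rw [mem_detCent_gr_iff hn2]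
  constructor
  · rintro ⟨k, c, hc, rfl⟩
    refine ⟨c, ?_⟩
    rw [altGL_coe] at hc
    have h1 := congrArg (fun M : Matrix (Fin n) (Fin n) F => M.submatrix e e) hc
    beta_reduce at h1
    have hsm : ∀ (a : F) (M : Matrix (Fin n) (Fin n) F),
        (a • M).submatrix e e = a • M.submatrix e e := fun _ _ => rfl
    rw [← Matrix.submatrix_mul_equiv _ _ e e e, ← Matrix.submatrix_mul_equiv _ _ e e e,
      ← Matrix.transpose_submatrix, hsm, Matrix.submatrix_submatrix] at h1
    have h2 : (e.symm ∘ e) = id := by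
      funext i
      simp
    rw [h2, Matrix.submatrix_id_id] at h1
    have h3 := det_of_sim_J _ (c : F) c.ne_zero h1
    rw [Matrix.det_submatrix_equiv_self] at h3
    apply Units.ext
    rw [powMonoidHom_apply, Units.val_pow_eq_pow_val, Matrix.GeneralLinearGroup.val_det_apply, h3]
  · rintro ⟨c, rfl⟩
    have hdet : ((dmat m (c : F)).submatrix e.symm e.symm).det = (c : F) ^ m := by
      rw [Matrix.det_submatrix_equiv_self, det_dmat]
    refine ⟨Matrix.GeneralLinearGroup.mkOfDetNeZero ((dmat m (c : F)).submatrix e.symm e.symm)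
      (by rw [hdet]; exact pow_ne_zero _ c.ne_zero), c, ?_, ?_⟩
    · rw [altGL_coe]
      show (dmat m (c : F)).submatrix e.symm e.symm *
        (Matrix.J (Fin m) F).submatrix e.symm e.symm *
          ((dmat m (c : F)).submatrix e.symm e.symm)ᵀ = _
      rw [Matrix.transpose_submatrix, Matrix.submatrix_mul_equiv, Matrix.submatrix_mul_equiv,
        dmat_mul_J]
      rfl
    · apply Units.ext
      rw [Matrix.GeneralLinearGroup.val_det_apply, powMonoidHom_apply, Units.val_pow_eq_pow_val]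
      exact hdet

end alt

section orth

variable {n : ℕ} {F : Type*} [Field F]

/-- a reflection gives a centralising matrix of determinant `-1` -/
theorem neg_one_mem_detCent (hn2 : 2 ≤ n) (h2 : (2 : F) ≠ 0) (g : GL (Fin n) F)
    (hg : (g : Matrix (Fin n) (Fin n) F)ᵀ = (g : Matrix (Fin n) (Fin n) F)) :
    (-1 : Fˣ) ∈ detCent (gr g) := by
  classical
  set Q := symQ (g : Matrix (Fin n) (Fin n) F) with hQdef
  have hQ := symQ_nondeg h2 g hg
  obtain ⟨v, hv⟩ : ∃ v, Q v ≠ 0 := by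
    by_contra hcon
    push Not at hcon
    have hne : (Pi.single (⟨0, by omega⟩ : Fin n) (1 : F) : Fin n → F) ≠ 0 := by
      intro h
      have := congrFun h (⟨0, by omega⟩ : Fin n)
      simp at this
    apply hne
    apply hQ.1
    intro w
    show QuadraticMap.polar ⇑Q _ w = 0
    unfold QuadraticMap.polar
    rw [hcon, hcon, hcon]
    ring
  rw [mem_detCent_gr_iff' hn2]
  refine ⟨reflGL Q v hv, 1, ?_, ?_⟩
  · intro u w
    rw [Units.val_one, one_mul, ← polar_symQ h2 _ hg, ← polar_symQ h2 _ hg]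
    exact Cfsg.Agent.Lib.Helper13.polar_mulVec_of_isometry Q _
      (fun x => Cfsg.Agent.Lib.Helper13.reflectionMatrix_isometry Q v hv x) u w
  · apply Units.ext
    rw [Matrix.GeneralLinearGroup.val_det_apply]
    show (Cfsg.reflectionMatrix (⇑Q) v).det = _
    rw [Cfsg.Agent.Lib.Helper13.reflectionMatrix_det Q v hv]
    simp

/-- in even dimension over a finite field of odd order every scalar is the multiplier of a
similitude of a symmetric form -/
theorem exists_sim_mult [Fintype F] (h2 : (2 : F) ≠ 0) (he : Even n) (g : GL (Fin n) F)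
    (hg : (g : Matrix (Fin n) (Fin n) F)ᵀ = (g : Matrix (Fin n) (Fin n) F)) (s : Fˣ) :
    ∃ h : GL (Fin n) F, ∀ u v, bf (g : Matrix (Fin n) (Fin n) F)
      ((h : Matrix (Fin n) (Fin n) F) *ᵥ u) ((h : Matrix (Fin n) (Fin n) F) *ᵥ v) =
        (s : F) * bf (g : Matrix (Fin n) (Fin n) F) u v := by
  classical
  set Q := symQ (g : Matrix (Fin n) (Fin n) F) with hQdef
  have hQ := symQ_nondeg h2 g hg
  have hs0 : ((s : F))⁻¹ ≠ 0 := inv_ne_zero s.ne_zero
  have hQ' := smul_nondeg ((s : F))⁻¹ hs0 Q hQ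
  obtain ⟨t, ht⟩ := he
  have hsq : IsSquare ((gramStd ⇑Q).det * (gramStd ⇑(((s : F))⁻¹ • Q)).det) := by
    rw [gramStd_smul, Matrix.det_smul, Fintype.card_fin]
    have hpow : ((s : F))⁻¹ ^ n = ((s : F))⁻¹ ^ t * ((s : F))⁻¹ ^ t := by
      rw [ht, pow_add]
    rw [hpow]
    exact ⟨((s : F))⁻¹ ^ t * (gramStd ⇑Q).det, by ring⟩
  obtain ⟨L, hL⟩ := (Cfsg.Agent.S2623.result h2 Q (((s : F))⁻¹ • Q) hQ hQ').mpr hsq
  refine ⟨glOfEquiv L, ?_⟩
  intro u v
  rw [glOfEquiv_mulVec, glOfEquiv_mulVec, ← polar_symQ h2 _ hg, ← polar_symQ h2 _ hg]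
  have h3 := Cfsg.Agent.S2623.polar_isometry Q (((s : F))⁻¹ • Q)
    (L : (Fin n → F) →ₗ[F] (Fin n → F)) hL u v
  have h4 : QuadraticMap.polar ⇑(((s : F))⁻¹ • Q) (L u) (L v) =
      ((s : F))⁻¹ * QuadraticMap.polar ⇑Q (L u) (L v) := by
    show QuadraticMap.polar (((s : F))⁻¹ • ⇑Q) _ _ = _
    rw [QuadraticMap.polar_smul, smul_eq_mul]
  show QuadraticMap.polar ⇑Q (L u) (L v) = (s : F) * QuadraticMap.polar ⇑Q u v
  have h5 : QuadraticMap.polar ⇑Q u v = ((s : F))⁻¹ * QuadraticMap.polar ⇑Q (L u) (L v) := by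
    rw [← h4]
    exact h3.symm
  rw [h5, ← mul_assoc, mul_inv_cancel₀ s.ne_zero, one_mul]

/-- even dimension, odd `q`, symmetric matrix: the determinant group consists of the square roots
of the `n`-th powers -/
theorem detCent_gr_eq_comap [Fintype F] (hn2 : 2 ≤ n) (h2 : (2 : F) ≠ 0) (he : Even n)
    (g : GL (Fin n) F)
    (hg : (g : Matrix (Fin n) (Fin n) F)ᵀ = (g : Matrix (Fin n) (Fin n) F)) :
    detCent (gr g) = (powMonoidHom n : Fˣ →* Fˣ).range.comap (powMonoidHom 2 : Fˣ →* Fˣ) := by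
  ext d
  rw [Subgroup.mem_comap, powMonoidHom_apply]
  constructor
  · intro hd
    obtain ⟨h, c, hc, rfl⟩ := (mem_detCent_gr_iff' hn2 g d).mp hd
    exact ⟨c, (det_sq_of_sim g h c hc).symm⟩
  · rintro ⟨s, hs⟩
    rw [powMonoidHom_apply] at hs
    obtain ⟨h₁, hh₁⟩ := exists_sim_mult h2 he g hg s
    have hd₁ : Matrix.GeneralLinearGroup.det h₁ ∈ detCent (gr g) :=
      (mem_detCent_gr_iff' hn2 g _).mpr ⟨h₁, s, hh₁, rfl⟩
    have h3 : Matrix.GeneralLinearGroup.det h₁ ^ 2 = d ^ 2 := by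
      rw [det_sq_of_sim g h₁ s hh₁, hs]
    have h4 : ((Matrix.GeneralLinearGroup.det h₁ : Fˣ) : F) ^ 2 = (d : F) ^ 2 := by
      rw [← Units.val_pow_eq_pow_val, ← Units.val_pow_eq_pow_val, h3]
    rcases sq_eq_sq_iff_eq_or_eq_neg.mp h4 with h5 | h5
    · have : d = Matrix.GeneralLinearGroup.det h₁ := Units.ext h5.symm
      rw [this]
      exact hd₁
    · have : d = -1 * Matrix.GeneralLinearGroup.det h₁ := by
        apply Units.ext
        rw [Units.val_mul, Units.val_neg, Units.val_one, h5]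
        ring
      rw [this]
      exact Subgroup.mul_mem _ (neg_one_mem_detCent hn2 h2 g hg) hd₁

theorem index_comap_sq [Fintype F] (h2 : (2 : F) ≠ 0) (he : Even n) :
    ((powMonoidHom n : Fˣ →* Fˣ).range.comap (powMonoidHom 2 : Fˣ →* Fˣ)).index =
      Nat.gcd n (Fintype.card F - 1) / 2 := by
  classical
  rw [Subgroup.index_comap]
  have hle : (powMonoidHom n : Fˣ →* Fˣ).range ≤ (powMonoidHom 2 : Fˣ →* Fˣ).range := by
    rintro _ ⟨s, rfl⟩
    obtain ⟨t, ht⟩ := he
    refine ⟨s ^ t, ?_⟩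
    rw [powMonoidHom_apply, powMonoidHom_apply, ← pow_mul, ht]
    congr 1
    ring
  have h1 := Subgroup.relIndex_mul_index hle
  rw [index_range_pow, index_range_pow] at h1
  have hodd : Fintype.card F % 2 = 1 :=
    FiniteField.odd_card_of_char_ne_two (ringChar_ne_two_of h2)
  have h3 : Nat.gcd 2 (Fintype.card F - 1) = 2 := by
    apply Nat.gcd_eq_left
    omega
  rw [h3] at h1
  rw [← h1, Nat.mul_div_cancel _ (by norm_num : 0 < 2)]

end orth

end Cfsg.Agent.Lib.Helper44.GraphInv
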