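import Mathlib
import Cfsg.Agent.Lib.Helper44.Elusive7
import Cfsg.Agent.Lib.Helper36.SimilarityChar
import Cfsg.Agent.Lib.Helper13.PgoCard
import Cfsg.Agent.Lib.Helper13.Symp

set_option autoImplicit false
set_option linter.unusedSectionVars false

/-!
# `PGO^±_{2m}(q)` is not isomorphic to `PGSp_{2m}(q)` for odd `q`

The order of `PGSp_{2m}(q)` is divisible by `q^(m²)`; the order of `PGO(Q)` divides that of `O(Q)`.
-/

namespace Cfsg.Agent.Lib.Helper44.GraphInv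

open scoped MatrixGroups Matrix
open Matrix

section card

variable {ι : Type} [Fintype ι] [DecidableEq ι] {F : Type*} [Field F]

theorem card_scalars [Nonempty ι] :
    Nat.card ↥(Cfsg.Geo.scalars ι F) = Nat.card Fˣ := by
  unfold Cfsg.Geo.scalars
  have hinj : Function.Injective
      (Units.map (Matrix.scalar ι : F →+* Matrix ι ι F).toMonoidHom) := by
    intro a b hab
    have h1 := congrArg (fun g : (Matrix ι ι F)ˣ => (g : Matrix ι ι F)) hab
    obtain ⟨i⟩ := ‹Nonempty ι›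
    have h2 := congrFun (congrFun h1 i) i
    simp [Matrix.scalar_apply] at h2
    exact Units.ext h2
  exact (Nat.card_congr (MonoidHom.ofInjective hinj).toEquiv).symm

theorem card_projQuot_mul [Nonempty ι] (H : Subgroup (GL ι F))
    (hH : Cfsg.Geo.scalars ι F ≤ H) :
    Nat.card (Cfsg.projQuot H) * Nat.card Fˣ = Nat.card ↥H := by
  rw [← card_scalars (ι := ι), ← Nat.card_congr (Subgroup.subgroupOfEquivOfLe hH).toEquiv]
  exact (Subgroup.card_eq_card_quotient_mul_card_subgroup _).symm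

theorem exists_ne_zero_of_nondeg [Nonempty ι] (Q : QuadraticForm F (ι → F))
    (hQ : (QuadraticMap.polarBilin Q).Nondegenerate) : ∃ v, Q v ≠ 0 := by
  classical
  by_contra hcon
  push Not at hcon
  obtain ⟨i⟩ := ‹Nonempty ι›
  have hne : (Pi.single i (1 : F) : ι → F) ≠ 0 := by
    intro h
    have := congrFun h i
    simp at this
  apply hne
  apply hQ.1
  intro w
  show QuadraticMap.polar ⇑Q _ w = 0
  unfold QuadraticMap.polar
  rw [hcon, hcon, hcon]
  ring

/-- the order of `PGO(Q)` divides the order of `O(Q)` -/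
theorem card_PGO_dvd [Fintype F] [Nonempty ι] (Q : QuadraticForm F (ι → F)) (v₀ : ι → F)
    (hv₀ : Q v₀ ≠ 0) :
    Nat.card (Cfsg.PGO F ⇑Q) ∣ Nat.card ↥(Cfsg.isometryGroup F ⇑Q) := by
  classical
  have hsc : Cfsg.Geo.scalars ι F ≤ Cfsg.Geo.quadSimilarityGroup ⇑Q := by
    rintro _ ⟨u, rfl⟩
    exact Cfsg.Agent.Lib.Helper13.scalar_mem_similarity Q u
  have h1 := card_projQuot_mul (Cfsg.Geo.quadSimilarityGroup ⇑Q) hsc
  set μ := Cfsg.Agent.Lib.Helper36.mult Q v₀ hv₀ with hμ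
  have hker1 : μ.ker =
      (Cfsg.isometryGroup F (⇑Q)).subgroupOf (Cfsg.Geo.quadSimilarityGroup (⇑Q)) := by
    ext g
    rw [MonoidHom.mem_ker, Subgroup.mem_subgroupOf,
      Cfsg.Agent.Lib.Helper36.mem_isometryGroup_iff']
    constructor
    · intro h v
      rw [Cfsg.Agent.Lib.Helper36.mult_spec Q v₀ hv₀ g v, h, Units.val_one, one_mul]
    · intro h
      apply Cfsg.Agent.Lib.Helper36.mult_eq
      intro v
      rw [h v, Units.val_one, one_mul]
  have h2 : Nat.card ↥(Cfsg.Geo.quadSimilarityGroup (⇑Q)) =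
      Nat.card ↥μ.range * Nat.card ↥(Cfsg.isometryGroup F (⇑Q)) := by
    rw [Subgroup.card_eq_card_quotient_mul_card_subgroup μ.ker,
      Nat.card_congr (QuotientGroup.quotientKerEquivRange μ).toEquiv, hker1,
      Nat.card_congr (Subgroup.subgroupOfEquivOfLe
        (Cfsg.Agent.Lib.Helper36.isometryGroup_le_similarity (⇑Q))).toEquiv]
  have h3 : Nat.card ↥μ.range ∣ Nat.card Fˣ := Subgroup.card_subgroup_dvd_card _
  have hpos : 0 < Nat.card Fˣ := Nat.card_pos
  have h4 : Nat.card (Cfsg.PGO F ⇑Q) * Nat.card Fˣ ∣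
      Nat.card ↥(Cfsg.isometryGroup F ⇑Q) * Nat.card Fˣ := by
    rw [h1, h2, mul_comm]
    exact Nat.mul_dvd_mul_left _ h3
  exact Nat.dvd_of_mul_dvd_mul_right hpos h4

end card

section symp

variable {F : Type*} [Field F]

theorem scalars_le_GSp (m : ℕ) : Cfsg.Geo.scalars (Fin m ⊕ Fin m) F ≤ Cfsg.GSp m F := by
  intro g hg
  obtain ⟨c, hc⟩ := (Cfsg.Geo.mem_scalars_iff g).mp hg
  refine ⟨c * c, fun u v => ?_⟩
  rw [hc, Matrix.smul_mulVec, Matrix.smul_mulVec, Matrix.one_mulVec, Matrix.one_mulVec,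
    Cfsg.Agent.Lib.Helper13.sympForm_smul_left, Cfsg.Agent.Lib.Helper13.sympForm_smul_right,
    Units.val_mul, mul_assoc]

theorem spGL_le_GSp (m : ℕ) : Cfsg.spGL m F ≤ Cfsg.GSp m F := by
  intro g hg
  refine ⟨1, fun u v => ?_⟩
  rw [Units.val_one, one_mul]
  exact hg u v

/-- `q^(m²)` divides `|PGSp_{2m}(q)| (q - 1)` -/
theorem pow_dvd_card_PGSp [Fintype F] (m : ℕ) (hm : 1 ≤ m) :
    Fintype.card F ^ (m ^ 2) ∣ Nat.card (Cfsg.PGSp m F) * (Fintype.card F - 1) := by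
  classical
  have : Nonempty (Fin m ⊕ Fin m) := ⟨Sum.inl ⟨0, hm⟩⟩
  have h1 := card_projQuot_mul (Cfsg.GSp m F) (scalars_le_GSp m)
  rw [Nat.card_units, Nat.card_eq_fintype_card (α := F)] at h1
  rw [h1]
  have h2 : Nat.card ↥(Cfsg.spGL m F) ∣ Nat.card ↥(Cfsg.GSp m F) :=
    Subgroup.card_dvd_of_le (spGL_le_GSp m)
  rw [Cfsg.Agent.Lib.Helper44.Elu.card_spGL] at h2
  exact Dvd.dvd.trans (Dvd.intro _ rfl) h2

end symp

section noniso

variable {κ : Type} [Fintype κ] [DecidableEq κ] {F : Type*} [Field F] [Fintype F]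

theorem coprime_pow_sub_one (q k : ℕ) (hq : 1 ≤ q) (hk : 1 ≤ k) : Nat.Coprime q (q ^ k - 1) := by
  have h1 : Nat.Coprime (q ^ k) (q ^ k - 1) := by
    rw [Nat.coprime_self_sub_right (Nat.one_le_pow _ _ hq)]
    exact Nat.coprime_one_right _
  exact Nat.Coprime.coprime_dvd_left (dvd_pow_self q (by omega)) h1

theorem coprime_pow_add_one (q k : ℕ) (hk : 1 ≤ k) : Nat.Coprime q (q ^ k + 1) := by
  have h1 : Nat.Coprime (q ^ k) (q ^ k + 1) := by
    rw [Nat.coprime_self_add_right]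
    exact Nat.coprime_one_right _
  exact Nat.Coprime.coprime_dvd_left (dvd_pow_self q (by omega)) h1

theorem coprime_prod_pow_sub_one (q k : ℕ) (hq : 1 ≤ q) :
    Nat.Coprime q (∏ i ∈ Finset.range k, (q ^ (2 * (i + 1)) - 1)) := by
  apply Nat.Coprime.prod_right
  intro i _
  exact coprime_pow_sub_one q _ hq (by omega)

/-- the arithmetic core: `q^(m²)` does not divide `2 q^(m(m-1)) X` for `X` prime to `q` -/
theorem not_pow_dvd (q m X : ℕ) (hq : Odd q) (hq3 : 3 ≤ q) (hm : 1 ≤ m)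
    (hX : Nat.Coprime q X) : ¬ q ^ (m ^ 2) ∣ 2 * q ^ (m * (m - 1)) * X := by
  intro h
  have hqpos : 0 < q ^ (m * (m - 1)) := Nat.pos_of_ne_zero (pow_ne_zero _ (by omega))
  have hexp : m ^ 2 = m * (m - 1) + m := by
    obtain ⟨k, rfl⟩ : ∃ k, m = k + 1 := ⟨m - 1, by omega⟩
    simp only [Nat.add_sub_cancel]
    ring
  rw [hexp, pow_add] at h
  have h' : q ^ (m * (m - 1)) * q ^ m ∣ q ^ (m * (m - 1)) * (2 * X) := by
    have : 2 * q ^ (m * (m - 1)) * X = q ^ (m * (m - 1)) * (2 * X) := by ring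
    rw [← this]
    exact h
  have h1 : q ^ m ∣ 2 * X := Nat.dvd_of_mul_dvd_mul_left hqpos h'
  have hc : Nat.Coprime (q ^ m) (2 * X) := by
    apply Nat.Coprime.pow_left
    apply Nat.Coprime.mul_right _ hX
    exact (Nat.coprime_two_left.mpr hq).symm
  have h2 : q ^ m = 1 := Nat.Coprime.eq_one_of_dvd hc h1
  have h3 : 3 ≤ q ^ m := by
    calc 3 ≤ q := hq3
      _ = q ^ 1 := (pow_one q).symm
      _ ≤ q ^ m := Nat.pow_le_pow_right (by omega) hm
  omega

/-- `PGO(Q)` is not isomorphic to `PGSp_{2m}(q)` if `|O(Q)| = 2 q^(m(m-1)) X` with `X` prime to the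
odd number `q` -/
theorem not_PGO_equiv_PGSp [Nonempty κ] (m : ℕ) (hm : 1 ≤ m) (hq : Odd (Fintype.card F))
    (Q : QuadraticForm F (κ → F)) (v₀ : κ → F) (hv₀ : Q v₀ ≠ 0) (X : ℕ)
    (hX : Nat.Coprime (Fintype.card F) X)
    (hO : Nat.card ↥(Cfsg.isometryGroup F ⇑Q) =
      2 * Fintype.card F ^ (m * (m - 1)) * X) :
    ¬ Nonempty (Cfsg.PGO F ⇑Q ≃* Cfsg.PGSp m F) := by
  rintro ⟨e⟩
  have hcard : Nat.card (Cfsg.PGO F ⇑Q) = Nat.card (Cfsg.PGSp m F) := Nat.card_congr e.toEquiv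
  have h1 := card_PGO_dvd Q v₀ hv₀
  rw [hcard, hO] at h1
  have h2 := pow_dvd_card_PGSp (F := F) m hm
  have hq3 : 3 ≤ Fintype.card F := by
    have h1 : 1 < Fintype.card F := Fintype.one_lt_card
    obtain ⟨k, hk⟩ := hq
    omega
  have h3 : Fintype.card F ^ (m ^ 2) ∣
      2 * Fintype.card F ^ (m * (m - 1)) * (X * (Fintype.card F - 1)) := by
    rw [← mul_assoc]
    exact Dvd.dvd.trans h2 (Nat.mul_dvd_mul_right h1 _)
  refine not_pow_dvd _ m _ hq hq3 hm ?_ h3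
  apply Nat.Coprime.mul_right hX
  have := coprime_pow_sub_one (Fintype.card F) 1 (by omega) le_rfl
  rw [pow_one] at this
  exact this

end noniso

end Cfsg.Agent.Lib.Helper44.GraphInv
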