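import Mathlib
import Cfsg.Agent.Lib.Helper44.GraphInv8
import Cfsg.Agent.Lib.Helper44.GraphInv9
import Cfsg.Agent.S0287
import Cfsg.Agent.S0288

set_option autoImplicit false
set_option linter.unusedSectionVars false

/-!
# Symmetric versus alternating type of an involutory graph automorphism, from the centraliser

`n = 2m`, `q` odd: the centraliser of `gr g` with `g` symmetric is `PGO^±_{2m}(q)`, which is not
isomorphic to `PGSp_{2m}(q)`.
-/

namespace Cfsg.Agent.Lib.Helper44.GraphInv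

open scoped MatrixGroups Matrix
open Matrix Cfsg.Agent.Lib.Helper43 Cfsg.Agent.Lib.Helper44

section

variable {n m : ℕ} {F : Type*} [Field F]

/-- the minus form `Σ xᵢyᵢ + z₁² + z₁z₂ + ζ z₂²` is nondegenerate in odd characteristic -/
theorem minusQF_nondeg_of_no_root (h2 : (2 : F) ≠ 0) (k : ℕ) (ζ : F)
    (hζ : ∀ t : F, t ^ 2 + t + ζ ≠ 0) :
    (QuadraticMap.polarBilin (minusQF k F 1 ζ)).Nondegenerate := by
  rw [nondeg_iff_gramStd_det_ne_zero, gramStd_minusQF_det]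
  have h1 := (nondeg_iff_gramStd_det_ne_zero (hypQF k F)).mp hypQF_nondeg
  apply mul_ne_zero h1
  intro h3
  apply hζ (-(2⁻¹ : F))
  have h4 : (2 : F) * 2⁻¹ = 1 := mul_inv_cancel₀ h2
  have h5 : (4 : F) * ζ = 1 := by linear_combination h3
  have h6 : ζ = 2⁻¹ * 2⁻¹ := by
    have : (4 : F) * (2⁻¹ * 2⁻¹) = 1 := by linear_combination (2 * 2⁻¹ + 1) * h4
    have h4ne : (4 : F) ≠ 0 := by
      have : (4 : F) = 2 * 2 := by norm_num
      rw [this]
      exact mul_ne_zero h2 h2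
    exact mul_left_cancel₀ h4ne (h5.trans this.symm)
  rw [h6]
  linear_combination (2⁻¹ : F) * h4

theorem aniso_of_no_root (ζ : F) (hζ : ∀ t : F, t ^ 2 + t + ζ ≠ 0) (z₁ z₂ : F)
    (hz : z₁ ^ 2 + 1 * z₁ * z₂ + ζ * z₂ ^ 2 = 0) : z₁ = 0 ∧ z₂ = 0 := by
  by_cases hz2 : z₂ = 0
  · subst hz2
    refine ⟨?_, rfl⟩
    have : z₁ ^ 2 = 0 := by linear_combination hz
    exact pow_eq_zero_iff (two_ne_zero) |>.mp this
  · exfalso
    apply hζ (z₁ / z₂)
    field_simp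
    linear_combination hz

/-- `n = 2m`, `q` odd, `g` symmetric: the centraliser of `gr g` is `PGO^+` or `PGO^-` -/
theorem symm_centralizer_cases [Fintype F] (h2 : (2 : F) ≠ 0) (hm : 1 ≤ m) (hnm : n = 2 * m)
    (g : GL (Fin n) F)
    (hg : (g : Matrix (Fin n) (Fin n) F)ᵀ = (g : Matrix (Fin n) (Fin n) F)) :
    ∃ ζ : F, (∀ t : F, t ^ 2 + t + ζ ≠ 0) ∧
      (Nonempty (↥(Cfsg.inndiagPSL n F ⊓ Subgroup.centralizer {gr g}) ≃*
        Cfsg.PGO F (Cfsg.quadFormPlus m F)) ∨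
      Nonempty (↥(Cfsg.inndiagPSL n F ⊓ Subgroup.centralizer {gr g}) ≃*
        Cfsg.PGO F (Cfsg.quadFormMinus (m - 1) F 1 ζ))) := by
  classical
  have hn2 : 2 ≤ n := by omega
  obtain ⟨ζ, hζ⟩ := exists_no_root (F := F)
  refine ⟨ζ, hζ, ?_⟩
  have e : Fin m ⊕ Fin m ≃ Fin n := finSumFinEquiv.trans (finCongr (by omega))
  have e' : (Fin (m - 1) ⊕ Fin (m - 1)) ⊕ Fin 2 ≃ Fin n :=
    (Equiv.sumCongr finSumFinEquiv (Equiv.refl _)).trans
      (finSumFinEquiv.trans (finCongr (by omega)))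
  set Qp : QuadraticForm F (Fin n → F) := reQ e (hypQF m F) with hQp
  set Qm : QuadraticForm F (Fin n → F) := reQ e' (minusQF (m - 1) F 1 ζ) with hQm
  have hp : (QuadraticMap.polarBilin Qp).Nondegenerate := reQ_nondeg e _ hypQF_nondeg
  have hmn : (QuadraticMap.polarBilin Qm).Nondegenerate :=
    reQ_nondeg e' _ (minusQF_nondeg_of_no_root h2 (m - 1) ζ hζ)
  have hns : ¬ IsSquare ((gramStd ⇑Qp).det * (gramStd ⇑Qm).det) := by
    intro hs
    obtain ⟨L, hL⟩ := (Cfsg.Agent.S2623.result h2 Qp Qm hp hmn).mpr hs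
    refine Cfsg.Agent.S2617.result hm ζ hζ
      ((LinearEquiv.funCongrLeft F F e).symm.trans
        (L.trans (LinearEquiv.funCongrLeft F F e'))) ?_
    intro v
    have h1 := hL ((LinearEquiv.funCongrLeft F F e).symm v)
    rw [hQp, hQm, reQ_apply, reQ_apply] at h1
    have h3 : ((LinearEquiv.funCongrLeft F F e).symm v) ∘ e = v :=
      (LinearEquiv.funCongrLeft F F e).apply_symm_apply v
    rw [h3, minusQF_coe, hypQF_apply] at h1
    exact h1
  have hQ := symQ_nondeg h2 g hg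
  have hgg := glGram_symQ h2 g hg
  rcases two_classes h2 Qp Qm _ hp hmn hQ hns with ⟨L, hL⟩ | ⟨L, hL⟩
  · left
    have hc := isConjUnder_glGram_of_isometry hn2 _ Qp hQ hp L hL
    rw [hgg] at hc
    obtain ⟨a, ha, hx⟩ := hc
    obtain ⟨e₁⟩ := centralizer_glGram_equiv hn2 h2 Qp hp
    obtain ⟨e₂⟩ := pgo_reQ_equiv e (hypQF m F)
    exact ⟨(centralizerInfEquivOfConj a ha hx).symm.trans (e₁.trans e₂)⟩
  · right
    have hc := isConjUnder_glGram_of_isometry hn2 _ Qm hQ hmn L hL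
    rw [hgg] at hc
    obtain ⟨a, ha, hx⟩ := hc
    obtain ⟨e₁⟩ := centralizer_glGram_equiv hn2 h2 Qm hmn
    obtain ⟨e₂⟩ := pgo_reQ_equiv e' (minusQF (m - 1) F 1 ζ)
    rw [minusQF_coe] at e₂
    exact ⟨(centralizerInfEquivOfConj a ha hx).symm.trans (e₁.trans e₂)⟩

/-- `n = 2m`, `q` odd, `g` symmetric: the centraliser of `gr g` is not isomorphic to `PGSp_n(q)` -/
theorem not_centralizer_equiv_PGSp_of_symm [Fintype F] (h2 : (2 : F) ≠ 0) (hm : 1 ≤ m)
    (hnm : n = 2 * m) (g : GL (Fin n) F)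
    (hg : (g : Matrix (Fin n) (Fin n) F)ᵀ = (g : Matrix (Fin n) (Fin n) F)) :
    ¬ Nonempty (↥(Cfsg.inndiagPSL n F ⊓ Subgroup.centralizer {gr g}) ≃* Cfsg.PGSp m F) := by
  classical
  rintro ⟨eC⟩
  have hodd : Odd (Fintype.card F) := by
    rw [Nat.odd_iff]
    exact FiniteField.odd_card_of_char_ne_two (ringChar_ne_two_of h2)
  have hq1 : 1 ≤ Fintype.card F := Fintype.card_pos
  obtain ⟨ζ, hζ, hcases⟩ := symm_centralizer_cases h2 hm hnm g hg
  rcases hcases with hc1 | hc1 <;> obtain ⟨e₁⟩ := hc1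
  · have : Nonempty (Fin m ⊕ Fin m) := ⟨Sum.inl ⟨0, hm⟩⟩
    obtain ⟨v₀, hv₀⟩ := exists_ne_zero_of_nondeg (hypQF m F) hypQF_nondeg
    refine not_PGO_equiv_PGSp m hm hodd (hypQF m F) v₀ hv₀
      ((Fintype.card F ^ m - 1) *
        ∏ i ∈ Finset.range (m - 1), (Fintype.card F ^ (2 * (i + 1)) - 1)) ?_ ?_
      ⟨e₁.symm.trans eC⟩
    · exact Nat.Coprime.mul_right (coprime_pow_sub_one _ m hq1 hm)
        (coprime_prod_pow_sub_one _ _ hq1)
    · have h := Cfsg.Agent.S0287.result (F := F) rfl m hm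
      rw [mul_assoc] at h
      exact h
  · obtain ⟨v₀, hv₀⟩ := exists_ne_zero_of_nondeg (minusQF (m - 1) F 1 ζ)
      (minusQF_nondeg_of_no_root h2 (m - 1) ζ hζ)
    have e₂ : Cfsg.PGO F ⇑(minusQF (m - 1) F 1 ζ) ≃* Cfsg.PGSp m F := by
      rw [minusQF_coe]
      exact e₁.symm.trans eC
    refine not_PGO_equiv_PGSp m hm hodd (minusQF (m - 1) F 1 ζ) v₀ hv₀
      ((Fintype.card F ^ m + 1) *
        ∏ i ∈ Finset.range (m - 1), (Fintype.card F ^ (2 * (i + 1)) - 1)) ?_ ?_ ⟨e₂⟩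
    · exact Nat.Coprime.mul_right (coprime_pow_add_one _ m hm)
        (coprime_prod_pow_sub_one _ _ hq1)
    · have h := Cfsg.Agent.S0288.result (F := F) rfl m hm 1 ζ (aniso_of_no_root ζ hζ)
      rw [mul_assoc] at h
      rw [minusQF_coe]
      exact h

end

end Cfsg.Agent.Lib.Helper44.GraphInv
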