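import Mathlib
import Cfsg.Prelude.Def_LieTypeDatum

set_option autoImplicit false
set_option linter.unusedSectionVars false

/-!
# Characteristic two: `PGO` of a quadratic form with one-dimensional radical

Let `Q` be a quadratic form on `ι → F` (`F` finite of characteristic two) whose polar form has
radical spanned by the coordinate vector `e₀ = Pi.single i₀ 1`, with `Q e₀ = 1`.  The symmetric
bilinear form `fS u v = u i₀ * v i₀ + polar Q u v` is then nondegenerate and not alternating, and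
its projective similarity group is isomorphic to that of `Q`
(both are the symplectic group of the polar form on the quotient by the radical).
-/

namespace Cfsg.Agent.Lib.Helper44.GraphInv

open scoped MatrixGroups Matrix
open Matrix

section chartwo

variable {ι : Type} [Fintype ι] [DecidableEq ι] {F : Type*} [Field F] [CharP F 2]

/-- the hypotheses on `(Q, i₀)` -/
structure OddData (Q : QuadraticForm F (ι → F)) (i₀ : ι) : Prop where
  q0 : Q (Pi.single i₀ 1) = 1
  rad : ∀ v, QuadraticMap.polar ⇑Q (Pi.single i₀ 1) v = 0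
  rad' : ∀ u, (∀ v, QuadraticMap.polar ⇑Q u v = 0) → u = u i₀ • Pi.single i₀ (1 : F)

/-- the symmetric form `u₀ v₀ + B_Q(u, v)` -/
def fS (Q : QuadraticForm F (ι → F)) (i₀ : ι) (u v : ι → F) : F :=
  u i₀ * v i₀ + QuadraticMap.polar ⇑Q u v

variable {Q : QuadraticForm F (ι → F)} {i₀ : ι}

theorem polar_self_zero (Q : QuadraticForm F (ι → F)) (v : ι → F) :
    QuadraticMap.polar ⇑Q v v = 0 := by
  rw [QuadraticMap.polar_self, two_smul, CharTwo.add_self_eq_zero]

theorem OddData.rad_right (h : OddData Q i₀) (v : ι → F) :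
    QuadraticMap.polar ⇑Q v (Pi.single i₀ 1) = 0 := by
  rw [QuadraticMap.polar_comm, h.rad]

theorem OddData.map_add_smul (h : OddData Q i₀) (u : ι → F) (t : F) :
    Q (u + t • Pi.single i₀ 1) = Q u + t ^ 2 := by
  rw [QuadraticMap.map_add Q u, QuadraticMap.map_smul, QuadraticMap.polar_smul_right,
    h.rad_right, h.q0]
  simp [sq]

theorem OddData.polar_add_smul (h : OddData Q i₀) (u v : ι → F) (s t : F) :
    QuadraticMap.polar ⇑Q (u + s • Pi.single i₀ 1) (v + t • Pi.single i₀ 1) =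
      QuadraticMap.polar ⇑Q u v := by
  rw [QuadraticMap.polar_add_left, QuadraticMap.polar_add_right, QuadraticMap.polar_add_right,
    QuadraticMap.polar_smul_left, QuadraticMap.polar_smul_left, QuadraticMap.polar_smul_right,
    QuadraticMap.polar_smul_right, h.rad, h.rad, h.rad_right]
  simp

/-- similarities of `Q` are similarities of its polar form -/
theorem polar_mulVec_of_sim (k : Matrix ι ι F) (c : F)
    (hk : ∀ v, Q (k *ᵥ v) = c * Q v) (u v : ι → F) :
    QuadraticMap.polar ⇑Q (k *ᵥ u) (k *ᵥ v) = c * QuadraticMap.polar ⇑Q u v := by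
  unfold QuadraticMap.polar
  rw [← Matrix.mulVec_add, hk, hk, hk]
  ring

/-- a similarity of `Q` maps `e₀` to a multiple `d e₀` with `d² = c` -/
theorem OddData.sim_e0 (h : OddData Q i₀) (k : GL ι F) (c : F)
    (hk : ∀ v, Q ((k : Matrix ι ι F) *ᵥ v) = c * Q v) :
    (k : Matrix ι ι F) *ᵥ Pi.single i₀ 1 =
      ((k : Matrix ι ι F) *ᵥ Pi.single i₀ 1) i₀ • Pi.single i₀ (1 : F) ∧
    (((k : Matrix ι ι F) *ᵥ Pi.single i₀ 1) i₀) ^ 2 = c := by
  have h1 : (k : Matrix ι ι F) *ᵥ Pi.single i₀ 1 =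
      ((k : Matrix ι ι F) *ᵥ Pi.single i₀ 1) i₀ • Pi.single i₀ (1 : F) := by
    apply h.rad'
    intro w
    have h2 : w = (k : Matrix ι ι F) *ᵥ (((k⁻¹ : GL ι F) : Matrix ι ι F) *ᵥ w) := by
      rw [Matrix.mulVec_mulVec, ← Units.val_mul, mul_inv_cancel, Units.val_one,
        Matrix.one_mulVec]
    rw [h2, polar_mulVec_of_sim _ c hk, h.rad, mul_zero]
  refine ⟨h1, ?_⟩
  have h3 := hk (Pi.single i₀ 1)
  rw [h1, QuadraticMap.map_smul, h.q0, smul_eq_mul, mul_one, mul_one] at h3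
  rw [← h3, sq]

/-! ### the map `Φ` -/

/-- `Φ k = k - E k (1 - E)` with `E` the matrix unit at `(i₀, i₀)`: the row `i₀` of `k` is
replaced by `k i₀ i₀ • e₀ᵀ` -/
def phiM (i₀ : ι) (k : Matrix ι ι F) : Matrix ι ι F :=
  k - Matrix.single i₀ i₀ 1 * k * (1 - Matrix.single i₀ i₀ 1)

theorem single_mulVec' (i₀ : ι) (w : ι → F) :
    (Matrix.single i₀ i₀ (1 : F)) *ᵥ w = w i₀ • Pi.single i₀ (1 : F) := by
  rw [Matrix.single_mulVec]
  funext j
  by_cases hj : j = i₀
  · subst hj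
    simp
  · simp [Function.update_of_ne hj, Pi.single_eq_of_ne hj]

theorem phiM_mulVec (i₀ : ι) (k : Matrix ι ι F) (v : ι → F) :
    phiM i₀ k *ᵥ v = k *ᵥ v -
      ((k *ᵥ v) i₀ - v i₀ * (k *ᵥ Pi.single i₀ 1) i₀) • Pi.single i₀ (1 : F) := by
  unfold phiM
  rw [Matrix.sub_mulVec, ← Matrix.mulVec_mulVec, ← Matrix.mulVec_mulVec, Matrix.sub_mulVec,
    Matrix.one_mulVec, single_mulVec', single_mulVec', Matrix.mulVec_sub, Matrix.mulVec_smul]
  rfl

theorem mul_single_of_mulVec (i₀ : ι) (k : Matrix ι ι F) (d : F)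
    (h : k *ᵥ Pi.single i₀ 1 = d • Pi.single i₀ (1 : F)) :
    k * Matrix.single i₀ i₀ 1 = d • Matrix.single i₀ i₀ (1 : F) := by
  ext i j
  have hcol : ∀ i, k i i₀ = if i = i₀ then d else 0 := by
    intro i
    have := congrFun h i
    rw [Matrix.mulVec_single_one] at this
    simpa [Pi.single_apply] using this
  rw [Matrix.smul_apply, smul_eq_mul]
  by_cases hj : j = i₀
  · subst hj
    rw [Matrix.mul_single_apply_same, mul_one, hcol]
    by_cases hi : i = j
    · subst hi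
      simp
    · simp [hi, eq_comm]
  · rw [Matrix.mul_single_apply_of_ne (hbj := hj)]
    simp only [Matrix.single_apply]
    rw [if_neg (fun h' => hj h'.2.symm), mul_zero]

theorem single_mul_single_self (i₀ : ι) :
    Matrix.single i₀ i₀ (1 : F) * Matrix.single i₀ i₀ 1 = Matrix.single i₀ i₀ 1 := by
  rw [Matrix.single_mul_single_same, mul_one]

/-- `Φ` is multiplicative on matrices mapping `e₀` into its span -/
theorem phiM_mul (i₀ : ι) (k k' : Matrix ι ι F) (d d' : F)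
    (hk : k * Matrix.single i₀ i₀ 1 = d • Matrix.single i₀ i₀ (1 : F))
    (hk' : k' * Matrix.single i₀ i₀ 1 = d' • Matrix.single i₀ i₀ (1 : F)) :
    phiM i₀ k * phiM i₀ k' = phiM i₀ (k * k') := by
  have hE := single_mul_single_self (F := F) i₀
  set E : Matrix ι ι F := Matrix.single i₀ i₀ 1 with hEdef
  unfold phiM
  rw [← hEdef]
  have e1 : (1 - E) * E = 0 := by rw [Matrix.sub_mul, Matrix.one_mul, hE, sub_self]
  have e2 : k * E * k' = d • (E * k') := by rw [hk, Matrix.smul_mul]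
  have e3 : k * k' * E = (d * d') • E := by
    rw [Matrix.mul_assoc, hk', Matrix.mul_smul, hk, smul_smul, mul_comm]
  have e4 : E * k' * E = d' • E := by rw [Matrix.mul_assoc, hk', Matrix.mul_smul, hE]
  have e5 : E * k * E = d • E := by rw [Matrix.mul_assoc, hk, Matrix.mul_smul, hE]
  have lhs : (k - E * k * (1 - E)) * (k' - E * k' * (1 - E)) =
      k * k' - k * E * k' * (1 - E) - E * k * (1 - E) * k' +
        E * k * ((1 - E) * E) * k' * (1 - E) := by
    noncomm_ring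
  rw [lhs, e1, e2]
  have rhs : k * k' - E * (k * k') * (1 - E) = k * k' - E * k * k' + E * (k * k' * E) := by
    noncomm_ring
  rw [rhs, e3]
  have mid : E * k * (1 - E) * k' = E * k * k' - (E * k * E) * k' := by noncomm_ring
  rw [mid, e5]
  have t1 : d • (E * k') * (1 - E) = d • (E * k') - d • (E * k' * E) := by
    rw [Matrix.mul_sub, Matrix.mul_one, Matrix.smul_mul]
  rw [t1, e4]
  simp only [Matrix.mul_zero, Matrix.zero_mul, Matrix.smul_mul, Matrix.mul_smul, hE, smul_smul]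
  abel

theorem phiM_one (i₀ : ι) : phiM i₀ (1 : Matrix ι ι F) = 1 := by
  unfold phiM
  rw [Matrix.mul_one, Matrix.mul_sub, Matrix.mul_one, single_mul_single_self, sub_self, sub_zero]

/-! ### `Φ` maps similarities of `Q` to similarities of `fS` -/

theorem OddData.sim_mul_single (h : OddData Q i₀) (k : GL ι F) (c : F)
    (hk : ∀ v, Q ((k : Matrix ι ι F) *ᵥ v) = c * Q v) :
    (k : Matrix ι ι F) * Matrix.single i₀ i₀ 1 =
      ((k : Matrix ι ι F) *ᵥ Pi.single i₀ 1) i₀ • Matrix.single i₀ i₀ (1 : F) :=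
  mul_single_of_mulVec i₀ _ _ (h.sim_e0 k c hk).1

theorem OddData.fS_phiM (h : OddData Q i₀) (k : GL ι F) (c : F)
    (hk : ∀ v, Q ((k : Matrix ι ι F) *ᵥ v) = c * Q v) (u v : ι → F) :
    fS Q i₀ (phiM i₀ (k : Matrix ι ι F) *ᵥ u) (phiM i₀ (k : Matrix ι ι F) *ᵥ v) =
      c * fS Q i₀ u v := by
  obtain ⟨h1, h2⟩ := h.sim_e0 k c hk
  set d : F := ((k : Matrix ι ι F) *ᵥ Pi.single i₀ 1) i₀ with hd
  have key : ∀ w : ι → F, phiM i₀ (k : Matrix ι ι F) *ᵥ w = (k : Matrix ι ι F) *ᵥ w +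
      (-(((k : Matrix ι ι F) *ᵥ w) i₀ - w i₀ * d)) • Pi.single i₀ (1 : F) := by
    intro w
    rw [phiM_mulVec, neg_smul, sub_eq_add_neg]
  have key0 : ∀ w : ι → F, (phiM i₀ (k : Matrix ι ι F) *ᵥ w) i₀ = w i₀ * d := by
    intro w
    rw [key]
    simp
  unfold fS
  rw [key0, key0, key u, key v, h.polar_add_smul, polar_mulVec_of_sim _ c hk, ← h2]
  ring

/-- the similarity `Φ k` as an element of `GL` -/
noncomputable def phiGL (h : OddData Q i₀) (k : GL ι F)
    (hk : k ∈ Cfsg.Geo.quadSimilarityGroup ⇑Q) : GL ι F :=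
  ⟨phiM i₀ (k : Matrix ι ι F), phiM i₀ ((k⁻¹ : GL ι F) : Matrix ι ι F), by
    have hk' := (Cfsg.Geo.quadSimilarityGroup ⇑Q).inv_mem hk
    obtain ⟨c, hc⟩ := hk
    obtain ⟨c', hc'⟩ := hk'
    rw [phiM_mul i₀ _ _ _ _ (h.sim_mul_single k c hc) (h.sim_mul_single k⁻¹ c' hc'),
      ← Units.val_mul, mul_inv_cancel, Units.val_one, phiM_one], by
    have hk' := (Cfsg.Geo.quadSimilarityGroup ⇑Q).inv_mem hk
    obtain ⟨c, hc⟩ := hk
    obtain ⟨c', hc'⟩ := hk'
    rw [phiM_mul i₀ _ _ _ _ (h.sim_mul_single k⁻¹ c' hc') (h.sim_mul_single k c hc),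
      ← Units.val_mul, inv_mul_cancel, Units.val_one, phiM_one]⟩

theorem phiGL_coe (h : OddData Q i₀) (k : GL ι F)
    (hk : k ∈ Cfsg.Geo.quadSimilarityGroup ⇑Q) :
    ((phiGL h k hk : GL ι F) : Matrix ι ι F) = phiM i₀ (k : Matrix ι ι F) := rfl

theorem phiGL_mem (h : OddData Q i₀) (k : GL ι F)
    (hk : k ∈ Cfsg.Geo.quadSimilarityGroup ⇑Q) :
    phiGL h k hk ∈ Cfsg.Geo.similarityGroup (fS Q i₀) := by
  obtain ⟨c, hc⟩ := hk
  exact ⟨c, fun u v => h.fS_phiM k c hc u v⟩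

/-- `Φ` as a homomorphism from the similarities of `Q` to those of `fS` -/
noncomputable def phiHom (h : OddData Q i₀) :
    ↥(Cfsg.Geo.quadSimilarityGroup ⇑Q) →* ↥(Cfsg.Geo.similarityGroup (fS Q i₀)) where
  toFun k := ⟨phiGL h k.1 k.2, phiGL_mem h k.1 k.2⟩
  map_one' := by
    apply Subtype.ext
    apply Units.ext
    show phiM i₀ (((1 : ↥(Cfsg.Geo.quadSimilarityGroup ⇑Q)) : GL ι F) : Matrix ι ι F) = 1
    rw [Subgroup.coe_one, Units.val_one, phiM_one]
  map_mul' a b := by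
    apply Subtype.ext
    apply Units.ext
    show phiM i₀ (((a * b : ↥(Cfsg.Geo.quadSimilarityGroup ⇑Q)) : GL ι F) : Matrix ι ι F) =
      phiM i₀ ((a : GL ι F) : Matrix ι ι F) * phiM i₀ ((b : GL ι F) : Matrix ι ι F)
    obtain ⟨c, hc⟩ := a.2
    obtain ⟨c', hc'⟩ := b.2
    rw [phiM_mul i₀ _ _ _ _ (h.sim_mul_single a.1 c hc) (h.sim_mul_single b.1 c' hc'),
      Subgroup.coe_mul, Units.val_mul]

theorem phiHom_coe (h : OddData Q i₀) (k : ↥(Cfsg.Geo.quadSimilarityGroup ⇑Q)) :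
    (((phiHom h k : ↥(Cfsg.Geo.similarityGroup (fS Q i₀))) : GL ι F) : Matrix ι ι F) =
      phiM i₀ ((k : GL ι F) : Matrix ι ι F) := rfl

/-- if `Φ k` is scalar then `k` is scalar -/
theorem OddData.scalar_of_phiM (h : OddData Q i₀) (k : GL ι F) (c : F)
    (hk : ∀ v, Q ((k : Matrix ι ι F) *ᵥ v) = c * Q v) (z : F)
    (hz : phiM i₀ (k : Matrix ι ι F) = z • 1) : (k : Matrix ι ι F) = z • 1 := by
  obtain ⟨h1, h2⟩ := h.sim_e0 k c hk
  set d : F := ((k : Matrix ι ι F) *ᵥ Pi.single i₀ 1) i₀ with hd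
  have hmv : ∀ v : ι → F, (k : Matrix ι ι F) *ᵥ v = z • v +
      (((k : Matrix ι ι F) *ᵥ v) i₀ - v i₀ * d) • Pi.single i₀ (1 : F) := by
    intro v
    have := phiM_mulVec i₀ (k : Matrix ι ι F) v
    rw [hz, Matrix.smul_mulVec, Matrix.one_mulVec] at this
    rw [this]
    abel
  have hdz : d = z := by
    have := hmv (Pi.single i₀ 1)
    rw [Pi.single_eq_same, one_mul, ← hd, sub_self, zero_smul, add_zero] at this
    have h3 := congrFun this i₀
    rw [Pi.smul_apply, Pi.single_eq_same, smul_eq_mul, mul_one] at h3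
    exact h3
  have ht : ∀ v : ι → F, ((k : Matrix ι ι F) *ᵥ v) i₀ - v i₀ * d = 0 := by
    intro v
    have h3 := hk v
    rw [hmv v, h.map_add_smul, QuadraticMap.map_smul, smul_eq_mul, ← h2, hdz] at h3
    have h4 : (((k : Matrix ι ι F) *ᵥ v) i₀ - v i₀ * z) ^ 2 = 0 := by
      linear_combination h3
    rw [hdz]
    exact pow_eq_zero_iff (two_ne_zero) |>.mp h4
  ext i j
  have h5 := congrFun (hmv (Pi.single j 1)) i
  rw [ht, zero_smul, add_zero, Matrix.mulVec_single_one] at h5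
  rw [Matrix.smul_apply, Matrix.one_apply]
  simpa [Pi.single_apply, eq_comm] using h5

theorem ker_phiHom_comp (h : OddData Q i₀) :
    ((QuotientGroup.mk' ((Cfsg.Geo.scalars ι F).subgroupOf
      (Cfsg.Geo.similarityGroup (fS Q i₀)))).comp (phiHom h)).ker =
      (Cfsg.Geo.scalars ι F).subgroupOf (Cfsg.Geo.quadSimilarityGroup ⇑Q) := by
  ext k
  rw [MonoidHom.mem_ker, MonoidHom.comp_apply, QuotientGroup.mk'_apply, QuotientGroup.eq_one_iff,
    Subgroup.mem_subgroupOf, Subgroup.mem_subgroupOf, Cfsg.Geo.mem_scalars_iff,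
    Cfsg.Geo.mem_scalars_iff, phiHom_coe]
  constructor
  · rintro ⟨z, hz⟩
    obtain ⟨c, hc⟩ := k.2
    exact ⟨z, h.scalar_of_phiM k.1 c hc z hz⟩
  · rintro ⟨z, hz⟩
    refine ⟨z, ?_⟩
    rw [hz]
    unfold phiM
    rw [Matrix.mul_smul, Matrix.mul_one, Matrix.smul_mul, Matrix.mul_sub, Matrix.mul_one,
      single_mul_single_self, sub_self, smul_zero, sub_zero]

/-! ### surjectivity: lifting similarities of `fS` to similarities of `Q` -/

theorem OddData.exists_lift [Finite F] (hd : OddData Q i₀) (h : GL ι F)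
    (hh : h ∈ Cfsg.Geo.similarityGroup (fS Q i₀)) :
    ∃ k : GL ι F, k ∈ Cfsg.Geo.quadSimilarityGroup ⇑Q ∧
      phiM i₀ (k : Matrix ι ι F) = (h : Matrix ι ι F) := by
  classical
  obtain ⟨c, hc⟩ := hh
  set H : Matrix ι ι F := (h : Matrix ι ι F) with hH
  set e₀ : ι → F := Pi.single i₀ 1 with he₀
  set d : F := (H *ᵥ e₀) i₀ with hdd
  have hsq : ∀ v : ι → F, ((H *ᵥ v) i₀) ^ 2 = (c : F) * (v i₀) ^ 2 := by
    intro v
    have := hc v v
    unfold fS at this
    rw [polar_self_zero, polar_self_zero, add_zero, add_zero] at this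
    rw [sq, sq, this]
  have hd2 : d ^ 2 = (c : F) := by
    have := hsq e₀
    rw [he₀, Pi.single_eq_same, one_pow, mul_one] at this
    exact this
  have hlam : ∀ v : ι → F, (H *ᵥ v) i₀ = d * v i₀ := by
    intro v
    apply CharTwo.sq_injective
    show ((H *ᵥ v) i₀) ^ 2 = (d * v i₀) ^ 2
    rw [hsq, mul_pow, hd2]
  have hpol : ∀ u v : ι → F, QuadraticMap.polar ⇑Q (H *ᵥ u) (H *ᵥ v) =
      (c : F) * QuadraticMap.polar ⇑Q u v := by
    intro u v
    have := hc u v
    unfold fS at this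
    rw [hlam, hlam] at this
    linear_combination this - (u i₀ * v i₀) * hd2
  have hHinv : ∀ w : ι → F, w = H *ᵥ (((h⁻¹ : GL ι F) : Matrix ι ι F) *ᵥ w) := by
    intro w
    rw [Matrix.mulVec_mulVec, hH, ← Units.val_mul, mul_inv_cancel, Units.val_one,
      Matrix.one_mulVec]
  have hHinv2 : ∀ w : ι → F, ((h⁻¹ : GL ι F) : Matrix ι ι F) *ᵥ (H *ᵥ w) = w := by
    intro w
    rw [Matrix.mulVec_mulVec, hH, ← Units.val_mul, inv_mul_cancel, Units.val_one,
      Matrix.one_mulVec]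
  have hHe : H *ᵥ e₀ = d • e₀ := by
    apply hd.rad'
    intro w
    rw [hHinv w, hpol, hd.rad, mul_zero]
  have hd0 : d ≠ 0 := by
    intro h0
    rw [h0] at hd2
    exact c.ne_zero (by rw [← hd2]; ring)
  set D : (ι → F) → F := fun v => (c : F) * Q v + Q (H *ᵥ v) with hD
  have hDadd : ∀ u v : ι → F, D (u + v) = D u + D v := by
    intro u v
    show (c : F) * Q (u + v) + Q (H *ᵥ (u + v)) =
      ((c : F) * Q u + Q (H *ᵥ u)) + ((c : F) * Q v + Q (H *ᵥ v))
    rw [Matrix.mulVec_add, QuadraticMap.map_add Q u v,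
      QuadraticMap.map_add Q (H *ᵥ u) (H *ᵥ v), hpol]
    have h2 : (2 : F) = 0 := CharTwo.two_eq_zero
    linear_combination ((c : F) * QuadraticMap.polar ⇑Q u v) * h2
  have hDsmul : ∀ (t : F) (v : ι → F), D (t • v) = t ^ 2 * D v := by
    intro t v
    show (c : F) * Q (t • v) + Q (H *ᵥ (t • v)) = t ^ 2 * ((c : F) * Q v + Q (H *ᵥ v))
    rw [Matrix.mulVec_smul, QuadraticMap.map_smul, QuadraticMap.map_smul]
    simp only [smul_eq_mul]
    ring
  have hsurj : Function.Surjective (fun x : F => x ^ 2) :=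
    Finite.injective_iff_surjective.mp CharTwo.sq_injective
  choose r hr using fun j : ι => hsurj (D (Pi.single j 1))
  have hr' : ∀ j, (r j) ^ 2 = D (Pi.single j 1) := hr
  have hψ : ∀ v : ι → F, (r ⬝ᵥ v) ^ 2 = D v := by
    intro v
    let Dh : (ι → F) →+ F := AddMonoidHom.mk' D hDadd
    have h1 : D v = ∑ j, (v j) ^ 2 * D (Pi.single j 1) := by
      conv_lhs => rw [pi_eq_sum_univ' v]
      show Dh (∑ j, v j • Pi.single j 1) = _
      rw [map_sum]
      apply Finset.sum_congr rfl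
      intro j _
      exact hDsmul (v j) _
    rw [h1]
    unfold dotProduct
    rw [CharTwo.sum_sq]
    apply Finset.sum_congr rfl
    intro j _
    rw [mul_pow, hr' j, mul_comm]
  have hD0 : D e₀ = 0 := by
    show (c : F) * Q e₀ + Q (H *ᵥ e₀) = 0
    rw [hHe, QuadraticMap.map_smul, he₀, hd.q0, smul_eq_mul, mul_one, mul_one, ← sq, hd2]
    exact CharTwo.add_self_eq_zero _
  have hψ0 : r ⬝ᵥ e₀ = 0 := by
    have := hψ e₀
    rw [hD0] at this
    exact pow_eq_zero_iff two_ne_zero |>.mp this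
  set K : Matrix ι ι F := H + Matrix.vecMulVec e₀ r with hK
  have hKv : ∀ v : ι → F, K *ᵥ v = H *ᵥ v + (r ⬝ᵥ v) • e₀ := by
    intro v
    rw [hK, Matrix.add_mulVec, Matrix.vecMulVec_mulVec]
    simp
  have hKQ : ∀ v : ι → F, Q (K *ᵥ v) = (c : F) * Q v := by
    intro v
    rw [hKv, he₀, hd.map_add_smul, hψ]
    show Q (H *ᵥ v) + ((c : F) * Q v + Q (H *ᵥ v)) = (c : F) * Q v
    have := CharTwo.add_self_eq_zero (Q (H *ᵥ v))
    linear_combination this
  have hKe : K *ᵥ e₀ = d • e₀ := by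
    rw [hKv, hψ0, zero_smul, add_zero, hHe]
  have hKinj : Function.Injective K.mulVec := by
    intro v w hvw
    have hx : K *ᵥ (v - w) = 0 := by
      rw [Matrix.mulVec_sub]
      exact sub_eq_zero.mpr hvw
    set x : ι → F := v - w with hxd
    have h1 : H *ᵥ x = H *ᵥ ((-(r ⬝ᵥ x) / d) • e₀) := by
      rw [Matrix.mulVec_smul, hHe, smul_smul, div_mul_cancel₀ _ hd0]
      rw [hKv] at hx
      rw [neg_smul]
      exact eq_neg_of_add_eq_zero_left hx
    have h2 : x = (-(r ⬝ᵥ x) / d) • e₀ := by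
      have := congrArg (fun y => ((h⁻¹ : GL ι F) : Matrix ι ι F) *ᵥ y) h1
      beta_reduce at this
      rw [hHinv2, hHinv2] at this
      exact this
    have h3 : K *ᵥ x = ((-(r ⬝ᵥ x) / d) * d) • e₀ := by
      conv_lhs => rw [h2]
      rw [Matrix.mulVec_smul, hKe, smul_smul]
    rw [hx] at h3
    have h4 := congrFun h3 i₀
    rw [Pi.zero_apply, Pi.smul_apply, he₀, Pi.single_eq_same, smul_eq_mul, mul_one] at h4
    have h5 : -(r ⬝ᵥ x) / d = 0 := by
      rcases mul_eq_zero.mp h4.symm with h6 | h6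
      · exact h6
      · exact absurd h6 hd0
    rw [h5, zero_smul] at h2
    exact sub_eq_zero.mp h2
  have hKunit : IsUnit K := Matrix.mulVec_injective_iff_isUnit.mp hKinj
  refine ⟨hKunit.unit, ⟨c, hKQ⟩, ?_⟩
  show phiM i₀ K = H
  apply Matrix.mulVec_injective
  funext v
  show phiM i₀ K *ᵥ v = H *ᵥ v
  rw [phiM_mulVec, ← he₀, hKe, hKv]
  have h6 : (H *ᵥ v + (r ⬝ᵥ v) • e₀) i₀ - v i₀ * (d • e₀) i₀ = r ⬝ᵥ v := by
    rw [Pi.add_apply, Pi.smul_apply, Pi.smul_apply, hlam, he₀, Pi.single_eq_same]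
    simp only [smul_eq_mul, mul_one]
    ring
  rw [h6, add_sub_cancel_right]

/-- the projective similarity groups of `Q` and of `fS` are isomorphic -/
theorem OddData.projQuot_equiv [Finite F] (h : OddData Q i₀) :
    Nonempty (Cfsg.projQuot (Cfsg.Geo.quadSimilarityGroup ⇑Q) ≃*
      Cfsg.projQuot (Cfsg.Geo.similarityGroup (fS Q i₀))) := by
  have hsurj : Function.Surjective ((QuotientGroup.mk' ((Cfsg.Geo.scalars ι F).subgroupOf
      (Cfsg.Geo.similarityGroup (fS Q i₀)))).comp (phiHom h)) := by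
    intro x
    obtain ⟨y, rfl⟩ := QuotientGroup.mk_surjective x
    obtain ⟨k, hk, hky⟩ := h.exists_lift y.1 y.2
    refine ⟨⟨k, hk⟩, ?_⟩
    rw [MonoidHom.comp_apply, QuotientGroup.mk'_apply]
    congr 1
    apply Subtype.ext
    apply Units.ext
    rw [phiHom_coe]
    exact hky
  exact ⟨(QuotientGroup.quotientMulEquivOfEq (ker_phiHom_comp h).symm).trans
    (QuotientGroup.quotientKerEquivOfSurjective _ hsurj)⟩

end chartwo

end Cfsg.Agent.Lib.Helper44.GraphInv
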