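import Mathlib
import Cfsg.Agent.Lib.Helper44.GraphInv4
import Cfsg.Agent.Lib.Helper44.GraphInv5
import Cfsg.Agent.S2622
import Cfsg.Agent.S0752

set_option autoImplicit false
set_option linter.unusedSectionVars false

/-!
# Involutory graph automorphisms of `PSL_n(F)`, `n` odd, characteristic two

Every symmetric invertible matrix of odd size over a finite field of characteristic two is
congruent to the identity; the centraliser of the inverse-transpose automorphism is
`PGO(x₀² + Σ xᵢ yᵢ)`.
-/

namespace Cfsg.Agent.Lib.Helper44.GraphInv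

open scoped MatrixGroups Matrix
open Matrix Cfsg.Agent.Lib.Helper43 Cfsg.Agent.Lib.Helper44

section general

variable {n : ℕ} {F : Type*} [Field F]

/-- a bilinear form with an orthonormal basis is the dot product in the coordinates of the basis -/
theorem eq_dot_of_orthonormal {V : Type*} [AddCommGroup V] [Module F V]
    (B : LinearMap.BilinForm F V) (b : Module.Basis (Fin n) F V)
    (hb : ∀ i j, B (b i) (b j) = if i = j then 1 else 0) (x y : V) :
    B x y = (b.equivFun x) ⬝ᵥ (b.equivFun y) := by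
  classical
  have hΦ : ∀ i, b.equivFun (b i) = Pi.single i 1 := by
    intro i
    ext j
    rw [Module.Basis.equivFun_self, Pi.single_apply]
    simp [eq_comm]
  have h1 : B = (Matrix.toBilin' (1 : Matrix (Fin n) (Fin n) F)).comp
      (b.equivFun : V →ₗ[F] (Fin n → F)) (b.equivFun : V →ₗ[F] (Fin n → F)) := by
    apply LinearMap.BilinForm.ext_basis b
    intro i j
    rw [LinearMap.BilinForm.comp_apply]
    show B (b i) (b j) = Matrix.toBilin' 1 (b.equivFun (b i)) (b.equivFun (b j))
    rw [hΦ, hΦ, Matrix.toBilin'_single, Matrix.one_apply, hb]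
  conv_lhs => rw [h1]
  rw [LinearMap.BilinForm.comp_apply, Matrix.toBilin'_apply', Matrix.one_mulVec]
  rfl

/-- a nondegenerate alternating form lives on a space of even dimension -/
theorem even_finrank_of_alt_nondeg {V : Type*} [AddCommGroup V] [Module F V]
    [FiniteDimensional F V] (B : LinearMap.BilinForm F V) (hA : B.IsAlt)
    (hnd : ∀ u, (∀ v, B u v = 0) → u = 0) : Even (Module.finrank F V) := by
  classical
  obtain ⟨m', k', b, h1, h2, h3, h4⟩ := Cfsg.Agent.S0752.result B hA
  have hk' : k' = 0 := by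
    by_contra hne
    have hpos : 0 < k' := Nat.pos_of_ne_zero hne
    exact b.ne_zero (Sum.inr ⟨0, hpos⟩) (hnd _ (h4 ⟨0, hpos⟩))
  subst hk'
  have := Module.finrank_eq_card_basis b
  rw [this]
  simp only [Fintype.card_sum, Fintype.card_fin]
  exact ⟨m', by omega⟩

theorem bf_one (u v : Fin n → F) : bf (1 : Matrix (Fin n) (Fin n) F) u v = u ⬝ᵥ v := by
  unfold bf
  rw [Matrix.one_mulVec]

end general

section chartwo

variable {n m : ℕ} {F : Type*} [Field F] [Fintype F] [CharP F 2]

/-- in odd dimension and characteristic two every graph automorphism of a symmetric matrix is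
conjugate to the inverse transpose automorphism `gr 1` -/
theorem isConjUnder_one_of_char_two (hn2 : 2 ≤ n) (hn : Odd n) (g : GL (Fin n) F)
    (hg : (g : Matrix (Fin n) (Fin n) F)ᵀ = (g : Matrix (Fin n) (Fin n) F)) :
    Cfsg.IsConjUnder (Cfsg.inndiagPSL n F) (gr g) (gr 1) := by
  classical
  set B : LinearMap.BilinForm F (Fin n → F) :=
    Matrix.toBilin' (g : Matrix (Fin n) (Fin n) F) with hB
  have hBbf : ∀ u v, B u v = bf (g : Matrix (Fin n) (Fin n) F) u v := by
    intro u v
    rw [bf_eq_toBilin']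
  have hS : B.IsSymm := by
    refine ⟨fun x y => ?_⟩
    rw [hBbf, hBbf, bf_transpose, hg]
  have hdet : (g : Matrix (Fin n) (Fin n) F).det ≠ 0 :=
    ((Matrix.isUnit_iff_isUnit_det _).mp g.isUnit).ne_zero
  have hnd : B.Nondegenerate :=
    LinearMap.BilinForm.nondegenerate_toBilin'_iff_det_ne_zero.mpr hdet
  have hfin : Module.finrank F (Fin n → F) = n := Module.finrank_fin_fun F
  have hna : ∃ v : Fin n → F, B v v ≠ 0 := by
    by_contra hcon
    push Not at hcon
    have hA : B.IsAlt := hcon
    have := even_finrank_of_alt_nondeg B hA hnd.1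
    rw [hfin] at this
    exact (Nat.not_even_iff_odd.mpr hn) this
  obtain ⟨b, hb⟩ := Cfsg.Agent.S2622.result hfin B hS hnd hna
  refine isConjUnder_gr_of_map hn2 g 1 b.equivFun.symm 1 ?_
  intro u v
  rw [Units.val_one, one_mul, Units.val_one, bf_one, ← hBbf, eq_dot_of_orthonormal B b hb,
    LinearEquiv.apply_symm_apply, LinearEquiv.apply_symm_apply]

/-- the data of `x₀² + Σ xᵢ yᵢ` in characteristic two -/
theorem oddData (m : ℕ) : OddData (oddQF m F) (Sum.inl () : Unit ⊕ (Fin m ⊕ Fin m)) := by
  classical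
  have h2 : (2 : F) = 0 := CharTwo.two_eq_zero
  refine ⟨?_, ?_, ?_⟩
  · rw [oddQF_coe]
    unfold Cfsg.quadFormOdd
    simp
  · intro v
    rw [oddQF_polar, h2]
    simp
  · intro u hu
    funext j
    rcases j with ⟨⟩ | j | j
    · simp
    · have h := hu (Pi.single (Sum.inr (Sum.inr j)) 1)
      rw [oddQF_polar, Finset.sum_eq_single j] at h
      · simpa using h
      · intro i _ hij
        simp [hij]
      · intro h'
        exact absurd (Finset.mem_univ j) h'
    · have h := hu (Pi.single (Sum.inr (Sum.inl j)) 1)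
      rw [oddQF_polar, Finset.sum_eq_single j] at h
      · simpa using h
      · intro i _ hij
        simp [hij]
      · intro h'
        exact absurd (Finset.mem_univ j) h'

/-- `fS` as a bilinear form -/
noncomputable def fSb (m : ℕ) : LinearMap.BilinForm F (Unit ⊕ (Fin m ⊕ Fin m) → F) :=
  LinearMap.BilinForm.linMulLin (LinearMap.proj (Sum.inl ())) (LinearMap.proj (Sum.inl ())) +
    QuadraticMap.polarBilin (oddQF m F)

theorem fSb_apply (m : ℕ) (u v : Unit ⊕ (Fin m ⊕ Fin m) → F) :
    fSb (F := F) m u v = fS (oddQF m F) (Sum.inl ()) u v := by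
  unfold fSb fS
  rw [LinearMap.add_apply, LinearMap.add_apply, LinearMap.BilinForm.linMulLin_apply,
    QuadraticMap.polarBilin_apply_apply]
  rfl

/-- the projective similarity group of the dot product in odd dimension is `PGO(x₀² + Σ xᵢ yᵢ)` -/
theorem projQuot_dot_equiv (hnm : n = 2 * m + 1) :
    Nonempty (Cfsg.projQuot (Cfsg.Geo.similarityGroup (bf (1 : Matrix (Fin n) (Fin n) F))) ≃*
      Cfsg.PGO F (Cfsg.quadFormOdd m F)) := by
  classical
  set B := fSb (F := F) m with hB
  have hS : B.IsSymm := by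
    refine ⟨fun x y => ?_⟩
    rw [fSb_apply, fSb_apply]
    unfold fS
    rw [QuadraticMap.polar_comm, mul_comm]
  have hd := oddData (F := F) m
  have hleft : ∀ x : Unit ⊕ (Fin m ⊕ Fin m) → F, (∀ y, B x y = 0) → x = 0 := by
    intro x hx
    have h1 : ∀ y, QuadraticMap.polar ⇑(oddQF m F) x y = 0 := by
      intro y
      have h2 := hx (y + (-(y (Sum.inl ()))) • Pi.single (Sum.inl ()) 1)
      rw [fSb_apply] at h2
      unfold fS at h2
      have h3 := hd.polar_add_smul x y 0 (-(y (Sum.inl ())))
      rw [zero_smul, add_zero] at h3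
      rw [h3] at h2
      simpa using h2
    have h4 := hd.rad' x h1
    have h5 := hx (Pi.single (Sum.inl ()) 1)
    rw [fSb_apply] at h5
    unfold fS at h5
    rw [hd.rad_right, add_zero, Pi.single_eq_same, mul_one] at h5
    rw [h4, h5, zero_smul]
  have hnd : B.Nondegenerate := by
    constructor
    · exact hleft
    · intro y hy
      apply hleft y
      intro x
      rw [hS.eq]
      exact hy x
  have hfin : Module.finrank F (Unit ⊕ (Fin m ⊕ Fin m) → F) = n := by
    rw [Module.finrank_pi]
    simp only [Fintype.card_sum, Fintype.card_fin, Fintype.card_unit]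
    omega
  have hna : ∃ v : Unit ⊕ (Fin m ⊕ Fin m) → F, B v v ≠ 0 := by
    refine ⟨Pi.single (Sum.inl ()) 1, ?_⟩
    rw [fSb_apply]
    unfold fS
    rw [hd.rad, add_zero, Pi.single_eq_same, mul_one]
    exact one_ne_zero
  obtain ⟨b, hb⟩ := Cfsg.Agent.S2622.result hfin B hS hnd hna
  set T : (Unit ⊕ (Fin m ⊕ Fin m) → F) ≃ₗ[F] (Fin n → F) := b.equivFun with hT
  set A : Matrix (Fin n) (Unit ⊕ (Fin m ⊕ Fin m)) F :=
    LinearMap.toMatrix' (T : (Unit ⊕ (Fin m ⊕ Fin m) → F) →ₗ[F] (Fin n → F)) with hA
  set A' : Matrix (Unit ⊕ (Fin m ⊕ Fin m)) (Fin n) F :=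
    LinearMap.toMatrix' (T.symm : (Fin n → F) →ₗ[F] (Unit ⊕ (Fin m ⊕ Fin m) → F)) with hA'
  have hAA' : A * A' = 1 := by
    rw [hA, hA', ← LinearMap.toMatrix'_comp]
    simp
  have hA'A : A' * A = 1 := by
    rw [hA, hA', ← LinearMap.toMatrix'_comp]
    simp
  obtain ⟨e₁⟩ := projQuot_sim_congr (bf (1 : Matrix (Fin n) (Fin n) F))
    (fS (oddQF m F) (Sum.inl ())) A A' hAA' hA'A (by
      intro u v
      rw [bf_one, hA, LinearMap.toMatrix'_mulVec, LinearMap.toMatrix'_mulVec, ← fSb_apply]
      exact (eq_dot_of_orthonormal B b hb u v).symm)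
  obtain ⟨e₂⟩ := hd.projQuot_equiv
  rw [oddQF_coe] at e₂
  exact ⟨e₁.symm.trans e₂.symm⟩

end chartwo

end Cfsg.Agent.Lib.Helper44.GraphInv
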