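import Mathlib
import Cfsg.Agent.Lib.Helper48.Hig.Act
import Cfsg.Agent.Lib.Helper19.NatSL2Main

/-!
# HIG project (helper48, S3050): local base lemmas used by helper44's modules

Local copies (under different names) of the two facts of HIG-[GEN] / HIG-[V0INV] that my modules
[QUADV0], [KEYID] need, so that they do not depend on files that are not on main yet.
-/

set_option autoImplicit false

namespace Cfsg.Agent.Lib.Helper44.Hig

open Matrix Matrix.SpecialLinearGroup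
open scoped MatrixGroups
open Cfsg.Agent.Lib.Helper19.NatSL2
open Cfsg.Agent.Lib.Helper48.Hig

variable {F : Type*} [Field F] [CharP F 2] {M : Type*} [CommGroup M] (φ : SL(2, F) →* MulAut M)

omit [CharP F 2] in
theorem zz_ne_one (a : Fˣ) : uu (a : F) * ll ((a⁻¹ : Fˣ) : F) ≠ 1 := by
  intro h
  have h01 := congrArg (fun g : SL(2, F) => (g : Matrix (Fin 2) (Fin 2) F) 0 1) h
  simp [Matrix.mul_apply, Fin.sum_univ_two] at h01

theorem zz_orderOf (a : Fˣ) : orderOf (uu (a : F) * ll ((a⁻¹ : Fˣ) : F)) = 3 := by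
  have : Fact (Nat.Prime 3) := ⟨Nat.prime_three⟩
  refine orderOf_eq_prime ?_ (zz_ne_one a)
  rw [pow_succ, pow_two]
  exact zz_cube a

/-- fpf of `z = u(c⁻¹) l(c)` gives `l(c) m · n(c⁻¹) m · u(c⁻¹) m = 1`, `n(a) = h(a) w`. -/
theorem genRel (hf : FPF φ) (c : Fˣ) (m : M) :
    φ (ll (c : F)) m * φ (hh c⁻¹ * ww) m * φ (uu ((c⁻¹ : Fˣ) : F)) m = 1 := by
  set z : SL(2, F) := uu ((c⁻¹ : Fˣ) : F) * ll (c : F) with hz
  have hz3 : orderOf z = 3 := by
    have := zz_orderOf (F := F) c⁻¹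
    rwa [inv_inv] at this
  have hzzz : z * z * z = 1 := by
    have := zz_cube (F := F) c⁻¹
    rwa [inv_inv] at this
  set m' : M := φ (ll (c : F)) m with hm'
  have h1 : φ z m' = φ (uu ((c⁻¹ : Fˣ) : F)) m := by
    rw [hm', ← phi_mul, hz, mul_assoc, ll_mul_self, mul_one]
  have h2 : φ (z * z) m' = φ (hh c⁻¹ * ww) m := by
    rw [hm', ← phi_mul]
    congr 1
    have := uu_ll_uu (F := F) c⁻¹
    rw [inv_inv] at this
    rw [← this, hz]
    simp only [mul_assoc]
    rw [ll_mul_self, mul_one]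
  have e1 : φ z (φ z m') = φ (z * z) m' := (phi_mul φ z z m').symm
  have e2 : φ z (φ (z * z) m') = m' := by
    rw [← phi_mul, ← mul_assoc, hzzz, map_one, MulAut.one_apply]
  have hfix : φ z (m' * φ z m' * φ (z * z) m') = m' * φ z m' * φ (z * z) m' := by
    rw [map_mul, map_mul, e1, e2]
    simp only [mul_assoc, mul_comm, mul_left_comm]
  have := hf z hz3 _ hfix
  rw [h1, h2] at this
  rw [← this, hm']
  simp only [mul_assoc, mul_comm, mul_left_comm]

theorem fixInfWw (hf : FPF φ) {m : M} (h1 : m ∈ fixU φ) (h2 : φ ww m ∈ fixU φ) : m = 1 := by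
  have h := fixed_of_fixU_ww φ h1 h2
  have := zz_orderOf (F := F) 1
  exact hf _ this m (h _)

/-- `l(c) w = (n(c⁻¹) w)⁻¹ w⁻¹` for `w` fixed by `U`. -/
theorem llFix (hf : FPF φ) (c : Fˣ) {w : M} (hw : w ∈ fixU φ) :
    φ (ll (c : F)) w = (φ (hh c⁻¹ * ww) w)⁻¹ * w⁻¹ := by
  have h := genRel φ hf c w
  rw [hw ((c⁻¹ : Fˣ) : F)] at h
  rw [mul_assoc] at h
  rw [eq_inv_of_mul_eq_one_left h, mul_inv]

end Cfsg.Agent.Lib.Helper44.Hig
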