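import Mathlib

/-!
# HIG-[CONJ3] (helper48's project HIG, S3050): the elements of order 3 of `SL(2, K)`, `K` finite of
characteristic 2, are conjugate
-/

set_option autoImplicit false

namespace Cfsg.Agent.Lib.Helper44.Hig

open Matrix Matrix.SpecialLinearGroup
open scoped MatrixGroups

variable {K : Type*} [Field K] [CharP K 2]

/-- the standard element of order 3 -/
def z1 : SL(2, K) := ⟨!![0, 1; 1, 1], by
  have h2 : (2 : K) = 0 := CharTwo.two_eq_zero
  rw [Matrix.det_fin_two_of]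
  linear_combination (-1 : K) * h2⟩

/-- an element of order 3 has trace 1 -/
theorem trace_of_order_three (g : SL(2, K)) (hg : orderOf g = 3) :
    (g : Matrix (Fin 2) (Fin 2) K) 0 0 + (g : Matrix (Fin 2) (Fin 2) K) 1 1 = 1 := by
  have h2 : (2 : K) = 0 := CharTwo.two_eq_zero
  obtain ⟨a, ha⟩ : ∃ a, a = (g : Matrix (Fin 2) (Fin 2) K) 0 0 := ⟨_, rfl⟩
  obtain ⟨b, hb⟩ : ∃ b, b = (g : Matrix (Fin 2) (Fin 2) K) 0 1 := ⟨_, rfl⟩
  obtain ⟨c, hc⟩ : ∃ c, c = (g : Matrix (Fin 2) (Fin 2) K) 1 0 := ⟨_, rfl⟩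
  obtain ⟨d, hd⟩ : ∃ d, d = (g : Matrix (Fin 2) (Fin 2) K) 1 1 := ⟨_, rfl⟩
  have hdet : a * d - b * c = 1 := by
    have := g.det_coe
    rw [Matrix.det_fin_two] at this
    rw [ha, hb, hc, hd]; exact this
  have h3 : (g : Matrix (Fin 2) (Fin 2) K) * g * g = 1 := by
    have h : g ^ 3 = 1 := by rw [← hg]; exact pow_orderOf_eq_one g
    have := congrArg (fun x : SL(2, K) => (x : Matrix (Fin 2) (Fin 2) K)) h
    simpa [pow_succ] using this
  have h00 := congrFun (congrFun h3 0) 0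
  have h01 := congrFun (congrFun h3 0) 1
  have h10 := congrFun (congrFun h3 1) 0
  simp only [Matrix.mul_apply, Fin.sum_univ_two, ← ha, ← hb, ← hc, ← hd] at h00 h01 h10
  simp only [Matrix.one_apply_eq, Matrix.one_apply_ne, ne_eq, zero_ne_one, one_ne_zero,
    not_false_eq_true] at h00 h01 h10
  rw [← ha, ← hd]
  by_contra hτ
  have hτ1 : a + d + 1 ≠ 0 := by
    intro h
    apply hτ
    linear_combination h - h2
  have hN : (a + d + 1) ^ 2 ≠ 0 := pow_ne_zero 2 hτ1
  have hbN : b * (a + d + 1) ^ 2 = 0 := by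
    linear_combination h01 + b * hdet + (b + b * (a + d)) * h2
  have hcN : c * (a + d + 1) ^ 2 = 0 := by
    linear_combination h10 + c * hdet + (c + c * (a + d)) * h2
  have hb0 : b = 0 := (mul_eq_zero.1 hbN).resolve_right hN
  have hc0 : c = 0 := (mul_eq_zero.1 hcN).resolve_right hN
  rw [hb0, hc0] at hdet h00
  have ha0 : a ≠ 0 := by
    rintro rfl
    simp at hdet
  have hprod : (a + 1) * (a * (a + d + 1)) = 0 := by
    linear_combination h00 + (a + 1) * hdet + (1 + a ^ 2 + a) * h2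
  have ha1 : a = 1 := by
    rcases mul_eq_zero.1 hprod with h | h
    · linear_combination h - h2
    · exact absurd h (mul_ne_zero ha0 hτ1)
  have hd1 : d = 1 := by
    rw [ha1] at hdet
    linear_combination hdet
  have hg1 : g = 1 := by
    apply Subtype.ext
    ext i j
    fin_cases i <;> fin_cases j
    · simpa [← ha] using ha1
    · simpa [← hb] using hb0
    · simpa [← hc] using hc0
    · simpa [← hd] using hd1
  rw [hg1, orderOf_one] at hg
  exact absurd hg (by norm_num)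

/-- an element of trace 1 is conjugate to `z1` -/
theorem exists_conj_z1 [Finite K] (g : SL(2, K))
    (htr : (g : Matrix (Fin 2) (Fin 2) K) 0 0 + (g : Matrix (Fin 2) (Fin 2) K) 1 1 = 1) :
    ∃ P : SL(2, K), g = P * z1 * P⁻¹ := by
  have h2 : (2 : K) = 0 := CharTwo.two_eq_zero
  obtain ⟨a, ha⟩ : ∃ a, a = (g : Matrix (Fin 2) (Fin 2) K) 0 0 := ⟨_, rfl⟩
  obtain ⟨b, hb⟩ : ∃ b, b = (g : Matrix (Fin 2) (Fin 2) K) 0 1 := ⟨_, rfl⟩
  obtain ⟨c, hc⟩ : ∃ c, c = (g : Matrix (Fin 2) (Fin 2) K) 1 0 := ⟨_, rfl⟩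
  obtain ⟨d, hd⟩ : ∃ d, d = (g : Matrix (Fin 2) (Fin 2) K) 1 1 := ⟨_, rfl⟩
  have hdet : a * d - b * c = 1 := by
    have := g.det_coe
    rw [Matrix.det_fin_two] at this
    rw [ha, hb, hc, hd]; exact this
  rw [← ha, ← hd] at htr
  -- a vector `v = (x, y)` with `det [v | g v] ≠ 0`
  obtain ⟨x, y, hq⟩ : ∃ x y : K, c * x ^ 2 + x * y + b * y ^ 2 ≠ 0 := by
    by_cases hc0 : c = 0
    · by_cases hb0 : b = 0
      · exact ⟨1, 1, by rw [hc0, hb0]; simp⟩
      · exact ⟨0, 1, by simpa using hb0⟩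
    · exact ⟨1, 0, by simpa using hc0⟩
  obtain ⟨k, hk⟩ : ∃ k : K, (c * x ^ 2 + x * y + b * y ^ 2)⁻¹ = k * k :=
    FiniteField.isSquare_of_char_two (ringChar.eq K 2) _
  have hkq : k * k * (c * x ^ 2 + x * y + b * y ^ 2) = 1 := by
    rw [← hk, inv_mul_cancel₀ hq]
  have hPdet : (!![k * x, k * (a * x + b * y); k * y, k * (c * x + d * y)] :
      Matrix (Fin 2) (Fin 2) K).det = 1 := by
    rw [Matrix.det_fin_two_of]
    linear_combination hkq + (k * k * x * y) * htr - (k * k * x * y * a + k * k * y ^ 2 * b) * h2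
  set P : SL(2, K) := ⟨!![k * x, k * (a * x + b * y); k * y, k * (c * x + d * y)], hPdet⟩ with hP
  have hgm : (g : Matrix (Fin 2) (Fin 2) K) = !![a, b; c, d] := by
    rw [ha, hb, hc, hd]
    exact Matrix.eta_fin_two _
  have e1 : a * (k * x) + b * (k * y) = k * x * 0 + k * (a * x + b * y) * 1 := by ring
  have e2 : a * (k * (a * x + b * y)) + b * (k * (c * x + d * y))
      = k * x * 1 + k * (a * x + b * y) * 1 := by
    linear_combination (k * x * a + k * y * b) * htr - (k * x) * hdet - (k * x) * h2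
  have e3 : c * (k * x) + d * (k * y) = k * y * 0 + k * (c * x + d * y) * 1 := by ring
  have e4 : c * (k * (a * x + b * y)) + d * (k * (c * x + d * y))
      = k * y * 1 + k * (c * x + d * y) * 1 := by
    linear_combination (k * x * c + k * y * d) * htr - (k * y) * hdet - (k * y) * h2
  have hgP : g * P = P * z1 := by
    apply Subtype.ext
    change (g : Matrix (Fin 2) (Fin 2) K) *
        !![k * x, k * (a * x + b * y); k * y, k * (c * x + d * y)]
      = !![k * x, k * (a * x + b * y); k * y, k * (c * x + d * y)] * !![0, 1; 1, 1]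
    rw [hgm, Matrix.mul_fin_two, Matrix.mul_fin_two, e1, e2, e3, e4]
  refine ⟨P, ?_⟩
  rw [← hgP, mul_assoc, mul_inv_cancel, mul_one]

theorem conj_of_order_three [Finite K] (s t : SL(2, K)) (hs : orderOf s = 3) (ht : orderOf t = 3) :
    ∃ a : SL(2, K), t = a * s * a⁻¹ := by
  obtain ⟨P, hP⟩ := exists_conj_z1 s (trace_of_order_three s hs)
  obtain ⟨Q, hQ⟩ := exists_conj_z1 t (trace_of_order_three t ht)
  refine ⟨Q * P⁻¹, ?_⟩
  rw [hQ, hP]
  group

end Cfsg.Agent.Lib.Helper44.Hig
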