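import Mathlib
import Cfsg.Agent.Lib.Helper44.HigBase

/-!
# HIG-[KEYID] (helper48's project HIG, S3050): the key identity

For an `H`-invariant subgroup `D` of `M` on which `U` acts quadratically and with `D ∩ V0 ≤ C_M(U)`:
`u(1/c + 1/c' + 1/(c+c')) d = d⁻¹` for `d ∈ D`.  The computation is done additively in `Additive M`.
-/

set_option autoImplicit false

namespace Cfsg.Agent.Lib.Helper44.Hig

open Matrix Matrix.SpecialLinearGroup
open scoped MatrixGroups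
open Cfsg.Agent.Lib.Helper19.NatSL2
open Cfsg.Agent.Lib.Helper48.Hig

variable {F : Type*} [Field F] [CharP F 2] {M : Type*} [CommGroup M] (φ : SL(2, F) →* MulAut M)

/-- additive version of the action -/
def TT (g : SL(2, F)) : Additive M ≃+ Additive M := MulEquiv.toAdditive (φ g)

omit [CharP F 2] in
theorem TT_mul (g h : SL(2, F)) (a : Additive M) : TT φ (g * h) a = TT φ g (TT φ h a) := by
  change Additive.ofMul (φ (g * h) a.toMul) = _
  rw [phi_mul]; rfl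

omit [CharP F 2] in
theorem TT_one (a : Additive M) : TT φ 1 a = a := by
  change Additive.ofMul (φ 1 a.toMul) = a
  simp

omit [CharP F 2] in
theorem mem_fixA (a : Additive M) :
    a ∈ (fixU φ).toAddSubgroup ↔ ∀ s : F, TT φ (uu s) a = a := Iff.rfl

theorem genRelA (hf : FPF φ) (c : Fˣ) (a : Additive M) :
    TT φ (ll (c : F)) a = -TT φ (hh c⁻¹ * ww) a - TT φ (uu ((c⁻¹ : Fˣ) : F)) a := by
  have h : TT φ (ll (c : F)) a + TT φ (hh c⁻¹ * ww) a + TT φ (uu ((c⁻¹ : Fˣ) : F)) a = 0 :=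
    genRel φ hf c a.toMul
  linear_combination (norm := skip) h
  abel

/-! matrix identities in characteristic 2 -/

theorem nn_mul_nn (a b : Fˣ) : hh a * ww * (hh b * ww) = hh (a * b⁻¹) := by
  rw [mul_assoc, ← mul_assoc ww, ww_hh, mul_assoc, ww_mul_ww, mul_one, ← hh_mul]

omit [CharP F 2] in
theorem hh_ww_eq (t : Fˣ) : hh t⁻¹ * ww = ww * hh t := (ww_hh t).symm

theorem uu_ww_eq (s : F) : uu s * ww = ww * ll s := by
  rw [← ww_uu_ww, ← mul_assoc, ← mul_assoc, ww_mul_ww, one_mul]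

theorem ww_nn (a : Fˣ) : ww * (hh a * ww) = hh a⁻¹ := by
  rw [← mul_assoc, ww_hh, mul_assoc, ww_mul_ww, mul_one]

theorem key_identity (hf : FPF φ) (D : Subgroup M)
    (hH : ∀ (t : Fˣ), ∀ d ∈ D, φ (hh t) d ∈ D)
    (hU : ∀ d ∈ D, ∀ s : F, φ (uu s) d / d ∈ fixU φ)
    (hV : ∀ d ∈ D, d ∈ V0 φ → d ∈ fixU φ)
    (c c' : Fˣ) (hcc : (c : F) + c' ≠ 0) {d : M} (hd : d ∈ D) :
    φ (uu ((c : F)⁻¹ + (c' : F)⁻¹ + ((c : F) + c')⁻¹)) d = d⁻¹ := by
  -- additive set-up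
  set W : AddSubgroup (Additive M) := (fixU φ).toAddSubgroup with hWdef
  set DA : AddSubgroup (Additive M) := D.toAddSubgroup with hDAdef
  have hHA : ∀ (t : Fˣ) (x : Additive M), x ∈ DA → TT φ (hh t) x ∈ DA := fun t x hx => hH t _ hx
  have hUA : ∀ (x : Additive M), x ∈ DA → ∀ s : F, TT φ (uu s) x - x ∈ W := fun x hx s => hU _ hx s
  have hWfix : ∀ (x : Additive M), x ∈ W → ∀ s : F, TT φ (uu s) x = x := fun x hx s => hx s
  have hWhh : ∀ (x : Additive M), x ∈ W → ∀ t : Fˣ, TT φ (hh t) x ∈ W := fun x hx t => fixU_hh φ hx t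
  have hwwww : ∀ x : Additive M, TT φ ww (TT φ ww x) = x := by
    intro x; rw [← TT_mul, ww_mul_ww, TT_one]
  set a : Additive M := Additive.ofMul d with ha
  have haD : a ∈ DA := hd
  obtain ⟨e, he⟩ : ∃ e : Fˣ, (e : F) = (c : F) + c' := ⟨Units.mk0 _ hcc, rfl⟩
  -- `β(x, b) = u(b) x - x` is additive in `b` for `x ∈ D`
  have hβadd : ∀ (x : Additive M), x ∈ DA → ∀ s t : F,
      TT φ (uu (s + t)) x - x = (TT φ (uu s) x - x) + (TT φ (uu t) x - x) := by
    intro x hx s t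
    have h1 : TT φ (uu t) x = x + (TT φ (uu t) x - x) := by abel
    rw [uu_add, TT_mul, h1, map_add, hWfix _ (hUA x hx t) s]
    abel
  -- `2 β = 0` and `2 a ∈ W`
  have hβ2 : ∀ (x : Additive M), x ∈ DA → ∀ s : F, (TT φ (uu s) x - x) + (TT φ (uu s) x - x) = 0 := by
    intro x hx s
    have h := hβadd x hx s s
    rw [CharTwo.add_self_eq_zero, uu_zero, TT_one, sub_self] at h
    exact h.symm
  have h2a : a + a ∈ W := by
    rw [hWdef, mem_fixA]
    intro s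
    have h := hβ2 a haD s
    rw [map_add]
    linear_combination (norm := skip) h
    abel
  -- the expansion of `l(c) l(c') a = l(c + c') a`
  have hexp : TT φ (ll (c : F)) (TT φ (ll (c' : F)) a) = TT φ (ll (e : F)) a := by
    rw [← TT_mul, ← ll_add, he]
  rw [genRelA φ hf c' a, map_sub, map_neg, genRelA φ hf c, genRelA φ hf c, genRelA φ hf e] at hexp
  -- the six terms
  set a' : Additive M := TT φ (hh c') a with ha'
  have ha'D : a' ∈ DA := hHA c' a haD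
  have hT1 : TT φ (hh c⁻¹ * ww) (TT φ (hh c'⁻¹ * ww) a) = TT φ (hh (c⁻¹ * c')) a := by
    rw [← TT_mul, nn_mul_nn, inv_inv]
  have hNa : ∀ (t : Fˣ) (x : Additive M), TT φ (hh t⁻¹ * ww) x = TT φ ww (TT φ (hh t) x) := by
    intro t x; rw [hh_ww_eq, TT_mul]
  have hT3 : TT φ (uu ((c⁻¹ : Fˣ) : F)) (TT φ (hh c'⁻¹ * ww) a) =
      -TT φ (hh (c⁻¹ * c')) a - TT φ ww a' - TT φ ww (TT φ (uu (c : F)) a' - a') := by
    have h1 : TT φ (uu ((c⁻¹ : Fˣ) : F)) (TT φ (hh c'⁻¹ * ww) a)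
        = TT φ ww (TT φ (ll ((c⁻¹ : Fˣ) : F)) a') := by
      rw [hh_ww_eq, ← TT_mul, ← mul_assoc, uu_ww_eq, mul_assoc, TT_mul, TT_mul]
    have h2 := genRelA φ hf c⁻¹ a'
    rw [inv_inv] at h2
    have h3 : TT φ ww (TT φ (hh c * ww) a') = TT φ (hh (c⁻¹ * c')) a := by
      rw [← TT_mul, ww_nn, ha', ← TT_mul, ← hh_mul]
    rw [h1, h2, map_sub, map_neg, h3]
    have h4 : TT φ ww (TT φ (uu (c : F)) a') = TT φ ww a' + TT φ ww (TT φ (uu (c : F)) a' - a') := by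
      rw [← map_add]; congr 1; abel
    rw [h4]; abel
  have hT2 : TT φ (hh c⁻¹ * ww) (TT φ (uu ((c'⁻¹ : Fˣ) : F)) a) =
      TT φ ww (TT φ (hh c) a) + TT φ ww (TT φ (hh c) (TT φ (uu ((c'⁻¹ : Fˣ) : F)) a - a)) := by
    rw [hNa, ← map_add, ← map_add]; congr 2; abel
  have hT4 : TT φ (uu ((c⁻¹ : Fˣ) : F)) (TT φ (uu ((c'⁻¹ : Fˣ) : F)) a) =
      a + ((TT φ (uu ((c⁻¹ : Fˣ) : F)) a - a) + (TT φ (uu ((c'⁻¹ : Fˣ) : F)) a - a)) := by
    rw [← TT_mul, ← uu_add, ← hβadd a haD]; abel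
  -- the element `u = E + w₁` with `ww u ∈ W`
  set E : Additive M := TT φ (hh c) a - a' + TT φ (hh e) a with hE
  set w₁ : Additive M := TT φ (hh c) (TT φ (uu ((c'⁻¹ : Fˣ) : F)) a - a) - (TT φ (uu (c : F)) a' - a')
    with hw₁
  set s : F := (c : F)⁻¹ + (c' : F)⁻¹ + ((c : F) + c')⁻¹ with hs
  have hs' : s = ((c⁻¹ : Fˣ) : F) + ((c'⁻¹ : Fˣ) : F) + ((e⁻¹ : Fˣ) : F) := by
    rw [hs, ← he]; simp
  have hβs : TT φ (uu s) a - a = (TT φ (uu ((c⁻¹ : Fˣ) : F)) a - a) +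
      (TT φ (uu ((c'⁻¹ : Fˣ) : F)) a - a) + (TT φ (uu ((e⁻¹ : Fˣ) : F)) a - a) := by
    rw [hs', hβadd a haD, hβadd a haD]
  have hED : E ∈ DA := add_mem (sub_mem (hHA c a haD) ha'D) (hHA e a haD)
  have hw₁W : w₁ ∈ W := sub_mem (hWhh _ (hUA a haD _) c) (hUA a' ha'D _)
  have hmain : (a + a) + (TT φ (uu s) a - a) + TT φ ww (E + w₁) = 0 := by
    rw [hT1, hT3, hT2, hT4, hNa e a] at hexp
    rw [hβs, hE, hw₁]
    simp only [map_add, map_sub] at hexp ⊢
    linear_combination (norm := skip) hexp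
    abel
  have hwwu : TT φ ww (E + w₁) ∈ W := by
    have h : TT φ ww (E + w₁) = -((a + a) + (TT φ (uu s) a - a)) := by
      linear_combination (norm := skip) hmain
      abel
    rw [h]
    exact neg_mem (add_mem h2a (hUA a haD s))
  -- `E ∈ V0 ∩ D`, hence in `W`
  have hEW : E ∈ W := by
    have hEeq : E = -w₁ + TT φ ww (TT φ ww (E + w₁)) := by
      rw [hwwww]; abel
    have hV0 : Additive.toMul E ∈ V0 φ := by
      rw [mem_V0]
      have hnw : -w₁ ∈ W := neg_mem hw₁W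
      exact ⟨Additive.toMul (-w₁), hnw, Additive.toMul (TT φ ww (E + w₁)), hwwu,
        congrArg Additive.toMul hEeq⟩
    exact hV _ hED hV0
  -- `u = 0`
  have hsum : E + w₁ ∈ W := add_mem hEW hw₁W
  have hu0 : E + w₁ = 0 := fixInfWw φ hf hsum hwwu
  rw [hu0, map_zero, add_zero] at hmain
  have hfin : TT φ (uu s) a = -a := by
    linear_combination (norm := skip) hmain
    abel
  exact hfin

end Cfsg.Agent.Lib.Helper44.Hig
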