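import Mathlib
import Cfsg.Agent.Lib.Helper44.HigKeyId

/-!
# HIG-[KEYFIN] (helper48's project HIG, S3050): the key lemma from the key identity
-/

set_option autoImplicit false

namespace Cfsg.Agent.Lib.Helper44.Hig

open Matrix Matrix.SpecialLinearGroup
open scoped MatrixGroups
open Cfsg.Agent.Lib.Helper19.NatSL2
open Cfsg.Agent.Lib.Helper48.Hig

variable {F : Type*} [Field F] [CharP F 2] {M : Type*} [CommGroup M] (φ : SL(2, F) →* MulAut M)

/-- every `s ≠ 0` is of the form `1/c + 1/c' + 1/(c + c')`. -/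
theorem exists_cc (r : F) (hr0 : r ≠ 0) (hr1 : r ≠ 1) (hrq : r * r + r + 1 ≠ 0) (s : F) (hs : s ≠ 0) :
    ∃ c c' : Fˣ, (c : F) + c' ≠ 0 ∧ (c : F)⁻¹ + (c' : F)⁻¹ + ((c : F) + c')⁻¹ = s := by
  have h2 : (2 : F) = 0 := CharTwo.two_eq_zero
  have hr1' : r + 1 ≠ 0 := by
    intro h
    apply hr1
    linear_combination h - h2
  have hc : (r * r + r + 1) / (s * (r + 1)) ≠ 0 := div_ne_zero hrq (mul_ne_zero hs hr1')
  have hc' : (r * r + r + 1) / (s * r * (r + 1)) ≠ 0 :=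
    div_ne_zero hrq (mul_ne_zero (mul_ne_zero hs hr0) hr1')
  refine ⟨Units.mk0 _ hc, Units.mk0 _ hc', ?_, ?_⟩
  · simp only [Units.val_mk0]
    have : (r * r + r + 1) / (s * (r + 1)) + (r * r + r + 1) / (s * r * (r + 1))
        = (r * r + r + 1) / (s * r) := by
      field_simp
    rw [this]
    exact div_ne_zero hrq (mul_ne_zero hs hr0)
  · simp only [Units.val_mk0]
    have : (r * r + r + 1) / (s * (r + 1)) + (r * r + r + 1) / (s * r * (r + 1))
        = (r * r + r + 1) / (s * r) := by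
      field_simp
    rw [this, inv_div, inv_div, inv_div, ← add_div, ← add_div, div_eq_iff hrq]
    linear_combination (s * r) * h2

theorem key_lemma (hf : FPF φ) (hr : ∃ r : F, r ≠ 0 ∧ r ≠ 1 ∧ r * r + r + 1 ≠ 0)
    (D : Subgroup M) (hH : ∀ (t : Fˣ), ∀ d ∈ D, φ (hh t) d ∈ D)
    (hU : ∀ d ∈ D, ∀ s : F, φ (uu s) d / d ∈ fixU φ)
    (hV : ∀ d ∈ D, d ∈ V0 φ → d ∈ fixU φ) : D ≤ fixU φ := by
  obtain ⟨r, hr0, hr1, hrq⟩ := hr
  have h2 : (2 : F) = 0 := CharTwo.two_eq_zero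
  have hr1' : (1 : F) + r ≠ 0 := by
    intro h
    apply hr1
    linear_combination h - h2
  -- `u(s) d = d⁻¹` for all `s ≠ 0`
  have hinv : ∀ d ∈ D, ∀ s : F, s ≠ 0 → φ (uu s) d = d⁻¹ := by
    intro d hd s hs
    obtain ⟨c, c', hcc, hsum⟩ := exists_cc r hr0 hr1 hrq s hs
    have := key_identity φ hf D hH hU hV c c' hcc hd
    rwa [hsum] at this
  intro d hd
  have hdd : d⁻¹ = d := by
    have h1 := hinv d hd (1 + r) hr1'
    rw [uu_add, phi_mul, hinv d hd r hr0, map_inv, hinv d hd 1 one_ne_zero, inv_inv] at h1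
    exact h1.symm
  intro s
  by_cases hs : s = 0
  · rw [hs, uu_zero, map_one, MulAut.one_apply]
  · rw [hinv d hd s hs, hdd]

end Cfsg.Agent.Lib.Helper44.Hig
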