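import Mathlib
import Cfsg.Agent.Lib.Helper44.HigBase

/-!
# HIG-[QUADV0] (helper48's project HIG, S3050)
-/

set_option autoImplicit false

namespace Cfsg.Agent.Lib.Helper44.Hig

open Matrix Matrix.SpecialLinearGroup
open scoped MatrixGroups
open Cfsg.Agent.Lib.Helper19.NatSL2
open Cfsg.Agent.Lib.Helper48.Hig

variable {F : Type*} [Field F] [CharP F 2] {M : Type*} [CommGroup M] (φ : SL(2, F) →* MulAut M)

theorem eq_V0_of_quad (hf : FPF φ) (hexp : ∀ m : M, m * m = 1)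
    (hq : ∀ (m : M) (s : F), φ (uu s) m / m ∈ fixU φ) : V0 φ = ⊤ := by
  have hinv : ∀ m : M, m⁻¹ = m := fun m => inv_eq_of_mul_eq_one_left (hexp m)
  -- (A) `Y m = w m * X m`
  have hA : ∀ m : M, φ (ll (1 : F)) m = φ ww m * φ (uu (1 : F)) m := by
    intro m
    have h := genRel φ hf 1 m
    simp only [inv_one, hh_one, one_mul, Units.val_one] at h
    rw [mul_assoc] at h
    rw [eq_inv_of_mul_eq_one_left h, hinv]
  have hXX : ∀ m : M, φ (uu (1 : F)) (φ (uu (1 : F)) m) = m := by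
    intro m; rw [← phi_mul, uu_mul_self, map_one, MulAut.one_apply]
  have hYY : ∀ m : M, φ (ll (1 : F)) (φ (ll (1 : F)) m) = m := by
    intro m; rw [← phi_mul, ll_mul_self, map_one, MulAut.one_apply]
  have hww : ∀ m : M, φ ww (φ ww m) = m := by
    intro m; rw [← phi_mul, ww_mul_ww, map_one, MulAut.one_apply]
  -- `w m = Y m * X m`
  have hW : ∀ m : M, φ ww m = φ (ll (1 : F)) m * φ (uu (1 : F)) m := by
    intro m
    rw [hA m, mul_assoc, hexp, mul_one]
  -- (C) `YX m * XY m = m`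
  have hC : ∀ m : M, φ (ll (1 : F)) (φ (uu (1 : F)) m) * φ (uu (1 : F)) (φ (ll (1 : F)) m) = m := by
    intro m
    have h := hww m
    rw [hW (φ ww m), hW m, map_mul, map_mul, hYY, hXX] at h
    calc φ (ll (1 : F)) (φ (uu (1 : F)) m) * φ (uu (1 : F)) (φ (ll (1 : F)) m)
        = (m * m) * (φ (ll (1 : F)) (φ (uu (1 : F)) m) * φ (uu (1 : F)) (φ (ll (1 : F)) m)) := by
          rw [hexp, one_mul]
      _ = m * φ (ll (1 : F)) (φ (uu (1 : F)) m) * (φ (uu (1 : F)) (φ (ll (1 : F)) m) * m) := by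
          simp only [mul_assoc, mul_comm, mul_left_comm]
      _ = m := h
  rw [eq_top_iff]
  intro m _
  set w0 : M := φ (uu (1 : F)) m / m with hw0
  have hw0W : w0 ∈ fixU φ := hq m 1
  have hpY : φ (uu (1 : F)) (φ (ll (1 : F)) m) / φ (ll (1 : F)) m ∈ fixU φ := hq _ 1
  have hYw0 : φ (ll (1 : F)) w0 = w0⁻¹ * φ ww w0⁻¹ := by
    have h := llFix φ hf 1 hw0W
    simp only [inv_one, hh_one, one_mul, Units.val_one] at h
    rw [h, map_inv, mul_comm]
  have hm : m = (φ (uu (1 : F)) (φ (ll (1 : F)) m) / φ (ll (1 : F)) m * w0⁻¹) * φ ww w0⁻¹ := by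
    rw [mul_assoc, ← hYw0, hw0, map_div, div_eq_mul_inv, div_eq_mul_inv, hinv]
    calc m = φ (ll (1 : F)) (φ (uu (1 : F)) m) * φ (uu (1 : F)) (φ (ll (1 : F)) m) := (hC m).symm
      _ = φ (uu (1 : F)) (φ (ll (1 : F)) m) * (φ (ll (1 : F)) m * φ (ll (1 : F)) m) *
            φ (ll (1 : F)) (φ (uu (1 : F)) m) := by
          rw [hexp, mul_one, mul_comm]
      _ = _ := by simp only [mul_assoc, mul_comm, mul_left_comm]
  rw [hm, mem_V0]
  exact ⟨_, Subgroup.mul_mem _ hpY (Subgroup.inv_mem _ hw0W), _, Subgroup.inv_mem _ hw0W, rfl⟩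

end Cfsg.Agent.Lib.Helper44.Hig
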