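import Mathlib

/-!
# HIG-[RPOLY] (helper48's project HIG, S3050): field elements avoiding `X² + X + 1`
-/

set_option autoImplicit false

namespace Cfsg.Agent.Lib.Helper44.Hig

variable {F : Type*} [Field F] [CharP F 2]

omit [Field F] [CharP F 2] in
theorem exists_notMem_four' [Finite F] (hF : 4 < Nat.card F) (a b c d : F) :
    ∃ v : F, v ≠ a ∧ v ≠ b ∧ v ≠ c ∧ v ≠ d := by
  classical
  have := Fintype.ofFinite F
  have h4 : ({a, b, c, d} : Finset F).card < (Finset.univ : Finset F).card := by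
    rw [Finset.card_univ, ← Nat.card_eq_fintype_card]
    exact lt_of_le_of_lt Finset.card_le_four hF
  obtain ⟨v, -, hv⟩ := Finset.exists_mem_notMem_of_card_lt_card h4
  simp only [Finset.mem_insert, Finset.mem_singleton, not_or] at hv
  exact ⟨v, hv.1, hv.2.1, hv.2.2.1, hv.2.2.2⟩

theorem exists_r [Finite F] (hF : 4 < Nat.card F) : ∃ r : F, r ≠ 0 ∧ r ≠ 1 ∧ r * r + r + 1 ≠ 0 := by
  by_cases h : ∃ w : F, w * w + w + 1 = 0
  · obtain ⟨w, hw⟩ := h
    obtain ⟨v, h0, h1, h2, h3⟩ := exists_notMem_four' hF 0 1 w (w + 1)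
    refine ⟨v, h0, h1, fun hv => ?_⟩
    have h2' : (2 : F) = 0 := CharTwo.two_eq_zero
    have hprod : (v - w) * (v - (w + 1)) = 0 := by
      linear_combination hv - hw + (-v * w + w ^ 2 - v + w) * h2'
    rcases mul_eq_zero.1 hprod with h | h
    · exact h2 (sub_eq_zero.1 h)
    · exact h3 (sub_eq_zero.1 h)
  · push Not at h
    obtain ⟨v, h0, h1, -, -⟩ := exists_notMem_four' hF 0 1 0 1
    exact ⟨v, h0, h1, h v⟩

theorem exists_ab [Finite F] (hF : 4 ≤ Nat.card F) : ∃ a b : F, a ≠ 0 ∧ b ≠ 0 ∧ a + b ≠ 0 := by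
  classical
  have := Fintype.ofFinite F
  have h2 : ({0, 1} : Finset F).card < (Finset.univ : Finset F).card := by
    rw [Finset.card_univ, ← Nat.card_eq_fintype_card]
    exact lt_of_le_of_lt Finset.card_le_two (by omega)
  obtain ⟨b, -, hb⟩ := Finset.exists_mem_notMem_of_card_lt_card h2
  simp only [Finset.mem_insert, Finset.mem_singleton, not_or] at hb
  refine ⟨1, b, one_ne_zero, hb.1, fun h => hb.2 ?_⟩
  have h2' : (2 : F) = 0 := CharTwo.two_eq_zero
  linear_combination h - h2'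

end Cfsg.Agent.Lib.Helper44.Hig
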