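import Mathlib
import Cfsg.Agent.Lib.Helper44.LBNoNormal
import Cfsg.Agent.Lib.Helper36.LocalBalance.PSpStd

set_option autoImplicit false

/-!
# `PSp_{2m}(q)` (`m ≥ 2`, `q ≥ 3`) has no non-trivial normal subgroup of odd order
-/

namespace Cfsg.Agent.Lib.Helper44.LB

open Cfsg.Agent.Lib.Helper36.LocalBalance

variable {m : ℕ} {F : Type*} [Field F]

/-- **(L-Sp)** -/
theorem noNormal_PSp [Fintype F] (hm : 2 ≤ m) (hq3 : 3 ≤ Fintype.card F) :
    ∀ M : Subgroup (↥(Matrix.symplecticGroup (Fin m) F) ⧸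
      Subgroup.center ↥(Matrix.symplecticGroup (Fin m) F)), M.Normal →
      (Nat.card ↥M).Coprime 2 → M = ⊥ := by
  have : Fact (Nat.Prime 2) := ⟨Nat.prime_two⟩
  have hsimple : IsSimpleGroup (Cfsg.PSp m F) :=
    Cfsg.Agent.S0270.result m hm (fun _ => hq3)
  exact fun M hM hc =>
    noNormal_of_simple (E := Cfsg.PSp m F) 2 (even_card_PSp (by omega)) M hM hc

/-- **(L-Sp)** in odd characteristic -/
theorem noNormal_PSp_odd [Fintype F] (hm : 2 ≤ m) (h2 : (2 : F) ≠ 0) :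
    ∀ M : Subgroup (↥(Matrix.symplecticGroup (Fin m) F) ⧸
      Subgroup.center ↥(Matrix.symplecticGroup (Fin m) F)), M.Normal →
      (Nat.card ↥M).Coprime 2 → M = ⊥ := by
  apply noNormal_PSp hm
  have hodd := odd_card_of_two_ne_zero h2
  have h1 : 1 < Fintype.card F := Fintype.one_lt_card
  obtain ⟨k, hk⟩ := hodd
  omega

end Cfsg.Agent.Lib.Helper44.LB
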