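import Mathlib
import Cfsg.Agent.Lib.Helper44.LBGen
import Cfsg.Agent.Lib.Helper44.LBOrth3
import Cfsg.Agent.Lib.Helper44.GraphInv3
import Cfsg.Agent.Lib.Helper44.Transport
import Cfsg.Agent.Lib.Helper36.PgoInn

set_option autoImplicit false
set_option linter.unusedSimpArgs false
set_option linter.unusedVariables false
set_option linter.unusedSectionVars false

/-!
# Local balance for graph involutions of orthogonal type of `PSL_n(F)`

`x = gr (Gram Q)⁻¹`, `E` = image of `Ω(Q)`: `O_{2'}(C_A(x)) = 1`, given that `PΩ(Q)` has no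
non-trivial normal subgroup of odd order.
-/

namespace Cfsg.Agent.Lib.Helper44.LB

open scoped MatrixGroups Matrix
open Matrix Cfsg.Agent.Lib.Helper43 Cfsg.Agent.Lib.Helper36 Cfsg.Agent.Lib.Helper36.LocalBalance
  Cfsg.Agent.Lib.Helper44 Cfsg.Agent.Lib.Helper44.GraphInv

section general

variable {ι : Type} [Fintype ι] [DecidableEq ι] {F : Type*} [Field F]

/-- an element normalising the isometry group normalises `Ω` -/
theorem conj_mem_OmegaGL (Q : (ι → F) → F) (k : GL ι F)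
    (hk : ∀ x : GL ι F, x ∈ Cfsg.isometryGroup F Q → k * x * k⁻¹ ∈ Cfsg.isometryGroup F Q)
    (g : GL ι F) (hg : g ∈ OmegaGL Q) : k * g * k⁻¹ ∈ OmegaGL Q := by
  obtain ⟨s, hs, rfl⟩ := hg
  let ψ : ↥(Cfsg.isometryGroup F Q) →* ↥(Cfsg.isometryGroup F Q) :=
    { toFun := fun x => ⟨k * (x : GL ι F) * k⁻¹, hk _ x.2⟩
      map_one' := by
        apply Subtype.ext
        show k * ((1 : ↥(Cfsg.isometryGroup F Q)) : GL ι F) * k⁻¹ = 1
        rw [Subgroup.coe_one, mul_one, mul_inv_cancel]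
      map_mul' := by
        intro a b
        apply Subtype.ext
        show k * ((a * b : ↥(Cfsg.isometryGroup F Q)) : GL ι F) * k⁻¹ =
          (k * (a : GL ι F) * k⁻¹) * (k * (b : GL ι F) * k⁻¹)
        rw [Subgroup.coe_mul]
        group }
  exact ⟨ψ s, monoidHom_mem_commutator ψ hs, rfl⟩

theorem similarity_conj_mem_OmegaGL (Q : (ι → F) → F) (k : GL ι F)
    (hk : k ∈ Cfsg.Geo.quadSimilarityGroup Q) (g : GL ι F) (hg : g ∈ OmegaGL Q) :
    k * g * k⁻¹ ∈ OmegaGL Q := by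
  apply conj_mem_OmegaGL Q k _ g hg
  intro x hx
  have h1 := similarity_le_normalizer Q hk
  rw [Subgroup.mem_normalizer_iff] at h1
  exact (h1 x).mp hx

end general

variable {n : ℕ} {F : Type*} [Field F]

/-- an isometry preserves the Gram matrix -/
theorem gram_of_isometry (Q : QuadraticForm F (Fin n → F)) (h : GL (Fin n) F)
    (hh : h ∈ Cfsg.isometryGroup F ⇑Q) :
    (h : Matrix (Fin n) (Fin n) F)ᵀ * gramStd ⇑Q * (h : Matrix (Fin n) (Fin n) F) =
      gramStd ⇑Q := by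
  rw [mem_isometryGroup_iff'] at hh
  apply bf_ext
  intro u v
  rw [← bf_mulVec, bf_gramStd, bf_gramStd]
  unfold QuadraticMap.polar
  rw [← Matrix.mulVec_add, hh, hh, hh]

/-- GL-level: `hᵀ G h = G` gives `h G⁻¹ hᵀ = G⁻¹` -/
theorem inv_congr_of_congr (G h : GL (Fin n) F)
    (hh : (h : Matrix (Fin n) (Fin n) F)ᵀ * (G : Matrix (Fin n) (Fin n) F) *
      (h : Matrix (Fin n) (Fin n) F) = (G : Matrix (Fin n) (Fin n) F)) :
    (h : Matrix (Fin n) (Fin n) F) * ((G⁻¹ : GL (Fin n) F) : Matrix (Fin n) (Fin n) F) *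
      (h : Matrix (Fin n) (Fin n) F)ᵀ = ((G⁻¹ : GL (Fin n) F) : Matrix (Fin n) (Fin n) F) := by
  have h1 : (glInvT h)⁻¹ * G * h = G := by
    apply Units.ext
    rw [Units.val_mul, Units.val_mul, glInvT_inv_coe]
    exact hh
  have hT : (glInvT h)⁻¹ = G * h⁻¹ * G⁻¹ := by
    calc (glInvT h)⁻¹ = ((glInvT h)⁻¹ * G * h) * h⁻¹ * G⁻¹ := by group
      _ = _ := by rw [h1]
  have h2 : h * G⁻¹ * (glInvT h)⁻¹ = G⁻¹ := by
    rw [hT]; group
  have := congrArg (fun x : GL (Fin n) F => (x : Matrix (Fin n) (Fin n) F)) h2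
  beta_reduce at this
  rwa [Units.val_mul, Units.val_mul, glInvT_inv_coe] at this

/-- GL-level: `k G⁻¹ kᵀ = c G⁻¹` gives `kᵀ G k = c G` -/
theorem congr_of_inv_congr (G k : GL (Fin n) F) (c : Fˣ)
    (hk : (k : Matrix (Fin n) (Fin n) F) * ((G⁻¹ : GL (Fin n) F) : Matrix (Fin n) (Fin n) F) *
      (k : Matrix (Fin n) (Fin n) F)ᵀ =
        (c : F) • ((G⁻¹ : GL (Fin n) F) : Matrix (Fin n) (Fin n) F)) :
    (k : Matrix (Fin n) (Fin n) F)ᵀ * (G : Matrix (Fin n) (Fin n) F) *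
      (k : Matrix (Fin n) (Fin n) F) = (c : F) • (G : Matrix (Fin n) (Fin n) F) := by
  set s : GL (Fin n) F := Matrix.GeneralLinearGroup.scalar (Fin n) c with hs
  have hcen : ∀ y : GL (Fin n) F, s * y = y * s := by
    intro y
    have : s ∈ Subgroup.center (GL (Fin n) F) := by
      rw [Matrix.GeneralLinearGroup.center_eq_range_scalar]
      exact ⟨c, rfl⟩
    exact (Subgroup.mem_center_iff.mp this y).symm
  have h1 : k * G⁻¹ * (glInvT k)⁻¹ = s * G⁻¹ := by
    apply Units.ext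
    rw [Units.val_mul, Units.val_mul, glInvT_inv_coe, Units.val_mul, hs, scalar_coe,
      Matrix.smul_mul, Matrix.one_mul]
    exact hk
  have hT : (glInvT k)⁻¹ = G * k⁻¹ * s * G⁻¹ := by
    calc (glInvT k)⁻¹ = G * k⁻¹ * (k * G⁻¹ * (glInvT k)⁻¹) := by group
      _ = _ := by rw [h1]; group
  have h2 : (glInvT k)⁻¹ * G * k = s * G := by
    rw [hT]
    calc G * k⁻¹ * s * G⁻¹ * G * k = G * k⁻¹ * (s * k) := by group
      _ = G * k⁻¹ * (k * s) := by rw [hcen]
      _ = G * s := by group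
      _ = s * G := (hcen G).symm
  have := congrArg (fun x : GL (Fin n) F => (x : Matrix (Fin n) (Fin n) F)) h2
  beta_reduce at this
  rwa [Units.val_mul, Units.val_mul, glInvT_inv_coe, Units.val_mul, hs, scalar_coe,
    Matrix.smul_mul, Matrix.one_mul] at this

/-- **orthogonal graph involutions** -/
theorem lb_orth [Fintype F] [DecidableEq F] (hn : 3 ≤ n) (h2 : (2 : F) ≠ 0)
    (hstd : AllStdAut n F)
    (hZ : Subgroup.center (Matrix.ProjectiveSpecialLinearGroup (Fin n) F) = ⊥)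
    (Q : QuadraticForm F (Fin n → F)) (hQ : (QuadraticMap.polarBilin Q).Nondegenerate)
    (d4 : ∀ M : Subgroup (↥(OmegaGL ⇑Q) ⧸ Subgroup.center ↥(OmegaGL ⇑Q)), M.Normal →
      (Nat.card ↥M).Coprime 2 → M = ⊥)
    (A : Subgroup (MulAut (Matrix.ProjectiveSpecialLinearGroup (Fin n) F)))
    (hinn : Cfsg.Inn (Matrix.ProjectiveSpecialLinearGroup (Fin n) F) ≤ A) :
    Cfsg.pPrimeCore 2 ↥(A ⊓ Subgroup.centralizer {gr (glGram Q hQ)⁻¹}) = ⊥ := by
  have hn2 : 2 ≤ n := by omega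
  set G : GL (Fin n) F := glGram Q hQ with hG
  have hGt : (G : Matrix (Fin n) (Fin n) F)ᵀ = (G : Matrix (Fin n) (Fin n) F) := by
    rw [hG, glGram_coe]
    exact gramStd_transpose Q
  have hGit : ((G⁻¹ : GL (Fin n) F) : Matrix (Fin n) (Fin n) F)ᵀ =
      ((G⁻¹ : GL (Fin n) F) : Matrix (Fin n) (Fin n) F) := by
    have h3 : (glInvT G)⁻¹ = G := Units.ext (by rw [glInvT_inv_coe, hGt])
    have h1 : glInvT G = G⁻¹ := inv_eq_iff_eq_inv.mp h3
    rw [← glInvT_coe, h1]
  have hxx : gr G⁻¹ ^ 2 = 1 := by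
    rw [pow_two]
    exact gr_mul_self_eq_one_of_symm hn2 _ hGit
  have hx : (stdPart hn hstd (gr G⁻¹)).2 = Multiplicative.ofAdd (1 : ZMod 2) := by
    have h1 : IsStdAut (gr G⁻¹) ((1 : RingAut F), Multiplicative.ofAdd (1 : ZMod 2)) := by
      refine ⟨G⁻¹, ?_⟩
      show gr G⁻¹ = pslDiag G⁻¹ * pslField 1 * pslGraph (Multiplicative.ofAdd (1 : ZMod 2))
      rw [map_one, mul_one, pslGraph_one_add]
      rfl
    rw [stdPart_eq hn hstd h1]
  -- the data
  let φ : ↥(OmegaGL (⇑Q)) →* GL (Fin n) F := (OmegaGL (⇑Q)).subtype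
  refine lb_graph_generic hn hstd hZ (gr G⁻¹) hxx hx φ Subtype.val_injective ?_ ?_ ?_ d4 ?_ A hinn
  · -- d1
    intro g
    have h1 := OmegaGL_le_special (⇑Q) g.2
    exact h1.2
  · -- d2
    intro g
    rw [pslDiag_mem_centralizer_gr_iff hn2]
    refine ⟨1, ?_⟩
    rw [Units.val_one, one_smul]
    apply inv_congr_of_congr G
    rw [hG, glGram_coe]
    exact gram_of_isometry Q _ (OmegaGL_le_isometryGroup (⇑Q) g.2)
  · -- d3
    intro k hk g
    rw [pslDiag_mem_centralizer_gr_iff hn2] at hk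
    obtain ⟨c, hc⟩ := hk
    have h1 := congr_of_inv_congr G k c hc
    have h3 : k ∈ Cfsg.Geo.quadSimilarityGroup (⇑Q) := by
      rw [← sim_polar_eq_quadSim h2 Q]
      have h4 : QuadraticMap.polar (⇑Q) = bf (G : Matrix (Fin n) (Fin n) F) := by
        funext u v
        rw [hG, glGram_coe, bf_gramStd]
      rw [h4, mem_sim_bf_iff]
      exact ⟨c, h1⟩
    refine ⟨⟨k * (g : GL (Fin n) F) * k⁻¹, similarity_conj_mem_OmegaGL (⇑Q) k h3 _ g.2⟩, 1, ?_⟩
    rw [map_one, one_mul]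
    rfl
  · -- d5
    intro h τ H
    have H' : ∀ A : GL (Fin n) F, A ∈ OmegaGL (⇑Q) → ∃ c : F,
        (h : Matrix (Fin n) (Fin n) F) *
          ((A : Matrix (Fin n) (Fin n) F).map (RingHom.id F)).map τ =
        c • ((A : Matrix (Fin n) (Fin n) F).map (RingHom.id F) *
          (h : Matrix (Fin n) (Fin n) F)) := by
      intro A hA
      obtain ⟨c, hc⟩ := H ⟨A, hA⟩
      refine ⟨c, ?_⟩
      have := congrArg (fun x : GL (Fin n) F => (x : Matrix (Fin n) (Fin n) F)) hc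
      beta_reduce at this
      rw [Units.val_mul, Units.val_mul, Units.val_mul, scalar_coe, Matrix.smul_mul,
        Matrix.one_mul] at this
      have hid : (A : Matrix (Fin n) (Fin n) F).map (RingHom.id F) =
          (A : Matrix (Fin n) (Fin n) F) := by
        ext a b
        rfl
      rw [hid]
      exact this
    obtain ⟨hτ, c, hc⟩ := cent_orth Q hQ h2 (by rw [Fintype.card_fin]; exact hn)
      (RingHom.id F) τ h H'
    refine ⟨?_, ?_⟩
    · apply RingEquiv.ext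
      intro t
      exact hτ t
    · have hc0 : c ≠ 0 := by
        intro h0
        rw [h0, zero_smul] at hc
        have hdet := (Matrix.isUnit_iff_isUnit_det _).mp h.isUnit
        haveI : Nonempty (Fin n) := ⟨⟨0, by omega⟩⟩
        rw [hc, Matrix.det_zero] at hdet
        exact not_isUnit_zero hdet
      refine ⟨Units.mk0 c hc0, ?_⟩
      apply Units.ext
      rw [scalar_coe, hc]
      rfl

end Cfsg.Agent.Lib.Helper44.LB
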