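import Mathlib
import Cfsg.Agent.Lib.Helper36.LocalBalance.PSpCent

set_option autoImplicit false
set_option linter.unusedSimpArgs false
set_option linter.unusedVariables false
set_option linter.unusedSectionVars false

/-!
# The centraliser computation for `Sp_{2m}(F₀)` inside `GL_{2m}` over an extension field
-/

namespace Cfsg.Agent.Lib.Helper44.LB

open scoped MatrixGroups Matrix
open Matrix Cfsg.Agent.Lib.Helper36.LocalBalance Cfsg.Agent.Lib.Helper13

variable {m : ℕ} {F₀ F : Type*} [Field F₀] [Field F]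

/-- **the centraliser computation for `Sp_{2m}(F₀)`** -/
theorem cent_symp (hm : 1 ≤ m) (j : F₀ →+* F) (τ : F ≃+* F) (h : GL (Fin m ⊕ Fin m) F)
    (H : ∀ A : Matrix (Fin m ⊕ Fin m) (Fin m ⊕ Fin m) F₀, A ∈ Matrix.symplecticGroup (Fin m) F₀ →
      ∃ c : F, (h : Matrix (Fin m ⊕ Fin m) (Fin m ⊕ Fin m) F) * (A.map j).map τ =
        c • (A.map j * (h : Matrix (Fin m ⊕ Fin m) (Fin m ⊕ Fin m) F))) :
    (∀ t : F₀, τ (j t) = j t) ∧
      ∃ c : F, (h : Matrix (Fin m ⊕ Fin m) (Fin m ⊕ Fin m) F) = c • 1 := by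
  have hne : Nonempty (Fin m ⊕ Fin m) := ⟨Sum.inl ⟨0, hm⟩⟩
  set G : Matrix (Fin m ⊕ Fin m) (Fin m ⊕ Fin m) F :=
    (h : Matrix (Fin m ⊕ Fin m) (Fin m ⊕ Fin m) F) with hG
  have hcomm : ∀ (v : Fin m ⊕ Fin m → F₀) (c : F₀),
      G * (((Cfsg.sympTransvection m v c).map j).map τ) =
        (Cfsg.sympTransvection m v c).map j * G := by
    intro v c
    obtain ⟨c', h6⟩ := H _ (sympTransvection_mem v c)
    set W : Matrix (Fin m ⊕ Fin m) (Fin m ⊕ Fin m) F₀ :=
      Matrix.vecMulVec v (Matrix.J (Fin m) F₀ *ᵥ v) with hW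
    set N : Matrix (Fin m ⊕ Fin m) (Fin m ⊕ Fin m) F := (c • W).map j with hN
    have hT : (Cfsg.sympTransvection m v c).map j = 1 + N := by
      unfold Cfsg.sympTransvection
      rw [Matrix.map_add _ (map_add j), Matrix.map_one _ (map_zero j) (map_one j)]
    have hNN : N * N = 0 := by
      rw [hN, ← Matrix.map_mul, Matrix.smul_mul, Matrix.mul_smul, hW,
        sympTransvection_sq_zero, smul_zero, smul_zero, Matrix.map_zero _ (map_zero j)]
    have hTτ : (1 + N).map τ = 1 + N.map τ := by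
      rw [Matrix.map_add _ (map_add τ), Matrix.map_one _ (map_zero τ) (map_one τ)]
    have hNN' : N.map τ * N.map τ = 0 := by
      have : (N * N).map τ = N.map τ * N.map τ := Matrix.map_mul (f := ((τ : F ≃+* F) : F →+* F))
      rw [← this, hNN, Matrix.map_zero _ (map_zero τ)]
    rw [hT, hTτ] at h6
    have hc1 : c' = 1 := unip_scalar h N (N.map τ) hNN hNN' _ h6
    rw [hc1, one_smul] at h6
    rw [hT, hTτ]
    exact h6
  set e₀ : Fin m ⊕ Fin m → F₀ := Pi.single (Sum.inl ⟨0, hm⟩) 1 with he₀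
  set N₀ : Matrix (Fin m ⊕ Fin m) (Fin m ⊕ Fin m) F₀ :=
    Matrix.vecMulVec e₀ (Matrix.J (Fin m) F₀ *ᵥ e₀) with hN₀
  have he₀0 : e₀ ≠ 0 := by
    intro h0
    have := congrFun h0 (Sum.inl ⟨0, hm⟩)
    simp [he₀] at this
  have hN₀0 : N₀ ≠ 0 := by
    intro h0
    obtain ⟨u, hu⟩ := exists_sympForm_ne_zero' he₀0
    have h1 := sympTransvection_mulVec e₀ 1 u
    unfold Cfsg.sympTransvection at h1
    rw [← hN₀, h0, smul_zero, add_zero, Matrix.one_mulVec, one_mul] at h1
    have h2 : Cfsg.sympForm m F₀ u e₀ • e₀ = 0 := by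
      have := h1.symm
      rwa [add_eq_left] at this
    rcases smul_eq_zero.mp h2 with h3 | h3
    · exact hu h3
    · exact he₀0 h3
  exact cent_matrix j τ h
    {M | ∃ (v : Fin m ⊕ Fin m → F₀) (c : F₀), M = Cfsg.sympTransvection m v c}
    (by
      rintro M ⟨v, c, rfl⟩
      exact hcomm v c)
    N₀ hN₀0 (fun t => ⟨e₀, t, rfl⟩)
    (by
      intro M hM
      apply scalar_of_commutes_transvections M
      intro v
      exact hM _ ⟨v, 1, rfl⟩)

end Cfsg.Agent.Lib.Helper44.LB
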