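import Mathlib
import Cfsg.Agent.Lib.Helper44.LBGen
import Cfsg.Agent.Lib.Helper44.LBSymp
import Cfsg.Agent.Lib.Helper44.GraphInv3
import Cfsg.Agent.Lib.Helper36.LocalBalance.PSpStd

set_option autoImplicit false
set_option linter.unusedSimpArgs false
set_option linter.unusedVariables false
set_option linter.unusedSectionVars false

/-!
# Local balance for graph involutions of symplectic type of `PSL_n(F)`, `n = 2m`
-/

namespace Cfsg.Agent.Lib.Helper44.LB

open scoped MatrixGroups Matrix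
open Matrix Cfsg.Agent.Lib.Helper43 Cfsg.Agent.Lib.Helper36 Cfsg.Agent.Lib.Helper36.LocalBalance
  Cfsg.Agent.Lib.Helper44 Cfsg.Agent.Lib.Helper44.GraphInv

variable {n m : ℕ} {F : Type*} [Field F]

/-- reindexing `GL` -/
noncomputable def reGL (e : Fin m ⊕ Fin m ≃ Fin n) : GL (Fin m ⊕ Fin m) F ≃* GL (Fin n) F :=
  Units.mapEquiv (Matrix.reindexAlgEquiv F F e).toMulEquiv

theorem reGL_coe (e : Fin m ⊕ Fin m ≃ Fin n) (k : GL (Fin m ⊕ Fin m) F) :
    ((reGL e k : GL (Fin n) F) : Matrix (Fin n) (Fin n) F) =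
      (k : Matrix (Fin m ⊕ Fin m) (Fin m ⊕ Fin m) F).submatrix e.symm e.symm := rfl

theorem reGL_symm_coe (e : Fin m ⊕ Fin m ≃ Fin n) (k : GL (Fin n) F) :
    (((reGL e).symm k : GL (Fin m ⊕ Fin m) F) : Matrix (Fin m ⊕ Fin m) (Fin m ⊕ Fin m) F) =
      (k : Matrix (Fin n) (Fin n) F).submatrix e e := rfl

/-- the symplectic group inside `GL_n` -/
noncomputable def spToGL (e : Fin m ⊕ Fin m ≃ Fin n) :
    ↥(Matrix.symplecticGroup (Fin m) F) →* GL (Fin n) F :=
  (reGL e).toMonoidHom.comp (MonoidHom.toHomUnits (Matrix.symplecticGroup (Fin m) F).subtype)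

theorem spToGL_coe (e : Fin m ⊕ Fin m ≃ Fin n) (A : ↥(Matrix.symplecticGroup (Fin m) F)) :
    ((spToGL e A : GL (Fin n) F) : Matrix (Fin n) (Fin n) F) =
      (A : Matrix (Fin m ⊕ Fin m) (Fin m ⊕ Fin m) F).submatrix e.symm e.symm := rfl

theorem spToGL_injective (e : Fin m ⊕ Fin m ≃ Fin n) :
    Function.Injective (spToGL (F := F) e) := by
  intro A B hAB
  have h1 := congrArg (fun x : GL (Fin n) F => (x : Matrix (Fin n) (Fin n) F)) hAB
  beta_reduce at h1
  rw [spToGL_coe, spToGL_coe] at h1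
  apply Subtype.ext
  have h2 := congrArg (fun M : Matrix (Fin n) (Fin n) F => M.submatrix e e) h1
  beta_reduce at h2
  simpa using h2

/-- **symplectic graph involutions** -/
theorem lb_symp [Fintype F] [DecidableEq F] (hn : 3 ≤ n) (hm : 2 ≤ m) (h2 : (2 : F) ≠ 0)
    (hstd : AllStdAut n F)
    (hZ : Subgroup.center (Matrix.ProjectiveSpecialLinearGroup (Fin n) F) = ⊥)
    (e : Fin m ⊕ Fin m ≃ Fin n)
    (A : Subgroup (MulAut (Matrix.ProjectiveSpecialLinearGroup (Fin n) F)))
    (hinn : Cfsg.Inn (Matrix.ProjectiveSpecialLinearGroup (Fin n) F) ≤ A) :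
    Cfsg.pPrimeCore 2 ↥(A ⊓ Subgroup.centralizer {gr (altGL (F := F) e)}) = ⊥ := by
  have hn2 : 2 ≤ n := by omega
  have : Fact (Nat.Prime 2) := ⟨Nat.prime_two⟩
  have hxx : gr (altGL (F := F) e) ^ 2 = 1 := by
    rw [pow_two]
    exact gr_mul_self_eq_one_of_alt hn2 _ (altGL_transpose e)
  have hx : (stdPart hn hstd (gr (altGL (F := F) e))).2 = Multiplicative.ofAdd (1 : ZMod 2) := by
    have h1 : IsStdAut (gr (altGL (F := F) e))
        ((1 : RingAut F), Multiplicative.ofAdd (1 : ZMod 2)) := by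
      refine ⟨altGL e, ?_⟩
      show gr (altGL e) = pslDiag (altGL e) * pslField 1 *
        pslGraph (Multiplicative.ofAdd (1 : ZMod 2))
      rw [map_one, mul_one, pslGraph_one_add]
      rfl
    rw [stdPart_eq hn hstd h1]
  have hq3 : 3 ≤ Fintype.card F := by
    by_contra hlt
    have h1 : 1 < Fintype.card F := Fintype.one_lt_card
    have h3 : Fintype.card F = 2 := by omega
    apply h2
    have h4 := Nat.cast_card_eq_zero F
    rw [h3] at h4
    exact_mod_cast h4
  have hsimple : IsSimpleGroup (Cfsg.PSp m F) :=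
    Cfsg.Agent.S0270.result m hm (fun _ => hq3)
  have d4 : ∀ M : Subgroup (↥(Matrix.symplecticGroup (Fin m) F) ⧸
      Subgroup.center ↥(Matrix.symplecticGroup (Fin m) F)), M.Normal →
      (Nat.card ↥M).Coprime 2 → M = ⊥ :=
    fun M hM hc => noNormal_of_simple (E := Cfsg.PSp m F) 2 (even_card_PSp (by omega)) M hM hc
  refine lb_graph_generic hn hstd hZ _ hxx hx (spToGL e) (spToGL_injective e) ?_ ?_ ?_ d4 ?_ A hinn
  · -- d1
    intro g
    apply Units.ext
    rw [Matrix.GeneralLinearGroup.val_det_apply, spToGL_coe, Matrix.det_submatrix_equiv_self,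
      Units.val_one]
    exact SymplecticGroup.det_eq_one g.2
  · -- d2
    intro g
    rw [pslDiag_mem_centralizer_gr_iff hn2]
    refine ⟨1, ?_⟩
    rw [Units.val_one, one_smul, spToGL_coe, altGL_coe, Matrix.transpose_submatrix,
      Matrix.submatrix_mul_equiv, Matrix.submatrix_mul_equiv]
    congr 1
    exact SymplecticGroup.mem_iff.mp g.2
  · -- d3
    intro k hk g
    rw [pslDiag_mem_centralizer_gr_iff hn2] at hk
    obtain ⟨c, hc⟩ := hk
    set k' : GL (Fin m ⊕ Fin m) F := (reGL e).symm k with hk'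
    set K : Matrix (Fin m ⊕ Fin m) (Fin m ⊕ Fin m) F :=
      ((k' : GL (Fin m ⊕ Fin m) F) : Matrix (Fin m ⊕ Fin m) (Fin m ⊕ Fin m) F) with hKdef
    set Ki : Matrix (Fin m ⊕ Fin m) (Fin m ⊕ Fin m) F :=
      ((k'⁻¹ : GL (Fin m ⊕ Fin m) F) : Matrix (Fin m ⊕ Fin m) (Fin m ⊕ Fin m) F) with hKidef
    have hKiK : Ki * K = 1 := by
      rw [hKidef, hKdef, ← Units.val_mul, inv_mul_cancel, Units.val_one]
    have hK : K * Matrix.J (Fin m) F * Kᵀ = (c : F) • Matrix.J (Fin m) F := by
      have h3 := congrArg (fun M : Matrix (Fin n) (Fin n) F => M.submatrix e e) hc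
      beta_reduce at h3
      have hsm : ∀ (t : F) (M : Matrix (Fin n) (Fin n) F),
          (t • M).submatrix e e = t • M.submatrix e e := fun _ _ => rfl
      rw [altGL_coe, hsm, ← Matrix.submatrix_mul_equiv _ _ e e e,
        ← Matrix.submatrix_mul_equiv _ _ e e e, ← Matrix.transpose_submatrix] at h3
      simpa [hKdef, hk', reGL_symm_coe] using h3
    have hKi : Ki * Matrix.J (Fin m) F * Kiᵀ = ((c : F)⁻¹) • Matrix.J (Fin m) F := by
      have h3 : Ki * (K * Matrix.J (Fin m) F * Kᵀ) * Kiᵀ =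
          Ki * ((c : F) • Matrix.J (Fin m) F) * Kiᵀ := by rw [hK]
      have h4 : Ki * (K * Matrix.J (Fin m) F * Kᵀ) * Kiᵀ =
          (Ki * K) * Matrix.J (Fin m) F * (Ki * K)ᵀ := by
        rw [Matrix.transpose_mul]
        simp only [Matrix.mul_assoc]
      rw [h4, hKiK, Matrix.one_mul, Matrix.transpose_one, Matrix.mul_one, Matrix.mul_smul,
        Matrix.smul_mul] at h3
      conv_rhs => rw [h3, smul_smul, inv_mul_cancel₀ c.ne_zero, one_smul]
    set a : GL (Fin m ⊕ Fin m) F :=
      MonoidHom.toHomUnits (Matrix.symplecticGroup (Fin m) F).subtype g with ha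
    have haval : ((a : GL (Fin m ⊕ Fin m) F) : Matrix (Fin m ⊕ Fin m) (Fin m ⊕ Fin m) F) =
        ((g : ↥(Matrix.symplecticGroup (Fin m) F)) :
          Matrix (Fin m ⊕ Fin m) (Fin m ⊕ Fin m) F) := rfl
    have hmem : ((k' * a * k'⁻¹ : GL (Fin m ⊕ Fin m) F) : Matrix _ _ F) ∈
        Matrix.symplecticGroup (Fin m) F := by
      rw [SymplecticGroup.mem_iff, Units.val_mul, Units.val_mul, haval, ← hKdef, ← hKidef,
        Matrix.transpose_mul, Matrix.transpose_mul]
      have hg := SymplecticGroup.mem_iff.mp g.2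
      calc K * (g : Matrix _ _ F) * Ki * Matrix.J (Fin m) F * (Kiᵀ * ((g : Matrix _ _ F)ᵀ * Kᵀ))
          = K * (g : Matrix _ _ F) * (Ki * Matrix.J (Fin m) F * Kiᵀ) * (g : Matrix _ _ F)ᵀ * Kᵀ := by
            simp only [Matrix.mul_assoc]
        _ = ((c : F)⁻¹) • (K * ((g : Matrix _ _ F) * Matrix.J (Fin m) F * (g : Matrix _ _ F)ᵀ) * Kᵀ) := by
            rw [hKi]
            simp only [Matrix.mul_smul, Matrix.smul_mul, Matrix.mul_assoc]
        _ = Matrix.J (Fin m) F := by
            rw [hg, hK, smul_smul, inv_mul_cancel₀ c.ne_zero, one_smul]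
    refine ⟨⟨_, hmem⟩, 1, ?_⟩
    rw [map_one, one_mul]
    have h5 : spToGL e ⟨_, hmem⟩ = reGL e (k' * a * k'⁻¹) := by
      apply Units.ext
      rfl
    have h6 : spToGL e g = reGL e a := rfl
    rw [h5, h6, map_mul, map_mul, map_inv, hk', MulEquiv.apply_symm_apply]
  · -- d5
    intro h τ H
    set h' : GL (Fin m ⊕ Fin m) F := (reGL e).symm h with hh'
    have H' : ∀ A : Matrix (Fin m ⊕ Fin m) (Fin m ⊕ Fin m) F,
        A ∈ Matrix.symplecticGroup (Fin m) F → ∃ c : F,
        (h' : Matrix (Fin m ⊕ Fin m) (Fin m ⊕ Fin m) F) * (A.map (RingHom.id F)).map τ =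
          c • (A.map (RingHom.id F) * (h' : Matrix (Fin m ⊕ Fin m) (Fin m ⊕ Fin m) F)) := by
      intro A hA
      obtain ⟨c, hc⟩ := H ⟨A, hA⟩
      refine ⟨c, ?_⟩
      have h3 := congrArg (fun x : GL (Fin n) F => (x : Matrix (Fin n) (Fin n) F)) hc
      beta_reduce at h3
      rw [Units.val_mul, Units.val_mul, Units.val_mul, scalar_coe, Matrix.smul_mul,
        Matrix.one_mul] at h3
      have h4 := congrArg (fun M : Matrix (Fin n) (Fin n) F => M.submatrix e e) h3
      beta_reduce at h4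
      have hsm : ∀ (t : F) (M : Matrix (Fin n) (Fin n) F),
          (t • M).submatrix e e = t • M.submatrix e e := fun _ _ => rfl
      rw [hsm, ← Matrix.submatrix_mul_equiv _ _ e e e,
        ← Matrix.submatrix_mul_equiv _ _ e e e] at h4
      have hid : A.map (RingHom.id F) = A := by
        ext a b
        rfl
      rw [hid]
      have h7 : ((spToGL e ⟨A, hA⟩ : GL (Fin n) F) : Matrix (Fin n) (Fin n) F).submatrix e e
          = A := by
        rw [spToGL_coe]
        simp
      have h8 : ((Matrix.GeneralLinearGroup.map ((τ : RingAut F) : F →+* F)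
          (spToGL e ⟨A, hA⟩) : GL (Fin n) F) : Matrix (Fin n) (Fin n) F).submatrix e e =
          A.map τ := by
        show (((spToGL e ⟨A, hA⟩ : GL (Fin n) F) : Matrix (Fin n) (Fin n) F).map τ).submatrix e e
          = A.map τ
        rw [spToGL_coe]
        ext a b
        simp
      rw [h7, h8] at h4
      exact h4
    obtain ⟨hτ, c, hc⟩ := cent_symp (by omega) (RingHom.id F) τ h' H'
    refine ⟨?_, ?_⟩
    · apply RingEquiv.ext
      intro t
      exact hτ t
    · have hh : (h : Matrix (Fin n) (Fin n) F) = c • 1 := by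
        have h3 : (h : Matrix (Fin n) (Fin n) F) =
            ((h' : Matrix (Fin m ⊕ Fin m) (Fin m ⊕ Fin m) F)).submatrix e.symm e.symm := by
          rw [hh', reGL_symm_coe]
          simp
        have hsm : ∀ (t : F) (M : Matrix (Fin m ⊕ Fin m) (Fin m ⊕ Fin m) F),
            (t • M).submatrix e.symm e.symm = t • M.submatrix e.symm e.symm := fun _ _ => rfl
        rw [h3, hc, hsm, Matrix.submatrix_one_equiv]
      have hc0 : c ≠ 0 := by
        intro h0
        rw [h0, zero_smul] at hh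
        have hdet := (Matrix.isUnit_iff_isUnit_det _).mp h.isUnit
        have : Nonempty (Fin n) := ⟨⟨0, by omega⟩⟩
        rw [hh, Matrix.det_zero] at hdet
        exact not_isUnit_zero hdet
      refine ⟨Units.mk0 c hc0, ?_⟩
      apply Units.ext
      rw [scalar_coe, hh]
      rfl

end Cfsg.Agent.Lib.Helper44.LB
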