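import Cfsg.Agent.Lib.Helper29.M22B.Defs
import Cfsg.Agent.Lib.Helper29.M22B.Data
import Cfsg.Agent.Lib.Helper7.M22Norm11

/-!
# M22B-[C7] (helper44): the centralizer of `g7` in `M22` is `⟨g7⟩`

Sift in the style of `Helper7.M22Norm11`: `g7` has cycle type `1^3 7^3` (fixed points `∞, 0, 8`,
cycles through `1`, `2`, `9`); an element of `M22` commuting with `g7` is determined by the images
of `1, 2, 9`; two octad tests leave exactly the seven powers of `g7`.
-/

set_option autoImplicit false

namespace Cfsg.Agent.Lib.Helper29.M22B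
open Cfsg Cfsg.Agent.Lib.Helper7 Cfsg.Agent.Lib.Helper92 Cfsg.Agent.Lib.Helper92.SylM22

namespace C7

/-- The action of `g7` on indices. -/
def fG (i : ℕ) : ℕ := g7T.getD i 0

/-- Discrete logarithms: `i = fG^[j] r_w` with `r_0 = 1`, `r_1 = 2`, `r_2 = 9`. -/
def dlogG : List (ℕ × ℕ) :=
  [(0, 0), (0, 0), (0, 1), (1, 0), (4, 0), (6, 0), (5, 0), (3, 1), (0, 0), (0, 2), (4, 2), (5, 1),
   (2, 2), (4, 1), (2, 1), (3, 2), (2, 0), (6, 2), (1, 1), (1, 2), (6, 1), (3, 0), (5, 2), (0, 0)]

/-- Selection of the orbit representative image. -/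
def sel (a b c w : ℕ) : ℕ := if w = 0 then a else if w = 1 then b else c

/-- The candidate determined by the images `a`, `b`, `c` of `1`, `2`, `9`. -/
def candG (a b c : ℕ) (i : ℕ) : ℕ :=
  if i = 23 then 23 else if i = 0 then 0 else if i = 8 then 8 else
    fG^[(dlogG.getD i (0, 0)).1] (sel a b c (dlogG.getD i (0, 0)).2)

def testPts1 : List ℕ := [4, 12, 13, 16, 17, 19, 20, 23]
def testMask1 : ℕ := 0x9b3010
def testPts2 : List ℕ := [4, 6, 7, 8, 15, 18, 20, 22]
def testMask2 : ℕ := 0x5481d0

/-- The two octad tests. -/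
def testG (a b c : ℕ) : Bool :=
  isOctadMask (imgList (candG a b c) testPts1) && isOctadMask (imgList (candG a b c) testPts2)

/-- The candidates passing the tests. -/
def passG : List (ℕ × ℕ × ℕ) :=
  (List.range 24).flatMap fun a => (List.range 24).flatMap fun b =>
    (List.range 24).filterMap fun c => if testG a b c = true then some (a, b, c) else none

/-- Every passing candidate is the table of a power of `g7`. -/
def chkPass : Bool := passG.all fun abc => (List.range 7).any fun j =>
  (List.range 24).all fun i => candG abc.1 abc.2.1 abc.2.2 i == (SylM22.powT g7T j).getD i 0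

theorem chkPass_ok : chkPass = true := by decide +kernel

theorem mem_passG {a b c : ℕ} (ha : a < 24) (hb : b < 24) (hc : c < 24)
    (ht : testG a b c = true) : (a, b, c) ∈ passG := by
  unfold passG
  rw [List.mem_flatMap]
  refine ⟨a, List.mem_range.mpr ha, ?_⟩
  rw [List.mem_flatMap]
  refine ⟨b, List.mem_range.mpr hb, ?_⟩
  rw [List.mem_filterMap]
  refine ⟨c, List.mem_range.mpr hc, ?_⟩
  rw [if_pos ht]

theorem fG_lt : ∀ i < 24, fG i < 24 := by decide +kernel

theorem fG_iter_lt (j : ℕ) : ∀ i < 24, fG^[j] i < 24 := by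
  induction j with
  | zero => intro i hi; simpa using hi
  | succ j ih =>
    intro i hi
    rw [Function.iterate_succ_apply']
    exact fG_lt _ (ih i hi)

theorem fG_fixed : ∀ i < 24, fG i = i → i = 23 ∨ i = 0 ∨ i = 8 := by decide +kernel

theorem fG_eight : fG 8 = 8 := by decide +kernel

theorem dlogG_spec : ∀ i < 24, i ≠ 23 → i ≠ 0 → i ≠ 8 →
    fG^[(dlogG.getD i (0, 0)).1] (sel 1 2 9 (dlogG.getD i (0, 0)).2) = i := by
  decide +kernel

theorem testMask1_spec : ∀ i < 24, testMask1.testBit i = true ↔ i ∈ testPts1 := by decide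
theorem testMask2_spec : ∀ i < 24, testMask2.testBit i = true ↔ i ∈ testPts2 := by decide
theorem testPts1_lt : ∀ i ∈ testPts1, i < 24 := by decide
theorem testPts2_lt : ∀ i ∈ testPts2, i < 24 := by decide
theorem isOctadMask_testMask1 : isOctadMask testMask1 = true := by decide +kernel
theorem isOctadMask_testMask2 : isOctadMask testMask2 = true := by decide +kernel

/-! ### The glue -/

theorem idx_g7 (p : GolayPt) : idx (g7 p) = fG (idx p) := matches_g7 p

theorem g7_pt {i : ℕ} (hi : i < 24) : g7 (pt i) = pt (fG i) := by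
  apply idx_injective
  rw [idx_g7, idx_pt hi, idx_pt (fG_lt i hi)]

/-- The key relation on index functions. -/
theorem idxFun_rel {g : Equiv.Perm GolayPt} (h : g * g7 = g7 * g) :
    ∀ i < 24, idxFun g (fG i) = fG (idxFun g i) := by
  intro i hi
  unfold idxFun
  rw [← g7_pt hi, ← Equiv.Perm.mul_apply, h, Equiv.Perm.mul_apply, idx_g7]

theorem idxFun_iter {g : Equiv.Perm GolayPt} (h : g * g7 = g7 * g) (j : ℕ) :
    ∀ i < 24, idxFun g (fG^[j] i) = fG^[j] (idxFun g i) := by
  induction j with
  | zero => intro i _; simp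
  | succ j ih =>
    intro i hi
    rw [Function.iterate_succ_apply', idxFun_rel h _ (fG_iter_lt j i hi), ih i hi,
      ← Function.iterate_succ_apply' fG]

theorem idxFun_23 {g : Equiv.Perm GolayPt} (hg : g ∈ Spor.M22) : idxFun g 23 = 23 := by
  have h' : g (pt 23) = pt 23 := (mem_M22.mp hg).2.1
  show idx (g (pt 23)) = 23
  rw [h']; rfl

theorem idxFun_0 {g : Equiv.Perm GolayPt} (hg : g ∈ Spor.M22) : idxFun g 0 = 0 := by
  have h' : g (pt 0) = pt 0 := (mem_M22.mp hg).2.2
  show idx (g (pt 0)) = 0
  rw [h']; rfl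

theorem idxFun_8 {g : Equiv.Perm GolayPt} (hg : g ∈ Spor.M22) (h : g * g7 = g7 * g) :
    idxFun g 8 = 8 := by
  have h1 := idxFun_rel h 8 (by decide)
  rw [fG_eight] at h1
  rcases fG_fixed _ (idxFun_lt g 8) h1.symm with h2 | h2 | h2
  · exact absurd (h2.trans (idxFun_23 hg).symm)
      (idxFun_ne_of_ne (g := g) (i := 8) (j := 23) (by decide) (by decide) (by decide))
  · exact absurd (h2.trans (idxFun_0 hg).symm)
      (idxFun_ne_of_ne (g := g) (i := 8) (j := 0) (by decide) (by decide) (by decide))
  · exact h2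

theorem sel_idxFun (g : Equiv.Perm GolayPt) (w : ℕ) :
    sel (idxFun g 1) (idxFun g 2) (idxFun g 9) w = idxFun g (sel 1 2 9 w) := by
  unfold sel
  split_ifs <;> rfl

theorem sel_lt (w : ℕ) : sel 1 2 9 w < 24 := by
  unfold sel
  split_ifs <;> decide

theorem idxFun_eq_candG {g : Equiv.Perm GolayPt} (hg : g ∈ Spor.M22) (h : g * g7 = g7 * g) :
    ∀ i < 24, idxFun g i = candG (idxFun g 1) (idxFun g 2) (idxFun g 9) i := by
  intro i hi
  unfold candG
  by_cases h23 : i = 23
  · subst h23; rw [if_pos rfl]; exact idxFun_23 hg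
  · rw [if_neg h23]
    by_cases h0 : i = 0
    · subst h0; rw [if_pos rfl]; exact idxFun_0 hg
    · rw [if_neg h0]
      by_cases h8 : i = 8
      · subst h8; rw [if_pos rfl]; exact idxFun_8 hg h
      · rw [if_neg h8]
        have hd := dlogG_spec i hi h23 h0 h8
        rw [sel_idxFun, ← idxFun_iter h _ _ (sel_lt _), hd]

theorem matches_of_idxFun {g : Equiv.Perm GolayPt} {t : List ℕ}
    (h : ∀ i < 24, idxFun g i = t.getD i 0) : Matches g t := by
  intro p
  have := h (idx p) (idx_lt p)
  unfold idxFun at this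
  rwa [pt_idx] at this

end C7

open C7 in
/-- [C7] NEW SIFT (as `Helper7.M22Norm11`): `g7` has cycle type `1^3 7^3`; an element of `M22`
commuting with `g7` is determined by the images of one point in each 7-cycle. -/
theorem C7.centralizer_g7_h44 (g : Equiv.Perm GolayPt) (hg : g ∈ Spor.M22) (hc : g * g7 = g7 * g) :
    g ∈ Subgroup.zpowers g7 := by
  have hcand := idxFun_eq_candG hg hc
  have hM24 : g ∈ M24 := (mem_M22.mp hg).1
  have htest : testG (idxFun g 1) (idxFun g 2) (idxFun g 9) = true := by
    unfold testG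
    rw [Bool.and_eq_true]
    constructor
    · rw [← imgList_congr (F := idxFun g) (fun i hi => hcand i (testPts1_lt i hi))]
      exact isOctadMask_imgList hM24 testPts1 testMask1 testPts1_lt testMask1_spec
        isOctadMask_testMask1
    · rw [← imgList_congr (F := idxFun g) (fun i hi => hcand i (testPts2_lt i hi))]
      exact isOctadMask_imgList hM24 testPts2 testMask2 testPts2_lt testMask2_spec
        isOctadMask_testMask2
  have hmem := mem_passG (idxFun_lt g 1) (idxFun_lt g 2) (idxFun_lt g 9) htest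
  have hchk := chkPass_ok
  unfold chkPass at hchk
  rw [List.all_eq_true] at hchk
  have h1 := hchk _ hmem
  rw [List.any_eq_true] at h1
  obtain ⟨j, _, hj⟩ := h1
  rw [List.all_eq_true] at hj
  have hmatch : Matches g (SylM22.powT g7T j) := by
    apply matches_of_idxFun
    intro i hi
    have := hj i (List.mem_range.mpr hi)
    rw [beq_iff_eq] at this
    rw [hcand i hi]
    exact this
  have : g = g7 ^ j := eq_of_matches hmatch (matches_powT matches_g7 j)
  rw [this]
  exact Subgroup.pow_mem _ (Subgroup.mem_zpowers g7) j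

end Cfsg.Agent.Lib.Helper29.M22B
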