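import Mathlib
import Cfsg.Agent.Lib.Helper44.PairMax4

set_option autoImplicit false
set_option linter.unusedSimpArgs false
set_option linter.unusedVariables false

/-!
# Swapping a complementary pair of totally singular subspaces of even dimension

For hyperbolic pairs `(e₁,f₁)`, `(e₂,f₂)` (mutually orthogonal) the product
`E(e₁,e₂) E(f₁,f₂) E(e₁,e₂)` maps `e₁ ↦ -f₂`, `e₂ ↦ f₁`, `f₁ ↦ -e₂`, `f₂ ↦ e₁` and fixes the
orthogonal complement.  Multiplying such elements over a dual pair of bases of `U`, `U'`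
(`dim U` even) gives an element of `KE Q` swapping `U` and `U'`.
-/

namespace Cfsg.Agent.Lib.Helper44

open Cfsg.Agent.Lib.Helper13 hiding isoGroup mem_isoGroup
open Cfsg.Agent.Lib.Helper36 Module

section swap
variable {F V : Type*} [Field F] [AddCommGroup V] [Module F V]

local notation "pol" => QuadraticMap.polar

theorem weyl4 (Q : QuadraticForm F V) (e₁ e₂ f₁ f₂ : V) (he₁ : Q e₁ = 0) (he₂ : Q e₂ = 0)
    (hf₁ : Q f₁ = 0) (hf₂ : Q f₂ = 0) (hee : pol (⇑Q) e₁ e₂ = 0) (hff : pol (⇑Q) f₁ f₂ = 0)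
    (h11 : pol (⇑Q) e₁ f₁ = 1) (h22 : pol (⇑Q) e₂ f₂ = 1) (h12 : pol (⇑Q) e₁ f₂ = 0)
    (h21 : pol (⇑Q) e₂ f₁ = 0) :
    ∃ n ∈ KE Q, (n : V ≃ₗ[F] V) e₁ = -f₂ ∧ (n : V ≃ₗ[F] V) e₂ = f₁ ∧
      (n : V ≃ₗ[F] V) f₁ = -e₂ ∧ (n : V ≃ₗ[F] V) f₂ = e₁ ∧
      ∀ z, pol (⇑Q) e₁ z = 0 → pol (⇑Q) e₂ z = 0 → pol (⇑Q) f₁ z = 0 → pol (⇑Q) f₂ z = 0 →
        (n : V ≃ₗ[F] V) z = z := by
  have hX : ∀ z, ((eichG Q e₁ e₂ he₁ hee : ↥(isoGroup Q)) : V ≃ₗ[F] V) z
      = z + pol (⇑Q) e₂ z • e₁ - pol (⇑Q) e₁ z • e₂ := by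
    intro z
    rw [eichG_apply, siegelLin_apply, he₂, zero_mul, sub_zero]
  have hY : ∀ z, ((eichG Q f₁ f₂ hf₁ hff : ↥(isoGroup Q)) : V ≃ₗ[F] V) z
      = z + pol (⇑Q) f₂ z • f₁ - pol (⇑Q) f₁ z • f₂ := by
    intro z
    rw [eichG_apply, siegelLin_apply, hf₂, zero_mul, sub_zero]
  have s1 := pol_self_of_sing Q e₁ he₁
  have s2 := pol_self_of_sing Q e₂ he₂
  have s3 := pol_self_of_sing Q f₁ hf₁
  have s4 := pol_self_of_sing Q f₂ hf₂
  have hee' : pol (⇑Q) e₂ e₁ = 0 := by rw [QuadraticMap.polar_comm]; exact hee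
  have hff' : pol (⇑Q) f₂ f₁ = 0 := by rw [QuadraticMap.polar_comm]; exact hff
  have h11' : pol (⇑Q) f₁ e₁ = 1 := by rw [QuadraticMap.polar_comm]; exact h11
  have h22' : pol (⇑Q) f₂ e₂ = 1 := by rw [QuadraticMap.polar_comm]; exact h22
  have h12' : pol (⇑Q) f₂ e₁ = 0 := by rw [QuadraticMap.polar_comm]; exact h12
  have h21' : pol (⇑Q) f₁ e₂ = 0 := by rw [QuadraticMap.polar_comm]; exact h21
  have Xe₁ : ((eichG Q e₁ e₂ he₁ hee : ↥(isoGroup Q)) : V ≃ₗ[F] V) e₁ = e₁ := by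
    rw [hX, hee', s1]; simp
  have Xe₂ : ((eichG Q e₁ e₂ he₁ hee : ↥(isoGroup Q)) : V ≃ₗ[F] V) e₂ = e₂ := by
    rw [hX, hee, s2]; simp
  have Xf₁ : ((eichG Q e₁ e₂ he₁ hee : ↥(isoGroup Q)) : V ≃ₗ[F] V) f₁ = f₁ - e₂ := by
    rw [hX, h21, h11]; simp
  have Xf₂ : ((eichG Q e₁ e₂ he₁ hee : ↥(isoGroup Q)) : V ≃ₗ[F] V) f₂ = f₂ + e₁ := by
    rw [hX, h22, h12]; simp
  have Yf₁ : ((eichG Q f₁ f₂ hf₁ hff : ↥(isoGroup Q)) : V ≃ₗ[F] V) f₁ = f₁ := by
    rw [hY, hff', s3]; simp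
  have Yf₂ : ((eichG Q f₁ f₂ hf₁ hff : ↥(isoGroup Q)) : V ≃ₗ[F] V) f₂ = f₂ := by
    rw [hY, hff, s4]; simp
  have Ye₁ : ((eichG Q f₁ f₂ hf₁ hff : ↥(isoGroup Q)) : V ≃ₗ[F] V) e₁ = e₁ - f₂ := by
    rw [hY, h12', h11']; simp
  have Ye₂ : ((eichG Q f₁ f₂ hf₁ hff : ↥(isoGroup Q)) : V ≃ₗ[F] V) e₂ = e₂ + f₁ := by
    rw [hY, h22', h21']; simp
  refine ⟨eichG Q e₁ e₂ he₁ hee * eichG Q f₁ f₂ hf₁ hff * eichG Q e₁ e₂ he₁ hee,
    (KE Q).mul_mem ((KE Q).mul_mem (eichG_mem_KE Q _ _ _ _) (eichG_mem_KE Q _ _ _ _))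
      (eichG_mem_KE Q _ _ _ _), ?_, ?_, ?_, ?_, ?_⟩
  · rw [isoG_mul_apply, isoG_mul_apply, Xe₁, Ye₁, map_sub, Xe₁, Xf₂]; abel
  · rw [isoG_mul_apply, isoG_mul_apply, Xe₂, Ye₂, map_add, Xe₂, Xf₁]; abel
  · rw [isoG_mul_apply, isoG_mul_apply, Xf₁, map_sub, Yf₁, Ye₂, map_sub, map_add, Xf₁, Xe₂]; abel
  · rw [isoG_mul_apply, isoG_mul_apply, Xf₂, map_add, Yf₂, Ye₁, map_add, map_sub, Xf₂, Xe₁]; abel
  · intro z z1 z2 z3 z4
    have Xz : ((eichG Q e₁ e₂ he₁ hee : ↥(isoGroup Q)) : V ≃ₗ[F] V) z = z := by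
      rw [hX, z1, z2]; simp
    have Yz : ((eichG Q f₁ f₂ hf₁ hff : ↥(isoGroup Q)) : V ≃ₗ[F] V) z = z := by
      rw [hY, z3, z4]; simp
    rw [isoG_mul_apply, isoG_mul_apply, Xz, Yz, Xz]

/-- a complementary pair of totally singular subspaces of the same even dimension is swapped by an
element of the group generated by the Eichler transformations -/
theorem TSPair.exists_swap [FiniteDimensional F V] {Q : QuadraticForm F V} {U U' : Submodule F V}
    (h : TSPair Q U U') (hQ : (QuadraticMap.polarBilin Q).Nondegenerate) (m : ℕ)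
    (hm : finrank F U = 2 * m) (hm' : finrank F U' = 2 * m) :
    ∃ s ∈ KE Q, (∀ u ∈ U, (s : V ≃ₗ[F] V) u ∈ U') ∧ (∀ u ∈ U', (s : V ≃ₗ[F] V) u ∈ U) := by
  classical
  let b : Basis (Fin m × Fin 2) F U :=
    (finBasisOfFinrankEq F U (hm.trans (mul_comm 2 m))).reindex finProdFinEquiv.symm
  set e : Fin m × Fin 2 → V := fun i => (b i : V) with he
  have heU : ∀ i, e i ∈ U := fun i => (b i).2
  have hLI : LinearIndependent F e := b.linearIndependent.map' U.subtype (Submodule.ker_subtype U)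
  have hspanU : Submodule.span F (Set.range e) = U := by
    have h1 := congrArg (Submodule.map U.subtype) b.span_eq
    rw [Submodule.map_span, Submodule.map_subtype_top, ← Set.range_comp] at h1
    exact h1
  have hex : ∀ i, ∃ y ∈ U', ∀ j, pol (⇑Q) (e j) y = if j = i then 1 else 0 :=
    fun i => h.exists_dual_in hQ e heU hLI (fun j => if j = i then 1 else 0)
  choose f hfU hf using hex
  -- `f` is linearly independent and spans `U'`
  have hfLI : LinearIndependent F f := by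
    rw [Fintype.linearIndependent_iff]
    intro g hg i
    have h1 : QuadraticMap.polarBilin Q (e i) (∑ j, g j • f j) = 0 := by rw [hg, map_zero]
    rw [map_sum] at h1
    rw [Finset.sum_eq_single i] at h1
    · rw [map_smul, QuadraticMap.polarBilin_apply_apply, hf i i, if_pos rfl, smul_eq_mul,
        mul_one] at h1
      exact h1
    · intro j _ hji
      rw [map_smul, QuadraticMap.polarBilin_apply_apply, hf j i, if_neg (Ne.symm hji), smul_zero]
    · intro hi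
      exact absurd (Finset.mem_univ i) hi
  have hspanU' : Submodule.span F (Set.range f) = U' := by
    apply Submodule.eq_of_le_of_finrank_eq
    · rw [Submodule.span_le]
      rintro _ ⟨i, rfl⟩
      exact hfU i
    · rw [finrank_span_eq_card hfLI, hm', Fintype.card_prod, Fintype.card_fin, Fintype.card_fin,
        mul_comm]
  have key : ∀ S : Finset (Fin m), ∃ s ∈ KE Q,
      (∀ j ∈ S, ∀ c, (s : V ≃ₗ[F] V) (e (j, c)) ∈ U' ∧ (s : V ≃ₗ[F] V) (f (j, c)) ∈ U) ∧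
      (∀ j ∉ S, ∀ c, (s : V ≃ₗ[F] V) (e (j, c)) = e (j, c) ∧
        (s : V ≃ₗ[F] V) (f (j, c)) = f (j, c)) := by
    intro S
    induction S using Finset.induction_on with
    | empty =>
      refine ⟨1, (KE Q).one_mem, ?_, ?_⟩
      · intro j hj
        exact absurd hj (Finset.notMem_empty j)
      · intro j _ c
        exact ⟨rfl, rfl⟩
    | insert a S haS ih =>
      obtain ⟨s, hsK, hs1, hs2⟩ := ih
      have p1 : pol (⇑Q) (e (a, 0)) (f (a, 0)) = 1 := by rw [hf (a, 0) (a, 0), if_pos rfl]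
      have p2 : pol (⇑Q) (e (a, 1)) (f (a, 1)) = 1 := by rw [hf (a, 1) (a, 1), if_pos rfl]
      have p3 : pol (⇑Q) (e (a, 0)) (f (a, 1)) = 0 := by
        rw [hf (a, 1) (a, 0), if_neg]
        intro hh
        have h01 : (0 : Fin 2) ≠ 1 := by decide
        first
          | exact h01 (congrArg Prod.snd hh)
          | exact h01 (congrArg Prod.snd hh).symm
      have p4 : pol (⇑Q) (e (a, 1)) (f (a, 0)) = 0 := by
        rw [hf (a, 0) (a, 1), if_neg]
        intro hh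
        have h01 : (0 : Fin 2) ≠ 1 := by decide
        first
          | exact h01 (congrArg Prod.snd hh)
          | exact h01 (congrArg Prod.snd hh).symm
      obtain ⟨n, hnK, n1, n2, n3, n4, n5⟩ := weyl4 Q (e (a, 0)) (e (a, 1)) (f (a, 0)) (f (a, 1))
        (h.tsU _ (heU _)) (h.tsU _ (heU _)) (h.tsU' _ (hfU _)) (h.tsU' _ (hfU _))
        (h.polU (heU _) (heU _)) (h.polU' (hfU _) (hfU _)) p1 p2 p3 p4
      have hfix : ∀ j, j ≠ a → ∀ c, (n : V ≃ₗ[F] V) (e (j, c)) = e (j, c) ∧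
          (n : V ≃ₗ[F] V) (f (j, c)) = f (j, c) := by
        intro j hja c
        have hne : ∀ c', (j, c) ≠ (a, c') := fun c' hh => hja (congrArg Prod.fst hh)
        have hne' : ∀ c', (a, c') ≠ (j, c) := fun c' hh => hja (congrArg Prod.fst hh).symm
        refine ⟨n5 _ (h.polU (heU _) (heU _)) (h.polU (heU _) (heU _)) ?_ ?_,
          n5 _ ?_ ?_ (h.polU' (hfU _) (hfU _)) (h.polU' (hfU _) (hfU _))⟩
        · rw [QuadraticMap.polar_comm, hf (a, 0) (j, c), if_neg (hne 0)]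
        · rw [QuadraticMap.polar_comm, hf (a, 1) (j, c), if_neg (hne 1)]
        · rw [hf (j, c) (a, 0), if_neg (hne' 0)]
        · rw [hf (j, c) (a, 1), if_neg (hne' 1)]
      refine ⟨s * n, (KE Q).mul_mem hsK hnK, ?_, ?_⟩
      · intro j hj c
        rw [Finset.mem_insert] at hj
        by_cases hja : j = a
        · subst hja
          have hsj := hs2 j haS
          fin_cases c
          · refine ⟨?_, ?_⟩
            · show (((s * n : ↥(isoGroup Q)) : V ≃ₗ[F] V)) (e (j, 0)) ∈ U'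
              rw [isoG_mul_apply, n1, map_neg, (hsj 1).2]
              exact U'.neg_mem (hfU _)
            · show (((s * n : ↥(isoGroup Q)) : V ≃ₗ[F] V)) (f (j, 0)) ∈ U
              rw [isoG_mul_apply, n3, map_neg, (hsj 1).1]
              exact U.neg_mem (heU _)
          · refine ⟨?_, ?_⟩
            · show (((s * n : ↥(isoGroup Q)) : V ≃ₗ[F] V)) (e (j, 1)) ∈ U'
              rw [isoG_mul_apply, n2, (hsj 0).2]
              exact hfU _
            · show (((s * n : ↥(isoGroup Q)) : V ≃ₗ[F] V)) (f (j, 1)) ∈ U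
              rw [isoG_mul_apply, n4, (hsj 0).1]
              exact heU _
        · have hjS : j ∈ S := hj.resolve_left hja
          rw [isoG_mul_apply, isoG_mul_apply, (hfix j hja c).1, (hfix j hja c).2]
          exact hs1 j hjS c
      · intro j hj c
        rw [Finset.mem_insert, not_or] at hj
        rw [isoG_mul_apply, isoG_mul_apply, (hfix j hj.1 c).1, (hfix j hj.1 c).2]
        exact hs2 j hj.2 c
  obtain ⟨s, hsK, hs, -⟩ := key Finset.univ
  refine ⟨s, hsK, ?_, ?_⟩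
  · have h1 : Submodule.span F (Set.range e) ≤ U'.comap ((s : V ≃ₗ[F] V) : V →ₗ[F] V) := by
      rw [Submodule.span_le]
      rintro _ ⟨i, rfl⟩
      exact (hs i.1 (Finset.mem_univ _) i.2).1
    intro u hu
    rw [← hspanU] at hu
    exact h1 hu
  · have h1 : Submodule.span F (Set.range f) ≤ U.comap ((s : V ≃ₗ[F] V) : V →ₗ[F] V) := by
      rw [Submodule.span_le]
      rintro _ ⟨i, rfl⟩
      exact (hs i.1 (Finset.mem_univ _) i.2).2
    intro u hu
    rw [← hspanU'] at hu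
    exact h1 hu

end swap

end Cfsg.Agent.Lib.Helper44
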