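import Mathlib
import Cfsg.Agent.Lib.Helper44.PairSwap

set_option autoImplicit false
set_option linter.unusedSimpArgs false
set_option linter.unusedVariables false

/-!
# Maximality of the stabiliser of a complementary pair of totally singular subspaces

`V = D 0 ⊕ D 1` with `D 0`, `D 1` totally singular of the same even dimension `2m ≥ 6`.  The
elements of `Ω(Q) = ⁅O(Q), O(Q)⁆` preserving or interchanging `D 0`, `D 1` form a maximal subgroup.
-/

namespace Cfsg.Agent.Lib.Helper44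

open Cfsg.Agent.Lib.Helper13 hiding isoGroup mem_isoGroup
open Cfsg.Agent.Lib.Helper36 Module

section pairmax
variable {F V : Type*} [Field F] [AddCommGroup V] [Module F V]

local notation "pol" => QuadraticMap.polar

/-- membership in the pair stabiliser in terms of inclusions -/
theorem mem_pairStab_iff [FiniteDimensional F V] (D : Fin 2 → Submodule F V)
    (hfr : finrank F (D 0) = finrank F (D 1)) (g : V ≃ₗ[F] V) :
    (∃ σ : Equiv.Perm (Fin 2), ∀ i, (D i).map (g : V →ₗ[F] V) = D (σ i)) ↔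
      (((∀ u ∈ D 0, g u ∈ D 0) ∧ (∀ u ∈ D 1, g u ∈ D 1)) ∨
        ((∀ u ∈ D 0, g u ∈ D 1) ∧ (∀ u ∈ D 1, g u ∈ D 0))) := by
  have hmap : ∀ (A B : Submodule F V), finrank F A = finrank F B → (∀ u ∈ A, g u ∈ B) →
      A.map (g : V →ₗ[F] V) = B := by
    intro A B hAB hincl
    apply Submodule.eq_of_le_of_finrank_eq
    · rintro _ ⟨u, hu, rfl⟩
      exact hincl u hu
    · rw [← hAB]
      exact LinearEquiv.finrank_map_eq g A
  have hincl : ∀ (A B : Submodule F V), A.map (g : V →ₗ[F] V) = B → ∀ u ∈ A, g u ∈ B := by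
    intro A B hAB u hu
    rw [← hAB]
    exact ⟨u, hu, rfl⟩
  constructor
  · rintro ⟨σ, hσ⟩
    have h0 := hσ 0
    have h1 := hσ 1
    have hcases : (σ 0 = 0 ∧ σ 1 = 1) ∨ (σ 0 = 1 ∧ σ 1 = 0) := by
      have hinj : σ 0 ≠ σ 1 := fun hh => absurd (σ.injective hh) (by decide)
      generalize σ 0 = a at hinj
      generalize σ 1 = b at hinj
      fin_cases a <;> fin_cases b <;> simp_all
    rcases hcases with ⟨e0, e1⟩ | ⟨e0, e1⟩
    · rw [e0] at h0
      rw [e1] at h1
      exact Or.inl ⟨hincl _ _ h0, hincl _ _ h1⟩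
    · rw [e0] at h0
      rw [e1] at h1
      exact Or.inr ⟨hincl _ _ h0, hincl _ _ h1⟩
  · rintro (⟨h0, h1⟩ | ⟨h0, h1⟩)
    · refine ⟨1, fun i => ?_⟩
      fin_cases i
      · exact hmap _ _ rfl h0
      · exact hmap _ _ rfl h1
    · refine ⟨Equiv.swap 0 1, fun i => ?_⟩
      fin_cases i
      · show (D 0).map (g : V →ₗ[F] V) = D (Equiv.swap 0 1 0)
        rw [Equiv.swap_apply_left]
        exact hmap _ _ hfr h0
      · show (D 1).map (g : V →ₗ[F] V) = D (Equiv.swap 0 1 1)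
        rw [Equiv.swap_apply_right]
        exact hmap _ _ hfr.symm h1

/-- **Maximality of the stabiliser of a complementary pair of totally singular subspaces** in
`Ω(Q) = ⁅O(Q), O(Q)⁆`, as subgroups of the group of all linear automorphisms. -/
theorem pair_isMaximalIn [Finite F] [FiniteDimensional F V] (Q : QuadraticForm F V)
    (hQ : (QuadraticMap.polarBilin Q).Nondegenerate) (D : Fin 2 → Submodule F V)
    (h : TSPair Q (D 0) (D 1)) (m : ℕ) (hm : finrank F (D 0) = 2 * m)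
    (hm' : finrank F (D 1) = 2 * m) (h5 : 5 ≤ 2 * m)
    (S : Subgroup (V ≃ₗ[F] V))
    (hS : ∀ g : V ≃ₗ[F] V, g ∈ S ↔
      ∃ σ : Equiv.Perm (Fin 2), ∀ i, (D i).map (g : V →ₗ[F] V) = D (σ i)) :
    Cfsg.Geo.IsMaximalIn ⁅isoGroup Q, isoGroup Q⁆ (S ⊓ ⁅isoGroup Q, isoGroup Q⁆) := by
  have hfrV : finrank F V = 4 * m := by
    have := Submodule.finrank_add_eq_of_isCompl h.compl
    omega
  have hKE := commutator_eq_KE Q hQ (by omega)
  have hΩ : ⁅isoGroup Q, isoGroup Q⁆ = (KE Q).map (isoGroup Q).subtype := by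
    rw [← hKE, Subgroup.map_subtype_commutator]
  have hH : S ⊓ ⁅isoGroup Q, isoGroup Q⁆ =
      (S.comap (isoGroup Q).subtype ⊓ KE Q).map (isoGroup Q).subtype := by
    rw [hΩ]
    ext g
    constructor
    · rintro ⟨hg1, k, hk, rfl⟩
      exact ⟨k, ⟨hg1, hk⟩, rfl⟩
    · rintro ⟨k, ⟨hk1, hk2⟩, rfl⟩
      exact ⟨hk1, k, hk2, rfl⟩
  rw [hH, hΩ]
  apply isMaximalIn_map_of_injective _ (Subgroup.subtype_injective _)
  have hmem : ∀ g : ↥(isoGroup Q), g ∈ S.comap (isoGroup Q).subtype ↔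
      (((∀ u ∈ D 0, (g : V ≃ₗ[F] V) u ∈ D 0) ∧ (∀ u ∈ D 1, (g : V ≃ₗ[F] V) u ∈ D 1)) ∨
        ((∀ u ∈ D 0, (g : V ≃ₗ[F] V) u ∈ D 1) ∧ (∀ u ∈ D 1, (g : V ≃ₗ[F] V) u ∈ D 0))) := by
    intro g
    rw [Subgroup.mem_comap]
    show (g : V ≃ₗ[F] V) ∈ S ↔ _
    rw [hS, mem_pairStab_iff D (hm.trans hm'.symm)]
  -- Levi elements lie in the stabiliser
  have hlevi : ∀ x ∈ D 0, ∀ x' ∈ D 1, ∀ (hx : Q x = 0) (hxx' : pol (⇑Q) x x' = 0),
      eichG Q x x' hx hxx' ∈ S.comap (isoGroup Q).subtype ⊓ KE Q := by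
    intro x hxU x' hx'U hx hxx'
    refine ⟨?_, eichG_mem_KE Q x x' hx hxx'⟩
    show eichG Q x x' hx hxx' ∈ S.comap (isoGroup Q).subtype
    rw [hmem]
    left
    constructor
    · intro z hz
      rw [eichG_apply, siegelLin_apply, h.polU hxU hz, zero_smul, sub_zero]
      exact (D 0).add_mem hz ((D 0).smul_mem _ hxU)
    · intro z hz
      rw [eichG_apply, siegelLin_apply, h.polU' hx'U hz, h.tsU' x' hx'U, zero_mul, sub_zero,
        zero_smul, add_zero]
      exact (D 1).sub_mem hz ((D 1).smul_mem _ hx'U)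
  constructor
  · -- properness
    refine lt_of_le_of_ne inf_le_right ?_
    intro heq
    obtain ⟨bU⟩ : Nonempty (Basis (Fin (2 * m)) F (D 0)) := ⟨finBasisOfFinrankEq F (D 0) hm⟩
    have hpos : 1 < 2 * m := by omega
    set u : V := (bU ⟨0, by omega⟩ : V) with hu
    set w : V := (bU ⟨1, hpos⟩ : V) with hw
    have huU : u ∈ D 0 := (bU _).2
    have hwU : w ∈ D 0 := (bU _).2
    have hLI : LinearIndependent F ![u, w] := by
      have h1 : LinearIndependent F (fun i => ((bU i : D 0) : V)) :=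
        bU.linearIndependent.map' (D 0).subtype (Submodule.ker_subtype _)
      have h2 := h1.comp ![(⟨0, by omega⟩ : Fin (2 * m)), ⟨1, hpos⟩] (by
        intro a b hab
        fin_cases a <;> fin_cases b <;> simp_all [Fin.ext_iff])
      convert h2 using 1
      ext i
      fin_cases i <;> rfl
    have hu0 : u ≠ 0 := hLI.ne_zero 0
    have hw0 : w ≠ 0 := hLI.ne_zero 1
    obtain ⟨u', hu'U, hu'⟩ := h.exists_dual_in hQ ![u, w]
      (by intro i; fin_cases i <;> simp [huU, hwU]) hLI ![1, 0]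
    have h1 : pol (⇑Q) u u' = 1 := hu' 0
    have h2 : pol (⇑Q) w u' = 0 := hu' 1
    have hQu : Q u = 0 := h.tsU u huU
    have huw : pol (⇑Q) u w = 0 := h.polU huU hwU
    have hE : eichG Q u w hQu huw ∈ S.comap (isoGroup Q).subtype ⊓ KE Q := by
      rw [heq]
      exact eichG_mem_KE Q u w hQu huw
    have hE1 := (hmem _).1 hE.1
    have hfixu : ((eichG Q u w hQu huw : ↥(isoGroup Q)) : V ≃ₗ[F] V) u = u := by
      rw [eichG_apply, siegelLin_apply, pol_self_of_sing Q u hQu, h.polU hwU huU]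
      simp
    have hmove : ((eichG Q u w hQu huw : ↥(isoGroup Q)) : V ≃ₗ[F] V) u' = u' - w := by
      rw [eichG_apply, siegelLin_apply, h1, h2, h.tsU w hwU]
      simp
    rcases hE1 with ⟨-, hb⟩ | ⟨ha, -⟩
    · have h3 := hb u' hu'U
      rw [hmove] at h3
      have h4 : w ∈ D 1 := by
        have := (D 1).sub_mem hu'U h3
        rwa [sub_sub_cancel] at this
      exact hw0 (h.inter hwU h4)
    · have h3 := ha u huU
      rw [hfixu] at h3
      exact hu0 (h.inter huU h3)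
  · intro M hHM hMK
    by_cases hMH : M ≤ S.comap (isoGroup Q).subtype ⊓ KE Q
    · exact Or.inl (le_antisymm hMH hHM)
    · right
      refine le_antisymm hMK ?_
      obtain ⟨g, hgM, hgH⟩ := SetLike.not_le_iff_exists.1 hMH
      have hgS : g ∉ S.comap (isoGroup Q).subtype := fun hh => hgH ⟨hh, hMK hgM⟩
      rw [hmem, not_or] at hgS
      obtain ⟨s, hsK, hsU, hsU'⟩ := h.exists_swap hQ m hm hm'
      have hsH : s ∈ S.comap (isoGroup Q).subtype ⊓ KE Q :=
        ⟨(hmem s).2 (Or.inr ⟨hsU, hsU'⟩), hsK⟩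
      exact h.overgroup_ge hQ (by omega) (by omega) M
        (fun x hxU x' hx'U hx hxx' => hHM (hlevi x hxU x' hx'U hx hxx'))
        s (hHM hsH) hsU hsU' g hgM hgS.1 hgS.2

end pairmax

end Cfsg.Agent.Lib.Helper44
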