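import Mathlib
import Cfsg.Agent.Lib.Helper72.DegEqDefs

set_option autoImplicit false

/-!
# S0983-[A5148]: the degree equation has no solution for `n = 5148 = 2^2 * 3^2 * 11 * 13`, `p = 11`
(helper44, module of helper72's project S0983).

`d ∈ {12, 78}`; `d = 12` is excluded by the sieve tests; `d = 78`, `u = 6`, `e = 2 < u` (so all degrees
are `≥ 22`); the single member `x` of `s` would satisfy `x ∣ 5148`, `11 ∣ x - 1`, `22 ≤ |x| ≤ 71`:
impossible.
-/

namespace Cfsg.Agent.Lib.Helper44.Range6232

open Cfsg.Agent.Lib.Helper72.DegEq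

theorem arith_5148 {Deg : Set ℕ} {d e : ℕ} {ε : ℤ} {s : Multiset ℤ} {f : ℤ}
    (h : DegData 5148 11 Deg d e ε s f) : False := by
  -- pin `d`
  have hd1 : d ∣ 468 := by
    have := h.hd_dvd
    norm_num at this
    exact this
  have hd2 : d % 11 = 1 := h.hd_mod
  have hd3 : d ≠ 1 := h.hd_ne
  have hd : d = 12 ∨ d = 78 := by
    have hle : d ≤ 468 := Nat.le_of_dvd (by norm_num) hd1
    obtain ⟨k, rfl⟩ : ∃ k, d = 11 * k + 1 := ⟨d / 11, by omega⟩
    have hk : k ≤ 42 := by omega
    interval_cases k <;> first | (left; rfl) | (right; rfl) | omega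
  rcases hd with rfl | rfl
  · exact absurd h.hd_excl (by decide)
  -- pin `e`
  have he1 : e ∣ 6 := by
    have := h.he_dvd
    norm_num at this
    exact this
  have he2 : e ∣ 10 := by
    have := h.he_dvd'
    norm_num at this
    exact this
  have he3 : e ≠ 1 := h.he_ne
  have he : e = 2 := by
    have hle : e ≤ 6 := Nat.le_of_dvd (by norm_num) he1
    interval_cases e <;> first | rfl | omega
  subst he
  have hbig : 2 < 5148 / 11 / 78 := by norm_num
  -- `s = {x}`
  have hc : s.card = 1 := by
    have := h.hcard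
    omega
  obtain ⟨x, rfl⟩ := Multiset.card_eq_one.mp hc
  have hxm : (11 : ℤ) ∣ x - 1 := by
    have := h.hs_mod x (Multiset.mem_singleton_self x)
    exact_mod_cast this
  have hxd : x ∣ (5148 : ℤ) := by
    have := h.hs_dvd x (Multiset.mem_singleton_self x)
    exact_mod_cast this
  have hx2 : 22 ≤ x ∨ x ≤ -22 := by
    have := h.hs_big hbig x (Multiset.mem_singleton_self x)
    norm_num at this
    exact this
  have hf2 : 2 ≤ f := h.hf_two
  have hsq : 1 + x ^ 2 + 5 * f ^ 2 ≤ 5148 := by
    have := h.hsq
    simp only [Multiset.map_singleton, Multiset.sum_singleton] at this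
    norm_num at this
    exact this
  have hxlt : x < 72 := by nlinarith
  have hxgt : -72 < x := by nlinarith
  obtain ⟨k, hk⟩ := hxm
  have hx : x = 11 * k + 1 := by omega
  subst hx
  have hk1 : -7 < k := by omega
  have hk2 : k < 7 := by omega
  interval_cases k <;> first | omega | exact absurd hxd (by decide)

end Cfsg.Agent.Lib.Helper44.Range6232
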