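import Mathlib
import Cfsg.Agent.Lib.Helper72.DegEqDefs

set_option autoImplicit false

/-!
# S0983-[A5724]: the degree equation has no solution for `n = 5724 = 2^2 * 3^3 * 53`, `p = 53`
(helper44, module of helper72's project S0983).

`d = 54`, `u = 2`, `e = 2`; the single member `x` of `s` satisfies `x ∣ 5724`, `53 ∣ x - 1`,
`2 ≤ |x| ≤ 74`, so `x = 54`, `f = 55`, which does not divide `5724`.
-/

namespace Cfsg.Agent.Lib.Helper44.Range6232

open Cfsg.Agent.Lib.Helper72.DegEq

theorem arith_5724 {Deg : Set ℕ} {d e : ℕ} {ε : ℤ} {s : Multiset ℤ} {f : ℤ}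
    (h : DegData 5724 53 Deg d e ε s f) : False := by
  -- pin `d`
  have hd1 : d ∣ 108 := by
    have := h.hd_dvd
    norm_num at this
    exact this
  have hd2 : d % 53 = 1 := h.hd_mod
  have hd3 : d ≠ 1 := h.hd_ne
  have hd : d = 54 := by
    have hle : d ≤ 108 := Nat.le_of_dvd (by norm_num) hd1
    obtain ⟨k, rfl⟩ : ∃ k, d = 53 * k + 1 := ⟨d / 53, by omega⟩
    have hk : k ≤ 2 := by omega
    interval_cases k <;> first | rfl | omega
  subst hd
  -- pin `e`
  have he1 : e ∣ 2 := by
    have := h.he_dvd
    norm_num at this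
    exact this
  have he3 : e ≠ 1 := h.he_ne
  have he : e = 2 := by
    have hle : e ≤ 2 := Nat.le_of_dvd (by norm_num) he1
    interval_cases e
    · exact absurd he1 (by decide)
    · exact absurd rfl he3
    · rfl
  subst he
  -- `s = {x}`
  have hc : s.card = 1 := by
    have := h.hcard
    omega
  obtain ⟨x, rfl⟩ := Multiset.card_eq_one.mp hc
  have hxm : (53 : ℤ) ∣ x - 1 := by
    have := h.hs_mod x (Multiset.mem_singleton_self x)
    exact_mod_cast this
  have hxd : x ∣ (5724 : ℤ) := by
    have := h.hs_dvd x (Multiset.mem_singleton_self x)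
    exact_mod_cast this
  have hx2 : 2 ≤ x ∨ x ≤ -2 := h.hs_two x (Multiset.mem_singleton_self x)
  have hf2 : 2 ≤ f := h.hf_two
  have hfd : f ∣ (5724 : ℤ) := by
    have := h.hf_dvd
    exact_mod_cast this
  have heq : ε * f = 1 + x := by
    have := h.heq
    simpa only [Multiset.sum_singleton] using this
  have hsq : 1 + x ^ 2 + 26 * f ^ 2 ≤ 5724 := by
    have := h.hsq
    simp only [Multiset.map_singleton, Multiset.sum_singleton] at this
    norm_num at this
    exact this
  have hxlt : x < 76 := by nlinarith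
  have hxgt : -76 < x := by nlinarith
  obtain ⟨k, hk⟩ := hxm
  have hx : x = 53 * k + 1 := by omega
  subst hx
  have hk1 : -2 < k := by omega
  have hk2 : k < 2 := by omega
  interval_cases k
  · exact absurd hxd (by decide)
  · omega
  · -- `x = 54`, so `f = 55`
    rcases h.hε with rfl | rfl
    · have hf : f = 55 := by omega
      subst hf
      exact absurd hfd (by decide)
    · omega

end Cfsg.Agent.Lib.Helper44.Range6232
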