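/-
helper44: S1936 (project of helper22), END-[F3] `inverts_sylow` and END-[F3'] `exists_involution_inverting`
in `_of` form: the skeleton statements of F1, F2, AP, D2ii (and D2iii, OUT for F3') are hypotheses.
-/
import Mathlib
import Cfsg.Agent.Lib.Helper22.S1936Defs

set_option autoImplicit false
set_option linter.unusedSectionVars false
universe u

namespace Cfsg.Agent.Lib.Helper44.S1936

open Cfsg.Agent.Lib.Helper22.S1936

variable {G : Type u} [Group G] [Finite G] {p : ℕ} [Fact p.Prime]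

/-- a `p`-element normalizing a Sylow `p`-subgroup lies in it -/
theorem mem_sylow_of_mem_normalizer (P : Sylow p G) {z : G} {n : ℕ} (hz : orderOf z = p ^ n)
    (hzN : z ∈ Subgroup.normalizer ((P : Subgroup G) : Set G)) : z ∈ (P : Subgroup G) := by
  have hZ : IsPGroup p ↥(Subgroup.zpowers z) := IsPGroup.of_card (n := n) (by rw [Nat.card_zpowers, hz])
  have hle : Subgroup.zpowers z ≤ Subgroup.normalizer ((P : Subgroup G) : Set G) :=
    (Subgroup.zpowers_le).mpr hzN
  have hsup : IsPGroup p ↥(Subgroup.zpowers z ⊔ (P : Subgroup G)) :=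
    IsPGroup.to_sup_of_normal_right' hZ P.2 hle
  have heq := P.is_maximal' hsup le_sup_right
  have : z ∈ Subgroup.zpowers z ⊔ (P : Subgroup G) :=
    Subgroup.mem_sup_left (Subgroup.mem_zpowers z)
  rwa [heq] at this

/-- an automorphism of order two of a finite group without non-trivial fixed points inverts; here for
conjugation by an involution normalizing a subgroup -/
theorem conj_eq_inv_of_fixedPointFree (P : Subgroup G) {a : G} (ha2 : a * a = 1)
    (haP : a ∈ Subgroup.normalizer (P : Set G))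
    (hfix : ∀ x ∈ P, a * x * a⁻¹ = x → x = 1) : ∀ x ∈ P, a * x * a⁻¹ = x⁻¹ := by
  have hainv : a⁻¹ = a := inv_eq_of_mul_eq_one_right ha2
  let φ : ↥P →* ↥P :=
    { toFun := fun x => ⟨a * x * a⁻¹, (Subgroup.mem_normalizer_iff.mp haP x).mp x.2⟩
      map_one' := by
        apply Subtype.ext
        simp
      map_mul' := by
        intro x y
        apply Subtype.ext
        simp [mul_assoc] }
  have hφ : MonoidHom.FixedPointFree φ := by
    intro x hx
    have h1 : a * (x : G) * a⁻¹ = x := congrArg Subtype.val hx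
    exact Subtype.ext (hfix x x.2 h1)
  have hinv : Function.Involutive φ := by
    intro x
    apply Subtype.ext
    show a * (a * (x : G) * a⁻¹) * a⁻¹ = x
    rw [hainv]
    calc a * (a * (x : G) * a) * a = (a * a) * x * (a * a) := by group
      _ = x := by rw [ha2, one_mul, mul_one]
  have key := MonoidHom.FixedPointFree.coe_eq_inv_of_involutive hφ hinv
  intro x hx
  have := congrFun key ⟨x, hx⟩
  exact congrArg Subtype.val this

/-- END-[F3] in `_of` form. -/
theorem inverts_sylow_of (hG : MinCE p G) {T : Sylow 2 G}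
    (hD : SEDatum T (Subgroup.normalizer ((T : Subgroup G) : Set G)))
    (hF1 : ∀ {a u : G}, a ∈ (T : Subgroup G) → a ≠ 1 → orderOf u = 2 →
      u ∉ Subgroup.normalizer ((T : Subgroup G) : Set G) →
      Subgroup.centralizer ({a} : Set G) ⊓ Subgroup.centralizer ({u} : Set G) = ⊥)
    (hF2 : ∀ {a x : G}, a ∈ (T : Subgroup G) → a ≠ 1 → a * x * a⁻¹ = x⁻¹ → Odd (orderOf x) → x ≠ 1 →
      a * x ∉ Subgroup.normalizer ((T : Subgroup G) : Set G))
    (hAP : ∀ {a u : G}, orderOf a = 2 → a ∈ Subgroup.normalizer ((T : Subgroup G) : Set G) →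
      u ∉ Subgroup.normalizer ((T : Subgroup G) : Set G) →
      Apart (Subgroup.normalizer ((T : Subgroup G) : Set G)) a u)
    (hD2ii : ∀ {a u : G}, orderOf a = 2 → orderOf u = 2 →
      Apart (Subgroup.normalizer ((T : Subgroup G) : Set G)) a u →
      a * u ≠ 1 ∧ ∃ n : ℕ, orderOf (a * u) = p ^ n)
    {a u : G} (haT : a ∈ (T : Subgroup G)) (ha1 : a ≠ 1)
    (hu : orderOf u = 2) (huN : u ∉ Subgroup.normalizer ((T : Subgroup G) : Set G))
    (P : Sylow p G) (haP : a ∈ Subgroup.normalizer ((P : Subgroup G) : Set G))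
    (huP : u ∈ Subgroup.normalizer ((P : Subgroup G) : Set G)) :
    ∀ x ∈ (P : Subgroup G), a * x * a⁻¹ = x⁻¹ := by
  have hp5 := hG.hp5
  have hpodd : Odd p := (Fact.out : p.Prime).odd_of_ne_two (by omega)
  have hasq : a ^ 2 = 1 := hD.elem a haT
  have ha2 : a * a = 1 := by rw [← sq]; exact hasq
  have hainv : a⁻¹ = a := inv_eq_of_mul_eq_one_right ha2
  have hao : orderOf a = 2 := orderOf_eq_prime hasq ha1
  have haN : a ∈ Subgroup.normalizer ((T : Subgroup G) : Set G) := Subgroup.le_normalizer haT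
  -- z = a u is a non-trivial p-element of P
  obtain ⟨hz1, n, hzn⟩ := hD2ii hao hu (hAP hao haN huN)
  have hzP : a * u ∈ (P : Subgroup G) :=
    mem_sylow_of_mem_normalizer P hzn (mul_mem haP huP)
  -- odd order of the elements of P
  have hoddP : ∀ x ∈ (P : Subgroup G), Odd (orderOf x) := by
    intro x hx
    obtain ⟨k, hk⟩ := (IsPGroup.iff_orderOf.mp P.2) ⟨x, hx⟩
    rw [Subgroup.orderOf_mk] at hk
    rw [hk]
    exact hpodd.pow
  -- the centre of P has no fixed points of a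
  have hA : ∀ ζ ∈ (P : Subgroup G), (∀ y ∈ (P : Subgroup G), ζ * y = y * ζ) → a * ζ * a⁻¹ = ζ →
      ζ = 1 := by
    intro ζ hζ hcen hfix
    have hca : ζ * a = a * ζ := by
      have := congrArg (· * a) hfix
      simp only [inv_mul_cancel_right] at this
      exact this.symm
    have hcu : ζ * u = u * ζ := by
      have hz := hcen (a * u) hzP
      calc ζ * u = ζ * (a * (a * u)) := by rw [← mul_assoc a a u, ha2, one_mul]
        _ = (ζ * a) * (a * u) := by group
        _ = (a * ζ) * (a * u) := by rw [hca]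
        _ = a * (ζ * (a * u)) := by group
        _ = a * ((a * u) * ζ) := by rw [hz]
        _ = (a * (a * u)) * ζ := by group
        _ = u * ζ := by rw [← mul_assoc a a u, ha2, one_mul]
    have hmem : ζ ∈ Subgroup.centralizer ({a} : Set G) ⊓ Subgroup.centralizer ({u} : Set G) :=
      ⟨Subgroup.mem_centralizer_singleton_iff.mpr hca, Subgroup.mem_centralizer_singleton_iff.mpr hcu⟩
    rw [hF1 haT ha1 hu huN] at hmem
    exact Subgroup.mem_bot.mp hmem
  -- a inverts the centre of P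
  have hB : ∀ ζ ∈ (P : Subgroup G), (∀ y ∈ (P : Subgroup G), ζ * y = y * ζ) → a * ζ * a⁻¹ = ζ⁻¹ := by
    intro ζ hζ hcen
    have hζ' : a * ζ * a⁻¹ ∈ (P : Subgroup G) := (Subgroup.mem_normalizer_iff.mp haP ζ).mp hζ
    have hcen' : ∀ y ∈ (P : Subgroup G), (a * ζ * a⁻¹) * y = y * (a * ζ * a⁻¹) := by
      intro y hy
      have hy' : a⁻¹ * y * a ∈ (P : Subgroup G) := by
        have := (Subgroup.mem_normalizer_iff.mp (inv_mem haP) y).mp hy
        simpa using this
      have h1 := hcen _ hy'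
      calc a * ζ * a⁻¹ * y = a * (ζ * (a⁻¹ * y * a)) * a⁻¹ := by group
        _ = a * ((a⁻¹ * y * a) * ζ) * a⁻¹ := by rw [h1]
        _ = y * (a * ζ * a⁻¹) := by group
    have hw : ζ * (a * ζ * a⁻¹) = 1 := by
      apply hA _ (mul_mem hζ hζ')
      · intro y hy
        rw [mul_assoc, hcen' y hy, ← mul_assoc, hcen y hy, mul_assoc]
      · calc a * (ζ * (a * ζ * a⁻¹)) * a⁻¹ = (a * ζ * a⁻¹) * ((a * a) * ζ * (a⁻¹ * a⁻¹)) := by group
          _ = (a * ζ * a⁻¹) * ζ := by rw [ha2, hainv, ha2, one_mul, mul_one]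
          _ = ζ * (a * ζ * a⁻¹) := hcen' ζ hζ
    exact (eq_inv_of_mul_eq_one_right hw)
  -- a non-trivial central element
  have hnt : Nontrivial ↥(P : Subgroup G) := ⟨⟨⟨a * u, hzP⟩, 1, fun h => hz1 (congrArg Subtype.val h)⟩⟩
  have hcn : Nontrivial ↥(Subgroup.center ↥(P : Subgroup G)) := IsPGroup.center_nontrivial P.2
  obtain ⟨ζ0', hζ0'⟩ := exists_ne (1 : ↥(Subgroup.center ↥(P : Subgroup G)))
  have hζ0P : ((ζ0' : ↥(P : Subgroup G)) : G) ∈ (P : Subgroup G) := (ζ0' : ↥(P : Subgroup G)).2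
  have hζ0cen : ∀ y ∈ (P : Subgroup G), ((ζ0' : ↥(P : Subgroup G)) : G) * y = y * ((ζ0' : ↥(P : Subgroup G)) : G) := by
    intro y hy
    have := Subgroup.mem_center_iff.mp ζ0'.2 ⟨y, hy⟩
    exact (congrArg Subtype.val this).symm
  have hζ0ne : ((ζ0' : ↥(P : Subgroup G)) : G) ≠ 1 := by
    intro h
    apply hζ0'
    apply Subtype.ext
    apply Subtype.ext
    exact h
  obtain ⟨ζ0, hζ0def⟩ : ∃ ζ0 : G, ζ0 = ((ζ0' : ↥(P : Subgroup G)) : G) := ⟨_, rfl⟩
  rw [← hζ0def] at hζ0P hζ0cen hζ0ne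
  have hinvζ0 : a * ζ0 * a⁻¹ = ζ0⁻¹ := hB ζ0 hζ0P hζ0cen
  -- the involution u0 = a ζ0 outside N(T)
  have hu0N : a * ζ0 ∉ Subgroup.normalizer ((T : Subgroup G) : Set G) :=
    hF2 haT ha1 hinvζ0 (hoddP ζ0 hζ0P) hζ0ne
  have hu0ne : a * ζ0 ≠ 1 := by
    intro h
    apply hu0N
    rw [h]
    exact one_mem _
  have hu0sq : (a * ζ0) ^ 2 = 1 := by
    have h1 : a * ζ0 = ζ0⁻¹ * a := by
      have := congrArg (· * a) hinvζ0
      simpa using this
    rw [sq]
    calc a * ζ0 * (a * ζ0) = (ζ0⁻¹ * a) * (a * ζ0) := by rw [h1]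
      _ = ζ0⁻¹ * (a * a) * ζ0 := by group
      _ = 1 := by rw [ha2]; group
  have hu0o : orderOf (a * ζ0) = 2 := orderOf_eq_prime hu0sq hu0ne
  -- a has no fixed points on P
  have hC' : ∀ x ∈ (P : Subgroup G), a * x * a⁻¹ = x → x = 1 := by
    intro x hx hfix
    have hca : x * a = a * x := by
      have := congrArg (· * a) hfix
      simp only [inv_mul_cancel_right] at this
      exact this.symm
    have hcu : x * (a * ζ0) = (a * ζ0) * x := by
      rw [← mul_assoc, hca, mul_assoc, ← hζ0cen x hx, mul_assoc]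
    have hmem : x ∈ Subgroup.centralizer ({a} : Set G) ⊓ Subgroup.centralizer ({a * ζ0} : Set G) :=
      ⟨Subgroup.mem_centralizer_singleton_iff.mpr hca, Subgroup.mem_centralizer_singleton_iff.mpr hcu⟩
    rw [hF1 haT ha1 hu0o hu0N] at hmem
    exact Subgroup.mem_bot.mp hmem
  exact conj_eq_inv_of_fixedPointFree (P : Subgroup G) ha2 haP hC'

/-- END-[F3'] in `_of` form: every Sylow `p`-subgroup is inverted by some involution. -/
theorem exists_involution_inverting_of {T : Sylow 2 G}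
    (hD : SEDatum T (Subgroup.normalizer ((T : Subgroup G) : Set G)))
    (hF3 : ∀ {a u : G}, a ∈ (T : Subgroup G) → a ≠ 1 → orderOf u = 2 →
      u ∉ Subgroup.normalizer ((T : Subgroup G) : Set G) → ∀ P : Sylow p G,
      a ∈ Subgroup.normalizer ((P : Subgroup G) : Set G) →
      u ∈ Subgroup.normalizer ((P : Subgroup G) : Set G) →
      ∀ x ∈ (P : Subgroup G), a * x * a⁻¹ = x⁻¹)
    (hAP : ∀ {a u : G}, orderOf a = 2 → a ∈ Subgroup.normalizer ((T : Subgroup G) : Set G) →
      u ∉ Subgroup.normalizer ((T : Subgroup G) : Set G) →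
      Apart (Subgroup.normalizer ((T : Subgroup G) : Set G)) a u)
    (hD2iii : ∀ {a u : G}, orderOf a = 2 → orderOf u = 2 →
      Apart (Subgroup.normalizer ((T : Subgroup G) : Set G)) a u →
      ∃ P : Sylow p G, a ∈ Subgroup.normalizer ((P : Subgroup G) : Set G) ∧
        u ∈ Subgroup.normalizer ((P : Subgroup G) : Set G))
    (hOUT : ∃ u : G, orderOf u = 2 ∧ u ∉ Subgroup.normalizer ((T : Subgroup G) : Set G))
    (P : Sylow p G) :
    ∃ b : G, orderOf b = 2 ∧ ∀ x ∈ (P : Subgroup G), b * x * b⁻¹ = x⁻¹ := by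
  -- a non-trivial element of T
  have hcard : 1 < Nat.card ↥(T : Subgroup G) := lt_of_lt_of_le (by norm_num) hD.card8
  have hntT : Nontrivial ↥(T : Subgroup G) := (Finite.one_lt_card_iff_nontrivial).mp hcard
  obtain ⟨a', ha'⟩ := exists_ne (1 : ↥(T : Subgroup G))
  obtain ⟨a, haT, ha1⟩ : ∃ a : G, a ∈ (T : Subgroup G) ∧ a ≠ 1 :=
    ⟨a', a'.2, fun h => ha' (Subtype.ext h)⟩
  have hasq : a ^ 2 = 1 := hD.elem a haT
  have hao : orderOf a = 2 := orderOf_eq_prime hasq ha1
  have haN : a ∈ Subgroup.normalizer ((T : Subgroup G) : Set G) := Subgroup.le_normalizer haT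
  obtain ⟨u, hu, huN⟩ := hOUT
  obtain ⟨P0, haP0, huP0⟩ := hD2iii hao hu (hAP hao haN huN)
  have hinv0 := hF3 haT ha1 hu huN P0 haP0 huP0
  obtain ⟨g, hg⟩ := MulAction.exists_smul_eq G P0 P
  have hmem : ∀ x : G, x ∈ (P : Subgroup G) ↔ g⁻¹ * x * g ∈ (P0 : Subgroup G) := by
    intro x
    rw [← hg, Sylow.coe_subgroup_smul, Subgroup.mem_pointwise_smul_iff_inv_smul_mem]
    simp [MulAut.smul_def]
  refine ⟨g * a * g⁻¹, ?_, ?_⟩
  · show orderOf ((MulAut.conj g) a) = 2
    rw [MulEquiv.orderOf_eq]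
    exact hao
  · intro x hx
    have h1 := hinv0 _ ((hmem x).mp hx)
    calc g * a * g⁻¹ * x * (g * a * g⁻¹)⁻¹ = g * (a * (g⁻¹ * x * g) * a⁻¹) * g⁻¹ := by group
      _ = g * (g⁻¹ * x * g)⁻¹ * g⁻¹ := by rw [h1]
      _ = x⁻¹ := by group

end Cfsg.Agent.Lib.Helper44.S1936
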