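import Mathlib
import Cfsg.Agent.Lib.Helper47.SlmdA1B

/-!
# SLMD-[N-A1] (helper44), `_of` forms: `m' ≤ 1` from [N-A1B] resp. from `m1_char`, `m1_dim`.
-/

set_option autoImplicit false
set_option linter.unusedSectionVars false
set_option linter.unusedVariables false

namespace Cfsg.Agent.Lib.Helper32.SLMD

open Matrix Cfsg.Agent.Lib.Helper41 Cfsg.Agent.Lib.Helper39 Module
open scoped LinearAlgebra.Projectivization

variable {F : Type*} [Field F] [Fintype F] [DecidableEq F] {k : ℕ}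

section gg

variable {V : Type*} [AddCommGroup V] [Module ℂ V] [FiniteDimensional ℂ V]

namespace A1

theorem rho_injective {G : Type*} [Group G] {W : Type*} [AddCommGroup W] [Module ℂ W]
    (ρ : Representation ℂ G W) (g : G) : Function.Injective (ρ g) := by
  intro v w h
  have := congrArg (ρ g⁻¹) h
  simpa [← Module.End.mul_apply, ← map_mul] using this

theorem wE_inv_conj_a1El (a : Fin k → F) :
    (wE : GG F k)⁻¹ * a1El a * wE = a2El (-a) := by
  have h := wE_conj_a2El (F := F) (k := k) (-a)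
  rw [neg_neg] at h
  rw [← h]; group

theorem wE_inv_conj_a2El (a : Fin k → F) :
    (wE : GG F k)⁻¹ * a2El a * wE = a1El a := by
  have h := wE_conj_a1El (F := F) (k := k) a
  rw [← h]; group

theorem inv_ne_one {ψ : Multiplicative F →* ℂˣ} (hψ : ψ ≠ 1) : ψ⁻¹ ≠ 1 := by
  intro h
  apply hψ
  refine MonoidHom.ext fun x => ?_
  have h2 : (ψ⁻¹) x = (1 : Multiplicative F →* ℂˣ) x := by rw [h]
  rw [MonoidHom.inv_apply, MonoidHom.one_apply, inv_eq_one] at h2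
  rw [h2, MonoidHom.one_apply]

/-- [N-A1] from the [N-A1B] statement for `ψ⁻¹`, `j = 0` -/
theorem a1_of_a1b [NeZero k] (ρ : Representation ℂ (GG F k) V)
    (ψ : Multiplicative F →* ℂˣ)
    (hT : finrank ℂ ↥(eigenSub ρ (a1Hom : _ →* GG F k) (prChar ψ⁻¹ 0) ⊓
      eigenSub ρ (x2Hom 0 : _ →* GG F k) 1) = 1) :
    finrank ℂ ↥(eigenSub ρ (qHom : _ →* GG F k) 1 ⊓
      eigenSub ρ (a2Hom : _ →* GG F k) (prChar ψ 0)) ≤ 1 := by
  rw [← hT]
  set S := eigenSub ρ (qHom : _ →* GG F k) 1 ⊓ eigenSub ρ (a2Hom : _ →* GG F k) (prChar ψ 0)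
  have hinj := rho_injective ρ (wE : GG F k)
  have hle : S.map (ρ (wE : GG F k)) ≤
      eigenSub ρ (a1Hom : _ →* GG F k) (prChar ψ⁻¹ 0) ⊓ eigenSub ρ (x2Hom 0 : _ →* GG F k) 1 := by
    rintro _ ⟨v, hv, rfl⟩
    have hv1 : v ∈ eigenSub ρ (qHom : _ →* GG F k) 1 := hv.1
    have hv2 : v ∈ eigenSub ρ (a2Hom : _ →* GG F k) (prChar ψ 0) := hv.2
    refine ⟨?_, ?_⟩
    · refine conj_eigenSub ρ (a2Hom : _ →* GG F k) (a1Hom : _ →* GG F k) wE
        (fun a => Multiplicative.ofAdd (-a.toAdd)) ?_ (prChar ψ 0) (prChar ψ⁻¹ 0) ?_ hv2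
      · intro a
        rw [a1Hom_apply, a2Hom_apply, wE_inv_conj_a1El]; rfl
      · intro a
        show ψ (Multiplicative.ofAdd ((-a.toAdd) 0)) = (ψ (Multiplicative.ofAdd (a.toAdd 0)))⁻¹
        rw [Pi.neg_apply, ofAdd_neg, map_inv]
    · refine conj_eigenSub ρ (qHom : _ →* GG F k) (x2Hom 0 : _ →* GG F k) wE
        (fun s => Multiplicative.ofAdd ((0 : F), Pi.single (0 : Fin k) s.toAdd)) ?_ 1 1 ?_ hv1
      · intro s
        rw [x2Hom_apply, qHom_apply, wE_inv_conj_a2El]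
        show a1El _ = qEl 0 _
        unfold qEl; rw [x12_zero, one_mul]; rfl
      · intro s; rfl
  calc finrank ℂ ↥S = finrank ℂ ↥(S.map (ρ (wE : GG F k))) :=
        (LinearEquiv.finrank_eq (Submodule.equivMapOfInjective _ hinj S))
    _ ≤ _ := Submodule.finrank_mono hle

/-- [N-A1] in `_of` form: `m1_char`, `m1_dim` ([N-MULT]) as hypotheses (via helper47 `A1B.a1b_of`) -/
theorem a1_of [NeZero k] (ρ : Representation ℂ (GG F k) V)
    (hchar : ∀ (s : F) (a : Fin k → F), (s ≠ 0 ∨ a ≠ 0) →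
      ρ.character (qEl s a) = (cQ ρ : ℂ) - 1)
    (hdim : finrank ℂ V + 1 = cQ ρ + Fintype.card F ^ (k + 1))
    (ψ : Multiplicative F →* ℂˣ) (hψ : ψ ≠ 1) :
    finrank ℂ ↥(eigenSub ρ (qHom : _ →* GG F k) 1 ⊓
      eigenSub ρ (a2Hom : _ →* GG F k) (prChar ψ 0)) ≤ 1 :=
  a1_of_a1b ρ ψ (A1B.a1b_of ρ hchar hdim ψ⁻¹ (inv_ne_one hψ) (0 : Fin k))

end A1

end gg

end Cfsg.Agent.Lib.Helper32.SLMD
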