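import Mathlib
import Cfsg.Agent.Lib.Helper32.SLMD.Defs2

/-!
# SLMD-[N-CA2] (helper44), `_of` form: `dim C_V(A₂) = c + q - 1` from `m1_char`, `m1_dim` as hypotheses.
-/

set_option autoImplicit false
set_option linter.unusedSectionVars false
set_option linter.unusedVariables false

namespace Cfsg.Agent.Lib.Helper32.SLMD

open Matrix Cfsg.Agent.Lib.Helper41 Cfsg.Agent.Lib.Helper39 Module
open scoped LinearAlgebra.Projectivization

variable {F : Type*} [Field F] [Fintype F] [DecidableEq F] {k : ℕ}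

section gg

variable {V : Type*} [AddCommGroup V] [Module ℂ V] [FiniteDimensional ℂ V]

namespace CA2

theorem a1El_eq_qEl (b : Fin k → F) : (a1El b : GG F k) = qEl 0 b := by
  unfold qEl; rw [x12_zero, one_mul]

theorem char_a2El (ρ : Representation ℂ (GG F k) V)
    (hchar : ∀ (s : F) (a : Fin k → F), (s ≠ 0 ∨ a ≠ 0) →
      ρ.character (qEl s a) = (cQ ρ : ℂ) - 1) (b : Fin k → F)
    (hb : b ≠ 0) : ρ.character (a2El b) = (cQ ρ : ℂ) - 1 := by
  rw [← wE_conj_a1El, Representation.char_conj, a1El_eq_qEl]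
  exact hchar 0 b (Or.inr hb)

theorem card_mul_fk : (Fintype.card (Multiplicative (Fin k → F)) : ℂ) = (Fintype.card F : ℂ) ^ k := by
  rw [Fintype.card_multiplicative, Fintype.card_fun, Fintype.card_fin]
  push_cast; rfl

/-- [N-CA2] in `_of` form: `m1_char`, `m1_dim` ([N-MULT]) as hypotheses -/
theorem ca2_of (ρ : Representation ℂ (GG F k) V)
    (hchar : ∀ (s : F) (a : Fin k → F), (s ≠ 0 ∨ a ≠ 0) →
      ρ.character (qEl s a) = (cQ ρ : ℂ) - 1)
    (hD : finrank ℂ V + 1 = cQ ρ + Fintype.card F ^ (k + 1)) :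
    finrank ℂ ↥(eigenSub ρ (a2Hom : _ →* GG F k) 1) + 1 = cQ ρ + Fintype.card F := by
  have h1 := sum_twist_character ρ (a2Hom : _ →* GG F k) 1
  have hq0 : (Fintype.card F : ℂ) ≠ 0 := by exact_mod_cast Fintype.card_ne_zero
  have hD' : (finrank ℂ V : ℂ) + 1 = (cQ ρ : ℂ) + (Fintype.card F : ℂ) ^ (k + 1) := by
    exact_mod_cast hD
  have hsum : ∑ h : Multiplicative (Fin k → F),
      (((((1 : Multiplicative (Fin k → F) →* ℂˣ) h)⁻¹ : ℂˣ) : ℂ)) * ρ.character (a2Hom h) =
      (finrank ℂ V : ℂ) + ((Fintype.card F : ℂ) ^ k - 1) * ((cQ ρ : ℂ) - 1) := by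
    rw [← Finset.add_sum_erase Finset.univ _ (Finset.mem_univ (1 : Multiplicative (Fin k → F)))]
    congr 1
    · rw [map_one (a2Hom : _ →* GG F k), Representation.char_one]; simp
    · have : ∀ x ∈ Finset.univ.erase (1 : Multiplicative (Fin k → F)),
          (((((1 : Multiplicative (Fin k → F) →* ℂˣ) x)⁻¹ : ℂˣ) : ℂ)) * ρ.character (a2Hom x) =
            (cQ ρ : ℂ) - 1 := by
        intro x hx
        have hx1 : x ≠ 1 := Finset.ne_of_mem_erase hx
        have hb : x.toAdd ≠ 0 := fun h => hx1 (by rw [← ofAdd_toAdd x, h]; rfl)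
        rw [a2Hom_apply, char_a2El ρ hchar _ hb]
        simp
      rw [Finset.sum_congr rfl this, Finset.sum_const, Finset.card_erase_of_mem (Finset.mem_univ _),
        Finset.card_univ, nsmul_eq_mul, Nat.cast_sub Fintype.card_pos, card_mul_fk]
      simp
  rw [hsum, card_mul_fk] at h1
  have hk0 : (Fintype.card F : ℂ) ^ k ≠ 0 := pow_ne_zero _ hq0
  have key : (finrank ℂ ↥(eigenSub ρ (a2Hom : _ →* GG F k) 1) : ℂ) + 1 =
      (cQ ρ : ℂ) + (Fintype.card F : ℂ) := by
    have hD'' : (finrank ℂ V : ℂ) = (cQ ρ : ℂ) + (Fintype.card F : ℂ) ^ (k + 1) - 1 := by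
      rw [← hD']; ring
    rw [hD'', pow_succ] at h1
    have : (Fintype.card F : ℂ) ^ k *
        ((finrank ℂ ↥(eigenSub ρ (a2Hom : _ →* GG F k) 1) : ℂ) + 1) =
        (Fintype.card F : ℂ) ^ k * ((cQ ρ : ℂ) + (Fintype.card F : ℂ)) := by
      rw [mul_add, ← h1]; ring
    exact mul_left_cancel₀ hk0 this
  exact_mod_cast key

end CA2

end gg

end Cfsg.Agent.Lib.Helper32.SLMD
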