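import Mathlib
import Cfsg.Agent.Lib.Helper44.SlmdCA2
import Cfsg.Agent.Lib.Helper65.SlmdGPsi
import Cfsg.Agent.Lib.Helper95.SlmdGIndep
import Cfsg.Agent.Lib.Helper62.SlmdNOrb
import Cfsg.Agent.Lib.Helper47.SlmdVec
import Cfsg.Agent.Lib.Helper31.SlmdNWdim

/-!
# SLMD-[N-UPPER-K2], SLMD-[N-UPPER-K1] (helper44): `h + 1 ≤ c` under `M1`.
-/

set_option autoImplicit false
set_option linter.unusedSectionVars false
set_option linter.unusedVariables false

namespace Cfsg.Agent.Lib.Helper32.SLMD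

open Matrix Cfsg.Agent.Lib.Helper41 Cfsg.Agent.Lib.Helper39 Module
open scoped LinearAlgebra.Projectivization

variable {F : Type*} [Field F] [Fintype F] [DecidableEq F] {k : ℕ}

section gg

variable {V : Type*} [AddCommGroup V] [Module ℂ V] [FiniteDimensional ℂ V]

namespace Upper

theorem a1El_eq_qEl (b : Fin k → F) : (a1El b : GG F k) = qEl 0 b := by
  unfold qEl; rw [x12_zero, one_mul]

theorem a1El_zero : (a1El (0 : Fin k → F) : GG F k) = 1 := (a1Hom (F := F) (k := k)).map_one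

theorem x12_eq_qEl (s : F) : (x12 s : GG F k) = qEl s 0 := by
  unfold qEl; rw [a1El_zero, mul_one]

/-- vectors fixed by `Q` are fixed by `A₁` -/
theorem mem_a1_of_mem_q (ρ : Representation ℂ (GG F k) V) {v : V}
    (hv : v ∈ eigenSub ρ (qHom : _ →* GG F k) 1) :
    v ∈ eigenSub ρ (a1Hom : _ →* GG F k) 1 := by
  rw [mem_eigenSub] at hv ⊢
  intro a
  have := hv (Multiplicative.ofAdd ((0 : F), a.toAdd))
  rw [qHom_apply] at this
  rw [a1Hom_apply, a1El_eq_qEl]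
  simpa using this

/-- vectors fixed by `Q` are fixed by `X₁₂` -/
theorem mem_x12_of_mem_q (ρ : Representation ℂ (GG F k) V) {v : V}
    (hv : v ∈ eigenSub ρ (qHom : _ →* GG F k) 1) :
    v ∈ eigenSub ρ (x12Hom : _ →* GG F k) 1 := by
  rw [mem_eigenSub] at hv ⊢
  intro s
  have := hv (Multiplicative.ofAdd (s.toAdd, (0 : Fin k → F)))
  rw [qHom_apply] at this
  rw [x12Hom_apply, x12_eq_qEl]
  simpa using this

theorem card_units_F : Fintype.card Fˣ = Fintype.card F - 1 := Fintype.card_units F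

/-- [N-WDIM] with exact Skel statement (from helper31 `wdim_of` + helper65 [G-PSI] + helper62 [N-ORB-*] +
helper47 [N-VEC]); kept in this sub-namespace to avoid clashing with an exact `wdim` landed elsewhere. -/
theorem wdim' [NeZero k] (hkq : k = 1 ∨ 3 ≤ k ∨ ∃ e : Fˣ, e ^ 2 ≠ 1)
    (ρ : Representation ℂ (GG F k) V) (hM : M1 ρ) (ψ : Multiplicative F →* ℂˣ) (hψ : ψ ≠ 1)
    (j : Fin k) :
    1 ≤ finrank ℂ ↥(eigenSub ρ (a2Hom : _ →* GG F k) 1 ⊓
      eigenSub ρ (a1Hom : _ →* GG F k) (prChar ψ j)) :=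
  wdim_of hkq ρ hM ψ hψ j (qChar_ne_one ψ hψ j)
    (fun hk i hij ℓ hℓ b => orb_comm hk ρ hM ψ hψ j i hij ℓ hℓ b)
    (fun e he i hij ℓ hℓ b => orb_torus e he ρ hM ψ hψ j i hij ℓ hℓ b)
    (fun ℓ hℓ hℓ0 hfix => vec ρ ψ hψ j ℓ hℓ hℓ0 hfix)

end Upper

open Upper in
/-- [N-UPPER-K2] -/
theorem upper_k2 [NeZero k] (hk : 2 ≤ k) (hkq : 3 ≤ k ∨ ∃ e : Fˣ, e ^ 2 ≠ 1)
    (ρ : Representation ℂ (GG F k) V) (hM : M1 ρ) : hR ρ + 1 ≤ cQ ρ := by
  obtain ⟨ψ, hψ⟩ := exists_addChar_ne_one (F := F)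
  have hca := ca2 ρ hM
  have hjj : Function.Injective (Fin.castLE hk) := Fin.castLE_injective hk
  let lam : Option (Fˣ × Fin 2) → (Multiplicative (Fin k → F) →* ℂˣ) := fun o =>
    match o with
    | none => 1
    | some p => prChar (scaleChar ψ (p.1 : F)) (Fin.castLE hk p.2)
  have hinj : Function.Injective lam := by
    intro o o' h
    rcases o with _ | ⟨t, ε⟩ <;> rcases o' with _ | ⟨t', ε'⟩
    · rfl
    · exact absurd h.symm (prChar_ne_one _ (scaleChar_ne_one ψ hψ t' t'.ne_zero) _)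
    · exact absurd h (prChar_ne_one _ (scaleChar_ne_one ψ hψ t t.ne_zero) _)
    · obtain ⟨h1, h2⟩ := prChar_inj _ _ (scaleChar_ne_one ψ hψ t t.ne_zero) _ _ h
      have ht : (t : F) = t' := scaleChar_injective ψ hψ h1
      have hε : ε = ε' := hjj h2
      rw [Units.ext ht, hε]
  have hcount := eigenSub_count ρ (a1Hom : _ →* GG F k)
    (eigenSub ρ (a2Hom : _ →* GG F k) 1) lam hinj
  rw [Fintype.sum_option] at hcount
  have h0 : hR ρ ≤ finrank ℂ ↥(eigenSub ρ (a2Hom : _ →* GG F k) 1 ⊓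
      eigenSub ρ (a1Hom : _ →* GG F k) (lam none)) := by
    unfold hR
    apply Submodule.finrank_mono
    rintro v ⟨hv1, hv2⟩
    exact ⟨hv2, mem_a1_of_mem_q ρ hv1⟩
  have h1 : ∀ p : Fˣ × Fin 2, 1 ≤ finrank ℂ ↥(eigenSub ρ (a2Hom : _ →* GG F k) 1 ⊓
      eigenSub ρ (a1Hom : _ →* GG F k) (lam (some p))) := by
    intro p
    exact wdim' (Or.inr hkq) ρ hM (scaleChar ψ (p.1 : F))
      (scaleChar_ne_one ψ hψ p.1 p.1.ne_zero) (Fin.castLE hk p.2)
  have h2 : (Fintype.card F - 1) * 2 ≤ ∑ p : Fˣ × Fin 2,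
      finrank ℂ ↥(eigenSub ρ (a2Hom : _ →* GG F k) 1 ⊓
        eigenSub ρ (a1Hom : _ →* GG F k) (lam (some p))) := by
    calc (Fintype.card F - 1) * 2 = ∑ p : Fˣ × Fin 2, 1 := by
          simp [card_units_F]
      _ ≤ _ := Finset.sum_le_sum (fun p _ => h1 p)
  have hq : 2 ≤ Fintype.card F := Fintype.one_lt_card
  omega

open Upper in
/-- [N-UPPER-K1] -/
theorem upper_k1 (he : ∃ e : Fˣ, e ^ 3 ≠ 1) (ρ : Representation ℂ (GG F 1) V) (hM : M1 ρ) :
    hR ρ + 1 ≤ cQ ρ := by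
  obtain ⟨e, he⟩ := he
  obtain ⟨ψ, hψ⟩ := exists_addChar_ne_one (F := F)
  have hca := ca2 ρ hM
  have hq : 2 ≤ Fintype.card F := Fintype.one_lt_card
  -- level 1
  let lam1 : Option Fˣ → (Multiplicative (Fin 1 → F) →* ℂˣ) := fun o =>
    match o with
    | none => 1
    | some t => prChar (scaleChar ψ (t : F)) 0
  have hinj1 : Function.Injective lam1 := by
    intro o o' h
    rcases o with _ | t <;> rcases o' with _ | t'
    · rfl
    · exact absurd h.symm (prChar_ne_one _ (scaleChar_ne_one ψ hψ t' t'.ne_zero) _)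
    · exact absurd h (prChar_ne_one _ (scaleChar_ne_one ψ hψ t t.ne_zero) _)
    · obtain ⟨h1, _⟩ := prChar_inj _ _ (scaleChar_ne_one ψ hψ t t.ne_zero) _ _ h
      have ht : (t : F) = t' := scaleChar_injective ψ hψ h1
      rw [Units.ext ht]
  have hcount1 := eigenSub_count ρ (a1Hom : _ →* GG F 1)
    (eigenSub ρ (a2Hom : _ →* GG F 1) 1) lam1 hinj1
  rw [Fintype.sum_option] at hcount1
  have h11 : ∀ t : Fˣ, 1 ≤ finrank ℂ ↥(eigenSub ρ (a2Hom : _ →* GG F 1) 1 ⊓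
      eigenSub ρ (a1Hom : _ →* GG F 1) (lam1 (some t))) := by
    intro t
    exact wdim' (Or.inl rfl) ρ hM (scaleChar ψ (t : F))
      (scaleChar_ne_one ψ hψ t t.ne_zero) 0
  have h12 : (Fintype.card F - 1) ≤ ∑ t : Fˣ,
      finrank ℂ ↥(eigenSub ρ (a2Hom : _ →* GG F 1) 1 ⊓
        eigenSub ρ (a1Hom : _ →* GG F 1) (lam1 (some t))) := by
    calc (Fintype.card F - 1) = ∑ t : Fˣ, 1 := by simp [card_units_F]
      _ ≤ _ := Finset.sum_le_sum (fun t _ => h11 t)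
  -- so finrank W' ≤ c
  have hW' : finrank ℂ ↥(eigenSub ρ (a2Hom : _ →* GG F 1) 1 ⊓
      eigenSub ρ (a1Hom : _ →* GG F 1) 1) ≤ cQ ρ := by
    have : lam1 none = 1 := rfl
    rw [this] at hcount1
    omega
  -- level 2
  let lam2 : Option Fˣ → (Multiplicative F →* ℂˣ) := fun o =>
    match o with
    | none => 1
    | some t => scaleChar ψ (t : F)
  have hinj2 : Function.Injective lam2 := by
    intro o o' h
    rcases o with _ | t <;> rcases o' with _ | t'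
    · rfl
    · exact absurd h.symm (scaleChar_ne_one ψ hψ t' t'.ne_zero)
    · exact absurd h (scaleChar_ne_one ψ hψ t t.ne_zero)
    · have ht : (t : F) = t' := scaleChar_injective ψ hψ h
      rw [Units.ext ht]
  have hcount2 := eigenSub_count ρ (x12Hom : _ →* GG F 1)
    (eigenSub ρ (a2Hom : _ →* GG F 1) 1 ⊓ eigenSub ρ (a1Hom : _ →* GG F 1) 1) lam2 hinj2
  rw [Fintype.sum_option] at hcount2
  have h20 : hR ρ ≤ finrank ℂ ↥((eigenSub ρ (a2Hom : _ →* GG F 1) 1 ⊓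
      eigenSub ρ (a1Hom : _ →* GG F 1) 1) ⊓ eigenSub ρ (x12Hom : _ →* GG F 1) (lam2 none)) := by
    unfold hR
    apply Submodule.finrank_mono
    rintro v ⟨hv1, hv2⟩
    exact ⟨⟨hv2, mem_a1_of_mem_q ρ hv1⟩, mem_x12_of_mem_q ρ hv1⟩
  have h21 : ∀ t : Fˣ, 1 ≤ finrank ℂ ↥((eigenSub ρ (a2Hom : _ →* GG F 1) 1 ⊓
      eigenSub ρ (a1Hom : _ →* GG F 1) 1) ⊓
        eigenSub ρ (x12Hom : _ →* GG F 1) (lam2 (some t))) := by
    intro t
    have hs : (sChar (scaleChar ψ (t : F)) : Multiplicative (F × (Fin 1 → F)) →* ℂˣ) ≠ 1 :=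
      sChar_ne_one _ (scaleChar_ne_one ψ hψ t t.ne_zero)
    have hfr := hM _ hs
    have hpos : 0 < finrank ℂ ↥(eigenSub ρ (qHom : _ →* GG F 1) (sChar (scaleChar ψ (t : F)))) := by
      rw [hfr]; exact Nat.one_pos
    obtain ⟨⟨ℓ, hℓ⟩, hℓ0⟩ := Module.finrank_pos_iff_exists_ne_zero.mp hpos
    have hℓ0' : ℓ ≠ 0 := fun h => hℓ0 (Subtype.ext h)
    have hmem : ℓ ∈ (eigenSub ρ (a2Hom : _ →* GG F 1) 1 ⊓
        eigenSub ρ (a1Hom : _ →* GG F 1) 1) ⊓
          eigenSub ρ (x12Hom : _ →* GG F 1) (lam2 (some t)) := by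
      have hℓ' := (mem_eigenSub _ _ _ _).mp hℓ
      refine ⟨⟨(mem_eigenSub _ _ _ _).mpr ?_, (mem_eigenSub _ _ _ _).mpr ?_⟩,
        (mem_eigenSub _ _ _ _).mpr ?_⟩
      · intro b
        rw [a2Hom_apply, fix_k1 e he ρ hM _ (scaleChar_ne_one ψ hψ t t.ne_zero) ℓ hℓ b.toAdd]
        simp
      · intro a
        have := hℓ' (Multiplicative.ofAdd ((0 : F), a.toAdd))
        rw [qHom_apply] at this
        rw [a1Hom_apply, a1El_eq_qEl]
        rw [show (qEl (Multiplicative.toAdd (Multiplicative.ofAdd ((0 : F), a.toAdd))).1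
          (Multiplicative.toAdd (Multiplicative.ofAdd ((0 : F), a.toAdd))).2 : GG F 1) =
            qEl 0 a.toAdd from rfl] at this
        rw [this]
        have h1 : (sChar (scaleChar ψ (t : F)) : Multiplicative (F × (Fin 1 → F)) →* ℂˣ)
            (Multiplicative.ofAdd ((0 : F), a.toAdd)) = 1 := by
          show scaleChar ψ (t : F) (Multiplicative.ofAdd (0 : F)) = 1
          exact (scaleChar ψ (t : F)).map_one
        rw [h1]; simp
      · intro s
        have := hℓ' (Multiplicative.ofAdd (s.toAdd, (0 : Fin 1 → F)))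
        rw [qHom_apply] at this
        rw [x12Hom_apply, x12_eq_qEl]
        rw [show (qEl (Multiplicative.toAdd (Multiplicative.ofAdd (s.toAdd, (0 : Fin 1 → F)))).1
          (Multiplicative.toAdd (Multiplicative.ofAdd (s.toAdd, (0 : Fin 1 → F)))).2 : GG F 1) =
            qEl s.toAdd 0 from rfl] at this
        rw [this]
        rfl
    have : 0 < finrank ℂ ↥((eigenSub ρ (a2Hom : _ →* GG F 1) 1 ⊓
        eigenSub ρ (a1Hom : _ →* GG F 1) 1) ⊓
          eigenSub ρ (x12Hom : _ →* GG F 1) (lam2 (some t))) :=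
      Module.finrank_pos_iff_exists_ne_zero.mpr ⟨⟨ℓ, hmem⟩, fun h => hℓ0' (congrArg Subtype.val h)⟩
    exact this
  have h22 : (Fintype.card F - 1) ≤ ∑ t : Fˣ,
      finrank ℂ ↥((eigenSub ρ (a2Hom : _ →* GG F 1) 1 ⊓
        eigenSub ρ (a1Hom : _ →* GG F 1) 1) ⊓
          eigenSub ρ (x12Hom : _ →* GG F 1) (lam2 (some t))) := by
    calc (Fintype.card F - 1) = ∑ t : Fˣ, 1 := by simp [card_units_F]
      _ ≤ _ := Finset.sum_le_sum (fun t _ => h21 t)
  omega

end gg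

end Cfsg.Agent.Lib.Helper32.SLMD
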