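import Mathlib
import Cfsg.Agent.Lib.Helper44.SpPair1

set_option autoImplicit false
set_option linter.unusedSimpArgs false
set_option linter.unusedVariables false

/-!
# Overgroups of the stabiliser of a pair of complementary Lagrangians, odd characteristic

From a conjugate `sg a b 1` of a Levi element whose line `⟨a, b⟩` is in general position we obtain,
in a subgroup `M` containing the Levi elements, all transvections along some nonzero vector of `U`,
hence along all of `U`.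
-/

namespace Cfsg.Agent.Lib.Helper44

open Cfsg.Agent.Lib.Helper94 (SympData)
open Module

section sppair
variable {K V : Type*} [Field K] [AddCommGroup V] [Module K V] {B : LinearMap.BilinForm K V}
  {U U' : Submodule K V}

theorem sg_swap (h : SympData B) {a b : V} (hab : B a b = 0) (c : K) :
    h.sg a b c = h.sg b a c := by
  have hba : B b a = 0 := h.eq_zero_comm.1 hab
  ext x
  rw [h.sg_apply hab, h.sg_apply hba]
  abel

theorem conj_sg (h : SympData B) {g : V ≃ₗ[K] V} (hg : g ∈ SympData.Sp B) (a b : V) (c : K) :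
    g * h.sg a b c * g⁻¹ = h.sg (g a) (g b) c := by
  unfold SympData.sg
  rw [← map_add, ← h.conj_tv hg (a + b) c, ← h.conj_tv hg a (-c), ← h.conj_tv hg b (-c)]
  group

theorem tv_mul_tv (h : SympData B) (u : V) (c d : K) :
    h.tv u c * h.tv u d = h.tv u (c + d) := by
  ext x
  simp only [LinearEquiv.mul_apply, SympData.tv_apply, map_add, map_smul, LinearMap.add_apply,
    LinearMap.smul_apply, smul_eq_mul, h.alt, mul_zero, add_zero]
  module

namespace TIPair

/-- Levi elements stabilise both subspaces -/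
theorem levi_maps (hp : TIPair B U U') (h : SympData B) {x x' : V} (hx : x ∈ U) (hx' : x' ∈ U')
    (hxx' : B x x' = 0) (c : K) :
    (∀ u ∈ U, h.sg x x' c u ∈ U) ∧ (∀ u ∈ U', h.sg x x' c u ∈ U') := by
  constructor
  · intro u hu
    rw [h.sg_apply hxx', hp.tiU u hu x hx, mul_zero, zero_smul, add_zero]
    exact U.add_mem hu (U.smul_mem _ hx)
  · intro u hu
    rw [h.sg_apply hxx', hp.tiU' u hu x' hx', mul_zero, zero_smul, add_zero]
    exact U'.add_mem hu (U'.smul_mem _ hx')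

/-- every vector of `U` is a transvection centre of `M` as soon as a nonzero one is -/
theorem xset_of_U [FiniteDimensional K V] (hp : TIPair B U U') (h : SympData B)
    (M : Subgroup (V ≃ₗ[K] V))
    (hlevi : ∀ x ∈ U, ∀ x' ∈ U', B x x' = 0 → ∀ c, h.sg x x' c ∈ M)
    (u : V) (huU : u ∈ U) (hu0 : u ≠ 0) (hu : u ∈ h.Xset M) (x : V) (hxU : x ∈ U) :
    x ∈ h.Xset M := by
  by_cases hc : ∃ c : K, x = c • u
  · obtain ⟨c, rfl⟩ := hc
    exact h.smul_mem_Xset hu c
  · push Not at hc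
    have hli : LinearIndependent K ![u, x] := by
      rw [LinearIndependent.pair_iff' hu0]
      intro a ha
      exact hc a ha.symm
    obtain ⟨y', hy'U, hy'⟩ := hp.exists_dual_in h ![u, x]
      (by intro i; fin_cases i <;> simp [huU, hxU]) hli (fun _ => 1)
    have h1 : B u y' = 1 := hy' 0
    have h2 : B x y' = 1 := hy' 1
    have hxu : B (x - u) y' = 0 := by
      rw [map_sub, LinearMap.sub_apply, h2, h1, sub_self]
    have hg := hlevi (x - u) (U.sub_mem hxU huU) y' hy'U hxu 1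
    have h3 := h.map_mem_Xset hu hg (h.sg_mem_Sp _ _ _)
    have e : h.sg (x - u) y' 1 u = x := by
      rw [h.sg_apply hxu, hp.tiU u huU _ (U.sub_mem hxU huU), h1]
      simp
    rwa [e] at h3

/-- from a short root element `sg a b 1` whose line is in general position to a transvection
centre in `U` (odd characteristic) -/
theorem xset_of_line [FiniteDimensional K V] (hp : TIPair B U U') (h : SympData B)
    (h2 : (2 : K) ≠ 0) (h5 : 5 ≤ finrank K U) (M : Subgroup (V ≃ₗ[K] V))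
    (hlevi : ∀ x ∈ U, ∀ x' ∈ U', B x x' = 0 → ∀ c, h.sg x x' c ∈ M)
    (a b : V) (hab : B a b = 0) (hE : h.sg a b 1 ∈ M)
    (hli : LinearIndependent K ![U.projection U' hp.compl a, U.projection U' hp.compl b]) :
    ∃ u ∈ U, u ≠ 0 ∧ u ∈ h.Xset M := by
  obtain ⟨a₁, ha₁⟩ : ∃ a₁, a₁ = U.projection U' hp.compl a := ⟨_, rfl⟩
  obtain ⟨a₂, ha₂⟩ : ∃ a₂, a₂ = U'.projection U hp.compl.symm a := ⟨_, rfl⟩
  obtain ⟨b₁, hb₁⟩ : ∃ b₁, b₁ = U.projection U' hp.compl b := ⟨_, rfl⟩
  obtain ⟨b₂, hb₂⟩ : ∃ b₂, b₂ = U'.projection U hp.compl.symm b := ⟨_, rfl⟩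
  rw [← ha₁, ← hb₁] at hli
  have ha₁U : a₁ ∈ U := by rw [ha₁]; exact Submodule.projection_apply_mem _ _
  have hb₁U : b₁ ∈ U := by rw [hb₁]; exact Submodule.projection_apply_mem _ _
  have ha₂U : a₂ ∈ U' := by rw [ha₂]; exact Submodule.projection_apply_mem _ _
  have hb₂U : b₂ ∈ U' := by rw [hb₂]; exact Submodule.projection_apply_mem _ _
  have hasum : a₁ + a₂ = a := by
    rw [ha₁, ha₂]; exact Submodule.projection_add_projection_eq_self hp.compl a
  have hbsum : b₁ + b₂ = b := by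
    rw [hb₁, hb₂]; exact Submodule.projection_add_projection_eq_self hp.compl b
  have hfr : finrank K ↥(Submodule.span K (Set.range ![a₁, b₁])) ≤ 2 := by
    have := finrank_range_le_card (R := K) ![a₁, b₁]
    simpa [Set.finrank] using this
  obtain ⟨u, huU, hua₂', hub₂', huS⟩ := hp.tsPair.exists_perp_not_mem h5 a₂ b₂ _ hfr
  have hua₂ : B u a₂ = 0 := by rw [← hp.polar_auxQ_of_mem huU ha₂U]; exact hua₂'
  have hub₂ : B u b₂ = 0 := by rw [← hp.polar_auxQ_of_mem huU hb₂U]; exact hub₂'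
  have hli3 : LinearIndependent K ![u, a₁, b₁] :=
    (linearIndependent_finCons (v := ![a₁, b₁]) (x := u)).2 ⟨hli, huS⟩
  have hu0 : u ≠ 0 := hli3.ne_zero 0
  obtain ⟨u', hu'U, hu'⟩ := hp.exists_dual_in h ![u, a₁, b₁]
    (by intro i; fin_cases i <;> simp [huU, ha₁U, hb₁U]) hli3 ![0, 0, 1]
  have huu' : B u u' = 0 := hu' 0
  have ha₁u' : B a₁ u' = 0 := hu' 1
  have hb₁u' : B b₁ u' = 1 := hu' 2
  have hua₁ : B u a₁ = 0 := hp.tiU u huU a₁ ha₁U
  have hua : B u a = 0 := by rw [← hasum, map_add, hua₁, hua₂, add_zero]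
  have hub : B u b = 0 := by rw [← hbsum, map_add, hp.tiU u huU b₁ hb₁U, hub₂, add_zero]
  have hau : B a u = 0 := h.eq_zero_comm.1 hua
  have hau' : B a u' = 0 := by
    rw [← hasum, map_add, LinearMap.add_apply, ha₁u', hp.tiU' a₂ ha₂U u' hu'U, add_zero]
  have hbu' : B b u' = 1 := by
    rw [← hbsum, map_add, LinearMap.add_apply, hb₁u', hp.tiU' b₂ hb₂U u' hu'U, add_zero]
  have hu'a : B u' a = 0 := h.eq_zero_comm.1 hau'
  have hu'b : B u' b = -1 := by rw [h.skew, hbu']
  have hu'u : B u' u = 0 := h.eq_zero_comm.1 huu'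
  -- step 1: `sg u a 1 ∈ M`
  have hY : h.sg u u' (-1) ∈ M := hlevi u huU u' hu'U huu' (-1)
  have hXu : h.sg a b 1 u = u := by
    rw [h.sg_apply hab, hua, hub]; simp
  have hXu' : h.sg a b 1 u' = u' - a := by
    rw [h.sg_apply hab, hu'a, hu'b]; simp; abel
  have huu'a : B u (u' - a) = 0 := by rw [map_sub, huu', hua, sub_zero]
  have hconj := conj_sg h (h.sg_mem_Sp a b 1) u u' (-1)
  rw [hXu, hXu'] at hconj
  have hsplit : h.sg u (u' - a) (-1) = h.sg u u' (-1) * h.sg u a 1 := by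
    ext x
    rw [LinearEquiv.mul_apply, h.sg_apply huu'a, h.sg_apply huu', h.sg_apply hua]
    simp only [map_add, map_smul, map_sub, LinearMap.add_apply, LinearMap.smul_apply,
      LinearMap.sub_apply, smul_eq_mul, h.alt, hau, hau', huu', hu'u, hua, mul_zero, add_zero,
      sub_zero, zero_add]
    module
  have hS1 : h.sg u a 1 ∈ M := by
    have : h.sg u a 1 = (h.sg u u' (-1))⁻¹ * (h.sg a b 1 * h.sg u u' (-1) * (h.sg a b 1)⁻¹) := by
      rw [hconj, hsplit]; group
    rw [this]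
    exact M.mul_mem (M.inv_mem hY) (M.mul_mem (M.mul_mem hE hY) (M.inv_mem hE))
  -- step 2: split off the Levi part
  have hL2 : h.sg u a₂ 1 ∈ M := hlevi u huU a₂ ha₂U hua₂ 1
  have ha₂u : B a₂ u = 0 := h.eq_zero_comm.1 hua₂
  have ha₁u : B a₁ u = 0 := h.eq_zero_comm.1 hua₁
  have hI1 : h.sg u a₁ 1 * h.sg u a₂ 1 = h.tv u (B a₂ a₁) * h.sg u a 1 := by
    ext x
    rw [LinearEquiv.mul_apply, LinearEquiv.mul_apply, h.sg_apply hua₁, h.sg_apply hua₂,
      h.sg_apply hua, SympData.tv_apply, ← hasum]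
    simp only [map_add, map_smul, map_sub, LinearMap.add_apply, LinearMap.smul_apply,
      LinearMap.sub_apply, smul_eq_mul, h.alt, ha₂u, ha₁u, hua₁, hua₂, mul_zero, add_zero,
      sub_zero, zero_add]
    module
  have hR' : h.sg u a 1 * (h.sg u a₂ 1)⁻¹ = (h.tv u (B a₂ a₁))⁻¹ * h.sg u a₁ 1 := by
    have : h.sg u a₁ 1 = h.tv u (B a₂ a₁) * h.sg u a 1 * (h.sg u a₂ 1)⁻¹ := by
      rw [← hI1]; group
    rw [this]; group
  have hR'M : (h.tv u (B a₂ a₁))⁻¹ * h.sg u a₁ 1 ∈ M := by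
    rw [← hR']
    exact M.mul_mem hS1 (M.inv_mem hL2)
  -- step 3: conjugate by a Levi element fixing `u` and moving `a₁` to `a₁ + d u`
  have hli2 : LinearIndependent K ![u, a₁] := by
    rw [LinearIndependent.pair_iff]
    intro s t hst
    have := Fintype.linearIndependent_iff.1 hli3 ![s, t, 0]
      (by rw [Fin.sum_univ_three]; simpa using hst)
    exact ⟨this 0, this 1⟩
  obtain ⟨x', hx'U, hx'⟩ := hp.exists_dual_in h ![u, a₁]
    (by intro i; fin_cases i <;> simp [huU, ha₁U]) hli2 ![0, 1]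
  have hux' : B u x' = 0 := hx' 0
  have ha₁x' : B a₁ x' = 1 := hx' 1
  have key : ∀ d : K, h.tv u (2 * d) ∈ M := by
    intro d
    have hL : h.sg u x' d ∈ M := hlevi u huU x' hx'U hux' d
    have hLu : h.sg u x' d u = u := by
      rw [h.sg_apply hux', h.alt, hux']; simp
    have hLa₁ : h.sg u x' d a₁ = a₁ + d • u := by
      rw [h.sg_apply hux', ha₁u, ha₁x']; simp
    have hI2 : h.sg u x' d * h.sg u a₁ 1 * (h.sg u x' d)⁻¹ = h.tv u (2 * d) * h.sg u a₁ 1 := by
      rw [conj_sg h (h.sg_mem_Sp u x' d), hLu, hLa₁]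
      have hua₁d : B u (a₁ + d • u) = 0 := by
        rw [map_add, map_smul, hua₁, h.alt, smul_zero, add_zero]
      ext x
      rw [LinearEquiv.mul_apply, h.sg_apply hua₁d, h.sg_apply hua₁, SympData.tv_apply]
      simp only [map_add, map_smul, map_sub, LinearMap.add_apply, LinearMap.smul_apply,
        LinearMap.sub_apply, smul_eq_mul, h.alt, ha₁u, hua₁, mul_zero, add_zero,
        sub_zero, zero_add]
      module
    have hI3 : h.sg u x' d * h.tv u (B a₂ a₁) * (h.sg u x' d)⁻¹ = h.tv u (B a₂ a₁) := by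
      rw [h.conj_tv (h.sg_mem_Sp u x' d), hLu]
    have hcomm : h.tv u (2 * d) * h.tv u (B a₂ a₁) = h.tv u (B a₂ a₁) * h.tv u (2 * d) := by
      rw [tv_mul_tv, tv_mul_tv, add_comm]
    have e1 : h.sg u x' d * ((h.tv u (B a₂ a₁))⁻¹ * h.sg u a₁ 1) * (h.sg u x' d)⁻¹ =
        (h.tv u (B a₂ a₁))⁻¹ * (h.tv u (2 * d) * h.sg u a₁ 1) := by
      rw [← hI2]
      nth_rewrite 2 [← hI3]
      group
    have e2 : h.tv u (2 * d) = h.sg u x' d * ((h.tv u (B a₂ a₁))⁻¹ * h.sg u a₁ 1) *
        (h.sg u x' d)⁻¹ * ((h.tv u (B a₂ a₁))⁻¹ * h.sg u a₁ 1)⁻¹ := by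
      rw [e1]
      have : (h.tv u (B a₂ a₁))⁻¹ * (h.tv u (2 * d) * h.sg u a₁ 1) *
          ((h.tv u (B a₂ a₁))⁻¹ * h.sg u a₁ 1)⁻¹ =
          (h.tv u (B a₂ a₁))⁻¹ * (h.tv u (2 * d) * h.tv u (B a₂ a₁)) := by group
      rw [this, hcomm]; group
    rw [e2]
    exact M.mul_mem (M.mul_mem (M.mul_mem hL hR'M) (M.inv_mem hL)) (M.inv_mem hR'M)
  refine ⟨u, huU, hu0, fun c => ?_⟩
  have := key (c / 2)
  rwa [mul_div_cancel₀ c h2] at this

end TIPair

end sppair

end Cfsg.Agent.Lib.Helper44
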