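import Mathlib
import Cfsg.Agent.Lib.Helper44.SpPair2
import Cfsg.Agent.Lib.Helper44.PairMax5
import Cfsg.Agent.Lib.Helper94.SympDecomp

set_option autoImplicit false
set_option linter.unusedSimpArgs false
set_option linter.unusedVariables false

/-!
# Maximality of the stabiliser of a pair of complementary Lagrangians in `Sp`, odd characteristic
-/

namespace Cfsg.Agent.Lib.Helper44

open Cfsg.Agent.Lib.Helper94 (SympData)
open Module

section sppair
variable {K V : Type*} [Field K] [AddCommGroup V] [Module K V] {B : LinearMap.BilinForm K V}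
  {U U' : Submodule K V}

/-- the Weyl element of a hyperbolic pair -/
theorem sp_weyl (h : SympData B) (e f : V) (hef : B e f = 1) :
    ∃ n ∈ SympData.Sp B, n e = f ∧ n f = -e ∧ ∀ z, B z e = 0 → B z f = 0 → n z = z := by
  have hfe : B f e = -1 := by rw [h.skew, hef]
  refine ⟨h.tv e 1 * h.tv f 1 * h.tv e 1,
    mul_mem (mul_mem (h.tv_mem_Sp _ _) (h.tv_mem_Sp _ _)) (h.tv_mem_Sp _ _), ?_, ?_, ?_⟩
  · simp only [LinearEquiv.mul_apply, SympData.tv_apply, map_add, map_smul, LinearMap.add_apply,
      LinearMap.smul_apply, smul_eq_mul, h.alt, hef, hfe, mul_zero, add_zero, zero_smul, one_mul,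
      mul_one, one_smul]
    module
  · simp only [LinearEquiv.mul_apply, SympData.tv_apply, map_add, map_smul, LinearMap.add_apply,
      LinearMap.smul_apply, smul_eq_mul, h.alt, hef, hfe, mul_zero, add_zero, zero_smul, one_mul,
      mul_one, one_smul]
    module
  · intro z hze hzf
    simp only [LinearEquiv.mul_apply, SympData.tv_apply, map_add, map_smul, LinearMap.add_apply,
      LinearMap.smul_apply, smul_eq_mul, h.alt, hef, hfe, hze, hzf, mul_zero, add_zero, zero_smul,
      one_mul, mul_one, one_smul]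

namespace TIPair

/-- a complementary pair of totally isotropic subspaces is swapped by an isometry -/
theorem exists_swap [FiniteDimensional K V] (hp : TIPair B U U') (h : SympData B)
    (hfr : finrank K U = finrank K U') :
    ∃ s ∈ SympData.Sp B, (∀ u ∈ U, s u ∈ U') ∧ (∀ u ∈ U', s u ∈ U) := by
  classical
  let b : Basis (Fin (finrank K U)) K U := finBasis K U
  set e : Fin (finrank K U) → V := fun i => (b i : V) with he
  have heU : ∀ i, e i ∈ U := fun i => (b i).2
  have hLI : LinearIndependent K e := b.linearIndependent.map' U.subtype (Submodule.ker_subtype U)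
  have hspanU : Submodule.span K (Set.range e) = U := by
    have h1 := congrArg (Submodule.map U.subtype) b.span_eq
    rw [Submodule.map_span, Submodule.map_subtype_top, ← Set.range_comp] at h1
    exact h1
  have hex : ∀ i, ∃ y ∈ U', ∀ j, B (e j) y = if j = i then 1 else 0 :=
    fun i => hp.exists_dual_in h e heU hLI (fun j => if j = i then 1 else 0)
  choose f hfU hf using hex
  have hfLI : LinearIndependent K f := by
    rw [Fintype.linearIndependent_iff]
    intro g hg i
    have h1 : B (e i) (∑ j, g j • f j) = 0 := by rw [hg, map_zero]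
    rw [map_sum] at h1
    rw [Finset.sum_eq_single i] at h1
    · rw [map_smul, hf i i, if_pos rfl, smul_eq_mul, mul_one] at h1
      exact h1
    · intro j _ hji
      rw [map_smul, hf j i, if_neg (Ne.symm hji), smul_zero]
    · intro hi
      exact absurd (Finset.mem_univ i) hi
  have hspanU' : Submodule.span K (Set.range f) = U' := by
    apply Submodule.eq_of_le_of_finrank_eq
    · rw [Submodule.span_le]
      rintro _ ⟨i, rfl⟩
      exact hfU i
    · rw [finrank_span_eq_card hfLI, Fintype.card_fin, hfr]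
  have key : ∀ S : Finset (Fin (finrank K U)), ∃ s ∈ SympData.Sp B,
      (∀ j ∈ S, s (e j) ∈ U' ∧ s (f j) ∈ U) ∧ (∀ j ∉ S, s (e j) = e j ∧ s (f j) = f j) := by
    intro S
    induction S using Finset.induction_on with
    | empty =>
      refine ⟨1, (SympData.Sp B).one_mem, ?_, ?_⟩
      · intro j hj
        exact absurd hj (Finset.notMem_empty j)
      · intro j _
        exact ⟨rfl, rfl⟩
    | insert a S haS ih =>
      obtain ⟨s, hsK, hs1, hs2⟩ := ih
      have p1 : B (e a) (f a) = 1 := by rw [hf a a, if_pos rfl]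
      obtain ⟨n, hnK, n1, n2, n3⟩ := sp_weyl h (e a) (f a) p1
      have hfix : ∀ j, j ≠ a → n (e j) = e j ∧ n (f j) = f j := by
        intro j hja
        refine ⟨n3 _ (hp.tiU _ (heU _) _ (heU _)) ?_, n3 _ ?_ (hp.tiU' _ (hfU _) _ (hfU _))⟩
        · rw [hf a j, if_neg hja]
        · rw [h.eq_zero_comm, hf j a, if_neg (Ne.symm hja)]
      refine ⟨s * n, (SympData.Sp B).mul_mem hsK hnK, ?_, ?_⟩
      · intro j hj
        rw [Finset.mem_insert] at hj
        by_cases hja : j = a
        · subst hja
          have hsj := hs2 j haS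
          refine ⟨?_, ?_⟩
          · rw [LinearEquiv.mul_apply, n1, hsj.2]
            exact hfU _
          · rw [LinearEquiv.mul_apply, n2, map_neg, hsj.1]
            exact U.neg_mem (heU _)
        · have hjS : j ∈ S := hj.resolve_left hja
          rw [LinearEquiv.mul_apply, LinearEquiv.mul_apply, (hfix j hja).1, (hfix j hja).2]
          exact hs1 j hjS
      · intro j hj
        rw [Finset.mem_insert, not_or] at hj
        rw [LinearEquiv.mul_apply, LinearEquiv.mul_apply, (hfix j hj.1).1, (hfix j hj.1).2]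
        exact hs2 j hj.2
  obtain ⟨s, hsK, hs, -⟩ := key Finset.univ
  refine ⟨s, hsK, ?_, ?_⟩
  · have h1 : Submodule.span K (Set.range e) ≤ U'.comap (s : V →ₗ[K] V) := by
      rw [Submodule.span_le]
      rintro _ ⟨i, rfl⟩
      exact (hs i (Finset.mem_univ _)).1
    intro u hu
    rw [← hspanU] at hu
    exact h1 hu
  · have h1 : Submodule.span K (Set.range f) ≤ U.comap (s : V →ₗ[K] V) := by
      rw [Submodule.span_le]
      rintro _ ⟨i, rfl⟩
      exact (hs i (Finset.mem_univ _)).2
    intro u hu
    rw [← hspanU'] at hu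
    exact h1 hu

/-- if all vectors of `U` and of `U'` are transvection centres of `M`, then all vectors are -/
theorem xset_all (hp : TIPair B U U') (h : SympData B) (M : Subgroup (V ≃ₗ[K] V))
    (hU : ∀ x ∈ U, x ∈ h.Xset M) (hU' : ∀ x ∈ U', x ∈ h.Xset M) (v : V) : v ∈ h.Xset M := by
  obtain ⟨v₁, hv₁⟩ : ∃ v₁, v₁ = U.projection U' hp.compl v := ⟨_, rfl⟩
  obtain ⟨v₂, hv₂⟩ : ∃ v₂, v₂ = U'.projection U hp.compl.symm v := ⟨_, rfl⟩
  have hv₁U : v₁ ∈ U := by rw [hv₁]; exact Submodule.projection_apply_mem _ _
  have hv₂U : v₂ ∈ U' := by rw [hv₂]; exact Submodule.projection_apply_mem _ _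
  have hsum : v₁ + v₂ = v := by
    rw [hv₁, hv₂]; exact Submodule.projection_add_projection_eq_self hp.compl v
  rw [← hsum]
  by_cases hv₂0 : v₂ = 0
  · rw [hv₂0, add_zero]; exact hU v₁ hv₁U
  by_cases hB : B v₁ v₂ = 0
  · have hw : ∃ w ∈ U, B w v₂ ≠ 0 := by
      by_contra hcon
      push Not at hcon
      apply hv₂0
      apply h.nondeg
      intro y
      rw [← Submodule.projection_add_projection_eq_self hp.compl y, map_add,
        hp.tiU' v₂ hv₂U _ (Submodule.projection_apply_mem _ _), add_zero, h.eq_zero_comm]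
      exact hcon _ (Submodule.projection_apply_mem _ _)
    obtain ⟨w, hwU, hw⟩ := hw
    have h1 : w + v₂ ∈ h.Xset M := h.add_mem_Xset (hU w hwU) (hU' v₂ hv₂U) hw
    have h2 : v₁ - w ∈ h.Xset M := hU _ (U.sub_mem hv₁U hwU)
    have h3 : B (v₁ - w) (w + v₂) ≠ 0 := by
      have : B (v₁ - w) (w + v₂) = - B w v₂ := by
        rw [map_sub, LinearMap.sub_apply, map_add, map_add, hp.tiU v₁ hv₁U w hwU, hB, h.alt]
        ring
      rw [this]
      exact neg_ne_zero.2 hw
    have := h.add_mem_Xset h2 h1 h3
    have e : v₁ - w + (w + v₂) = v₁ + v₂ := by abel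
    rwa [e] at this
  · exact h.add_mem_Xset (hU v₁ hv₁U) (hU' v₂ hv₂U) hB

end TIPair

end sppair

end Cfsg.Agent.Lib.Helper44
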