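import Mathlib
import Cfsg.Agent.Lib.Helper44.SpPair3

set_option autoImplicit false
set_option linter.unusedSimpArgs false
set_option linter.unusedVariables false

/-!
# Maximality of the stabiliser of a pair of complementary Lagrangians in `Sp`, odd characteristic
-/

namespace Cfsg.Agent.Lib.Helper44

open Cfsg.Agent.Lib.Helper94 (SympData)
open Module

section sppair
variable {K V : Type*} [Field K] [AddCommGroup V] [Module K V] {B : LinearMap.BilinForm K V}

/-- **Maximality of the stabiliser of a pair of complementary totally isotropic subspaces** in the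
symplectic group, in characteristic different from two. -/
theorem sp_pair_isMaximalIn [FiniteDimensional K V] (h : SympData B) (h2 : (2 : K) ≠ 0)
    (D : Fin 2 → Submodule K V) (hp : TIPair B (D 0) (D 1)) (h5 : 5 ≤ finrank K (D 0))
    (hfr : finrank K (D 0) = finrank K (D 1)) :
    Cfsg.Geo.IsMaximalIn (SympData.Sp B) (SympData.stabDec D ⊓ SympData.Sp B) := by
  have hmem : ∀ g : V ≃ₗ[K] V, g ∈ SympData.stabDec D ↔
      (((∀ u ∈ D 0, g u ∈ D 0) ∧ (∀ u ∈ D 1, g u ∈ D 1)) ∨
        ((∀ u ∈ D 0, g u ∈ D 1) ∧ (∀ u ∈ D 1, g u ∈ D 0))) := by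
    intro g
    rw [SympData.mem_stabDec, mem_pairStab_iff D hfr]
  have hleviH : ∀ x ∈ D 0, ∀ x' ∈ D 1, B x x' = 0 → ∀ c,
      h.sg x x' c ∈ SympData.stabDec D ⊓ SympData.Sp B := by
    intro x hx x' hx' hxx' c
    exact ⟨(hmem _).2 (Or.inl (hp.levi_maps h hx hx' hxx' c)), h.sg_mem_Sp _ _ _⟩
  constructor
  · -- properness
    refine lt_of_le_of_ne inf_le_right ?_
    intro heq
    obtain ⟨bU⟩ : Nonempty (Basis (Fin (finrank K (D 0))) K (D 0)) := ⟨finBasis K (D 0)⟩
    have hpos : 1 < finrank K (D 0) := by omega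
    set u : V := (bU ⟨0, by omega⟩ : V) with hu
    set w : V := (bU ⟨1, hpos⟩ : V) with hw
    have huU : u ∈ D 0 := (bU _).2
    have hwU : w ∈ D 0 := (bU _).2
    have hLI : LinearIndependent K ![u, w] := by
      have h1 : LinearIndependent K (fun i => ((bU i : D 0) : V)) :=
        bU.linearIndependent.map' (D 0).subtype (Submodule.ker_subtype _)
      have h2 := h1.comp ![(⟨0, by omega⟩ : Fin (finrank K (D 0))), ⟨1, hpos⟩] (by
        intro a b hab
        fin_cases a <;> fin_cases b <;> simp_all [Fin.ext_iff])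
      convert h2 using 1
      ext i
      fin_cases i <;> rfl
    have hu0 : u ≠ 0 := hLI.ne_zero 0
    have hw0 : w ≠ 0 := hLI.ne_zero 1
    obtain ⟨u', hu'U, hu'⟩ := hp.exists_dual_in h ![u, w]
      (by intro i; fin_cases i <;> simp [huU, hwU]) hLI ![1, 0]
    have h1 : B u u' = 1 := hu' 0
    have h2' : B w u' = 0 := hu' 1
    have huw : B u w = 0 := hp.tiU u huU w hwU
    have hE : h.sg u w 1 ∈ SympData.stabDec D ⊓ SympData.Sp B := by
      rw [heq]
      exact h.sg_mem_Sp _ _ _
    have hE1 := (hmem _).1 hE.1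
    have hfixu : h.sg u w 1 u = u := by
      rw [h.sg_apply huw, h.alt, huw]; simp
    have hmove : h.sg u w 1 u' = u' - w := by
      rw [h.sg_apply huw, h.skew u' u, h.skew u' w, h1, h2']; simp; abel
    rcases hE1 with ⟨-, hb⟩ | ⟨ha, -⟩
    · have h3 := hb u' hu'U
      rw [hmove] at h3
      have h4 : w ∈ D 1 := by
        have := (D 1).sub_mem hu'U h3
        rwa [sub_sub_cancel] at this
      exact hw0 (hp.inter hwU h4)
    · have h3 := ha u huU
      rw [hfixu] at h3
      exact hu0 (hp.inter huU h3)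
  · intro M hHM hMK
    by_cases hMH : M ≤ SympData.stabDec D ⊓ SympData.Sp B
    · exact Or.inl (le_antisymm hMH hHM)
    · right
      refine le_antisymm hMK ?_
      obtain ⟨g, hgM, hgH⟩ := SetLike.not_le_iff_exists.1 hMH
      have hgSp : g ∈ SympData.Sp B := hMK hgM
      have hgS : g ∉ SympData.stabDec D := fun hh => hgH ⟨hh, hgSp⟩
      rw [hmem, not_or] at hgS
      have hlevi : ∀ x ∈ D 0, ∀ x' ∈ D 1, B x x' = 0 → ∀ c, h.sg x x' c ∈ M :=
        fun x hx x' hx' hxx' c => hHM (hleviH x hx x' hx' hxx' c)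
      have hlevi' : ∀ x ∈ D 1, ∀ x' ∈ D 0, B x x' = 0 → ∀ c, h.sg x x' c ∈ M := by
        intro x hx x' hx' hxx' c
        rw [sg_swap h hxx']
        exact hlevi x' hx' x hx (h.eq_zero_comm.1 hxx') c
      obtain ⟨s, hsSp, hsU, hsU'⟩ := hp.exists_swap h hfr
      have hsM : s ∈ M := hHM ⟨(hmem s).2 (Or.inr ⟨hsU, hsU'⟩), hsSp⟩
      obtain ⟨x, hxU, x', hx'U, hxx'pol, hcase⟩ :=
        hp.tsPair.exists_general_line (hp.auxQ_nondeg h) (by omega) (by omega) g hgS.1 hgS.2
      have hxx' : B x x' = 0 := by rw [← hp.polar_auxQ_of_mem hxU hx'U]; exact hxx'pol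
      have hab : B (g x) (g x') = 0 := by rw [hgSp x x']; exact hxx'
      have hE : h.sg (g x) (g x') 1 ∈ M := by
        rw [← conj_sg h hgSp]
        exact M.mul_mem (M.mul_mem hgM (hlevi x hxU x' hx'U hxx' 1)) (M.inv_mem hgM)
      have hall : ∀ v, v ∈ h.Xset M := by
        rcases hcase with hli | hli
        · obtain ⟨u, huU, hu0, hu⟩ := hp.xset_of_line h h2 h5 M hlevi (g x) (g x') hab hE hli
          have hUX : ∀ y ∈ D 0, y ∈ h.Xset M := hp.xset_of_U h M hlevi u huU hu0 hu
          have hU'X : ∀ y ∈ D 1, y ∈ h.Xset M := by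
            intro y hy
            have h1 := hUX _ (hsU' y hy)
            have h3 := h.map_mem_Xset h1 (M.inv_mem hsM) ((SympData.Sp B).inv_mem hsSp)
            rwa [← LinearEquiv.mul_apply, inv_mul_cancel] at h3
          exact hp.xset_all h M hUX hU'X
        · obtain ⟨u, huU, hu0, hu⟩ := hp.symm.xset_of_line h h2 (by omega) M hlevi' (g x) (g x')
            hab hE hli
          have hU'X : ∀ y ∈ D 1, y ∈ h.Xset M := hp.symm.xset_of_U h M hlevi' u huU hu0 hu
          have hUX : ∀ y ∈ D 0, y ∈ h.Xset M := by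
            intro y hy
            have h1 := hU'X _ (hsU y hy)
            have h3 := h.map_mem_Xset h1 (M.inv_mem hsM) ((SympData.Sp B).inv_mem hsSp)
            rwa [← LinearEquiv.mul_apply, inv_mul_cancel] at h3
          exact hp.xset_all h M hUX hU'X
      rw [h.Sp_eq_TN_top]
      exact h.TN_top_le_of_Xset hall

end sppair

end Cfsg.Agent.Lib.Helper44
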