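import Mathlib
set_option autoImplicit false
namespace Cfsg.Agent.Lib.Helper44.St3
universe u
variable {K : Type u} [Field K]

omit [Field K] in
theorem exists_notMem_four (hK5 : ∃ s : Finset K, 4 < s.card) (a b c d : K) :
    ∃ v : K, v ≠ a ∧ v ≠ b ∧ v ≠ c ∧ v ≠ d := by
  classical
  obtain ⟨s, hs⟩ := hK5
  have h4 : ({a, b, c, d} : Finset K).card < s.card := lt_of_le_of_lt Finset.card_le_four hs
  obtain ⟨v, -, hv⟩ := Finset.exists_mem_notMem_of_card_lt_card h4
  simp only [Finset.mem_insert, Finset.mem_singleton, not_or] at hv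
  exact ⟨v, hv.1, hv.2.1, hv.2.2.1, hv.2.2.2⟩

theorem exists_unit_sc (hK5 : ∃ s : Finset K, 4 < s.card) :
    ∃ v : K, v ≠ 0 ∧ v ≠ 1 ∧ v ^ 2 - v + 1 ≠ 0 := by
  by_cases h : ∃ w : K, w ^ 2 - w + 1 = 0
  · obtain ⟨w, hw⟩ := h
    obtain ⟨v, h0, h1, h2, h3⟩ := exists_notMem_four hK5 0 1 w (1 - w)
    refine ⟨v, h0, h1, fun hv => ?_⟩
    have hprod : (v - w) * (v - (1 - w)) = 0 := by linear_combination hv - hw
    rcases mul_eq_zero.1 hprod with h | h
    · exact h2 (sub_eq_zero.1 h)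
    · exact h3 (sub_eq_zero.1 h)
  · push Not at h
    obtain ⟨v, h0, h1, -, -⟩ := exists_notMem_four hK5 0 1 0 1
    exact ⟨v, h0, h1, h v⟩

theorem exists_unit3 (hK5 : ∃ s : Finset K, 4 < s.card) :
    ∃ v : K, v ≠ 0 ∧ v ≠ 1 ∧ v ^ 2 ≠ 1 ∧ v ^ 3 ≠ 1 := by
  by_cases h2 : (2 : K) = 0
  · -- characteristic 2: v^2 = 1 iff v = 1
    have hsq : ∀ v : K, v ^ 2 = 1 → v = 1 := by
      intro v hv
      have : (v - 1) ^ 2 = 0 := by linear_combination hv + (1 - v) * h2
      exact sub_eq_zero.1 (pow_eq_zero_iff (two_ne_zero) |>.1 this)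
    by_cases h : ∃ w : K, w ^ 2 + w + 1 = 0
    · obtain ⟨w, hw⟩ := h
      obtain ⟨v, h0, h1, h3, h4⟩ := exists_notMem_four hK5 0 1 w (-1 - w)
      refine ⟨v, h0, h1, fun hv => h1 (hsq v hv), fun hv => ?_⟩
      have hq : (v - 1) * (v ^ 2 + v + 1) = 0 := by linear_combination hv
      rcases mul_eq_zero.1 hq with h | h
      · exact h1 (sub_eq_zero.1 h)
      · have hprod : (v - w) * (v - (-1 - w)) = 0 := by linear_combination h - hw
        rcases mul_eq_zero.1 hprod with h | h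
        · exact h3 (sub_eq_zero.1 h)
        · exact h4 (sub_eq_zero.1 h)
    · push Not at h
      obtain ⟨v, h0, h1, -, -⟩ := exists_notMem_four hK5 0 1 0 1
      refine ⟨v, h0, h1, fun hv => h1 (hsq v hv), fun hv => ?_⟩
      have hq : (v - 1) * (v ^ 2 + v + 1) = 0 := by linear_combination hv
      rcases mul_eq_zero.1 hq with h' | h'
      · exact h1 (sub_eq_zero.1 h')
      · exact h v h'
  · obtain ⟨a, h0, h1, hm1, -⟩ := exists_notMem_four hK5 0 1 (-1) 0
    have hsq : a ^ 2 ≠ 1 := by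
      intro hsq
      have : (a - 1) * (a - (-1)) = 0 := by linear_combination hsq
      rcases mul_eq_zero.1 this with h | h
      · exact h1 (sub_eq_zero.1 h)
      · exact hm1 (sub_eq_zero.1 h)
    by_cases h3 : a ^ 3 = 1
    · refine ⟨-a, neg_ne_zero.2 h0, fun h => hm1 ?_, ?_, ?_⟩
      · linear_combination -h
      · rwa [neg_sq]
      · intro h
        apply h2
        have : (-a) ^ 3 = -(a ^ 3) := by ring
        rw [this, h3] at h
        linear_combination -h
    · exact ⟨a, h0, h1, hsq, h3⟩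

end Cfsg.Agent.Lib.Helper44.St3
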