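/-
STEINBERG phase 2, module P2-[COX] (helper44's abstract part `mem_Hbar_of_π_mem_of` + the S1039 wrapper, written as
helper44 specified; compiled and landed by helper89 from a warm Helper18 tree).
-/
import Cfsg.Agent.Lib.Helper44.StCoxOf
import Cfsg.Agent.S1039

set_option autoImplicit false

namespace Cfsg.Agent.Lib.Helper44.St

open Cfsg.Lie Cfsg.Agent.Lib.Helper35.St

universe u v

variable {K : Type u} [Field K] {Γ : Type v} [Group Γ]

theorem coxList_rank (p : ChevalleyDatum × (Σ n : ℕ, CoxeterMatrix (Fin n))) (hp : p ∈ coxList) :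
    p.2.1 = p.1.rank := by
  unfold coxList at hp
  simp only [List.mem_cons, List.not_mem_nil, or_false] at hp
  rcases hp with rfl | rfl | rfl | rfl | rfl | rfl | rfl <;> rfl

/-- **P2-[COX]**. -/
theorem mem_Hbar_of_π_mem (p : ChevalleyDatum × (Σ n : ℕ, CoxeterMatrix (Fin n))) (hp : p ∈ coxList)
    (M : Model p.1 K Γ) (tf : TF p.1) (hHN : M.HNorm)
    (hle : M.Mbar ≤ M.Hbar ⊔ Subgroup.closure {g : Γ | ∃ i, i < p.1.rank ∧ g = M.sigma i})
    (hbraid : ∀ i j : Fin p.2.1, (M.sigma i.val * M.sigma j.val) ^ (p.2.2.M i j) ∈ M.Hbar)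
    (m : Γ) (hm : m ∈ M.Mbar) (hπ : M.π m ∈ p.1.diagonalSubgroup K) : m ∈ M.Hbar := by
  obtain ⟨φ, -, hker, hsimple⟩ := Cfsg.Agent.S1039.result (F := K) p hp
  exact mem_Hbar_of_π_mem_of M p.2.2 (coxList_rank p hp) tf hHN hle hbraid φ hker hsimple m hm hπ

end Cfsg.Agent.Lib.Helper44.St
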