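/-
helper44: subfield subgroups, part 3: if the parameter ring of an overgroup `M` of `SL(ι, F₀)` is `F₀`,
then point stabilisers of rational points in `M` lie in `NGrp`.
-/
import Mathlib
import Cfsg.Agent.Lib.Helper44.SubF2

set_option autoImplicit false
set_option linter.unusedSectionVars false
set_option linter.unusedSimpArgs false

namespace Cfsg.Agent.Lib.Helper44.SubF

open Matrix Cfsg.Geo Cfsg.Agent.Lib.Helper93

variable {ι : Type} [Fintype ι] [DecidableEq ι] {F : Type*} [Field F] {F₀ : Subfield F}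

/-- the data of an overgroup whose parameter ring is `F₀` -/
structure SmallOver (F₀ : Subfield F) (M : Subgroup (GL ι F)) : Prop where
  le : NGrp F₀ ⊓ specialLinear ι F ≤ M
  sl : M ≤ specialLinear ι F
  par : ∀ (i j : ι) (hij : i ≠ j) (c : F), elemTv i j hij c ∈ M → c ∈ F₀
  card : 5 ≤ Fintype.card ι

lemma single_dot (o : ι) (φ : ι → F) : φ ⬝ᵥ (Pi.single o (1 : F)) = φ o := by
  rw [dotProduct_single, mul_one]

lemma exists_ne_ne (hcard : 5 ≤ Fintype.card ι) (a b : ι) : ∃ k : ι, k ≠ a ∧ k ≠ b := by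
  classical
  by_contra hno
  push Not at hno
  have h1 : (Finset.univ : Finset ι) ⊆ {a, b} := by
    intro x _
    by_cases hx : x = a
    · simp [hx]
    · simp [hno x hx]
  have h2 := Finset.card_le_card h1
  have h3 : ({a, b} : Finset ι).card ≤ 2 := Finset.card_le_two
  rw [Finset.card_univ] at h2
  omega

/-- the key commutator: conjugating a transvection with centre `e_o` by `elemTv j k 1` -/
lemma conj_comm_eq (o j k : ι) (hjk : j ≠ k) (hko : k ≠ o) (hok : o ≠ k) (hjo : j ≠ o) (φ : ι → F)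
    (h : φ ⬝ᵥ (Pi.single o (1 : F)) = 0) :
    elemTv j k hjk (1 : F) * tv (Pi.single o 1) φ h * (elemTv j k hjk (1 : F))⁻¹ *
      (tv (Pi.single o 1) φ h)⁻¹ = elemTv o k hok (-(φ j)) := by
  have hφo : φ o = 0 := by rw [← single_dot o φ]; exact h
  rw [elemTv_inv, tv_inv]
  apply Units.ext
  rw [Matrix.ext_iff_mulVec]
  intro x
  simp only [Units.val_mul, ← Matrix.mulVec_mulVec]
  unfold elemTv
  simp only [tv_mulVec, dotProduct_add, dotProduct_smul, single_dotProduct, dotProduct_single,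
    neg_dotProduct, smul_eq_mul, one_mul, mul_one, Pi.add_apply, Pi.smul_apply, Pi.single_apply,
    if_neg hko, if_neg hjk.symm, if_neg hjo, if_neg hjo.symm, if_neg hok, hφo, mul_zero, add_zero,
    if_pos rfl]
  funext l
  simp only [Pi.add_apply, Pi.smul_apply, Pi.single_apply, smul_eq_mul]
  by_cases hlo : l = o
  · subst hlo
    simp only [if_true, if_neg hjo.symm, if_neg hok]
    ring
  · by_cases hlj : l = j
    · subst hlj
      simp only [if_true, if_neg hlo, if_neg hjk]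
      ring
    · simp only [if_neg hlo, if_neg hlj]
      ring

section Main

variable {M : Subgroup (GL ι F)} (hM : SmallOver F₀ M)

include hM

/-- (i): a transvection in `M` with centre `e_o` is rational -/
lemma rat_of_tv_mem (o : ι) (φ : ι → F) (h : φ ⬝ᵥ (Pi.single o (1 : F)) = 0)
    (hmem : tv (Pi.single o 1) φ h ∈ M) : RatVec F₀ φ := by
  intro j
  by_cases hjo : j = o
  · subst hjo
    rw [← single_dot j φ, h]; exact F₀.zero_mem
  · obtain ⟨k, hko, hkj⟩ := exists_ne_ne hM.card o j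
    have h1 : elemTv j k (Ne.symm hkj) (1 : F) ∈ M :=
      hM.le (elemTv_mem_NS j k (Ne.symm hkj) F₀.one_mem)
    have h2 := conj_comm_eq o j k (Ne.symm hkj) hko (Ne.symm hko) hjo φ h
    have h3 : elemTv o k (Ne.symm hko) (-(φ j)) ∈ M := by
      rw [← h2]
      exact M.mul_mem (M.mul_mem (M.mul_mem h1 hmem) (M.inv_mem h1)) (M.inv_mem hmem)
    have := hM.par _ _ _ _ h3
    rwa [neg_mem_iff] at this

/-- (ii): an element of `M` fixing the point `⟨e_o⟩` lies in `NGrp` -/
lemma mem_N_of_fix (o : ι) (x : GL ι F) (hx : x ∈ M) (μ : F) (hμ : μ ≠ 0)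
    (hfix : (x : Matrix ι ι F) *ᵥ (Pi.single o 1) = μ • Pi.single o 1) : x ∈ NGrp F₀ := by
  have hxinv : ((x⁻¹ : GL ι F) : Matrix ι ι F) *ᵥ (Pi.single o 1) = μ⁻¹ • Pi.single o (1 : F) := by
    have h1 : ((x⁻¹ : GL ι F) : Matrix ι ι F) *ᵥ ((x : Matrix ι ι F) *ᵥ (Pi.single o 1)) =
        Pi.single o (1 : F) := by
      rw [Matrix.mulVec_mulVec, ← Units.val_mul, inv_mul_cancel, Units.val_one, Matrix.one_mulVec]
    rw [hfix, Matrix.mulVec_smul] at h1
    calc ((x⁻¹ : GL ι F) : Matrix ι ι F) *ᵥ (Pi.single o 1)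
        = μ⁻¹ • (μ • ((x⁻¹ : GL ι F) : Matrix ι ι F) *ᵥ (Pi.single o 1)) := by
          rw [smul_smul, inv_mul_cancel₀ hμ, one_smul]
      _ = μ⁻¹ • Pi.single o (1 : F) := by rw [h1]
  have hxoo : (x : Matrix ι ι F) o o = μ := by
    have := congrFun hfix o
    rw [Matrix.mulVec_single_one] at this
    simpa using this
  -- step a: rows `j ≠ o` of `μ⁻¹ x` are rational
  have hrow : ∀ j, j ≠ o → ∀ k, μ⁻¹ * (x : Matrix ι ι F) j k ∈ F₀ := by
    intro j hjo
    have h0 : (Pi.single j (1 : F)) ⬝ᵥ (Pi.single o (1 : F)) = 0 := by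
      rw [single_dot, Pi.single_eq_of_ne (Ne.symm hjo)]
    have ht : tv (Pi.single o 1) (Pi.single j (1 : F)) h0 ∈ M :=
      hM.le (tv_mem_NS (ratVec_single o F₀.one_mem) (ratVec_single j F₀.one_mem) h0)
    have h0' : (μ⁻¹ • (x : Matrix ι ι F) j) ⬝ᵥ (Pi.single o (1 : F)) = 0 := by
      rw [single_dot, Pi.smul_apply, smul_eq_mul]
      have := congrFun hfix j
      rw [Matrix.mulVec_single_one] at this
      have h2 : (x : Matrix ι ι F) j o = 0 := by
        simpa [Pi.single_eq_of_ne hjo] using this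
      rw [h2, mul_zero]
    have hconj : x⁻¹ * tv (Pi.single o 1) (Pi.single j (1 : F)) h0 * x =
        tv (Pi.single o 1) (μ⁻¹ • (x : Matrix ι ι F) j) h0' := by
      apply Units.ext
      rw [Units.val_mul, Units.val_mul, tv_val, tv_val]
      unfold Helper93.tvMat
      rw [Matrix.mul_add, Matrix.add_mul, Matrix.mul_one, ← Units.val_mul, inv_mul_cancel,
        Units.val_one, Matrix.mul_vecMulVec, Matrix.vecMulVec_mul, hxinv, Matrix.single_one_vecMul]
      congr 1
      ext a b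
      simp only [Matrix.vecMulVec_apply, Pi.smul_apply, smul_eq_mul]
      show μ⁻¹ * _ * (x : Matrix ι ι F) j b = _
      ring
    have hmem : tv (Pi.single o 1) (μ⁻¹ • (x : Matrix ι ι F) j) h0' ∈ M := by
      rw [← hconj]
      exact M.mul_mem (M.mul_mem (M.inv_mem hx) ht) hx
    have := rat_of_tv_mem hM o _ h0' hmem
    intro k
    exact this k
  -- step b
  let ρ : ι → F := fun k => if k = o then 0 else μ⁻¹ * (x : Matrix ι ι F) o k
  have hρ0 : ρ ⬝ᵥ (Pi.single o (1 : F)) = 0 := by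
    rw [single_dot]; simp [ρ]
  let u : GL ι F := tv (Pi.single o 1) ρ hρ0
  let y : GL ι F := x * u⁻¹
  have hyval : ∀ j k, (y : Matrix ι ι F) j k =
      (x : Matrix ι ι F) j k - (if j = o then μ else 0) * ρ k := by
    intro j k
    show ((x * u⁻¹ : GL ι F) : Matrix ι ι F) j k = _
    rw [Units.val_mul]
    show ((x : Matrix ι ι F) * ((tv (Pi.single o 1) ρ hρ0)⁻¹ : GL ι F)) j k = _
    rw [tv_inv, tv_val]
    unfold Helper93.tvMat
    rw [Matrix.mul_add, Matrix.mul_one, Matrix.mul_vecMulVec, hfix, Matrix.add_apply,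
      Matrix.vecMulVec_apply]
    simp only [Pi.smul_apply, Pi.single_apply, smul_eq_mul, Pi.neg_apply]
    split_ifs <;> ring
  have hyN : y ∈ NGrp F₀ := by
    rw [mem_NGrp_iff]
    refine ⟨Units.mk0 μ⁻¹ (inv_ne_zero hμ), ?_⟩
    intro j k
    rw [Matrix.smul_apply, Units.val_mk0, smul_eq_mul, hyval]
    by_cases hjo : j = o
    · subst hjo
      by_cases hkj : k = j
      · subst hkj
        simp only [ρ, if_true, mul_zero, sub_zero]
        rw [hxoo, inv_mul_cancel₀ hμ]; exact F₀.one_mem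
      · simp only [ρ, if_true, if_neg hkj]
        have : μ⁻¹ * ((x : Matrix ι ι F) j k - μ * (μ⁻¹ * (x : Matrix ι ι F) j k)) = 0 := by
          field_simp
          ring
        rw [this]; exact F₀.zero_mem
    · simp only [if_neg hjo, zero_mul, sub_zero]
      exact hrow j hjo k
  have hyS : y ∈ specialLinear ι F :=
    Subgroup.mul_mem _ (hM.sl hx) (Subgroup.inv_mem _ (tv_mem_specialLinear _ _ _))
  have hyM : y ∈ M := hM.le ⟨hyN, hyS⟩
  have huM : u ∈ M := by
    have : u = y⁻¹ * x := by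
      show u = (x * u⁻¹)⁻¹ * x
      group
    rw [this]
    exact M.mul_mem (M.inv_mem hyM) hx
  have hρ : RatVec F₀ ρ := rat_of_tv_mem hM o ρ hρ0 huM
  have huN : u ∈ NGrp F₀ := (tv_mem_NS (ratVec_single o F₀.one_mem) hρ hρ0).1
  have : x = y * u := by
    show x = x * u⁻¹ * u
    group
  rw [this]
  exact Subgroup.mul_mem _ hyN huN

omit hM in
/-- transitivity of `NGrp ⊓ SL` on rational points -/
lemma exists_move (o : ι) (hcard : 2 ≤ Fintype.card ι) (w : ι → F) (hw : RatVec F₀ w) (hw0 : w ≠ 0) :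
    ∃ h : GL ι F, h ∈ NGrp F₀ ⊓ specialLinear ι F ∧
      ∃ c : F, c ≠ 0 ∧ (h : Matrix ι ι F) *ᵥ Pi.single o 1 = c • w := by
  by_cases hk : ∃ k, k ≠ o ∧ w k ≠ 0
  · obtain ⟨k, hko, hwk⟩ := hk
    let a : F := (1 - w o) / w k
    have ha : a ∈ F₀ := F₀.div_mem (F₀.sub_mem F₀.one_mem (hw o)) (hw k)
    let φ : ι → F := Pi.single o 1 + a • Pi.single k 1
    let v : ι → F := w - Pi.single o 1
    have hφv : φ ⬝ᵥ v = 0 := by
      show ((Pi.single o (1 : F) + a • Pi.single k (1 : F) : ι → F)) ⬝ᵥ (w - Pi.single o (1 : F)) = 0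
      rw [add_dotProduct, smul_dotProduct, single_dotProduct, single_dotProduct, one_mul, one_mul,
        Pi.sub_apply, Pi.sub_apply, Pi.single_eq_same, Pi.single_eq_of_ne hko, smul_eq_mul, sub_zero]
      show w o - 1 + (1 - w o) / w k * w k = 0
      field_simp
      ring
    have hφ : RatVec F₀ φ := by
      intro i
      show ((Pi.single o (1 : F) + a • Pi.single k (1 : F) : ι → F)) i ∈ F₀
      rw [Pi.add_apply, Pi.smul_apply, smul_eq_mul]
      exact F₀.add_mem (ratVec_single o F₀.one_mem i) (F₀.mul_mem ha (ratVec_single k F₀.one_mem i))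
    have hv : RatVec F₀ v := by
      intro i
      show ((w - Pi.single o (1 : F) : ι → F)) i ∈ F₀
      rw [Pi.sub_apply]
      exact F₀.sub_mem (hw i) (ratVec_single o F₀.one_mem i)
    refine ⟨tv v φ hφv, tv_mem_NS hv hφ hφv, 1, one_ne_zero, ?_⟩
    rw [tv_mulVec, single_dot, one_smul]
    show Pi.single o (1 : F) + ((Pi.single o (1 : F) + a • Pi.single k (1 : F) : ι → F)) o •
      (w - Pi.single o (1 : F)) = w
    rw [Pi.add_apply, Pi.smul_apply, Pi.single_eq_same, Pi.single_eq_of_ne (Ne.symm hko), smul_eq_mul,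
      mul_zero, add_zero, one_smul]
    abel
  · push Not at hk
    have hwo : w o ≠ 0 := by
      intro h0
      apply hw0
      funext i
      by_cases hi : i = o
      · rw [hi, h0]; rfl
      · exact hk i hi
    refine ⟨1, Subgroup.one_mem _, (w o)⁻¹, inv_ne_zero hwo, ?_⟩
    rw [Units.val_one, Matrix.one_mulVec]
    funext i
    by_cases hi : i = o
    · subst hi
      rw [Pi.single_eq_same, Pi.smul_apply, smul_eq_mul, inv_mul_cancel₀ hwo]
    · rw [Pi.single_eq_of_ne hi, Pi.smul_apply, hk i hi, smul_zero]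

/-- (iii): an element of `M` mapping a rational point to a rational point lies in `NGrp` -/
lemma mem_N_of_rat_rat (g : GL ι F) (hg : g ∈ M) (w z : ι → F) (hw : RatVec F₀ w) (hw0 : w ≠ 0)
    (hz : RatVec F₀ z) (hz0 : z ≠ 0) (μ : F) (hμ : μ ≠ 0)
    (h : (g : Matrix ι ι F) *ᵥ w = μ • z) : g ∈ NGrp F₀ := by
  have hcard2 : 2 ≤ Fintype.card ι := le_trans (by norm_num) hM.card
  obtain ⟨o⟩ : Nonempty ι := by
    rw [← Fintype.card_pos_iff]; omega
  obtain ⟨hw', hw'N, cw, hcw, hw'e⟩ := exists_move (F₀ := F₀) o hcard2 w hw hw0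
  obtain ⟨hz', hz'N, cz, hcz, hz'e⟩ := exists_move (F₀ := F₀) o hcard2 z hz hz0
  let x : GL ι F := hz'⁻¹ * g * hw'
  have hxM : x ∈ M := M.mul_mem (M.mul_mem (M.inv_mem (hM.le hz'N)) hg) (hM.le hw'N)
  have hfix : (x : Matrix ι ι F) *ᵥ (Pi.single o 1) = (cw * μ * cz⁻¹) • Pi.single o 1 := by
    show ((hz'⁻¹ * g * hw' : GL ι F) : Matrix ι ι F) *ᵥ (Pi.single o 1) = _
    rw [Units.val_mul, Units.val_mul, ← Matrix.mulVec_mulVec, ← Matrix.mulVec_mulVec, hw'e,
      Matrix.mulVec_smul, h, Matrix.mulVec_smul, Matrix.mulVec_smul]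
    have h1 : ((hz'⁻¹ : GL ι F) : Matrix ι ι F) *ᵥ z = cz⁻¹ • Pi.single o (1 : F) := by
      have h2 : ((hz'⁻¹ : GL ι F) : Matrix ι ι F) *ᵥ ((hz' : Matrix ι ι F) *ᵥ (Pi.single o 1)) =
          Pi.single o (1 : F) := by
        rw [Matrix.mulVec_mulVec, ← Units.val_mul, inv_mul_cancel, Units.val_one, Matrix.one_mulVec]
      rw [hz'e, Matrix.mulVec_smul] at h2
      rw [← h2, smul_smul, inv_mul_cancel₀ hcz, one_smul]
    rw [h1, smul_smul, smul_smul]
  have hxN : x ∈ NGrp F₀ :=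
    mem_N_of_fix hM o x hxM _ (mul_ne_zero (mul_ne_zero hcw hμ) (inv_ne_zero hcz)) hfix
  have : g = hz' * x * hw'⁻¹ := by
    show g = hz' * (hz'⁻¹ * g * hw') * hw'⁻¹
    group
  rw [this]
  exact Subgroup.mul_mem _ (Subgroup.mul_mem _ hz'N.1 hxN) (Subgroup.inv_mem _ hw'N.1)

end Main

end Cfsg.Agent.Lib.Helper44.SubF
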