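/-
helper44: subfield subgroups, part 4: an element of a small overgroup mapping a rational point into a rational
hyperplane lies in `NGrp`.
-/
import Mathlib
import Cfsg.Agent.Lib.Helper44.SubF3

set_option autoImplicit false
set_option linter.unusedSectionVars false
set_option linter.unusedSimpArgs false

namespace Cfsg.Agent.Lib.Helper44.SubF

open Matrix Cfsg.Geo Cfsg.Agent.Lib.Helper93

variable {ι : Type} [Fintype ι] [DecidableEq ι] {F : Type*} [Field F] {F₀ : Subfield F}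

/-- a nonzero rational vector in a rational hyperplane -/
lemma exists_rat_in_hyperplane (hcard : 2 ≤ Fintype.card ι) (φ₀ : ι → F) (hφ₀ : RatVec F₀ φ₀) :
    ∃ x₀ : ι → F, RatVec F₀ x₀ ∧ x₀ ≠ 0 ∧ φ₀ ⬝ᵥ x₀ = 0 := by
  obtain ⟨a, b, hab⟩ : ∃ a b : ι, a ≠ b := by
    have : 1 < Fintype.card ι := by omega
    exact Fintype.exists_pair_of_one_lt_card this
  by_cases ha : φ₀ a = 0
  · refine ⟨Pi.single a 1, ratVec_single a F₀.one_mem, ?_, ?_⟩
    · intro h
      have := congrFun h a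
      rw [Pi.single_eq_same] at this
      exact one_ne_zero this
    · rw [single_dot, ha]
  · refine ⟨φ₀ b • Pi.single a 1 - φ₀ a • Pi.single b 1, ?_, ?_, ?_⟩
    · intro i
      rw [Pi.sub_apply, Pi.smul_apply, Pi.smul_apply, smul_eq_mul, smul_eq_mul]
      exact F₀.sub_mem (F₀.mul_mem (hφ₀ b) (ratVec_single a F₀.one_mem i))
        (F₀.mul_mem (hφ₀ a) (ratVec_single b F₀.one_mem i))
    · intro h
      have := congrFun h b
      rw [Pi.sub_apply, Pi.smul_apply, Pi.smul_apply, Pi.single_eq_same,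
        Pi.single_eq_of_ne (Ne.symm hab), smul_eq_mul, smul_eq_mul, mul_zero, mul_one, zero_sub,
        Pi.zero_apply, neg_eq_zero] at this
      exact ha this
    · rw [dotProduct_sub, dotProduct_smul, dotProduct_smul, single_dot, single_dot, smul_eq_mul,
        smul_eq_mul]
      ring

section Main

variable {M : Subgroup (GL ι F)} (hM : SmallOver F₀ M)

include hM

/-- Case 1: `g e_o` lies on a rational hyperplane -/
lemma mem_N_of_on_hyperplane (o : ι) (g : GL ι F) (hg : g ∈ M) (φ₀ : ι → F) (hφ₀ : RatVec F₀ φ₀)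
    (hφ0 : φ₀ ≠ 0) (hy : φ₀ ⬝ᵥ ((g : Matrix ι ι F) *ᵥ Pi.single o 1) = 0) : g ∈ NGrp F₀ := by
  have hcard2 : 2 ≤ Fintype.card ι := le_trans (by norm_num) hM.card
  obtain ⟨x₀, hx₀, hx₀0, hφx⟩ := exists_rat_in_hyperplane hcard2 φ₀ hφ₀
  have hτ : tv x₀ φ₀ hφx ∈ M := hM.le (tv_mem_NS hx₀ hφ₀ hφx)
  -- the conjugate
  have hdot : (φ₀ ᵥ* (g : Matrix ι ι F)) ⬝ᵥ (((g⁻¹ : GL ι F) : Matrix ι ι F) *ᵥ x₀) = 0 := by
    rw [← Matrix.dotProduct_mulVec, Matrix.mulVec_mulVec, ← Units.val_mul, mul_inv_cancel,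
      Units.val_one, Matrix.one_mulVec, hφx]
  have hconj : g⁻¹ * tv x₀ φ₀ hφx * g =
      tv (((g⁻¹ : GL ι F) : Matrix ι ι F) *ᵥ x₀) (φ₀ ᵥ* (g : Matrix ι ι F)) hdot := by
    apply Units.ext
    rw [Units.val_mul, Units.val_mul, tv_val, tv_val]
    unfold Helper93.tvMat
    rw [Matrix.mul_add, Matrix.add_mul, Matrix.mul_one, ← Units.val_mul, inv_mul_cancel,
      Units.val_one, Matrix.mul_vecMulVec, Matrix.vecMulVec_mul]
  set τ' : GL ι F := tv (((g⁻¹ : GL ι F) : Matrix ι ι F) *ᵥ x₀) (φ₀ ᵥ* (g : Matrix ι ι F)) hdot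
    with hτ'
  have hτ'M : τ' ∈ M := by
    rw [← hconj]
    exact M.mul_mem (M.mul_mem (M.inv_mem hg) hτ) hg
  have hφgo : (φ₀ ᵥ* (g : Matrix ι ι F)) ⬝ᵥ (Pi.single o (1 : F)) = 0 := by
    rw [← Matrix.dotProduct_mulVec]; exact hy
  have hfix : (τ' : Matrix ι ι F) *ᵥ (Pi.single o 1) = (1 : F) • Pi.single o 1 := by
    rw [hτ', tv_mulVec, hφgo, zero_smul, add_zero, one_smul]
  have hτ'N : τ' ∈ NGrp F₀ := mem_N_of_fix hM o τ' hτ'M 1 one_ne_zero hfix
  have hoo : (τ' : Matrix ι ι F) o o = 1 := by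
    have := congrFun hfix o
    rw [Matrix.mulVec_single_one] at this
    simpa using this
  have hrat : RatMat F₀ (τ' : Matrix ι ι F) := ratMat_of_mem_NGrp_of_col hτ'N o hoo
  -- a nonzero coordinate of φ₀ g
  have hφg0 : φ₀ ᵥ* (g : Matrix ι ι F) ≠ 0 := by
    intro h0
    apply hφ0
    have : (φ₀ ᵥ* (g : Matrix ι ι F)) ᵥ* ((g⁻¹ : GL ι F) : Matrix ι ι F) = φ₀ := by
      rw [Matrix.vecMul_vecMul, ← Units.val_mul, mul_inv_cancel, Units.val_one, Matrix.vecMul_one]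
    rw [← this, h0, Matrix.zero_vecMul]
  obtain ⟨k, hk⟩ : ∃ k, (φ₀ ᵥ* (g : Matrix ι ι F)) k ≠ 0 := by
    by_contra hno
    push Not at hno
    exact hφg0 (funext hno)
  set μ : F := (φ₀ ᵥ* (g : Matrix ι ι F)) k with hμ
  set w : ι → F := μ • (((g⁻¹ : GL ι F) : Matrix ι ι F) *ᵥ x₀) with hw
  have hwrat : RatVec F₀ w := by
    intro i
    have h1 := hrat i k
    rw [hτ', tv_val] at h1
    unfold Helper93.tvMat at h1
    rw [Matrix.add_apply, Matrix.vecMulVec_apply] at h1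
    have h2 : (1 : Matrix ι ι F) i k ∈ F₀ := RatMat.one i k
    have h3 := F₀.sub_mem h1 h2
    rw [add_sub_cancel_left] at h3
    rw [hw, Pi.smul_apply, smul_eq_mul, mul_comm]
    exact h3
  have hginvx : ((g⁻¹ : GL ι F) : Matrix ι ι F) *ᵥ x₀ ≠ 0 := by
    intro h0
    apply hx₀0
    have : (g : Matrix ι ι F) *ᵥ (((g⁻¹ : GL ι F) : Matrix ι ι F) *ᵥ x₀) = x₀ := by
      rw [Matrix.mulVec_mulVec, ← Units.val_mul, mul_inv_cancel, Units.val_one, Matrix.one_mulVec]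
    rw [← this, h0, Matrix.mulVec_zero]
  have hw0 : w ≠ 0 := by
    rw [hw]
    exact smul_ne_zero hk hginvx
  have hgw : (g : Matrix ι ι F) *ᵥ w = μ • x₀ := by
    rw [hw, Matrix.mulVec_smul, Matrix.mulVec_mulVec, ← Units.val_mul, mul_inv_cancel, Units.val_one,
      Matrix.one_mulVec]
  exact mem_N_of_rat_rat hM g hg w x₀ hwrat hw0 hx₀ hx₀0 μ hk hgw

end Main

end Cfsg.Agent.Lib.Helper44.SubF
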