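/-
helper44: subfield subgroups, part 5: the rank-one reduction.  For `e = e_o` and `y = g e_o`, the
rational transvections with centre `e` and their `g`-conjugates act on the plane `⟨e, y⟩`; we track
this action by a relation with `SL₂(F)`.
-/
import Mathlib
import Cfsg.Agent.Lib.Helper44.SubF4
import Cfsg.Agent.Lib.Helper14.DicksonNormalForm

set_option autoImplicit false
set_option linter.unusedSectionVars false
set_option linter.unusedSimpArgs false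

namespace Cfsg.Agent.Lib.Helper44.SubF

open Matrix Cfsg.Geo Cfsg.Agent.Lib.Helper93

variable {ι : Type} [Fintype ι] [DecidableEq ι] {F : Type*} [Field F] {F₀ : Subfield F}

local notation "SL2" => Matrix.SpecialLinearGroup (Fin 2) F
local notation "upU" => Cfsg.Agent.Lib.Helper41.upperU
local notation "loU" => Cfsg.Agent.Lib.Helper41.lowerU

/-- `x ∈ M` acts on the plane `⟨e, y⟩` by the matrix `d` and trivially modulo the plane -/
def Rel (M : Subgroup (GL ι F)) (e y : ι → F) (x : GL ι F) (d : SL2) : Prop :=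
  x ∈ M ∧
  (x : Matrix ι ι F) *ᵥ e = (d : Matrix (Fin 2) (Fin 2) F) 0 0 • e + (d : Matrix (Fin 2) (Fin 2) F) 1 0 • y ∧
  (x : Matrix ι ι F) *ᵥ y = (d : Matrix (Fin 2) (Fin 2) F) 0 1 • e + (d : Matrix (Fin 2) (Fin 2) F) 1 1 • y ∧
  ∀ v : ι → F, ∃ a b : F, (x : Matrix ι ι F) *ᵥ v - v = a • e + b • y

lemma Rel.one (M : Subgroup (GL ι F)) (e y : ι → F) : Rel M e y 1 1 := by
  refine ⟨M.one_mem, ?_, ?_, ?_⟩
  · simp
  · simp
  · intro v
    exact ⟨0, 0, by simp⟩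

lemma Rel.mul {M : Subgroup (GL ι F)} {e y : ι → F} {x₁ x₂ : GL ι F} {d₁ d₂ : SL2}
    (h₁ : Rel M e y x₁ d₁) (h₂ : Rel M e y x₂ d₂) : Rel M e y (x₁ * x₂) (d₁ * d₂) := by
  obtain ⟨m1, e1, y1, v1⟩ := h₁
  obtain ⟨m2, e2, y2, v2⟩ := h₂
  refine ⟨M.mul_mem m1 m2, ?_, ?_, ?_⟩
  · rw [Units.val_mul, ← Matrix.mulVec_mulVec, e2, Matrix.mulVec_add, Matrix.mulVec_smul,
      Matrix.mulVec_smul, e1, y1, Helper41.mul_apply_00, Helper41.mul_apply_10]
    module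
  · rw [Units.val_mul, ← Matrix.mulVec_mulVec, y2, Matrix.mulVec_add, Matrix.mulVec_smul,
      Matrix.mulVec_smul, e1, y1, Helper41.mul_apply_01, Helper41.mul_apply_11]
    module
  · intro v
    obtain ⟨a1, b1, hv1⟩ := v1 v
    obtain ⟨a2, b2, hv2⟩ := v2 v
    refine ⟨a2 * (d₁ : Matrix (Fin 2) (Fin 2) F) 0 0 + b2 * (d₁ : Matrix (Fin 2) (Fin 2) F) 0 1 + a1,
      a2 * (d₁ : Matrix (Fin 2) (Fin 2) F) 1 0 + b2 * (d₁ : Matrix (Fin 2) (Fin 2) F) 1 1 + b1, ?_⟩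
    have h3 : (x₂ : Matrix ι ι F) *ᵥ v = v + (a2 • e + b2 • y) := by
      rw [← hv2]; abel
    have h4 : (x₁ : Matrix ι ι F) *ᵥ v = v + (a1 • e + b1 • y) := by
      rw [← hv1]; abel
    rw [Units.val_mul, ← Matrix.mulVec_mulVec, h3, Matrix.mulVec_add, Matrix.mulVec_add,
      Matrix.mulVec_smul, Matrix.mulVec_smul, e1, y1, h4]
    module

lemma Rel.inv {M : Subgroup (GL ι F)} {e y : ι → F} {x : GL ι F} {d : SL2}
    (h : Rel M e y x d) : Rel M e y x⁻¹ d⁻¹ := by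
  obtain ⟨m1, e1, y1, v1⟩ := h
  have hdet := Helper41.sl2_det d
  have hinv : ∀ v : ι → F, ((x⁻¹ : GL ι F) : Matrix ι ι F) *ᵥ ((x : Matrix ι ι F) *ᵥ v) = v := by
    intro v
    rw [Matrix.mulVec_mulVec, ← Units.val_mul, inv_mul_cancel, Units.val_one, Matrix.one_mulVec]
  have he : ((x⁻¹ : GL ι F) : Matrix ι ι F) *ᵥ e =
      (d : Matrix (Fin 2) (Fin 2) F) 1 1 • e - (d : Matrix (Fin 2) (Fin 2) F) 1 0 • y := by
    have h2 : (x : Matrix ι ι F) *ᵥ ((d : Matrix (Fin 2) (Fin 2) F) 1 1 • e -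
        (d : Matrix (Fin 2) (Fin 2) F) 1 0 • y) = e := by
      rw [Matrix.mulVec_sub, Matrix.mulVec_smul, Matrix.mulVec_smul, e1, y1]
      linear_combination (norm := module) hdet • e
    rw [← hinv ((d : Matrix (Fin 2) (Fin 2) F) 1 1 • e - (d : Matrix (Fin 2) (Fin 2) F) 1 0 • y), h2]
  have hy : ((x⁻¹ : GL ι F) : Matrix ι ι F) *ᵥ y =
      -(d : Matrix (Fin 2) (Fin 2) F) 0 1 • e + (d : Matrix (Fin 2) (Fin 2) F) 0 0 • y := by
    have h2 : (x : Matrix ι ι F) *ᵥ (-(d : Matrix (Fin 2) (Fin 2) F) 0 1 • e +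
        (d : Matrix (Fin 2) (Fin 2) F) 0 0 • y) = y := by
      rw [Matrix.mulVec_add, Matrix.mulVec_smul, Matrix.mulVec_smul, e1, y1]
      linear_combination (norm := module) hdet • y
    rw [← hinv (-(d : Matrix (Fin 2) (Fin 2) F) 0 1 • e + (d : Matrix (Fin 2) (Fin 2) F) 0 0 • y), h2]
  refine ⟨M.inv_mem m1, ?_, ?_, ?_⟩
  · rw [he, Helper41.inv_apply_00, Helper41.inv_apply_10]
    module
  · rw [hy, Helper41.inv_apply_01, Helper41.inv_apply_11]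
  · intro v
    obtain ⟨a, b, hv⟩ := v1 v
    have h3 : v = ((x⁻¹ : GL ι F) : Matrix ι ι F) *ᵥ v + (a • ((x⁻¹ : GL ι F) : Matrix ι ι F) *ᵥ e +
        b • ((x⁻¹ : GL ι F) : Matrix ι ι F) *ᵥ y) := by
      have h4 : (x : Matrix ι ι F) *ᵥ v = v + (a • e + b • y) := by
        rw [← hv]; abel
      have h5 := hinv v
      rw [h4, Matrix.mulVec_add, Matrix.mulVec_add, Matrix.mulVec_smul, Matrix.mulVec_smul] at h5
      exact h5.symm
    rw [he, hy] at h3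
    refine ⟨-(a * (d : Matrix (Fin 2) (Fin 2) F) 1 1) + b * (d : Matrix (Fin 2) (Fin 2) F) 0 1,
      a * (d : Matrix (Fin 2) (Fin 2) F) 1 0 - b * (d : Matrix (Fin 2) (Fin 2) F) 0 0, ?_⟩
    linear_combination (norm := module) -h3

/-- the generators coming from rational transvections with centre `e` -/
lemma Rel.upper {M : Subgroup (GL ι F)} (hNM : NGrp F₀ ⊓ specialLinear ι F ≤ M) (o : ι)
    (y : ι → F) (φ : ι → F) (hφ : RatVec F₀ φ) (hφe : φ ⬝ᵥ (Pi.single o (1 : F)) = 0) :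
    Rel M (Pi.single o 1) y (tv (Pi.single o 1) φ hφe) (upU (φ ⬝ᵥ y)) := by
  refine ⟨hNM (tv_mem_NS (ratVec_single o F₀.one_mem) hφ hφe), ?_, ?_, ?_⟩
  · rw [tv_mulVec, hφe, Helper41.coe_upperU]
    simp
  · rw [tv_mulVec, Helper41.coe_upperU]
    simp [add_comm]
  · intro v
    refine ⟨φ ⬝ᵥ v, 0, ?_⟩
    rw [tv_mulVec]
    simp

/-- the generators coming from the conjugates of rational transvections -/
lemma Rel.lower {M : Subgroup (GL ι F)} (hNM : NGrp F₀ ⊓ specialLinear ι F ≤ M) (o : ι)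
    (g : GL ι F) (hg : g ∈ M) (φ : ι → F) (hφ : RatVec F₀ φ)
    (hφe : φ ⬝ᵥ (Pi.single o (1 : F)) = 0) :
    Rel M (Pi.single o 1) ((g : Matrix ι ι F) *ᵥ Pi.single o 1)
      (g * tv (Pi.single o 1) φ hφe * g⁻¹)
      (loU (φ ⬝ᵥ (((g⁻¹ : GL ι F) : Matrix ι ι F) *ᵥ Pi.single o 1))) := by
  have hact : ∀ v : ι → F, ((g * tv (Pi.single o 1) φ hφe * g⁻¹ : GL ι F) : Matrix ι ι F) *ᵥ v =
      v + (φ ⬝ᵥ (((g⁻¹ : GL ι F) : Matrix ι ι F) *ᵥ v)) • ((g : Matrix ι ι F) *ᵥ Pi.single o 1) := by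
    intro v
    rw [Units.val_mul, Units.val_mul, ← Matrix.mulVec_mulVec, ← Matrix.mulVec_mulVec, tv_mulVec,
      Matrix.mulVec_add, Matrix.mulVec_smul, Matrix.mulVec_mulVec, ← Units.val_mul, mul_inv_cancel,
      Units.val_one, Matrix.one_mulVec]
  have hgy : ((g⁻¹ : GL ι F) : Matrix ι ι F) *ᵥ ((g : Matrix ι ι F) *ᵥ Pi.single o (1 : F)) =
      Pi.single o 1 := by
    rw [Matrix.mulVec_mulVec, ← Units.val_mul, inv_mul_cancel, Units.val_one, Matrix.one_mulVec]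
  refine ⟨M.mul_mem (M.mul_mem hg (hNM (tv_mem_NS (ratVec_single o F₀.one_mem) hφ hφe)))
    (M.inv_mem hg), ?_, ?_, ?_⟩
  · rw [hact, Helper41.coe_lowerU]
    simp
  · rw [hact, hgy, hφe, Helper41.coe_lowerU]
    simp
  · intro v
    refine ⟨0, φ ⬝ᵥ (((g⁻¹ : GL ι F) : Matrix ι ι F) *ᵥ v), ?_⟩
    rw [hact]
    simp

end Cfsg.Agent.Lib.Helper44.SubF
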