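/-
helper44: subfield subgroups, part 6: the generic case.  If `g e_o` lies on no rational hyperplane, the
rank-one reduction and Dickson's theorem give a contradiction.
-/
import Mathlib
import Cfsg.Agent.Lib.Helper44.SubF5

set_option autoImplicit false
set_option linter.unusedSectionVars false
set_option linter.unusedSimpArgs false

namespace Cfsg.Agent.Lib.Helper44.SubF

open Matrix Cfsg.Geo Cfsg.Agent.Lib.Helper93

variable {ι : Type} [Fintype ι] [DecidableEq ι] {F : Type*} [Field F] {F₀ : Subfield F}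

local notation "SL2" => Matrix.SpecialLinearGroup (Fin 2) F
local notation "upU" => Cfsg.Agent.Lib.Helper41.upperU
local notation "loU" => Cfsg.Agent.Lib.Helper41.lowerU

variable (F₀) in
/-- the `F₀`-space of parameters `φ ⬝ᵥ y`, `φ` rational vanishing at `e_o` -/
def paramSpace (o : ι) (y : ι → F) : Submodule F₀ F where
  carrier := {t | ∃ φ : ι → F, RatVec F₀ φ ∧ φ ⬝ᵥ (Pi.single o (1 : F)) = 0 ∧ φ ⬝ᵥ y = t}
  add_mem' := by
    rintro _ _ ⟨φ₁, h1, h1', rfl⟩ ⟨φ₂, h2, h2', rfl⟩
    refine ⟨φ₁ + φ₂, fun i => F₀.add_mem (h1 i) (h2 i), ?_, ?_⟩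
    · rw [add_dotProduct, h1', h2', add_zero]
    · rw [add_dotProduct]
  zero_mem' := ⟨0, fun _ => F₀.zero_mem, by rw [zero_dotProduct], by rw [zero_dotProduct]⟩
  smul_mem' := by
    rintro c _ ⟨φ, h1, h1', rfl⟩
    refine ⟨(c : F) • φ, fun i => F₀.mul_mem c.2 (h1 i), ?_, ?_⟩
    · rw [smul_dotProduct, h1', smul_zero]
    · rw [smul_dotProduct]; rfl

lemma mem_paramSpace (o : ι) (y : ι → F) (t : F) :
    t ∈ paramSpace F₀ o y ↔
      ∃ φ : ι → F, RatVec F₀ φ ∧ φ ⬝ᵥ (Pi.single o (1 : F)) = 0 ∧ φ ⬝ᵥ y = t := Iff.rfl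

lemma coord_mem_paramSpace (o : ι) (y : ι → F) (a : ι) (ha : a ≠ o) : y a ∈ paramSpace F₀ o y := by
  refine ⟨Pi.single a 1, ratVec_single a F₀.one_mem, ?_, ?_⟩
  · rw [single_dot, Pi.single_eq_of_ne (Ne.symm ha)]
  · rw [single_dotProduct, one_mul]

/-- a rational functional vanishing at `e_o` and at a given rational vector -/
lemma exists_rat_annih (hcard : 5 ≤ Fintype.card ι) (o : ι) (z : ι → F) (hz : RatVec F₀ z) :
    ∃ φ : ι → F, RatVec F₀ φ ∧ φ ≠ 0 ∧ φ ⬝ᵥ (Pi.single o (1 : F)) = 0 ∧ φ ⬝ᵥ z = 0 := by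
  obtain ⟨a, hao, _⟩ := exists_ne_ne hcard o o
  obtain ⟨b, hbo, hba⟩ := exists_ne_ne hcard o a
  by_cases hza : z a = 0
  · refine ⟨Pi.single a 1, ratVec_single a F₀.one_mem, ?_, ?_, ?_⟩
    · intro h
      have := congrFun h a
      rw [Pi.single_eq_same] at this
      exact one_ne_zero this
    · rw [single_dot, Pi.single_eq_of_ne (Ne.symm hao)]
    · rw [single_dotProduct, one_mul, hza]
  · refine ⟨z b • Pi.single a 1 - z a • Pi.single b 1, ?_, ?_, ?_, ?_⟩
    · intro i
      rw [Pi.sub_apply, Pi.smul_apply, Pi.smul_apply, smul_eq_mul, smul_eq_mul]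
      exact F₀.sub_mem (F₀.mul_mem (hz b) (ratVec_single a F₀.one_mem i))
        (F₀.mul_mem (hz a) (ratVec_single b F₀.one_mem i))
    · intro h
      have := congrFun h b
      rw [Pi.sub_apply, Pi.smul_apply, Pi.smul_apply, Pi.single_eq_same,
        Pi.single_eq_of_ne hba, smul_eq_mul, smul_eq_mul, mul_zero, mul_one, zero_sub,
        Pi.zero_apply, neg_eq_zero] at this
      exact hza this
    · rw [single_dot, Pi.sub_apply, Pi.smul_apply, Pi.smul_apply, Pi.single_eq_of_ne (Ne.symm hao),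
        Pi.single_eq_of_ne (Ne.symm hbo), smul_zero, smul_zero, sub_zero]
    · rw [sub_dotProduct, smul_dotProduct, smul_dotProduct, single_dotProduct, single_dotProduct,
        smul_eq_mul, smul_eq_mul]
      ring

section Main

variable {M : Subgroup (GL ι F)} (hM : SmallOver F₀ M) (o : ι) (g : GL ι F) (hg : g ∈ M)
  (hgen : ∀ φ₀ : ι → F, RatVec F₀ φ₀ → φ₀ ≠ 0 → φ₀ ⬝ᵥ ((g : Matrix ι ι F) *ᵥ Pi.single o 1) ≠ 0)

include hM hgen

/-- Claim 2: an element related to an upper unipotent matrix has its parameter in `paramSpace` -/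
lemma param_of_rel (x : GL ι F) (t : F)
    (h : Rel M (Pi.single o 1) ((g : Matrix ι ι F) *ᵥ Pi.single o 1) x (upU t)) :
    t ∈ paramSpace F₀ o ((g : Matrix ι ι F) *ᵥ Pi.single o 1) := by
  obtain ⟨hxM, he, hy, hv⟩ := h
  set e : ι → F := Pi.single o 1 with he_def
  set y : ι → F := (g : Matrix ι ι F) *ᵥ e with hy_def
  rw [Helper41.coe_upperU] at he hy
  have he' : (x : Matrix ι ι F) *ᵥ e = (1 : F) • e := by
    rw [he]; simp
  have hy' : (x : Matrix ι ι F) *ᵥ y = t • e + y := by
    rw [hy]; simp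
  have hxN : x ∈ NGrp F₀ := mem_N_of_fix hM o x hxM 1 one_ne_zero he'
  have hoo : (x : Matrix ι ι F) o o = 1 := by
    have := congrFun he' o
    rw [he_def, Matrix.mulVec_single_one] at this
    simpa using this
  have hrat : RatMat F₀ (x : Matrix ι ι F) := ratMat_of_mem_NGrp_of_col hxN o hoo
  -- rows other than `o` of `x` are those of the identity
  have hrows : ∀ k i, i ≠ o → (x : Matrix ι ι F) i k = (1 : Matrix ι ι F) i k := by
    intro k i hio
    obtain ⟨a, b, hab⟩ := hv (Pi.single k (1 : F))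
    have hzi : ∀ i', ((x : Matrix ι ι F) *ᵥ Pi.single k (1 : F) - Pi.single k (1 : F) : ι → F) i' =
        (x : Matrix ι ι F) i' k - (1 : Matrix ι ι F) i' k := by
      intro i'
      rw [Pi.sub_apply, Matrix.mulVec_single_one, Matrix.col_apply, Matrix.one_apply, Pi.single_apply]
    have hzrat : RatVec F₀ ((x : Matrix ι ι F) *ᵥ Pi.single k (1 : F) - Pi.single k (1 : F)) := by
      intro i'
      rw [hzi]
      exact F₀.sub_mem (hrat i' k) (RatMat.one i' k)
    have hb : b = 0 := by
      by_contra hb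
      obtain ⟨φ, hφ, hφ0, hφe, hφz⟩ := exists_rat_annih hM.card o _ hzrat
      rw [hab, dotProduct_add, dotProduct_smul, dotProduct_smul, hφe, smul_zero, zero_add,
        smul_eq_mul] at hφz
      rcases mul_eq_zero.1 hφz with h | h
      · exact hb h
      · exact hgen φ hφ hφ0 h
    have := congrFun hab i
    rw [hzi, hb, zero_smul, add_zero, Pi.smul_apply, he_def, Pi.single_eq_of_ne hio, smul_zero] at this
    exact sub_eq_zero.1 this
  refine ⟨fun k => (x : Matrix ι ι F) o k - (1 : Matrix ι ι F) o k,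
    fun k => F₀.sub_mem (hrat o k) (RatMat.one o k), ?_, ?_⟩
  · rw [single_dot, hoo, Matrix.one_apply_eq, sub_self]
  · have hxy : (x : Matrix ι ι F) *ᵥ y =
        y + ((fun k => (x : Matrix ι ι F) o k - (1 : Matrix ι ι F) o k) ⬝ᵥ y) • e := by
      funext i
      by_cases hio : i = o
      · subst hio
        rw [Pi.add_apply, Pi.smul_apply, he_def, Pi.single_eq_same, smul_eq_mul, mul_one]
        show (fun k => (x : Matrix ι ι F) i k) ⬝ᵥ y = _
        have : (fun k => (x : Matrix ι ι F) i k) =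
            (fun k => (x : Matrix ι ι F) i k - (1 : Matrix ι ι F) i k) + (fun k => (1 : Matrix ι ι F) i k) := by
          funext k; simp
        rw [this, add_dotProduct]
        have h1 : (fun k => (1 : Matrix ι ι F) i k) ⬝ᵥ y = y i := by
          show ((1 : Matrix ι ι F) *ᵥ y) i = y i
          rw [Matrix.one_mulVec]
        rw [h1, add_comm]
      · rw [Pi.add_apply, Pi.smul_apply, he_def, Pi.single_eq_of_ne hio, smul_zero, add_zero]
        show (fun k => (x : Matrix ι ι F) i k) ⬝ᵥ y = _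
        have : (fun k => (x : Matrix ι ι F) i k) = (fun k => (1 : Matrix ι ι F) i k) := by
          funext k; exact hrows k i hio
        rw [this]
        show ((1 : Matrix ι ι F) *ᵥ y) i = y i
        rw [Matrix.one_mulVec]
    rw [hy'] at hxy
    have := congrFun hxy o
    rw [Pi.add_apply, Pi.add_apply, Pi.smul_apply, Pi.smul_apply, he_def, Pi.single_eq_same,
      smul_eq_mul, smul_eq_mul, mul_one, mul_one, add_comm] at this
    exact (add_left_cancel this).symm

end Main

end Cfsg.Agent.Lib.Helper44.SubF
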