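/-
helper44: subfield subgroups, part 7: the generic case, conclusion via Dickson's theorem.
-/
import Mathlib
import Cfsg.Agent.Lib.Helper44.SubF6

set_option autoImplicit false
set_option linter.unusedSectionVars false
set_option linter.unusedSimpArgs false

namespace Cfsg.Agent.Lib.Helper44.SubF

open Matrix Cfsg.Geo Cfsg.Agent.Lib.Helper93

variable {ι : Type} [Fintype ι] [DecidableEq ι] {F : Type*} [Field F] {F₀ : Subfield F}

local notation "SL2" => Matrix.SpecialLinearGroup (Fin 2) F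
local notation "upU" => Cfsg.Agent.Lib.Helper41.upperU
local notation "loU" => Cfsg.Agent.Lib.Helper41.lowerU

variable (F₀) in
/-- generators of the rank-one group -/
def gens (o : ι) (g : GL ι F) : Set SL2 :=
  {d | ∃ t ∈ paramSpace F₀ o ((g : Matrix ι ι F) *ᵥ Pi.single o 1), d = upU t} ∪
  {d | ∃ t ∈ paramSpace F₀ o (((g⁻¹ : GL ι F) : Matrix ι ι F) *ᵥ Pi.single o 1), d = loU t}

variable (F₀) in
/-- the rank-one group -/
def Dgrp (o : ι) (g : GL ι F) : Subgroup SL2 := Subgroup.closure (gens F₀ o g)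

section Main

variable {M : Subgroup (GL ι F)} (hM : SmallOver F₀ M) (o : ι) (g : GL ι F) (hg : g ∈ M)

include hM hg in
/-- Claim 1 -/
lemma exists_rel_of_mem (d : SL2) (hd : d ∈ Dgrp F₀ o g) :
    ∃ x, Rel M (Pi.single o 1) ((g : Matrix ι ι F) *ᵥ Pi.single o 1) x d := by
  unfold Dgrp at hd
  induction hd using Subgroup.closure_induction with
  | mem d hd =>
    rcases hd with ⟨t, ⟨φ, hφ, hφe, rfl⟩, rfl⟩ | ⟨t, ⟨φ, hφ, hφe, rfl⟩, rfl⟩
    · exact ⟨_, Rel.upper hM.le o _ φ hφ hφe⟩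
    · exact ⟨_, Rel.lower hM.le o g hg φ hφ hφe⟩
  | one => exact ⟨1, Rel.one _ _ _⟩
  | mul d₁ d₂ _ _ h₁ h₂ =>
    obtain ⟨x₁, h₁⟩ := h₁
    obtain ⟨x₂, h₂⟩ := h₂
    exact ⟨x₁ * x₂, h₁.mul h₂⟩
  | inv d _ h =>
    obtain ⟨x, h⟩ := h
    exact ⟨x⁻¹, h.inv⟩

variable
  (hgen : ∀ φ₀ : ι → F, RatVec F₀ φ₀ → φ₀ ≠ 0 → φ₀ ⬝ᵥ ((g : Matrix ι ι F) *ᵥ Pi.single o 1) ≠ 0)

include hM hg hgen in
/-- Claim 3: the upper unipotent elements of `D · Z` are exactly those with parameter in `paramSpace` -/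
lemma upper_mem_iff (t : F) :
    upU t ∈ Dgrp F₀ o g ⊔ Subgroup.center SL2 ↔
      t ∈ paramSpace F₀ o ((g : Matrix ι ι F) *ᵥ Pi.single o 1) := by
  constructor
  · intro h
    rw [Subgroup.mem_sup_of_normal_right] at h
    obtain ⟨d, hd, z, hz, hdz⟩ := h
    have hD : ∀ s : F, upU s ∈ Dgrp F₀ o g →
        s ∈ paramSpace F₀ o ((g : Matrix ι ι F) *ᵥ Pi.single o 1) := by
      intro s hs
      obtain ⟨x, hx⟩ := exists_rel_of_mem hM o g hg _ hs
      exact param_of_rel hM o g hgen x s hx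
    obtain ⟨ε, hε, hεz⟩ := Matrix.SpecialLinearGroup.mem_center_iff.1 hz
    rw [Fintype.card_fin] at hε
    have hzz : z * z = 1 := by
      apply Subtype.ext
      rw [Matrix.SpecialLinearGroup.coe_mul, ← hεz, ← map_mul, ← pow_two, hε, map_one,
        Matrix.SpecialLinearGroup.coe_one]
    by_cases h2 : (2 : F) = 0
    · have hε1 : ε = 1 := by
        have : (ε - 1) ^ 2 = 0 := by linear_combination hε + (1 - ε) * h2
        exact sub_eq_zero.1 ((pow_eq_zero_iff (two_ne_zero)).1 this)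
      have hz1 : z = 1 := by
        apply Subtype.ext
        rw [← hεz, hε1, map_one, Matrix.SpecialLinearGroup.coe_one]
      rw [hz1, mul_one] at hdz
      exact hD t (by rw [← hdz]; exact hd)
    · have hzc : ∀ w : SL2, w * z = z * w := fun w => Subgroup.mem_center_iff.1 hz w
      have hd2 : d * d = upU (t + t) := by
        rw [Helper41.upperU_add, ← hdz]
        calc d * d = d * d * (z * z) := by rw [hzz, mul_one]
          _ = d * z * (d * z) := by
            rw [mul_assoc d z (d * z), ← mul_assoc z d z, ← hzc d, mul_assoc d z z, ← mul_assoc d d]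
      have h3 : t + t ∈ paramSpace F₀ o ((g : Matrix ι ι F) *ᵥ Pi.single o 1) := by
        apply hD
        rw [← hd2]
        exact Subgroup.mul_mem _ hd hd
      have h4 : ((2 : F)⁻¹) ∈ F₀ := F₀.inv_mem (by
        have : (2 : F) = 1 + 1 := by norm_num
        rw [this]; exact F₀.add_mem F₀.one_mem F₀.one_mem)
      have h5 := (paramSpace F₀ o ((g : Matrix ι ι F) *ᵥ Pi.single o 1)).smul_mem
        (⟨(2 : F)⁻¹, h4⟩ : F₀) h3
      have h6 : (⟨(2 : F)⁻¹, h4⟩ : F₀) • (t + t) = t := by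
        show (2 : F)⁻¹ * (t + t) = t
        field_simp
        ring
      rwa [h6] at h5
  · intro h
    exact Subgroup.mem_sup_left (Subgroup.subset_closure (Or.inl ⟨t, h, rfl⟩))

end Main

end Cfsg.Agent.Lib.Helper44.SubF
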