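/-
helper44: subfield subgroups, part 8: the generic case is impossible (Dickson + counting).
-/
import Mathlib
import Cfsg.Agent.Lib.Helper44.SubF7

set_option autoImplicit false
set_option linter.unusedSectionVars false
set_option linter.unusedSimpArgs false

namespace Cfsg.Agent.Lib.Helper44.SubF

open Matrix Cfsg.Geo Cfsg.Agent.Lib.Helper93

variable {ι : Type} [Fintype ι] [DecidableEq ι] {F : Type*} [Field F] {F₀ : Subfield F}

local notation "SL2" => Matrix.SpecialLinearGroup (Fin 2) F
local notation "upU" => Cfsg.Agent.Lib.Helper41.upperU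
local notation "loU" => Cfsg.Agent.Lib.Helper41.lowerU

/-- upper unipotent elements of the normalised group -/
lemma upper_mem_normalize_iff (H : Subgroup SL2) (s : F) (c : Fˣ) (t : F) :
    upU t ∈ Cfsg.Agent.Lib.Helper14.normalize H (upU s) c ↔ upU (((c⁻¹ : Fˣ) : F) * t) ∈ H := by
  unfold Cfsg.Agent.Lib.Helper14.normalize
  rw [Cfsg.Agent.Lib.Helper14.mem_map_diagAut_iff, Cfsg.Agent.Lib.Helper14.mem_map_conj_iff,
    Helper41.diagAut_upperU]
  have : (upU s)⁻¹ * upU (((c⁻¹ : Fˣ) : F) * t) * upU s = upU (((c⁻¹ : Fˣ) : F) * t) := by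
    rw [← Helper41.upperU_neg, ← Helper41.upperU_add, ← Helper41.upperU_add]
    congr 1
    ring
  rw [this]

lemma finrank_of_card [Fintype F] (r : ℕ) (hF : Fintype.card F = Nat.card F₀ ^ r) :
    Module.finrank F₀ F = r := by
  classical
  haveI : Fintype F₀ := Fintype.ofFinite _
  have h1 : Fintype.card F = Fintype.card F₀ ^ Module.finrank F₀ F := Module.card_eq_pow_finrank
  rw [Nat.card_eq_fintype_card] at hF
  rw [hF] at h1
  have h2 : 2 ≤ Fintype.card F₀ := Fintype.one_lt_card
  exact (Nat.pow_right_injective h2 h1).symm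

section Main

variable [Fintype F] {M : Subgroup (GL ι F)} (hM : SmallOver F₀ M) (o : ι) (g : GL ι F) (hg : g ∈ M)
  (hgen : ∀ φ₀ : ι → F, RatVec F₀ φ₀ → φ₀ ≠ 0 → φ₀ ⬝ᵥ ((g : Matrix ι ι F) *ᵥ Pi.single o 1) ≠ 0)

include hM hg hgen

/-- Case 2 is impossible -/
theorem case2_false (r : ℕ) (hr : r.Prime) (hF : Fintype.card F = Nat.card F₀ ^ r) : False := by
  classical
  obtain ⟨p, hp⟩ := CharP.exists F
  haveI := hp
  haveI : Fact p.Prime := ⟨CharP.char_is_prime F p⟩
  haveI : Fintype F₀ := Fintype.ofFinite _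
  set e : ι → F := Pi.single o 1 with he_def
  set y : ι → F := (g : Matrix ι ι F) *ᵥ e with hy_def
  set y' : ι → F := ((g⁻¹ : GL ι F) : Matrix ι ι F) *ᵥ e with hy'_def
  set W := paramSpace F₀ o y with hW
  set H : Subgroup SL2 := Dgrp F₀ o g ⊔ Subgroup.center SL2 with hH
  have hq₀ : 2 ≤ Fintype.card F₀ := Fintype.one_lt_card
  -- coordinates of y
  have hycoord : ∀ k, y k ≠ 0 := by
    intro k
    have := hgen (Pi.single k 1) (ratVec_single k F₀.one_mem) (by
      intro h
      have := congrFun h k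
      rw [Pi.single_eq_same] at this
      exact one_ne_zero this)
    rwa [single_dotProduct, one_mul] at this
  -- two indices
  obtain ⟨a, hao, _⟩ := exists_ne_ne hM.card o o
  obtain ⟨b, hbo, hba⟩ := exists_ne_ne hM.card o a
  -- finrank W ≥ 2
  have hd2 : 2 ≤ Module.finrank F₀ W := by
    let v : Fin 2 → W := ![⟨y a, coord_mem_paramSpace o y a hao⟩, ⟨y b, coord_mem_paramSpace o y b hbo⟩]
    have hli : LinearIndependent F₀ v := by
      rw [LinearIndependent.pair_iff]
      intro s t hst
      have h1 : (s : F) * y a + (t : F) * y b = 0 := by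
        have := congrArg Subtype.val hst
        simpa [v, Subfield.smul_def] using this
      have hφ : RatVec F₀ ((s : F) • Pi.single a (1 : F) + (t : F) • Pi.single b (1 : F)) := by
        intro i
        rw [Pi.add_apply, Pi.smul_apply, Pi.smul_apply, smul_eq_mul, smul_eq_mul]
        exact F₀.add_mem (F₀.mul_mem s.2 (ratVec_single a F₀.one_mem i))
          (F₀.mul_mem t.2 (ratVec_single b F₀.one_mem i))
      have hφy : ((s : F) • Pi.single a (1 : F) + (t : F) • Pi.single b (1 : F)) ⬝ᵥ y = 0 := by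
        rw [add_dotProduct, smul_dotProduct, smul_dotProduct, single_dotProduct, single_dotProduct,
          one_mul, one_mul, smul_eq_mul, smul_eq_mul]
        exact h1
      have hφ0 : (s : F) • Pi.single a (1 : F) + (t : F) • Pi.single b (1 : F) = 0 := by
        by_contra h
        exact hgen _ hφ h hφy
      have hs := congrFun hφ0 a
      have ht := congrFun hφ0 b
      rw [Pi.add_apply, Pi.smul_apply, Pi.smul_apply, Pi.single_eq_same,
        Pi.single_eq_of_ne (Ne.symm hba), smul_eq_mul, smul_eq_mul, mul_one, mul_zero, add_zero,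
        Pi.zero_apply] at hs
      rw [Pi.add_apply, Pi.smul_apply, Pi.smul_apply, Pi.single_eq_same,
        Pi.single_eq_of_ne hba, smul_eq_mul, smul_eq_mul, mul_one, mul_zero, zero_add,
        Pi.zero_apply] at ht
      exact ⟨Subtype.ext hs, Subtype.ext ht⟩
    have := hli.fintype_card_le_finrank
    simpa using this
  -- cardinality of W
  haveI : Fintype W := Fintype.ofFinite _
  have hWcard : Fintype.card W = Fintype.card F₀ ^ Module.finrank F₀ W := Module.card_eq_pow_finrank
  -- uSet H and W
  have hU : ∀ t, t ∈ Helper41.uSet H ↔ t ∈ W := fun t => upper_mem_iff hM o g hg hgen t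
  have hUcard : Nat.card (Helper41.uSet H) = Fintype.card W := by
    rw [← Nat.card_eq_fintype_card]
    exact Nat.card_congr (Equiv.subtypeEquivRight hU)
  have hq : 4 ≤ Nat.card (Helper41.uSet H) := by
    rw [hUcard, hWcard]
    calc 4 = 2 ^ 2 := by norm_num
      _ ≤ Fintype.card F₀ ^ 2 := Nat.pow_le_pow_left hq₀ 2
      _ ≤ Fintype.card F₀ ^ Module.finrank F₀ W := Nat.pow_le_pow_right (by omega) hd2
  -- an element with nonzero lower-left entry
  obtain ⟨k, hko, hy'k⟩ : ∃ k, k ≠ o ∧ y' k ≠ 0 := by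
    by_contra hno
    push Not at hno
    have hy'e : y' = y' o • e := by
      funext i
      by_cases hi : i = o
      · subst hi; rw [Pi.smul_apply, he_def, Pi.single_eq_same, smul_eq_mul, mul_one]
      · rw [hno i hi, Pi.smul_apply, he_def, Pi.single_eq_of_ne hi, smul_zero]
    have hgy' : (g : Matrix ι ι F) *ᵥ y' = e := by
      rw [hy'_def, Matrix.mulVec_mulVec, ← Units.val_mul, mul_inv_cancel, Units.val_one,
        Matrix.one_mulVec]
    rw [hy'e, Matrix.mulVec_smul] at hgy'
    have h1 := congrFun hgy' a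
    rw [Pi.smul_apply, he_def, Pi.single_eq_of_ne hao, smul_eq_mul] at h1
    rcases mul_eq_zero.1 h1 with h | h
    · rw [h, zero_smul] at hgy'
      have h2 := congrFun hgy' o
      rw [he_def, Pi.single_eq_same, Pi.zero_apply] at h2
      exact zero_ne_one h2
    · exact hycoord a h
  have hhH : loU (y' k) ∈ H :=
    Subgroup.mem_sup_left (Subgroup.subset_closure
      (Or.inr ⟨y' k, coord_mem_paramSpace o y' k hko, rfl⟩))
  have hc : ((loU (y' k) : SL2) : Matrix (Fin 2) (Fin 2) F) 1 0 ≠ 0 := by
    rw [Helper41.coe_lowerU]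
    simpa using hy'k
  obtain ⟨K, c, _, _, _, hK3, _⟩ :=
    Cfsg.Agent.Lib.Helper14.generic_normal_form p H le_sup_right hq hhH hc
  -- |K| = |uSet H|
  haveI : Fintype K := Fintype.ofFinite _
  have hKcard : Fintype.card K = Fintype.card W := by
    rw [← hUcard, ← Nat.card_eq_fintype_card]
    refine Nat.card_congr ⟨fun t => ⟨((c⁻¹ : Fˣ) : F) * t, ?_⟩, fun u => ⟨(c : F) * u, ?_⟩, ?_, ?_⟩
    · have := (hK3 t).2 t.2
      rw [upper_mem_normalize_iff] at this
      exact this
    · apply (hK3 _).1
      rw [upper_mem_normalize_iff, ← mul_assoc, ← Units.val_mul, inv_mul_cancel, Units.val_one, one_mul]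
      exact u.2
    · intro t
      apply Subtype.ext
      show (c : F) * (((c⁻¹ : Fˣ) : F) * t) = t
      rw [← mul_assoc, ← Units.val_mul, mul_inv_cancel, Units.val_one, one_mul]
    · intro u
      apply Subtype.ext
      show ((c⁻¹ : Fˣ) : F) * ((c : F) * u) = u
      rw [← mul_assoc, ← Units.val_mul, inv_mul_cancel, Units.val_one, one_mul]
  -- |F| = |K| ^ e
  have hFK : Fintype.card F = Fintype.card K ^ Module.finrank K F := Module.card_eq_pow_finrank
  rw [hKcard, hWcard, ← pow_mul] at hFK
  rw [Nat.card_eq_fintype_card] at hF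
  rw [hF] at hFK
  have hrd : r = Module.finrank F₀ W * Module.finrank K F := Nat.pow_right_injective hq₀ hFK
  have hdr : Module.finrank F₀ W = r := by
    have hdvd : Module.finrank F₀ W ∣ r := ⟨_, hrd⟩
    rcases (Nat.dvd_prime hr).1 hdvd with h | h
    · omega
    · exact h
  have hfr : Module.finrank F₀ F = r := finrank_of_card r (by rw [Nat.card_eq_fintype_card]; exact hF)
  have hWtop : W = ⊤ := Submodule.eq_top_of_finrank_eq (by rw [hdr, hfr])
  have hyo : y o ∈ W := by rw [hWtop]; trivial
  obtain ⟨φ, hφ, hφe, hφy⟩ := hyo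
  have hφo : φ o = 0 := by rw [← single_dot o φ]; exact hφe
  have h1 : RatVec F₀ (Pi.single o (1 : F) - φ) := fun i =>
    F₀.sub_mem (ratVec_single o F₀.one_mem i) (hφ i)
  have h2 : Pi.single o (1 : F) - φ ≠ 0 := by
    intro h
    have := congrFun h o
    rw [Pi.sub_apply, Pi.single_eq_same, hφo, sub_zero, Pi.zero_apply] at this
    exact one_ne_zero this
  apply hgen _ h1 h2
  rw [sub_dotProduct, single_dotProduct, one_mul, hφy, sub_self]

end Main

end Cfsg.Agent.Lib.Helper44.SubF
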