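/-
helper44: subfield subgroups, part 9: the subfield subgroup `GL(ι, F₀)·scalars ∩ SL(ι, F)` and its
conjugates are maximal in `SL(ι, F)` when `[F : F₀]` is prime and `|ι| ≥ 5`.
-/
import Mathlib
import Cfsg.Agent.Lib.Helper44.SubF8

set_option autoImplicit false
set_option linter.unusedSectionVars false
set_option linter.unusedSimpArgs false

namespace Cfsg.Agent.Lib.Helper44.SubF

open Matrix Cfsg.Geo Cfsg.Agent.Lib.Helper93

variable {ι : Type} [Fintype ι] [DecidableEq ι] {F : Type*} [Field F] {F₀ : Subfield F}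

/-- a subgroup containing all elementary transvections contains `SL` -/
theorem specialLinear_le_of_elemTv_mem [Nontrivial ι] (M : Subgroup (GL ι F))
    (helem : ∀ (i j : ι) (hij : i ≠ j) (b : F), elemTv i j hij b ∈ M) : specialLinear ι F ≤ M := by
  intro g hg
  rw [mem_specialLinear_iff] at hg
  have hgs : g = Matrix.SpecialLinearGroup.toGL (⟨(g : Matrix ι ι F), hg⟩ : Matrix.SpecialLinearGroup ι F) :=
    Units.ext rfl
  rw [hgs]
  refine Matrix.SpecialLinearGroup.diagonal_transvection_induction'
    (fun A => Matrix.SpecialLinearGroup.toGL A ∈ M) _ ?_ ?_ ?_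
  · intro i j hij c hc
    show Matrix.SpecialLinearGroup.toGL (Matrix.SpecialLinearGroup.diag2n hij c hc) ∈ M
    rw [toGL_diag2n]
    exact M.mul_mem (M.mul_mem (M.mul_mem (helem _ _ _ _) (helem _ _ _ _)) (helem _ _ _ _))
      (M.mul_mem (M.mul_mem (helem _ _ _ _) (helem _ _ _ _)) (helem _ _ _ _))
  · intro i j hij a
    show Matrix.SpecialLinearGroup.toGL (Matrix.SpecialLinearGroup.transvection hij a) ∈ M
    rw [toGL_transvection]
    exact helem _ _ _ _
  · intro A B hA hB
    show Matrix.SpecialLinearGroup.toGL (A * B) ∈ M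
    rw [map_mul]
    exact M.mul_mem hA hB

lemma elemTv_val_apply (i j : ι) (hij : i ≠ j) (b : F) (a c : ι) :
    ((elemTv i j hij b : GL ι F) : Matrix ι ι F) a c =
      (1 : Matrix ι ι F) a c + (Pi.single i b : ι → F) a * (Pi.single j (1 : F) : ι → F) c := by
  unfold elemTv
  rw [tv_val]
  unfold Helper93.tvMat
  rw [Matrix.add_apply, Matrix.vecMulVec_apply]

/-- transport of maximality along conjugation -/
lemma isMaximalIn_map_conj {G : Type*} [Group G] (P : G) {K H : Subgroup G}
    (h : IsMaximalIn K H) :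
    IsMaximalIn (K.map (MulAut.conj P).toMonoidHom) (H.map (MulAut.conj P).toMonoidHom) := by
  have hinj : Function.Injective (MulAut.conj P).toMonoidHom := (MulAut.conj P).injective
  have hsurj : Function.Surjective (MulAut.conj P).toMonoidHom := (MulAut.conj P).surjective
  obtain ⟨hlt, hmax⟩ := h
  refine ⟨(Subgroup.map_lt_map_iff_of_injective hinj).2 hlt, fun M' h1 h2 => ?_⟩
  have hM1 : H ≤ M'.comap (MulAut.conj P).toMonoidHom := Subgroup.map_le_iff_le_comap.1 h1
  have hM2 : M'.comap (MulAut.conj P).toMonoidHom ≤ K := by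
    have := Subgroup.comap_mono (f := (MulAut.conj P).toMonoidHom) h2
    rwa [Subgroup.comap_map_eq_self_of_injective hinj] at this
  rcases hmax _ hM1 hM2 with h | h
  · left
    rw [← h, Subgroup.map_comap_eq_self_of_surjective hsurj]
  · right
    rw [← h, Subgroup.map_comap_eq_self_of_surjective hsurj]

section Main

variable [Fintype F]

/-- the standard subfield subgroup is maximal in `SL` -/
theorem NS_isMaximalIn (F₀ : Subfield F) (hcard : 5 ≤ Fintype.card ι) (r : ℕ) (hr : r.Prime)
    (hF : Fintype.card F = Nat.card F₀ ^ r) :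
    IsMaximalIn (specialLinear ι F) (NGrp F₀ ⊓ specialLinear ι F) := by
  classical
  haveI : Nontrivial ι := by
    rw [← Fintype.one_lt_card_iff_nontrivial]; omega
  obtain ⟨o⟩ : Nonempty ι := by
    rw [← Fintype.card_pos_iff]; omega
  obtain ⟨o', ho'o, _⟩ := exists_ne_ne hcard o o
  have hoo : o ≠ o' := Ne.symm ho'o
  refine ⟨lt_of_le_of_ne inf_le_right ?_, fun M hNM hMS => ?_⟩
  · -- proper
    intro heq
    haveI : Fintype F₀ := Fintype.ofFinite _
    obtain ⟨c, hc⟩ : ∃ c : F, c ∉ F₀ := by
      by_contra hno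
      push Not at hno
      have h1 : Fintype.card F₀ = Fintype.card F :=
        Fintype.card_congr ⟨fun x => x.1, fun x => ⟨x, hno x⟩, fun _ => rfl, fun _ => rfl⟩
      rw [Nat.card_eq_fintype_card, h1] at hF
      have h2 : 2 ≤ Fintype.card F := Fintype.one_lt_card
      have h3 : Fintype.card F ^ 1 = Fintype.card F ^ r := by rw [pow_one]; exact hF
      have := Nat.pow_right_injective h2 h3
      exact hr.one_lt.ne this
    have h1 : elemTv o o' hoo c ∈ NGrp F₀ ⊓ specialLinear ι F := by
      rw [heq]; exact elemTv_mem_specialLinear o o' hoo c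
    have h2 : ((elemTv o o' hoo c : GL ι F) : Matrix ι ι F) o o = 1 := by
      rw [elemTv_val_apply, Matrix.one_apply_eq, Pi.single_eq_same, Pi.single_eq_of_ne hoo, mul_zero,
        add_zero]
    have h3 := ratMat_of_mem_NGrp_of_col h1.1 o h2 o o'
    rw [elemTv_val_apply, Matrix.one_apply_ne hoo, Pi.single_eq_same, Pi.single_eq_same, mul_one,
      zero_add] at h3
    exact hc h3
  · rcases paramField_dichotomy M hNM hcard o o' hoo r hr hF with h | h
    · left
      have hM : SmallOver F₀ M :=
        ⟨hNM, hMS, fun i j hij c hc => h c (all_pairs M hNM hcard hij hc o o' hoo), hcard⟩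
      apply le_antisymm _ hNM
      intro g hg
      refine ⟨?_, hMS hg⟩
      by_cases hgen : ∀ φ₀ : ι → F, RatVec F₀ φ₀ → φ₀ ≠ 0 →
          φ₀ ⬝ᵥ ((g : Matrix ι ι F) *ᵥ Pi.single o 1) ≠ 0
      · exact (case2_false hM o g hg hgen r hr hF).elim
      · push Not at hgen
        obtain ⟨φ₀, hφ₀, hφ0, hy⟩ := hgen
        exact mem_N_of_on_hyperplane hM o g hg φ₀ hφ₀ hφ0 hy
    · right
      apply le_antisymm hMS
      apply specialLinear_le_of_elemTv_mem
      intro i j hij b
      exact all_pairs M hNM hcard hoo (h b) i j hij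

/-- the subfield subgroups of `Cfsg.Geo` are maximal in `SL` -/
theorem subfieldSubgroup_isMaximalIn (F₀ : Subfield F) (hcard : 5 ≤ Fintype.card ι) (r : ℕ)
    (hr : r.Prime) (hF : Fintype.card F = Nat.card F₀ ^ r) (P : GL ι F) :
    IsMaximalIn (specialLinear ι F) (subfieldSubgroup F₀ P ⊓ specialLinear ι F) := by
  have h := isMaximalIn_map_conj P (NS_isMaximalIn (ι := ι) F₀ hcard r hr hF)
  have hinj : Function.Injective (MulAut.conj P).toMonoidHom := (MulAut.conj P).injective
  have hSL : (specialLinear ι F).map (MulAut.conj P).toMonoidHom = specialLinear ι F := by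
    ext x
    constructor
    · rintro ⟨y, hy, rfl⟩
      show (MulAut.conj P) y ∈ specialLinear ι F
      rw [MulAut.conj_apply]
      have hy' : Matrix.GeneralLinearGroup.det y = 1 := hy
      show Matrix.GeneralLinearGroup.det (P * y * P⁻¹) = 1
      rw [map_mul, map_mul, hy', mul_one, ← map_mul, mul_inv_cancel, map_one]
    · intro hx
      refine ⟨P⁻¹ * x * P, ?_, ?_⟩
      · have hx' : Matrix.GeneralLinearGroup.det x = 1 := hx
        show Matrix.GeneralLinearGroup.det (P⁻¹ * x * P) = 1
        rw [map_mul, map_mul, hx', mul_one, ← map_mul, inv_mul_cancel, map_one]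
      · show (MulAut.conj P) (P⁻¹ * x * P) = x
        rw [MulAut.conj_apply]
        group
  rw [Subgroup.map_inf _ _ _ hinj, hSL] at h
  exact h

end Main

end Cfsg.Agent.Lib.Helper44.SubF
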