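import Cfsg.Agent.Lib.Helper91.TwOut.Defs
import Cfsg.Agent.Lib.Helper44.TwOutOppN

set_option autoImplicit false

/-!
# TWOUT-[A-OPP] (helper44, for helper91): an automorphism fixing `U` maps `V` to a `U`-conjugate of `V`.
-/

namespace Cfsg.Agent.Lib.Helper44.TwOut

open Cfsg Cfsg.Agent.Lib.Helper91.TwOut

variable {Γ : Type*} [Group Γ] {ι : Type*} {p : ℕ}

/-- [A-OPP] -/
theorem exists_conj_V [Finite Γ] [Fact p.Prime] (S : SplitBN Γ ι p) (θ : Γ ≃* Γ)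
    (hU : S.U.map θ.toMonoidHom = S.U) :
    ∃ u ∈ S.U, S.V.map θ.toMonoidHom = S.V.map (MulAut.conj u).toMonoidHom := by
  obtain ⟨u₀, hu₀, n, hn, u, hu, hform⟩ := S.form (θ S.n₀)
  have huU : u ∈ S.U := S.Um_le n hu
  have hθU : ∀ w, w ∈ S.U → θ w ∈ S.U := by
    intro w hw
    have : θ w ∈ S.U.map θ.toMonoidHom := ⟨w, hw, rfl⟩
    rwa [hU] at this
  have hθU' : ∀ y, y ∈ S.U → ∃ w ∈ S.U, θ w = y := by
    intro y hy
    rw [← hU] at hy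
    obtain ⟨w, hw, rfl⟩ := hy
    exact ⟨w, hw, rfl⟩
  -- Claim A: `θ V = g U g⁻¹`, `g = θ n₀`
  have hA : ∀ x, x ∈ S.V.map θ.toMonoidHom ↔ (θ S.n₀)⁻¹ * x * θ S.n₀ ∈ S.U := by
    intro x
    constructor
    · rintro ⟨v, hv, rfl⟩
      have h1 := hθU _ ((S.V_eq v).mp hv)
      rw [map_mul, map_mul, map_inv] at h1
      exact h1
    · intro hx
      obtain ⟨w, hw, hwx⟩ := hθU' _ hx
      refine ⟨S.n₀ * w * S.n₀⁻¹, ?_, ?_⟩
      · refine (S.V_eq _).mpr ?_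
        have e : S.n₀⁻¹ * (S.n₀ * w * S.n₀⁻¹) * S.n₀ = w := by group
        rw [e]
        exact hw
      · show θ (S.n₀ * w * S.n₀⁻¹) = x
        rw [map_mul, map_mul, map_inv, hwx]
        group
  -- Claim B: `g U g⁻¹ = u₀ (n U n⁻¹) u₀⁻¹`
  have hB : ∀ x, x ∈ S.V.map θ.toMonoidHom ↔
      u₀⁻¹ * x * u₀ ∈ S.U.map (MulAut.conj n).toMonoidHom := by
    intro x
    rw [hA, mem_map_conj, hform]
    have e : (u₀ * n * u)⁻¹ * x * (u₀ * n * u) = u⁻¹ * (n⁻¹ * (u₀⁻¹ * x * u₀) * n) * u := by group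
    rw [e]
    constructor
    · intro hx
      have := mul_mem (mul_mem huU hx) (inv_mem huU)
      have e2 : u * (u⁻¹ * (n⁻¹ * (u₀⁻¹ * x * u₀) * n) * u) * u⁻¹ = n⁻¹ * (u₀⁻¹ * x * u₀) * n := by
        group
      rwa [e2] at this
    · intro hx
      exact mul_mem (mul_mem (inv_mem huU) hx) huU
  -- Claim C: `U ⊓ n U n⁻¹ = ⊥`
  have hC : S.U ⊓ S.U.map (MulAut.conj n).toMonoidHom = ⊥ := by
    rw [eq_bot_iff]
    intro y hy
    obtain ⟨hy1, hy2⟩ := Subgroup.mem_inf.mp hy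
    have h1 : u₀ * y * u₀⁻¹ ∈ S.U := mul_mem (mul_mem hu₀ hy1) (inv_mem hu₀)
    have h2 : u₀ * y * u₀⁻¹ ∈ S.V.map θ.toMonoidHom := by
      rw [hB]
      have e : u₀⁻¹ * (u₀ * y * u₀⁻¹) * u₀ = y := by group
      rw [e]
      exact hy2
    obtain ⟨a, ha, hax⟩ := hθU' _ h1
    obtain ⟨b, hb, hbx⟩ := h2
    have hab : a = b := θ.injective (hax.trans hbx.symm)
    have hb1 : b ∈ S.V ⊓ S.P.B := Subgroup.mem_inf.mpr ⟨hb, S.U_le (hab ▸ ha)⟩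
    rw [S.V_inf_B, Subgroup.mem_bot] at hb1
    have h3 : u₀ * y * u₀⁻¹ = 1 := by
      rw [← hbx, hb1]
      exact map_one _
    have e : y = u₀⁻¹ * (u₀ * y * u₀⁻¹) * u₀ := by group
    rw [Subgroup.mem_bot, e, h3]
    group
  have hV := map_conj_eq_V S n hn hC
  refine ⟨u₀, hu₀, ?_⟩
  ext x
  rw [hB, hV, mem_map_conj]

end Cfsg.Agent.Lib.Helper44.TwOut
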