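import Mathlib
import Cfsg.Agent.Lib.Helper44.UPair2

set_option autoImplicit false
set_option linter.unusedSimpArgs false
set_option linter.unusedVariables false

/-!
# Overgroups of the stabiliser of a pair of complementary totally isotropic subspaces in `SU`

From a conjugate `sgU a b` of a Levi element whose line `⟨a, b⟩` is in general position we obtain,
in a subgroup `M` containing the Levi elements, all unitary transvections along some nonzero vector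
of `U`, hence along all of `U`.
-/

namespace Cfsg.Agent.Lib.Helper44

open Matrix Module Cfsg.Agent.S0837 Cfsg.Agent.S0781 Cfsg.Agent.S2644 Cfsg.Agent.Lib.Helper37
open Cfsg.Agent.Lib.Helper13 (hPhi hPhi_apply range_hPhi hf_left_eq_zero UX ux_map ux_smul ux_tv)

section upair
variable {F : Type*} [Field F] {σ : F →+* F} {n : ℕ} {U U' : Submodule F (Fin n → F)}

namespace UIPair

/-- Levi elements stabilise both subspaces -/
theorem levi_maps (hp : UIPair σ U U') (hσ2 : ∀ a, σ (σ a) = a) {a b : Fin n → F} (ha : a ∈ U)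
    (hb : b ∈ U') (hba : hf σ b a = 0) :
    (∀ z ∈ U, (sgU σ hσ2 a b).1 *ᵥ z ∈ U) ∧ (∀ z ∈ U', (sgU σ hσ2 a b).1 *ᵥ z ∈ U') := by
  have haa := hp.tiU a ha a ha
  have hbb := hp.tiU' b hb b hb
  constructor
  · intro z hz
    rw [sgU_mulVec σ hσ2 haa hbb hba, hp.tiU z hz a ha, zero_smul, add_zero]
    exact U.sub_mem hz (U.smul_mem _ ha)
  · intro z hz
    rw [sgU_mulVec σ hσ2 haa hbb hba, hp.tiU' z hz b hb, zero_smul, sub_zero]
    exact U'.add_mem hz (U'.smul_mem _ hb)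

/-- every vector of `U` is a transvection centre of `M` as soon as a nonzero one is -/
theorem ux_of_U (hp : UIPair σ U U') (hσ2 : ∀ a, σ (σ a) = a) (M : Subgroup (GL (Fin n) F))
    (hMU : M ≤ UG σ n)
    (hlevi : ∀ a ∈ U, ∀ b ∈ U', hf σ b a = 0 → sgU σ hσ2 a b ∈ M)
    (u : Fin n → F) (huU : u ∈ U) (hu0 : u ≠ 0) (hu : u ∈ UX σ M) (x : Fin n → F) (hxU : x ∈ U) :
    x ∈ UX σ M := by
  by_cases hc : ∃ c : F, x = c • u
  · obtain ⟨c, rfl⟩ := hc
    exact ux_smul σ hσ2 hu c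
  · push Not at hc
    have hli : LinearIndependent F ![u, x] := by
      rw [LinearIndependent.pair_iff' hu0]
      intro a ha
      exact hc a ha.symm
    obtain ⟨y', hy'U, hy'⟩ := hp.exists_dual_in hσ2 ![u, x]
      (by intro i; fin_cases i <;> simp [huU, hxU]) hli (fun _ => 1)
    have h1 : hf σ y' u = 1 := hy' 0
    have h2 : hf σ y' x = 1 := hy' 1
    have h1' : hf σ u y' = 1 := by rw [hf_symm σ hσ2, h1, map_one]
    have hxu : hf σ (-y') (x - u) = 0 := by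
      rw [hf_neg_left, hf_sub_right, h2, h1, sub_self, neg_zero]
    have hg := hlevi (x - u) (U.sub_mem hxU huU) (-y') (U'.neg_mem hy'U) hxu
    have h3 := ux_map σ _ hg (hMU hg) hu
    have e : (sgU σ hσ2 (x - u) (-y')).1 *ᵥ u = x := by
      rw [sgU_mulVec σ hσ2 (hp.tiU _ (U.sub_mem hxU huU) _ (U.sub_mem hxU huU))
        (hp.tiU' _ (U'.neg_mem hy'U) _ (U'.neg_mem hy'U)) hxu,
        hp.tiU u huU _ (U.sub_mem hxU huU), hf_neg_right' σ hσ2, h1']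
      simp
    rwa [e] at h3

/-- from a short root element `sgU a b` whose line is in general position to a transvection
centre in `U` -/
theorem ux_of_line (hp : UIPair σ U U') (hσ : σ ≠ RingHom.id F) (hσ2 : ∀ a, σ (σ a) = a)
    (h5 : 5 ≤ finrank F U) (M : Subgroup (GL (Fin n) F))
    (hlevi : ∀ a ∈ U, ∀ b ∈ U', hf σ b a = 0 → sgU σ hσ2 a b ∈ M)
    (a b : Fin n → F) (ha : hf σ a a = 0) (hb : hf σ b b = 0) (hba : hf σ b a = 0)
    (hE : sgU σ hσ2 a b ∈ M)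
    (hli : LinearIndependent F ![U.projection U' hp.compl a, U.projection U' hp.compl b]) :
    ∃ u ∈ U, u ≠ 0 ∧ u ∈ UX σ M := by
  obtain ⟨a₁, ha₁⟩ : ∃ a₁, a₁ = U.projection U' hp.compl a := ⟨_, rfl⟩
  obtain ⟨a₂, ha₂⟩ : ∃ a₂, a₂ = U'.projection U hp.compl.symm a := ⟨_, rfl⟩
  obtain ⟨b₁, hb₁⟩ : ∃ b₁, b₁ = U.projection U' hp.compl b := ⟨_, rfl⟩
  obtain ⟨b₂, hb₂⟩ : ∃ b₂, b₂ = U'.projection U hp.compl.symm b := ⟨_, rfl⟩
  rw [← ha₁, ← hb₁] at hli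
  have ha₁U : a₁ ∈ U := by rw [ha₁]; exact Submodule.projection_apply_mem _ _
  have hb₁U : b₁ ∈ U := by rw [hb₁]; exact Submodule.projection_apply_mem _ _
  have ha₂U : a₂ ∈ U' := by rw [ha₂]; exact Submodule.projection_apply_mem _ _
  have hb₂U : b₂ ∈ U' := by rw [hb₂]; exact Submodule.projection_apply_mem _ _
  have hasum : a₁ + a₂ = a := by
    rw [ha₁, ha₂]; exact Submodule.projection_add_projection_eq_self hp.compl a
  have hbsum : b₁ + b₂ = b := by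
    rw [hb₁, hb₂]; exact Submodule.projection_add_projection_eq_self hp.compl b
  have hfr : finrank F ↥(Submodule.span F (Set.range ![a₁, b₁])) ≤ 2 := by
    have := finrank_range_le_card (R := F) ![a₁, b₁]
    simpa [Set.finrank] using this
  obtain ⟨u, huU, hua₂, hub₂, huS⟩ := hp.exists_perp_not_mem h5 a₂ b₂ _ hfr
  have hli3 : LinearIndependent F ![u, a₁, b₁] :=
    (linearIndependent_finCons (v := ![a₁, b₁]) (x := u)).2 ⟨hli, huS⟩
  have hu0 : u ≠ 0 := hli3.ne_zero 0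
  obtain ⟨u', hu'U, hu'⟩ := hp.exists_dual_in hσ2 ![u, a₁, b₁]
    (by intro i; fin_cases i <;> simp [huU, ha₁U, hb₁U]) hli3 ![0, 0, 1]
  have hu'u : hf σ u' u = 0 := hu' 0
  have hu'a₁ : hf σ u' a₁ = 0 := hu' 1
  have hu'b₁ : hf σ u' b₁ = 1 := hu' 2
  have huu : hf σ u u = 0 := hp.tiU u huU u huU
  have hu'u' : hf σ u' u' = 0 := hp.tiU' u' hu'U u' hu'U
  have hua₁ : hf σ u a₁ = 0 := hp.tiU u huU a₁ ha₁U
  have ha₁u : hf σ a₁ u = 0 := hp.tiU a₁ ha₁U u huU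
  have ha₁a₁ : hf σ a₁ a₁ = 0 := hp.tiU a₁ ha₁U a₁ ha₁U
  have ha₂a₂ : hf σ a₂ a₂ = 0 := hp.tiU' a₂ ha₂U a₂ ha₂U
  have ha₂u : hf σ a₂ u = 0 := hf_eq_zero_symm σ hσ2 hua₂
  have hua : hf σ u a = 0 := by rw [← hasum, hf_add_right, hua₁, hua₂, add_zero]
  have hub : hf σ u b = 0 := by
    rw [← hbsum, hf_add_right, hp.tiU u huU b₁ hb₁U, hub₂, add_zero]
  have hau : hf σ a u = 0 := hf_eq_zero_symm σ hσ2 hua
  have hu'a : hf σ u' a = 0 := by
    rw [← hasum, hf_add_right, hu'a₁, hp.tiU' u' hu'U a₂ ha₂U, add_zero]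
  have hu'b : hf σ u' b = 1 := by
    rw [← hbsum, hf_add_right, hu'b₁, hp.tiU' u' hu'U b₂ hb₂U, add_zero]
  have hau' : hf σ a u' = 0 := hf_eq_zero_symm σ hσ2 hu'a
  have huu' : hf σ u u' = 0 := hf_eq_zero_symm σ hσ2 hu'u
  -- step 1: `sgU u (-a) ∈ M`
  have hY : sgU σ hσ2 u u' ∈ M := hlevi u huU u' hu'U hu'u
  have hXu : (sgU σ hσ2 a b).1 *ᵥ u = u := by
    rw [sgU_mulVec σ hσ2 ha hb hba, hua, hub]; simp
  have hXu' : (sgU σ hσ2 a b).1 *ᵥ u' = u' - a := by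
    rw [sgU_mulVec σ hσ2 ha hb hba, hu'a, hu'b]; simp
  have hconj := conj_sgU σ hσ2 (sgU_mem_UG σ hσ2 a b) huu hu'u' hu'u
  rw [hXu, hXu'] at hconj
  have c1 : hf σ (u' - a) (u' - a) = 0 := by
    rw [hf_sub_left, hf_sub_right, hf_sub_right, hu'u', hu'a, hau', ha]; ring
  have c2 : hf σ (u' - a) u = 0 := by rw [hf_sub_left, hu'u, hau, sub_zero]
  have c3 : hf σ (-a) (-a) = 0 := by rw [hf_neg_left, hf_neg_right' σ hσ2, ha]; ring
  have c4 : hf σ (-a) u = 0 := by rw [hf_neg_left, hau, neg_zero]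
  have hsplit : sgU σ hσ2 u (u' - a) = sgU σ hσ2 u u' * sgU σ hσ2 u (-a) := by
    apply gl_ext
    intro z
    rw [gl_mul_mulVec, sgU_mulVec σ hσ2 huu c1 c2, sgU_mulVec σ hσ2 huu hu'u' hu'u,
      sgU_mulVec σ hσ2 huu c3 c4]
    simp only [hf_add_left, hf_sub_left, hf_smul_left, hf_neg_left, hf_sub_right,
      hf_neg_right' σ hσ2, huu, hau, hau', huu', mul_zero, add_zero, sub_zero, neg_zero]
    module
  have hW : sgU σ hσ2 u (-a) ∈ M := by
    have : sgU σ hσ2 u (-a) = (sgU σ hσ2 u u')⁻¹ *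
        (sgU σ hσ2 a b * sgU σ hσ2 u u' * (sgU σ hσ2 a b)⁻¹) := by
      rw [hconj, hsplit]; group
    rw [this]
    exact M.mul_mem (M.inv_mem hY) (M.mul_mem (M.mul_mem hE hY) (M.inv_mem hE))
  -- step 2: split off the Levi part
  have c5 : hf σ (-a₂) (-a₂) = 0 := by rw [hf_neg_left, hf_neg_right' σ hσ2, ha₂a₂]; ring
  have c6 : hf σ (-a₂) u = 0 := by rw [hf_neg_left, ha₂u, neg_zero]
  have c7 : hf σ (-a₁) (-a₁) = 0 := by rw [hf_neg_left, hf_neg_right' σ hσ2, ha₁a₁]; ring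
  have c8 : hf σ (-a₁) u = 0 := by rw [hf_neg_left, ha₁u, neg_zero]
  have hL2 : sgU σ hσ2 u (-a₂) ∈ M := hlevi u huU (-a₂) (U'.neg_mem ha₂U) c6
  have hI1 : sgU σ hσ2 u (-a₁) * sgU σ hσ2 u (-a₂) =
      tvU σ u (-(hf σ a₂ a₁)) * sgU σ hσ2 u (-a) := by
    apply gl_ext
    intro z
    rw [gl_mul_mulVec, gl_mul_mulVec, sgU_mulVec σ hσ2 huu c7 c8, sgU_mulVec σ hσ2 huu c5 c6,
      sgU_mulVec σ hσ2 huu c3 c4, tvU_mulVec σ huu, ← hasum]
    simp only [hf_add_left, hf_sub_left, hf_smul_left, hf_neg_left, hf_sub_right, hf_add_right,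
      hf_neg_right' σ hσ2, huu, ha₂u, ha₁u, hua₁, hua₂, mul_zero, add_zero, sub_zero, neg_zero,
      zero_add]
    module
  have hR' : sgU σ hσ2 u (-a) * (sgU σ hσ2 u (-a₂))⁻¹ =
      (tvU σ u (-(hf σ a₂ a₁)))⁻¹ * sgU σ hσ2 u (-a₁) := by
    have : sgU σ hσ2 u (-a₁) =
        tvU σ u (-(hf σ a₂ a₁)) * sgU σ hσ2 u (-a) * (sgU σ hσ2 u (-a₂))⁻¹ := by
      rw [← hI1]; group
    rw [this]; group
  have hR'M : (tvU σ u (-(hf σ a₂ a₁)))⁻¹ * sgU σ hσ2 u (-a₁) ∈ M := by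
    rw [← hR']
    exact M.mul_mem hW (M.inv_mem hL2)
  -- step 3: conjugate by a Levi element fixing `u` and moving `a₁` to `a₁ + e u`
  have hli2 : LinearIndependent F ![u, a₁] := by
    rw [LinearIndependent.pair_iff]
    intro s t hst
    have := Fintype.linearIndependent_iff.1 hli3 ![s, t, 0]
      (by rw [Fin.sum_univ_three]; simpa using hst)
    exact ⟨this 0, this 1⟩
  have key : ∀ e : F, tvU σ u (σ e - e) ∈ M := by
    intro e
    obtain ⟨x', hx'U, hx'⟩ := hp.exists_dual_in hσ2 ![u, a₁]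
      (by intro i; fin_cases i <;> simp [huU, ha₁U]) hli2 ![0, -σ e]
    have hx'u : hf σ x' u = 0 := hx' 0
    have hx'a₁ : hf σ x' a₁ = -σ e := hx' 1
    have hux' : hf σ u x' = 0 := hf_eq_zero_symm σ hσ2 hx'u
    have ha₁x' : hf σ a₁ x' = -e := by rw [hf_symm σ hσ2, hx'a₁, map_neg, hσ2]
    have hx'x' : hf σ x' x' = 0 := hp.tiU' x' hx'U x' hx'U
    have hL : sgU σ hσ2 u x' ∈ M := hlevi u huU x' hx'U hx'u
    have hLU : sgU σ hσ2 u x' ∈ UG σ n := sgU_mem_UG σ hσ2 u x'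
    have hLu : (sgU σ hσ2 u x').1 *ᵥ u = u := by
      rw [sgU_mulVec σ hσ2 huu hx'x' hx'u, huu, hux']; simp
    have hLa₁ : (sgU σ hσ2 u x').1 *ᵥ (-a₁) = -a₁ - e • u := by
      rw [sgU_mulVec σ hσ2 huu hx'x' hx'u, hf_neg_left, hf_neg_left, ha₁u, ha₁x']; simp
    have c9 : hf σ (-a₁ - e • u) (-a₁ - e • u) = 0 := by
      rw [hf_sub_left, hf_sub_right, hf_sub_right, hf_neg_left, hf_neg_left, hf_smul_left,
        hf_smul_left, hf_neg_right' σ hσ2, hf_neg_right' σ hσ2, hf_smul_right, hf_smul_right,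
        ha₁a₁, ha₁u, hua₁, huu]
      ring
    have c10 : hf σ (-a₁ - e • u) u = 0 := by
      rw [hf_sub_left, hf_neg_left, hf_smul_left, ha₁u, huu]; ring
    have hI2 : sgU σ hσ2 u x' * sgU σ hσ2 u (-a₁) * (sgU σ hσ2 u x')⁻¹ =
        tvU σ u (σ e - e) * sgU σ hσ2 u (-a₁) := by
      rw [conj_sgU σ hσ2 hLU huu c7 c8, hLu, hLa₁]
      apply gl_ext
      intro z
      rw [gl_mul_mulVec, sgU_mulVec σ hσ2 huu c9 c10, sgU_mulVec σ hσ2 huu c7 c8,
        tvU_mulVec σ huu]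
      simp only [hf_add_left, hf_sub_left, hf_smul_left, hf_neg_left, hf_sub_right, hf_add_right,
        hf_neg_right' σ hσ2, hf_smul_right, huu, ha₁u, hua₁, mul_zero, add_zero, sub_zero,
        neg_zero, zero_add]
      module
    have hI3 : sgU σ hσ2 u x' * tvU σ u (-(hf σ a₂ a₁)) * (sgU σ hσ2 u x')⁻¹ =
        tvU σ u (-(hf σ a₂ a₁)) := by
      rw [conj_tvU σ hLU huu, hLu]
    have hcomm : tvU σ u (σ e - e) * tvU σ u (-(hf σ a₂ a₁)) =
        tvU σ u (-(hf σ a₂ a₁)) * tvU σ u (σ e - e) := by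
      rw [tvU_mul_tvU σ huu, tvU_mul_tvU σ huu, add_comm]
    have e1 : sgU σ hσ2 u x' * ((tvU σ u (-(hf σ a₂ a₁)))⁻¹ * sgU σ hσ2 u (-a₁)) *
        (sgU σ hσ2 u x')⁻¹ =
        (tvU σ u (-(hf σ a₂ a₁)))⁻¹ * (tvU σ u (σ e - e) * sgU σ hσ2 u (-a₁)) := by
      rw [← hI2]
      nth_rewrite 2 [← hI3]
      group
    have e2 : tvU σ u (σ e - e) = sgU σ hσ2 u x' *
        ((tvU σ u (-(hf σ a₂ a₁)))⁻¹ * sgU σ hσ2 u (-a₁)) * (sgU σ hσ2 u x')⁻¹ *
        ((tvU σ u (-(hf σ a₂ a₁)))⁻¹ * sgU σ hσ2 u (-a₁))⁻¹ := by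
      rw [e1]
      have : (tvU σ u (-(hf σ a₂ a₁)))⁻¹ * (tvU σ u (σ e - e) * sgU σ hσ2 u (-a₁)) *
          ((tvU σ u (-(hf σ a₂ a₁)))⁻¹ * sgU σ hσ2 u (-a₁))⁻¹ =
          (tvU σ u (-(hf σ a₂ a₁)))⁻¹ * (tvU σ u (σ e - e) * tvU σ u (-(hf σ a₂ a₁))) := by
        group
      rw [this, hcomm]; group
    rw [e2]
    exact M.mul_mem (M.mul_mem (M.mul_mem hL hR'M) (M.inv_mem hL)) (M.inv_mem hR'M)
  refine ⟨u, huU, hu0, huu, fun c hc => ?_⟩
  obtain ⟨s, hs⟩ := trace_surj σ hσ hσ2 (-1) (by rw [map_neg, map_one])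
  have := key (c * s)
  have e : σ (c * s) - c * s = c := by
    have h1 : σ c = -c := by linear_combination hc
    rw [map_mul, h1]
    linear_combination (-c) * hs
  rw [e, tvU_eq σ huu] at this
  exact this

end UIPair

end upair

end Cfsg.Agent.Lib.Helper44
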