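import Mathlib
import Cfsg.Agent.Lib.Helper44.UPair3

set_option autoImplicit false
set_option linter.unusedSimpArgs false
set_option linter.unusedVariables false

/-!
# Swapping a pair of complementary totally isotropic subspaces inside `SU`; all isotropic vectors
-/

namespace Cfsg.Agent.Lib.Helper44

open Matrix Module Cfsg.Agent.S0837 Cfsg.Agent.S0781 Cfsg.Agent.S2644 Cfsg.Agent.Lib.Helper37
open Cfsg.Agent.Lib.Helper13 (hPhi hPhi_apply range_hPhi hf_left_eq_zero UX ux_map ux_smul ux_tv)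

section upair
variable {F : Type*} [Field F] {σ : F →+* F} {n : ℕ} {U U' : Submodule F (Fin n → F)}

theorem tvU_det (u : Fin n → F) (c : F) : (tvU σ u c).1.det = 1 := by
  unfold tvU
  split_ifs with h
  · show (tv σ u c).det = 1
    rw [tv_det, h, mul_zero, add_zero]
  · rw [Units.val_one, det_one]

/-- the Weyl element of a hyperbolic pair -/
theorem u_weyl (hσ2 : ∀ a, σ (σ a) = a) (e f : Fin n → F) (he : hf σ e e = 0)
    (hf' : hf σ f f = 0) (hfe : hf σ f e = 1) (ε : F) (hε0 : ε ≠ 0) (hε : ε + σ ε = 0) :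
    ∃ w : GL (Fin n) F, w ∈ UG σ n ∧ w.1.det = 1 ∧ w.1 *ᵥ e = (-ε⁻¹) • f ∧ w.1 *ᵥ f = ε • e ∧
      ∀ z, hf σ z e = 0 → hf σ z f = 0 → w.1 *ᵥ z = z := by
  have hef : hf σ e f = 1 := by rw [hf_symm σ hσ2, hfe, map_one]
  have hε' : -ε⁻¹ + σ (-ε⁻¹) = 0 := by
    have h1 : σ ε = -ε := by linear_combination hε
    rw [map_neg, map_inv₀, h1]
    field_simp
    ring
  have Tee : (tvU σ e ε).1 *ᵥ e = e := by
    rw [tvU_mulVec σ he, he, mul_zero, zero_smul, add_zero]
  have Tef : (tvU σ e ε).1 *ᵥ f = f + ε • e := by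
    rw [tvU_mulVec σ he, hfe, mul_one]
  have Tfe : (tvU σ f (-ε⁻¹)).1 *ᵥ e = e + (-ε⁻¹) • f := by
    rw [tvU_mulVec σ hf', hef, mul_one]
  have Tff : (tvU σ f (-ε⁻¹)).1 *ᵥ f = f := by
    rw [tvU_mulVec σ hf', hf', mul_zero, zero_smul, add_zero]
  have hmul : -ε⁻¹ * ε = -1 := by field_simp
  refine ⟨tvU σ e ε * tvU σ f (-ε⁻¹) * tvU σ e ε,
    (UG σ n).mul_mem ((UG σ n).mul_mem (tvU_mem_UG σ hσ2 he hε) (tvU_mem_UG σ hσ2 hf' hε'))
      (tvU_mem_UG σ hσ2 he hε), ?_, ?_, ?_, ?_⟩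
  · rw [Units.val_mul, Units.val_mul, det_mul, det_mul, tvU_det, tvU_det, mul_one, mul_one]
  · rw [gl_mul_mulVec, gl_mul_mulVec, Tee, Tfe, mulVec_add, mulVec_smul, Tee, Tef, smul_add,
      smul_smul, hmul]
    module
  · rw [gl_mul_mulVec, gl_mul_mulVec, Tef, mulVec_add, mulVec_smul, Tff, Tfe, mulVec_add,
      mulVec_smul, mulVec_add, mulVec_smul, Tef, Tee, smul_add, smul_add, smul_smul, hmul,
      smul_add, smul_smul, mul_comm ε (-ε⁻¹), hmul]
    module
  · intro z hze hzf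
    have Tez : (tvU σ e ε).1 *ᵥ z = z := by
      rw [tvU_mulVec σ he, hze, mul_zero, zero_smul, add_zero]
    have Tfz : (tvU σ f (-ε⁻¹)).1 *ᵥ z = z := by
      rw [tvU_mulVec σ hf', hzf, mul_zero, zero_smul, add_zero]
    rw [gl_mul_mulVec, gl_mul_mulVec, Tez, Tfz, Tez]

namespace UIPair

/-- a complementary pair of totally isotropic subspaces is swapped by an element of `SU` -/
theorem exists_swap (hp : UIPair σ U U') (hσ : σ ≠ RingHom.id F) (hσ2 : ∀ a, σ (σ a) = a)
    (hfr : finrank F U = finrank F U') :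
    ∃ s : GL (Fin n) F, s ∈ UG σ n ∧ s.1.det = 1 ∧ (∀ u ∈ U, s.1 *ᵥ u ∈ U') ∧
      (∀ u ∈ U', s.1 *ᵥ u ∈ U) := by
  classical
  obtain ⟨ε, hε0, hε⟩ := exists_trace_zero_ne σ hσ hσ2
  let b : Basis (Fin (finrank F U)) F U := finBasis F U
  set e : Fin (finrank F U) → (Fin n → F) := fun i => (b i : Fin n → F) with he
  have heU : ∀ i, e i ∈ U := fun i => (b i).2
  have hLI : LinearIndependent F e := b.linearIndependent.map' U.subtype (Submodule.ker_subtype U)
  have hspanU : Submodule.span F (Set.range e) = U := by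
    have h1 := congrArg (Submodule.map U.subtype) b.span_eq
    rw [Submodule.map_span, Submodule.map_subtype_top, ← Set.range_comp] at h1
    exact h1
  have hex : ∀ i, ∃ y ∈ U', ∀ j, hf σ y (e j) = if j = i then 1 else 0 :=
    fun i => hp.exists_dual_in hσ2 e heU hLI (fun j => if j = i then 1 else 0)
  choose f hfU hfe using hex
  have hfLI : LinearIndependent F f := by
    rw [Fintype.linearIndependent_iff]
    intro g hg i
    have h1 : hf σ (∑ j, g j • f j) (e i) = 0 := by rw [hg, hf_zero_left]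
    have h2 : ∀ (s : Finset (Fin (finrank F U))), hf σ (∑ j ∈ s, g j • f j) (e i) =
        ∑ j ∈ s, g j * hf σ (f j) (e i) := by
      intro s
      induction s using Finset.induction_on with
      | empty => simp [hf_zero_left]
      | insert a s ha ih => rw [Finset.sum_insert ha, Finset.sum_insert ha, hf_add_left, ih,
          hf_smul_left]
    rw [h2, Finset.sum_eq_single i] at h1
    · rw [hfe i i, if_pos rfl, mul_one] at h1
      exact h1
    · intro j _ hji
      rw [hfe j i, if_neg (Ne.symm hji), mul_zero]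
    · intro hi
      exact absurd (Finset.mem_univ i) hi
  have hspanU' : Submodule.span F (Set.range f) = U' := by
    apply Submodule.eq_of_le_of_finrank_eq
    · rw [Submodule.span_le]
      rintro _ ⟨i, rfl⟩
      exact hfU i
    · rw [finrank_span_eq_card hfLI, Fintype.card_fin, hfr]
  have key : ∀ S : Finset (Fin (finrank F U)), ∃ s : GL (Fin n) F, s ∈ UG σ n ∧ s.1.det = 1 ∧
      (∀ j ∈ S, s.1 *ᵥ (e j) ∈ U' ∧ s.1 *ᵥ (f j) ∈ U) ∧
      (∀ j ∉ S, s.1 *ᵥ (e j) = e j ∧ s.1 *ᵥ (f j) = f j) := by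
    intro S
    induction S using Finset.induction_on with
    | empty =>
      refine ⟨1, (UG σ n).one_mem, by rw [Units.val_one, det_one], ?_, ?_⟩
      · intro j hj
        exact absurd hj (Finset.notMem_empty j)
      · intro j _
        exact ⟨gl_one_mulVec _, gl_one_mulVec _⟩
    | insert a S haS ih =>
      obtain ⟨s, hsK, hsdet, hs1, hs2⟩ := ih
      have p1 : hf σ (f a) (e a) = 1 := by rw [hfe a a, if_pos rfl]
      obtain ⟨w, hwK, hwdet, w1, w2, w3⟩ := u_weyl hσ2 (e a) (f a) (hp.tiU _ (heU _) _ (heU _))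
        (hp.tiU' _ (hfU _) _ (hfU _)) p1 ε hε0 hε
      have hfix : ∀ j, j ≠ a → w.1 *ᵥ (e j) = e j ∧ w.1 *ᵥ (f j) = f j := by
        intro j hja
        refine ⟨w3 _ (hp.tiU _ (heU _) _ (heU _)) ?_, w3 _ ?_ (hp.tiU' _ (hfU _) _ (hfU _))⟩
        · apply hf_eq_zero_symm σ hσ2
          rw [hfe a j, if_neg hja]
        · rw [hfe j a, if_neg (Ne.symm hja)]
      refine ⟨s * w, (UG σ n).mul_mem hsK hwK, by
        rw [Units.val_mul, det_mul, hsdet, hwdet, mul_one], ?_, ?_⟩
      · intro j hj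
        rw [Finset.mem_insert] at hj
        by_cases hja : j = a
        · subst hja
          have hsj := hs2 j haS
          refine ⟨?_, ?_⟩
          · rw [gl_mul_mulVec, w1, mulVec_smul, hsj.2]
            exact U'.smul_mem _ (hfU _)
          · rw [gl_mul_mulVec, w2, mulVec_smul, hsj.1]
            exact U.smul_mem _ (heU _)
        · have hjS : j ∈ S := hj.resolve_left hja
          rw [gl_mul_mulVec, gl_mul_mulVec, (hfix j hja).1, (hfix j hja).2]
          exact hs1 j hjS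
      · intro j hj
        rw [Finset.mem_insert, not_or] at hj
        rw [gl_mul_mulVec, gl_mul_mulVec, (hfix j hj.1).1, (hfix j hj.1).2]
        exact hs2 j hj.2
  obtain ⟨s, hsK, hsdet, hs, -⟩ := key Finset.univ
  refine ⟨s, hsK, hsdet, ?_, ?_⟩
  · have h1 : Submodule.span F (Set.range e) ≤ U'.comap (Matrix.toLin' s.1) := by
      rw [Submodule.span_le]
      rintro _ ⟨i, rfl⟩
      show Matrix.toLin' s.1 (e i) ∈ U'
      rw [Matrix.toLin'_apply]
      exact (hs i (Finset.mem_univ _)).1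
    intro u hu
    rw [← hspanU] at hu
    have := h1 hu
    rwa [Submodule.mem_comap, Matrix.toLin'_apply] at this
  · have h1 : Submodule.span F (Set.range f) ≤ U.comap (Matrix.toLin' s.1) := by
      rw [Submodule.span_le]
      rintro _ ⟨i, rfl⟩
      show Matrix.toLin' s.1 (f i) ∈ U
      rw [Matrix.toLin'_apply]
      exact (hs i (Finset.mem_univ _)).2
    intro u hu
    rw [← hspanU'] at hu
    have := h1 hu
    rwa [Submodule.mem_comap, Matrix.toLin'_apply] at this

/-- if all vectors of `U` and of `U'` are transvection centres of `M`, then so are all isotropic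
vectors -/
theorem ux_all (hp : UIPair σ U U') (hσ : σ ≠ RingHom.id F) (hσ2 : ∀ a, σ (σ a) = a)
    (M : Subgroup (GL (Fin n) F)) (hMU : M ≤ UG σ n)
    (hU : ∀ x ∈ U, x ∈ UX σ M) (hU' : ∀ x ∈ U', x ∈ UX σ M) (v : Fin n → F)
    (hv : hf σ v v = 0) : v ∈ UX σ M := by
  -- first the case of a non-perpendicular decomposition
  have caseA : ∀ x ∈ U, ∀ y ∈ U', hf σ x y ≠ 0 → hf σ (x + y) (x + y) = 0 → x + y ∈ UX σ M := by
    intro x hx y hy hxy hiso
    have hβ : hf σ x y + σ (hf σ x y) = 0 := by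
      rw [hf_add_left, hf_add_right, hf_add_right, hp.tiU x hx x hx, hp.tiU' y hy y hy,
        hf_symm σ hσ2 y x] at hiso
      linear_combination hiso
    have hc : (hf σ x y)⁻¹ + σ ((hf σ x y)⁻¹) = 0 := by
      have h1 : σ (hf σ x y) = -hf σ x y := by linear_combination hβ
      rw [map_inv₀, h1]
      field_simp
      ring
    have := ux_tv σ hMU (hU x hx) (hU' y hy) _ hc
    rwa [inv_mul_cancel₀ hxy, one_smul] at this
  obtain ⟨v₁, hv₁⟩ : ∃ v₁, v₁ = U.projection U' hp.compl v := ⟨_, rfl⟩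
  obtain ⟨v₂, hv₂⟩ : ∃ v₂, v₂ = U'.projection U hp.compl.symm v := ⟨_, rfl⟩
  have hv₁U : v₁ ∈ U := by rw [hv₁]; exact Submodule.projection_apply_mem _ _
  have hv₂U : v₂ ∈ U' := by rw [hv₂]; exact Submodule.projection_apply_mem _ _
  have hsum : v₁ + v₂ = v := by
    rw [hv₁, hv₂]; exact Submodule.projection_add_projection_eq_self hp.compl v
  rw [← hsum] at hv ⊢
  by_cases hv₂0 : v₂ = 0
  · rw [hv₂0, add_zero]; exact hU v₁ hv₁U
  by_cases hB : hf σ v₁ v₂ = 0
  · have hw : ∃ w ∈ U, hf σ w v₂ ≠ 0 := by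
      by_contra hcon
      push Not at hcon
      apply hv₂0
      apply hf_left_eq_zero σ hσ2
      intro y
      rw [← Submodule.projection_add_projection_eq_self hp.compl y, hf_add_left,
        hp.tiU' _ (Submodule.projection_apply_mem _ _) v₂ hv₂U, add_zero]
      exact hcon _ (Submodule.projection_apply_mem _ _)
    obtain ⟨w₀, hw₀U, hw₀⟩ := hw
    obtain ⟨ε, hε0, hε⟩ := exists_trace_zero_ne σ hσ hσ2
    obtain ⟨w, hw⟩ : ∃ w, w = (ε / hf σ w₀ v₂) • w₀ := ⟨_, rfl⟩
    have hwU : w ∈ U := by rw [hw]; exact U.smul_mem _ hw₀U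
    have hwv₂ : hf σ w v₂ = ε := by
      rw [hw, hf_smul_left, div_mul_cancel₀ _ hw₀]
    have hv₂w : hf σ v₂ w = σ ε := by rw [hf_symm σ hσ2, hwv₂]
    have hiso1 : hf σ (w + v₂) (w + v₂) = 0 := by
      rw [hf_add_left, hf_add_right, hf_add_right, hp.tiU w hwU w hwU, hp.tiU' v₂ hv₂U v₂ hv₂U,
        hwv₂, hv₂w]
      linear_combination hε
    have h1 : w + v₂ ∈ UX σ M := caseA w hwU v₂ hv₂U (by rw [hwv₂]; exact hε0) hiso1
    have h2 : v₁ - w ∈ UX σ M := hU _ (U.sub_mem hv₁U hwU)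
    have h3 : hf σ (v₁ - w) (w + v₂) = -ε := by
      rw [hf_sub_left, hf_add_right, hf_add_right, hp.tiU v₁ hv₁U w hwU, hB,
        hp.tiU w hwU w hwU, hwv₂]
      ring
    have hc : -ε⁻¹ + σ (-ε⁻¹) = 0 := by
      have h1 : σ ε = -ε := by linear_combination hε
      rw [map_neg, map_inv₀, h1]
      field_simp
      ring
    have := ux_tv σ hMU h2 h1 _ hc
    rw [h3] at this
    have e : v₁ - w + (-ε⁻¹ * -ε) • (w + v₂) = v₁ + v₂ := by
      have : -ε⁻¹ * -ε = 1 := by field_simp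
      rw [this, one_smul]; abel
    rwa [e] at this
  · exact caseA v₁ hv₁U v₂ hv₂U hB hv

end UIPair

end upair

end Cfsg.Agent.Lib.Helper44
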