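import Mathlib
import Cfsg.Agent.Lib.Helper44.UPair4
import Cfsg.Agent.Lib.Helper94.SympBridge

set_option autoImplicit false
set_option linter.unusedSimpArgs false
set_option linter.unusedVariables false

/-!
# The overgroup theorem for the stabiliser of a pair of complementary totally isotropic subspaces
in `SU_n(q)`
-/

namespace Cfsg.Agent.Lib.Helper44

open Matrix Module Cfsg.Agent.S0837 Cfsg.Agent.S0781 Cfsg.Agent.S2644 Cfsg.Agent.Lib.Helper37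
open Cfsg.Agent.Lib.Helper13 (hPhi hPhi_apply range_hPhi hf_left_eq_zero UX ux_map ux_smul ux_tv)

section upair
variable {F : Type*} [Field F] {σ : F →+* F} {n : ℕ} {U U' : Submodule F (Fin n → F)}

/-- **The transvection method for the stabiliser of a pair of complementary totally isotropic
subspaces.** -/
theorem su_le_of_pair [Finite F] (hp : UIPair σ U U') (hσ : σ ≠ RingHom.id F)
    (hσ2 : ∀ a, σ (σ a) = a) (h5 : 5 ≤ finrank F U) (hfr : finrank F U = finrank F U')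
    (M : Subgroup (GL (Fin n) F)) (hMU : M ≤ UG σ n)
    (hM : ∀ g : GL (Fin n) F, g ∈ UG σ n → g.1.det = 1 →
      (((∀ w ∈ U, g.1 *ᵥ w ∈ U) ∧ (∀ w ∈ U', g.1 *ᵥ w ∈ U')) ∨
        ((∀ w ∈ U, g.1 *ᵥ w ∈ U') ∧ (∀ w ∈ U', g.1 *ᵥ w ∈ U))) → g ∈ M)
    (g0 : GL (Fin n) F) (hg0 : g0 ∈ M)
    (hg1 : ¬ ((∀ w ∈ U, g0.1 *ᵥ w ∈ U) ∧ (∀ w ∈ U', g0.1 *ᵥ w ∈ U')))
    (hg2 : ¬ ((∀ w ∈ U, g0.1 *ᵥ w ∈ U') ∧ (∀ w ∈ U', g0.1 *ᵥ w ∈ U))) :
    ∀ g : GL (Fin n) F, g ∈ UG σ n → g.1.det = 1 → g ∈ M := by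
  classical
  have hnfr : finrank F U + finrank F U' = n := by
    have := Submodule.finrank_add_eq_of_isCompl hp.compl
    rwa [Module.finrank_fin_fun] at this
  have hlevi : ∀ a ∈ U, ∀ b ∈ U', hf σ b a = 0 → sgU σ hσ2 a b ∈ M := by
    intro a ha b hb hba
    exact hM _ (sgU_mem_UG σ hσ2 a b) (sgU_det σ hσ2 a b) (Or.inl (hp.levi_maps hσ2 ha hb hba))
  have hlevi' : ∀ a ∈ U', ∀ b ∈ U, hf σ b a = 0 → sgU σ hσ2 a b ∈ M := by
    intro a ha b hb hba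
    have := hp.symm.levi_maps hσ2 ha hb hba
    exact hM _ (sgU_mem_UG σ hσ2 a b) (sgU_det σ hσ2 a b) (Or.inl ⟨this.2, this.1⟩)
  obtain ⟨s, hsU, hsdet, hsUU', hsU'U⟩ := hp.exists_swap hσ hσ2 hfr
  have hsM : s ∈ M := hM s hsU hsdet (Or.inr ⟨hsUU', hsU'U⟩)
  have hsiM : (s⁻¹ : GL (Fin n) F) ∈ M := M.inv_mem hsM
  -- the general line
  set e0 := Cfsg.Agent.Lib.Helper94.glEquiv (Fin n) F g0 with he0
  have he0a : ∀ x, e0 x = g0.1 *ᵥ x := fun x => Cfsg.Agent.Lib.Helper94.glEquiv_apply g0 x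
  obtain ⟨x, hxU, x', hx'U, hx'x, hcase⟩ := hp.exists_general_line hσ2 (by omega) (by omega) e0
    (by simpa only [he0a] using hg1) (by simpa only [he0a] using hg2)
  simp only [he0a] at hcase
  have hxx : hf σ x x = 0 := hp.tiU x hxU x hxU
  have hx'x' : hf σ x' x' = 0 := hp.tiU' x' hx'U x' hx'U
  have hg0U : g0 ∈ UG σ n := hMU hg0
  have ha : hf σ (g0.1 *ᵥ x) (g0.1 *ᵥ x) = 0 := by rw [hg0U, hxx]
  have hb : hf σ (g0.1 *ᵥ x') (g0.1 *ᵥ x') = 0 := by rw [hg0U, hx'x']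
  have hba : hf σ (g0.1 *ᵥ x') (g0.1 *ᵥ x) = 0 := by rw [hg0U, hx'x]
  have hE : sgU σ hσ2 (g0.1 *ᵥ x) (g0.1 *ᵥ x') ∈ M := by
    rw [← conj_sgU σ hσ2 hg0U hxx hx'x' hx'x]
    exact M.mul_mem (M.mul_mem hg0 (hlevi x hxU x' hx'U hx'x)) (M.inv_mem hg0)
  have hboth : (∀ y ∈ U, y ∈ UX σ M) ∧ (∀ y ∈ U', y ∈ UX σ M) := by
    rcases hcase with hli | hli
    · obtain ⟨u, huU, hu0, hu⟩ := hp.ux_of_line hσ hσ2 h5 M hlevi _ _ ha hb hba hE hli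
      have hUX : ∀ y ∈ U, y ∈ UX σ M := hp.ux_of_U hσ2 M hMU hlevi u huU hu0 hu
      refine ⟨hUX, fun y hy => ?_⟩
      have h1 := hUX _ (hsU'U y hy)
      have h3 := ux_map σ s⁻¹ hsiM (hMU hsiM) h1
      rwa [gl_inv_mulVec] at h3
    · obtain ⟨u, huU, hu0, hu⟩ := hp.symm.ux_of_line hσ hσ2 (by omega) M hlevi' _ _ ha hb hba hE hli
      have hU'X : ∀ y ∈ U', y ∈ UX σ M := hp.symm.ux_of_U hσ2 M hMU hlevi' u huU hu0 hu
      refine ⟨fun y hy => ?_, hU'X⟩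
      have h1 := hU'X _ (hsUU' y hy)
      have h3 := ux_map σ s⁻¹ hsiM (hMU hsiM) h1
      rwa [gl_inv_mulVec] at h3
  have hall : ∀ v : Fin n → F, hf σ v v = 0 → v ∈ UX σ M :=
    fun v hv => hp.ux_all hσ hσ2 M hMU hboth.1 hboth.2 v hv
  have hTG : TG σ n ≤ M := by
    unfold TG
    rw [Subgroup.closure_le]
    rintro g ⟨z, c, hz, hc, hg⟩
    obtain ⟨_, h1⟩ := hall z hz
    have : g = tvGL σ z c hz := Units.ext hg
    rw [this]
    exact h1 c hc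
  intro g hg hdet
  exact hTG (su_gen σ hσ hσ2 n (by omega) (fun h3 => absurd h3 (by omega)) g hg hdet)

end upair

end Cfsg.Agent.Lib.Helper44
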