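import Mathlib
import Cfsg.Agent.Lib.Helper44.UPair5
import Cfsg.Agent.Lib.Helper44.PairMax5
import Cfsg.Agent.Lib.Helper13.UnitMaxBridge
import Cfsg.Agent.Lib.Helper94.SympBridge2

set_option autoImplicit false
set_option linter.unusedSimpArgs false
set_option linter.unusedVariables false

/-!
# Bridge: the stabiliser of a pair of complementary totally isotropic subspaces is maximal in
`SU_n(q)`, in the Prelude's vocabulary
-/

namespace Cfsg.Agent.Lib.Helper44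

open Matrix Module Cfsg.Agent.S0837 Cfsg.Agent.S0781 Cfsg.Agent.S2644 Cfsg.Agent.Lib.Helper37
open Cfsg.Agent.Lib.Helper13 (exists_frob mem_GU_iff_mem_UG mem_specialLinear_iff)

theorem mem_decompositionStabilizer_pair_iff {F : Type*} [Field F] {n : ℕ}
    (D : Fin 2 → Submodule F (Fin n → F)) (hfr : finrank F (D 0) = finrank F (D 1))
    (g : GL (Fin n) F) :
    g ∈ Cfsg.Geo.decompositionStabilizer D ↔
      (((∀ w ∈ D 0, g.1 *ᵥ w ∈ D 0) ∧ (∀ w ∈ D 1, g.1 *ᵥ w ∈ D 1)) ∨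
        ((∀ w ∈ D 0, g.1 *ᵥ w ∈ D 1) ∧ (∀ w ∈ D 1, g.1 *ᵥ w ∈ D 0))) := by
  have h1 : g ∈ Cfsg.Geo.decompositionStabilizer D ↔
      ∃ τ : Equiv.Perm (Fin 2), ∀ i, (D i).map (Matrix.toLin' g.1) = D (τ i) := Iff.rfl
  rw [h1, ← Cfsg.Agent.Lib.Helper94.glEquiv_coe_linearMap, mem_pairStab_iff D hfr]
  simp only [Cfsg.Agent.Lib.Helper94.glEquiv_apply]

/-- The stabiliser of a pair of complementary totally isotropic subspaces of dimension `≥ 5` is
maximal in `SU_n(q)`. -/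
theorem isMaximalIn_pair_isotropic {F : Type*} [Field F] [Fintype F] (n q : ℕ)
    (hF : Fintype.card F = q ^ 2) (D : Fin 2 → Submodule F (Fin n → F))
    (hc : IsCompl (D 0) (D 1))
    (hts : ∀ i, Cfsg.Geo.IsTotallySingularFor (Cfsg.hermForm n F q) (D i))
    (h5 : 5 ≤ finrank F (D 0)) (hfr : finrank F (D 0) = finrank F (D 1)) :
    Cfsg.Geo.IsMaximalIn (Cfsg.GU n F q ⊓ Cfsg.Geo.specialLinear (Fin n) F)
      (Cfsg.Geo.decompositionStabilizer D ⊓
        (Cfsg.GU n F q ⊓ Cfsg.Geo.specialLinear (Fin n) F)) := by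
  classical
  obtain ⟨σ, hσ, hσ2⟩ := exists_frob hF
  have hne : σ ≠ RingHom.id F := frob_ne_id σ hF hσ
  have hp : UIPair σ (D 0) (D 1) := by
    refine ⟨fun u hu v hv => ?_, fun u hu v hv => ?_, hc⟩
    · rw [← hermForm_eq_hf σ hσ]; exact hts 0 u hu v hv
    · rw [← hermForm_eq_hf σ hσ]; exact hts 1 u hu v hv
  have hK : ∀ g : GL (Fin n) F, g ∈ Cfsg.GU n F q ⊓ Cfsg.Geo.specialLinear (Fin n) F ↔
      g ∈ UG σ n ∧ (g : Matrix (Fin n) (Fin n) F).det = 1 := by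
    intro g
    rw [Subgroup.mem_inf, mem_GU_iff_mem_UG σ hσ, mem_specialLinear_iff]
  constructor
  · -- proper containment
    apply lt_of_le_of_ne inf_le_right
    intro heq
    obtain ⟨u, huU, w, hwU, hLI⟩ := exists_li_pair_of_finrank (D 0) (by omega)
    have hu0 : u ≠ 0 := hLI.ne_zero 0
    have hw0 : w ≠ 0 := hLI.ne_zero 1
    obtain ⟨u', hu'U, hu'⟩ := hp.exists_dual_in hσ2 ![u, w]
      (by intro i; fin_cases i <;> simp [huU, hwU]) hLI ![1, 0]
    have h1 : hf σ u' u = 1 := hu' 0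
    have h2 : hf σ u' w = 0 := hu' 1
    have huu : hf σ u u = 0 := hp.tiU u huU u huU
    have hww : hf σ w w = 0 := hp.tiU w hwU w hwU
    have hwu : hf σ w u = 0 := hp.tiU w hwU u huU
    have hE : sgU σ hσ2 u w ∈ Cfsg.Geo.decompositionStabilizer D ⊓
        (Cfsg.GU n F q ⊓ Cfsg.Geo.specialLinear (Fin n) F) := by
      rw [heq, hK]
      exact ⟨sgU_mem_UG σ hσ2 u w, sgU_det σ hσ2 u w⟩
    have hE1 := (mem_decompositionStabilizer_pair_iff D hfr _).1 hE.1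
    have hfixu : (sgU σ hσ2 u w).1 *ᵥ u = u := by
      rw [sgU_mulVec σ hσ2 huu hww hwu, huu, hp.tiU u huU w hwU]; simp
    have hmove : (sgU σ hσ2 u w).1 *ᵥ u' = u' + w := by
      rw [sgU_mulVec σ hσ2 huu hww hwu, h1, h2]; simp
    rcases hE1 with ⟨-, hb⟩ | ⟨ha, -⟩
    · have h3 := hb u' hu'U
      rw [hmove] at h3
      have h4 : w ∈ D 1 := by
        have := (D 1).sub_mem h3 hu'U
        rwa [add_sub_cancel_left] at this
      exact hw0 (hp.inter hwU h4)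
    · have h3 := ha u huU
      rw [hfixu] at h3
      exact hu0 (hp.inter huU h3)
  · intro M hHM hMK
    by_cases hMH : M = Cfsg.Geo.decompositionStabilizer D ⊓
        (Cfsg.GU n F q ⊓ Cfsg.Geo.specialLinear (Fin n) F)
    · exact Or.inl hMH
    · right
      have hnot : ¬ M ≤ Cfsg.Geo.decompositionStabilizer D ⊓
          (Cfsg.GU n F q ⊓ Cfsg.Geo.specialLinear (Fin n) F) := fun h => hMH (le_antisymm h hHM)
      obtain ⟨g0, hg0M, hg0⟩ := SetLike.not_le_iff_exists.mp hnot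
      have hg0K := hMK hg0M
      have hg0S : g0 ∉ Cfsg.Geo.decompositionStabilizer D := fun h => hg0 ⟨h, hg0K⟩
      rw [mem_decompositionStabilizer_pair_iff D hfr, not_or] at hg0S
      have hMU : M ≤ UG σ n := fun g hg => ((hK g).mp (hMK hg)).1
      have hM : ∀ g : GL (Fin n) F, g ∈ UG σ n → g.1.det = 1 →
          (((∀ w ∈ D 0, g.1 *ᵥ w ∈ D 0) ∧ (∀ w ∈ D 1, g.1 *ᵥ w ∈ D 1)) ∨
            ((∀ w ∈ D 0, g.1 *ᵥ w ∈ D 1) ∧ (∀ w ∈ D 1, g.1 *ᵥ w ∈ D 0))) → g ∈ M := by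
        intro g hgU hdet hgW
        apply hHM
        exact ⟨(mem_decompositionStabilizer_pair_iff D hfr g).mpr hgW, (hK g).mpr ⟨hgU, hdet⟩⟩
      have key := su_le_of_pair hp hne hσ2 h5 hfr M hMU hM g0 hg0M hg0S.1 hg0S.2
      apply le_antisymm hMK
      intro g hg
      obtain ⟨hgU, hdet⟩ := (hK g).mp hg
      exact key g hgU hdet

end Cfsg.Agent.Lib.Helper44
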